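import Groth.Agent.Lib.Helper56.DepthLoc
import Mathlib.RingTheory.Ideal.AssociatedPrime.Localization

set_option autoImplicit false
universe u v w

namespace Groth.Agent.Lib.Helper56

open LocCoh RingTheory.Sequence

section SelfEquiv

variable {A : Type u} [CommRing A]

noncomputable def locSelfEquiv (S : Submonoid A) :
    LocalizedModule S A ≃ₗ[Localization S] Localization S :=
  LinearEquiv.extendScalarsOfIsLocalization S (Localization S)
    (IsLocalizedModule.linearEquiv S (LocalizedModule.mkLinearMap S A)
      (Algebra.linearMap A (Localization S)))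

theorem depth_localizedModule_self (p : Ideal A) [p.IsPrime] :
    depth (Localization.AtPrime p) (LocalizedModule p.primeCompl A) =
      depth (Localization.AtPrime p) (Localization.AtPrime p) :=
  depth_congr (locSelfEquiv p.primeCompl)

theorem supportDim_localizedModule_self (p : Ideal A) [p.IsPrime] :
    Module.supportDim (Localization.AtPrime p) (LocalizedModule p.primeCompl A) =
      Module.supportDim (Localization.AtPrime p) (Localization.AtPrime p) :=
  Module.supportDim_eq_of_equiv (locSelfEquiv p.primeCompl)

end SelfEquiv

section Ass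

variable {A : Type u} [CommRing A] [IsNoetherianRing A]

theorem depth_localizedModule_eq_zero_of_mem_associatedPrimes {M : Type v} [AddCommGroup M]
    [Module A M] [Module.Finite A M] {p : Ideal A} [p.IsPrime]
    (hp : p ∈ associatedPrimes A M) :
    depth (Localization.AtPrime p) (LocalizedModule p.primeCompl M) = 0 :=
  (Helper67.depth_eq_zero_iff _).mpr
    (Module.associatedPrimes.mem_associatedPrimes_atPrime_of_mem_associatedPrimes hp)

theorem exists_isSMulRegular_of_forall_depth_ne_zero (I : Ideal A) (M : Type v) [AddCommGroup M]
    [Module A M] [Module.Finite A M]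
    (h : ∀ (p : Ideal A) [p.IsPrime], I ≤ p →
      depth (Localization.AtPrime p) (LocalizedModule p.primeCompl M) ≠ 0) :
    ∃ x ∈ I, IsSMulRegular M x := by
  by_cases hM : Nontrivial M
  · by_contra hcon
    push Not at hcon
    obtain ⟨p, hp, hle⟩ := (Helper67.forall_not_isSMulRegular_iff I M).mp hcon
    have : p.IsPrime := IsAssociatedPrime.isPrime hp
    exact h p hle (depth_localizedModule_eq_zero_of_mem_associatedPrimes hp)
  · rw [not_nontrivial_iff_subsingleton] at hM
    exact ⟨0, I.zero_mem, fun a b _ => Subsingleton.elim a b⟩

theorem depth_loc_quotSMulTop_add_one (M : Type u) [AddCommGroup M] [Module A M]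
    [Module.Finite A M] (p : Ideal A) [p.IsPrime] (x : A) (hxp : x ∈ p)
    (hx : IsSMulRegular M x) [Nontrivial (LocalizedModule p.primeCompl M)] :
    depth (Localization.AtPrime p) (LocalizedModule p.primeCompl (QuotSMulTop x M)) + 1 =
      depth (Localization.AtPrime p) (LocalizedModule p.primeCompl M) := by
  rw [depth_congr (locQuotSMulTopEquiv p.primeCompl x M)]
  have hx' : algebraMap A (Localization.AtPrime p) x ∈
      IsLocalRing.maximalIdeal (Localization.AtPrime p) :=
    (IsLocalization.AtPrime.to_map_mem_maximal_iff (Localization.AtPrime p) p x).mpr hxp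
  exact Helper67.idealDepth_quotSMulTop_add_one _ _
    (Helper67.maximalIdeal_smul_top_ne_top _) _ hx' (isSMulRegular_localizedModule p.primeCompl hx)

theorem depth_eq_top_of_subsingleton {R : Type u} [CommRing R] [IsLocalRing R] (M : Type v)
    [AddCommGroup M] [Module R M] [Subsingleton M] : depth R M = ⊤ :=
  Helper67.idealDepth_eq_top_of_smul_top_eq_top _ M (Subsingleton.elim _ _)

theorem exists_regular_pair_of_forall_two_le_depth (I : Ideal A) (M : Type u) [AddCommGroup M]
    [Module A M] [Module.Finite A M]
    (h : ∀ (p : Ideal A) [p.IsPrime], I ≤ p →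
      2 ≤ depth (Localization.AtPrime p) (LocalizedModule p.primeCompl M)) :
    ∃ x ∈ I, ∃ y ∈ I, IsSMulRegular M x ∧ IsSMulRegular (QuotSMulTop x M) y := by
  obtain ⟨x, hxI, hx⟩ := exists_isSMulRegular_of_forall_depth_ne_zero I M (fun p _ hp h0 => by
    have := h p hp
    rw [h0] at this
    exact absurd this (by norm_num))
  obtain ⟨y, hyI, hy⟩ := exists_isSMulRegular_of_forall_depth_ne_zero I (QuotSMulTop x M)
    (fun p _ hp h0 => by
      by_cases hnt : Nontrivial (LocalizedModule p.primeCompl M)
      · have h1 := depth_loc_quotSMulTop_add_one M p x (hp hxI) hx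
        have h2 := h p hp
        rw [← h1, h0] at h2
        exact absurd h2 (by norm_num)
      · rw [not_nontrivial_iff_subsingleton] at hnt
        have : Subsingleton (LocalizedModule p.primeCompl (QuotSMulTop x M)) :=
          (locQuotSMulTopEquiv p.primeCompl x M).toEquiv.subsingleton_congr.mpr
            (Function.Surjective.subsingleton (Submodule.mkQ_surjective _))
        rw [depth_eq_top_of_subsingleton] at h0
        exact absurd h0 (by simp))
  exact ⟨x, hxI, y, hyI, hx, hy⟩

end Ass

end Groth.Agent.Lib.Helper56
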