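import Groth.Agent.Lib.Helper56.FibreComp

set_option autoImplicit false
universe u

namespace Groth.Agent.Lib.Helper56

open LocCoh IsLocalRing TensorProduct
open Groth.Agent.Lib.Helper77.FlatDepth

section CMEquiv

theorem isCohenMacaulayLocalRing_of_ringEquiv {R R' : Type u} [CommRing R] [CommRing R']
    (e : R ≃+* R') (h : IsCohenMacaulayLocalRing R) : IsCohenMacaulayLocalRing R' := by
  have hN : IsNoetherianRing R' := isNoetherianRing_of_ringEquiv R e
  have hL : IsLocalRing R' := e.isLocalRing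
  obtain ⟨d, hd⟩ := exists_nat_dim R
  obtain ⟨c, hc⟩ := exists_nat_depth R
  have hd' : ringKrullDim R' = d := by rw [← ringKrullDim_eq_of_ringEquiv e, hd]
  have hc' : depth R' R' = c := by rw [← depth_self_of_ringEquiv e, hc]
  rw [isCM_iff_nat R' d c hd' hc']
  exact (isCM_iff_nat R d c hd hc).mp h

end CMEquiv

section FiberNoeth

attribute [local instance] Algebra.TensorProduct.rightAlgebra in
theorem isNoetherianRing_fiber (A B : Type u) [CommRing A] [CommRing B] [Algebra A B]
    [IsNoetherianRing B] (p : Ideal A) [p.IsPrime] : IsNoetherianRing (p.Fiber B) :=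
  isNoetherianRing_of_ringEquiv _ (Ideal.Fiber.algEquivQuotient (S := B) p).symm.toRingEquiv

end FiberNoeth

section FiberCM

variable (A B : Type u) [CommRing A] [CommRing B] [Algebra A B] [IsNoetherianRing B]

theorem isCM_fibLocRing_of_fiber (r : Ideal B) [r.IsPrime]
    (h : IsCohenMacaulayRing ((r.comap (algebraMap A B)).Fiber B)) :
    IsCohenMacaulayLocalRing (EGA4.FibLocRing A B r) := by
  obtain ⟨Q, hQ, hQr⟩ := exists_fiber_prime A B r
  have h1 := h.isCohenMacaulayLocalRing_localization Q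
  have h2 := isCohenMacaulayLocalRing_of_ringEquiv (fiberLocEquiv A B _ Q) h1
  have key : ∀ (r' : Ideal B) [r'.IsPrime], r' = r →
      IsCohenMacaulayLocalRing (EGA4.FibLocRing A B r') →
      IsCohenMacaulayLocalRing (EGA4.FibLocRing A B r) := by
    intro r' _ hr' hh
    subst hr'
    exact hh
  exact key _ hQr h2

theorem isCM_fiber_of_fibLocRing (p : Ideal A) [p.IsPrime]
    (h : ∀ (r : Ideal B) [r.IsPrime], r.comap (algebraMap A B) = p →
      IsCohenMacaulayLocalRing (EGA4.FibLocRing A B r)) :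
    IsCohenMacaulayRing (p.Fiber B) := by
  have := isNoetherianRing_fiber A B p
  refine { isCohenMacaulayLocalRing_localization := ?_ }
  intro Q _
  exact isCohenMacaulayLocalRing_of_ringEquiv (fiberLocEquiv A B p Q).symm
    (h _ (comap_includeRight_comap A B p Q))

end FiberCM

section CMComp

variable (A B C : Type u) [CommRing A] [CommRing B] [CommRing C]
  [IsNoetherianRing B] [IsNoetherianRing C] [Algebra A B] [Algebra B C] [Algebra A C]
  [IsScalarTower A B C]

theorem isCM_fibLoc_comp_iff [Module.Flat B C] (r : Ideal C) [r.IsPrime] :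
    IsCohenMacaulayLocalRing (EGA4.FibLocRing A C r) ↔
      IsCohenMacaulayLocalRing (EGA4.FibLocRing A B (r.comap (algebraMap B C))) ∧
      IsCohenMacaulayLocalRing (EGA4.FibLocRing B C r) := by
  obtain ⟨h1, h2⟩ := fibLoc_comp_formulas A B C r
  obtain ⟨dA, hdA⟩ := exists_nat_dim (EGA4.FibLocRing A B (r.comap (algebraMap B C)))
  obtain ⟨dB, hdB⟩ := exists_nat_dim (EGA4.FibLocRing A C r)
  obtain ⟨dF, hdF⟩ := exists_nat_dim (EGA4.FibLocRing B C r)
  obtain ⟨eA, heA⟩ := exists_nat_depth (EGA4.FibLocRing A B (r.comap (algebraMap B C)))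
  obtain ⟨eB, heB⟩ := exists_nat_depth (EGA4.FibLocRing A C r)
  obtain ⟨eF, heF⟩ := exists_nat_depth (EGA4.FibLocRing B C r)
  rw [hdA, hdB, hdF] at h2
  rw [heA, heB, heF] at h1
  have h1' : eB = eA + eF := by exact_mod_cast h1
  have h2' : dB = dA + dF := by exact_mod_cast h2
  have lA := depth_le_dim_nat _ dA eA hdA heA
  have lB := depth_le_dim_nat _ dB eB hdB heB
  have lF := depth_le_dim_nat _ dF eF hdF heF
  rw [isCM_iff_nat _ dA eA hdA heA, isCM_iff_nat _ dB eB hdB heB, isCM_iff_nat _ dF eF hdF heF]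
  omega

theorem isCM_fibres_comp [Module.Flat A B] [Module.Flat B C]
    (hAB : ∀ (p : Ideal A) [p.IsPrime], IsCohenMacaulayRing (p.Fiber B))
    (hBC : ∀ (q : Ideal B) [q.IsPrime], IsCohenMacaulayRing (q.Fiber C)) :
    Module.Flat A C ∧ ∀ (p : Ideal A) [p.IsPrime], IsCohenMacaulayRing (p.Fiber C) := by
  refine ⟨Module.Flat.trans A B C, ?_⟩
  intro p _
  apply isCM_fiber_of_fibLocRing
  intro r _ _
  rw [isCM_fibLoc_comp_iff A B C r]
  exact ⟨isCM_fibLocRing_of_fiber A B _ (hAB _), isCM_fibLocRing_of_fiber B C r (hBC _)⟩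

theorem isCM_fibres_descent [Module.FaithfullyFlat B C] [Module.Flat A C]
    (hAC : ∀ (p : Ideal A) [p.IsPrime], IsCohenMacaulayRing (p.Fiber C)) :
    Module.Flat A B ∧ ∀ (p : Ideal A) [p.IsPrime], IsCohenMacaulayRing (p.Fiber B) := by
  have hflat : Module.Flat A B := Groth.Agent.S1128.flat_of_flat_of_faithfullyFlat A B C
  refine ⟨hflat, ?_⟩
  intro p _
  apply isCM_fiber_of_fibLocRing
  intro q _ _
  obtain ⟨r, hr, hrq⟩ := Ideal.exists_isPrime_liesOver_of_faithfullyFlat (B := C) q
  have hrq' : r.comap (algebraMap B C) = q := by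
    have := hrq.over
    rw [Ideal.under_def] at this
    exact this.symm
  have h1 := (isCM_fibLoc_comp_iff A B C r).mp (isCM_fibLocRing_of_fiber A C r (hAC _))
  have key : ∀ (q' : Ideal B) [q'.IsPrime], q' = q →
      IsCohenMacaulayLocalRing (EGA4.FibLocRing A B q') →
      IsCohenMacaulayLocalRing (EGA4.FibLocRing A B q) := by
    intro q' _ hq' hh
    subst hq'
    exact hh
  exact key _ hrq' h1.1

end CMComp

end Groth.Agent.Lib.Helper56
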