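import Groth.Agent.Lib.Helper56.GeomIntegral
import Mathlib.RingTheory.Spectrum.Prime.Topology

set_option autoImplicit false

namespace Groth.Agent.Lib.Helper56

open TensorProduct

theorem irreducibleSpace_of_forall_finite {k L S : Type*} [Field k] [Field L] [Algebra k L]
    [CommRing S] [Algebra k S] [Algebra.IsAlgebraic k L]
    (h : ∀ E : IntermediateField k L, FiniteDimensional k E →
      IrreducibleSpace (PrimeSpectrum (E ⊗[k] S))) :
    IrreducibleSpace (PrimeSpectrum (L ⊗[k] S)) := by
  classical
  rw [PrimeSpectrum.irreducibleSpace_iff_isPrime_nilradical, Ideal.isPrime_iff]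
  constructor
  · have hbot := h ⊥ inferInstance
    haveI : Nontrivial ((⊥ : IntermediateField k L) ⊗[k] S) :=
      PrimeSpectrum.nonempty_iff_nontrivial.mp inferInstance
    haveI : Nontrivial (L ⊗[k] S) :=
      (map_val_injective (S := S) (⊥ : IntermediateField k L)).nontrivial
    rw [Ideal.ne_top_iff_one, mem_nilradical]
    exact not_isNilpotent_one
  · intro x y hxy
    obtain ⟨Tx, hTx⟩ := exists_finset_forall_mem_range x
    obtain ⟨Ty, hTy⟩ := exists_finset_forall_mem_range y
    let E := IntermediateField.adjoin k ((Tx ∪ Ty : Finset L) : Set L)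
    have hfin : FiniteDimensional k E :=
      IntermediateField.finiteDimensional_adjoin
        (fun x _ => (Algebra.IsAlgebraic.isAlgebraic x).isIntegral)
    have hsub : ((Tx ∪ Ty : Finset L) : Set L) ⊆ E := IntermediateField.subset_adjoin _ _
    obtain ⟨x', rfl⟩ := hTx E (fun a ha => hsub (by simp [ha]))
    obtain ⟨y', rfl⟩ := hTy E (fun a ha => hsub (by simp [ha]))
    have hinj := map_val_injective (S := S) E
    have hprime := PrimeSpectrum.irreducibleSpace_iff_isPrime_nilradical.mp (h E hfin)
    rw [mem_nilradical, ← map_mul, IsNilpotent.map_iff hinj] at hxy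
    rcases hprime.mem_or_mem (mem_nilradical.mpr hxy) with h1 | h1
    · left
      exact mem_nilradical.mpr ((mem_nilradical.mp h1).map _)
    · right
      exact mem_nilradical.mpr ((mem_nilradical.mp h1).map _)

end Groth.Agent.Lib.Helper56
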