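import Groth.Agent.Lib.Helper56.GeomIntegral
import Mathlib.RingTheory.Unramified.Field
import Mathlib.RingTheory.Unramified.Finite
import Mathlib.RingTheory.Spectrum.Prime.Topology

set_option autoImplicit false

namespace Groth.Agent.Lib.Helper56

open TensorProduct

theorem isReduced_of_forall_finite {k L S : Type*} [Field k] [Field L] [Algebra k L]
    [CommRing S] [Algebra k S]
    (h : ∀ E : IntermediateField k L, FiniteDimensional k E → IsReduced (E ⊗[k] S))
    [Algebra.IsAlgebraic k L] : IsReduced (L ⊗[k] S) := by
  classical
  refine ⟨fun x hx => ?_⟩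
  obtain ⟨T, hT⟩ := exists_finset_forall_mem_range x
  let E := IntermediateField.adjoin k (T : Set L)
  have hfin : FiniteDimensional k E :=
    IntermediateField.finiteDimensional_adjoin
      (fun x _ => (Algebra.IsAlgebraic.isAlgebraic x).isIntegral)
  obtain ⟨x', rfl⟩ := hT E (IntermediateField.subset_adjoin _ _)
  have hinj := map_val_injective (S := S) E
  haveI := h E hfin
  have : IsNilpotent x' := (IsNilpotent.map_iff hinj).mp hx
  rw [this.eq_zero, map_zero]

theorem repr_map_eq {F A A' L ι : Type*} [Field F] [CommRing A] [Algebra F A] [CommRing A']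
    [Algebra F A'] [CommRing L] [Algebra F L]
    (b : Module.Basis ι F L) (g : A →ₐ[F] A') (z : A ⊗[F] L) (i : ι) :
    (Algebra.TensorProduct.basis A' b).repr (Algebra.TensorProduct.map g (AlgHom.id F L) z) i =
      g ((Algebra.TensorProduct.basis A b).repr z i) := by
  induction z using TensorProduct.induction_on with
  | zero => simp
  | tmul a l =>
    simp only [Algebra.TensorProduct.map_tmul, AlgHom.coe_id, id_eq,
      Algebra.TensorProduct.basis_repr_tmul, Finsupp.smul_apply, Finsupp.mapRange_apply,
      smul_eq_mul, map_mul, AlgHom.commutes]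
  | add x y hx hy =>
    simp only [map_add, Finsupp.add_apply, hx, hy]

theorem isScalarTower_residueField {F A : Type*} [Field F] [CommRing A] [Algebra F A]
    (p : Ideal A) [p.IsPrime] : IsScalarTower F A p.ResidueField := by
  refine IsScalarTower.of_algebraMap_eq (fun x => ?_)
  rw [IsScalarTower.algebraMap_apply F (Localization.AtPrime p) p.ResidueField,
    IsScalarTower.algebraMap_apply A (Localization.AtPrime p) p.ResidueField,
    IsScalarTower.algebraMap_apply F A (Localization.AtPrime p)]

universe u

theorem isReduced_tensor_of_forall_field {F L : Type u} [Field F] [CommRing L] [Algebra F L]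
    (hL : ∀ (κ : Type u) [Field κ] [Algebra F κ], IsReduced (κ ⊗[F] L))
    (A : Type u) [CommRing A] [IsReduced A] [Algebra F A] : IsReduced (A ⊗[F] L) := by
  refine ⟨fun x hx => ?_⟩
  let b := Module.Basis.ofVectorSpace F L
  let B := Algebra.TensorProduct.basis A b
  apply B.repr.injective
  ext i
  rw [map_zero, Finsupp.zero_apply]
  have hmem : B.repr x i ∈ nilradical A := by
    rw [nilradical_eq_sInf, Ideal.mem_sInf]
    intro p hp
    haveI : p.IsPrime := hp
    haveI : IsScalarTower F A p.ResidueField := isScalarTower_residueField p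
    haveI := hL p.ResidueField
    let g : A →ₐ[F] p.ResidueField := IsScalarTower.toAlgHom F A p.ResidueField
    have h0 : Algebra.TensorProduct.map g (AlgHom.id F L) x = 0 := (hx.map _).eq_zero
    have h1 := repr_map_eq b g x i
    rw [h0, map_zero, Finsupp.zero_apply] at h1
    exact Ideal.algebraMap_residueField_eq_zero.mp h1.symm
  rw [nilradical_eq_zero A] at hmem
  exact hmem

theorem isReduced_tensor_of_isAlgClosed {F A Ω : Type u} [Field F] [IsAlgClosed F] [CommRing A]
    [IsReduced A] [Algebra F A] [Field Ω] [Algebra F Ω] : IsReduced (A ⊗[F] Ω) := by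
  refine isReduced_tensor_of_forall_field (fun κ _ _ => ?_) A
  haveI : IsDomain (κ ⊗[F] Ω) := isDomain_tensor_of_isAlgClosed
  infer_instance

theorem isReduced_tensor_of_isSeparable {F L κ : Type*} [Field F] [Field L] [Algebra F L]
    [Algebra.IsSeparable F L] [Field κ] [Algebra F κ] : IsReduced (κ ⊗[F] L) := by
  haveI : IsReduced (L ⊗[F] κ) := by
    refine isReduced_of_forall_finite (fun E hE => ?_)
    haveI : Algebra.FormallyUnramified F E := Algebra.FormallyUnramified.of_isSeparable F E
    haveI : IsReduced (κ ⊗[F] E) := Algebra.FormallyUnramified.isReduced_of_field κ (κ ⊗[F] E)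
    exact isReduced_of_injective (Algebra.TensorProduct.comm F E κ).toRingEquiv.toRingHom
      (Algebra.TensorProduct.comm F E κ).injective
  exact isReduced_of_injective (Algebra.TensorProduct.comm F κ L).toRingEquiv.toRingHom
    (Algebra.TensorProduct.comm F κ L).injective

end Groth.Agent.Lib.Helper56
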