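import Groth.Agent.Lib.Helper56.CplLocal
import Groth.Agent.Lib.Helper56.FibreCM

set_option autoImplicit false
set_option linter.unusedSectionVars false
set_option linter.style.haveILetI false
universe u
namespace Groth.Agent.Lib.Helper56
open TensorProduct IsLocalRing EGA4 Groth.Agent.Lib.Helper56.ComplFlatOld

section RegLoc

variable {C : Type u} [CommRing C]

theorem isRegularRing_of_forall_exists_isLocalization [IsNoetherianRing C]
    (h : ∀ (q : Ideal C) [q.IsPrime], ∃ (T : Submonoid C) (D : Type u) (_ : CommRing D)
      (_ : Algebra C D) (_ : IsLocalization T D), Disjoint (T : Set C) (q : Set C) ∧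
        IsRegularRing D) :
    IsRegularRing C := by
  rw [isRegularRing_iff]
  intro q hq
  obtain ⟨T, D, _, _, _, hdisj, hD⟩ := h q
  have hprime : (q.map (algebraMap C D)).IsPrime :=
    IsLocalization.isPrime_of_isPrime_disjoint T D q hq hdisj
  have hcomap : (q.map (algebraMap C D)).comap (algebraMap C D) = q :=
    IsLocalization.under_map_of_isPrime_disjoint T D hq hdisj
  obtain ⟨e⟩ := Groth.Agent.Lib.Helper57.nonempty_equiv_atPrime_of_isLocalization T D
    (q.map (algebraMap C D)) (Localization.AtPrime (q.map (algebraMap C D)))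
  have hreg : IsRegularLocalRing (Localization.AtPrime (q.map (algebraMap C D))) :=
    IsRegularRing.isRegularLocalRing_localization _
  have key : ∀ (p : Ideal C) (hp : p.IsPrime), p = q →
      Nonempty (Localization.AtPrime p ≃+* Localization.AtPrime (q.map (algebraMap C D))) →
      IsRegularLocalRing (Localization.AtPrime q) := by
    rintro p hp rfl ⟨e'⟩
    exact IsRegularLocalRing.of_ringEquiv
      (R := Localization.AtPrime (p.map (algebraMap C D))) e'.symm
  exact key _ inferInstance hcomap ⟨e⟩

end RegLoc

section Transfer

variable (A B B' : Type u) [CommRing A] [CommRing B] [CommRing B'] [Algebra A B] [Algebra A B']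

theorem isRegularHom_of_algEquiv (e : B ≃ₐ[A] B') (h : CAlg.IsRegularHom A B) :
    CAlg.IsRegularHom A B' := by
  obtain ⟨hflat, hfib⟩ := h
  refine ⟨Module.Flat.of_linearEquiv e.toLinearEquiv.symm, fun p _ => ⟨?_, ?_⟩⟩
  · have := (hfib p).1
    exact isNoetherianRing_of_ringEquiv (p.Fiber B)
      (Algebra.TensorProduct.congr (AlgEquiv.refl (R := A) (A₁ := p.ResidueField)) e).toRingEquiv
  · exact isGeometricallyRegular_of_algEquiv (S := p.Fiber B) (S' := p.Fiber B')
      (Algebra.TensorProduct.congr AlgEquiv.refl e) (hfib p).2

end Transfer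

section Loc

variable (A : Type u) [CommRing A] (M : Submonoid A) (A' : Type u) [CommRing A'] [Algebra A A']
  [IsLocalization M A']

include M in
theorem isRegularHom_localization : CAlg.IsRegularHom A A' := by
  refine ⟨IsLocalization.flat A' M, fun p _ => ⟨?_, ?_⟩⟩
  · have h1 : IsLocalization (Algebra.algebraMapSubmonoid p.ResidueField M) (p.Fiber A') :=
      IsLocalization.tensor A' M
    exact IsLocalization.isNoetherianRing (Algebra.algebraMapSubmonoid p.ResidueField M) _
      inferInstance
  · intro k' _ _ hfin
    let _ : Algebra A k' :=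
      ((algebraMap p.ResidueField k').comp (algebraMap A p.ResidueField)).toAlgebra
    have : IsScalarTower A p.ResidueField k' := IsScalarTower.of_algebraMap_eq (fun _ => rfl)
    have h1 : IsLocalization (Algebra.algebraMapSubmonoid k' M) (k' ⊗[A] A') :=
      IsLocalization.tensor A' M
    have hk : IsRegularRing k' := inferInstance
    have h2 : IsRegularRing (k' ⊗[A] A') :=
      isRegularRing_of_isLocalization' (Algebra.algebraMapSubmonoid k' M) _ hk
    exact IsRegularRing.of_ringEquiv (R := k' ⊗[A] A')
      (Algebra.TensorProduct.cancelBaseChange A p.ResidueField p.ResidueField k' A').symm.toRingEquiv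

end Loc

section LocalTarget

variable (A T S : Type u) [CommRing A] [CommRing T] [CommRing S] [Algebra A T] [Algebra A S]

theorem isRegularRing_tensor_of_forall_atMaximal_right [IsNoetherianRing (T ⊗[A] S)]
    (h : ∀ (n : Ideal S) [n.IsMaximal], IsRegularRing (T ⊗[A] Localization.AtPrime n)) :
    IsRegularRing (T ⊗[A] S) := by
  apply isRegularRing_of_forall_exists_isLocalization
  intro r _
  let q : Ideal S := r.comap (Algebra.TensorProduct.includeRight (R := A) (A := T)).toRingHom
  have hq : q.IsPrime := Ideal.comap_isPrime _ r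
  obtain ⟨n, hn, hqn⟩ := Ideal.exists_le_maximal q hq.ne_top
  have hnp : n.IsPrime := hn.isPrime
  let S' := Localization.AtPrime n
  let φ : T ⊗[A] S →ₐ[T] T ⊗[A] S' :=
    Algebra.TensorProduct.map (AlgHom.id T T) (IsScalarTower.toAlgHom A S S')
  let alg : Algebra (T ⊗[A] S) (T ⊗[A] S') := φ.toRingHom.toAlgebra
  have hst : IsScalarTower T (T ⊗[A] S) (T ⊗[A] S') :=
    IsScalarTower.of_algebraMap_eq (fun t => (φ.commutes t).symm)
  have hloc : IsLocalization
      (n.primeCompl.map (Algebra.TensorProduct.includeRight (R := A) (A := T)))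
      (T ⊗[A] S') := by
    refine IsLocalization.tensorProduct_tensorProduct_right A T n.primeCompl S' ?_
    ext s
    change φ (1 ⊗ₜ s) = 1 ⊗ₜ (algebraMap S S' s)
    simp [φ]
  refine ⟨n.primeCompl.map (Algebra.TensorProduct.includeRight (R := A) (A := T)),
    T ⊗[A] S', inferInstance, alg, hloc, ?_, h n⟩
  rw [Set.disjoint_left]
  rintro _ ⟨s, hs, rfl⟩ hr
  exact hs (hqn hr)

theorem isRegularHom_of_forall_atMaximal (B : Type u) [CommRing B] [Algebra A B] [Module.Flat A B]
    [IsNoetherianRing B]
    (h : ∀ (n : Ideal B) [n.IsMaximal], CAlg.IsRegularHom A (Localization.AtPrime n)) :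
    CAlg.IsRegularHom A B := by
  refine ⟨inferInstance, fun p _ => ⟨isNoetherianRing_fiber A B p, ?_⟩⟩
  intro k' _ _ hfin
  let _ : Algebra A k' :=
    ((algebraMap p.ResidueField k').comp (algebraMap A p.ResidueField)).toAlgebra
  have : IsScalarTower A p.ResidueField k' := IsScalarTower.of_algebraMap_eq (fun _ => rfl)
  have hNf : IsNoetherianRing (p.Fiber B) := isNoetherianRing_fiber A B p
  have hfin' : Module.Finite p.ResidueField k' := hfin
  have hN0 : IsNoetherianRing (p.Fiber B ⊗[p.ResidueField] k') :=
    isNoetherianRing_tensor_essFiniteType p.ResidueField k' (p.Fiber B)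
  have hN1 : IsNoetherianRing (k' ⊗[p.ResidueField] p.Fiber B) :=
    isNoetherianRing_of_ringEquiv _ (Algebra.TensorProduct.comm p.ResidueField (p.Fiber B) k').toRingEquiv
  have hN2 : IsNoetherianRing (k' ⊗[A] B) :=
    isNoetherianRing_of_ringEquiv _
      (Algebra.TensorProduct.cancelBaseChange A p.ResidueField p.ResidueField k' B).toRingEquiv
  have h2 : IsRegularRing (k' ⊗[A] B) := by
    apply isRegularRing_tensor_of_forall_atMaximal_right
    intro n _
    have h3 : IsRegularRing (k' ⊗[p.ResidueField] p.Fiber (Localization.AtPrime n)) :=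
      ((h n).2 p).2 k' hfin
    exact IsRegularRing.of_ringEquiv
      (R := k' ⊗[p.ResidueField] p.Fiber (Localization.AtPrime n))
      (Algebra.TensorProduct.cancelBaseChange A p.ResidueField p.ResidueField k'
        (Localization.AtPrime n)).toRingEquiv
  exact IsRegularRing.of_ringEquiv (R := k' ⊗[A] B)
    (Algebra.TensorProduct.cancelBaseChange A p.ResidueField p.ResidueField k' B).symm.toRingEquiv

end LocalTarget

section AdicRegular

variable (A : Type u) [CommRing A] [IsNoetherianRing A] (I : Ideal A)

theorem isRegularHom_atMaximal_adicCompletion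
    (hA : ∀ (p : Ideal A) [p.IsPrime],
      CAlg.IsRegularHom (Localization.AtPrime p) (Cpl (Localization.AtPrime p)))
    (n : Ideal (AdicCompletion I A)) [hn : n.IsMaximal] :
    CAlg.IsRegularHom A (Localization.AtPrime n) := by
  let B := AdicCompletion I A
  let m : Ideal A := n.comap (algebraMap A B)
  have hmmax : m.IsMaximal := comap_isMaximal_of_isMaximal A I n
  have hm : m.IsPrime := hmmax.isPrime
  have hlo : n.LiesOver m := ⟨rfl⟩
  let _ := Localization.AtPrime.algebraOfLiesOver m n
  have hloc : IsLocalHom (algebraMap (Localization.AtPrime m) (Localization.AtPrime n)) :=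
    Localization.isLocalHom_localRingHom m n (algebraMap A B) Ideal.LiesOver.over
  have hNB : IsNoetherianRing B := Groth.Agent.S0543.result A I
  have hflat : Module.Flat (Localization.AtPrime m) (Localization.AtPrime n) := inferInstance
  have h1 : (maximalIdeal (Localization.AtPrime m)).map
      (algebraMap (Localization.AtPrime m) (Localization.AtPrime n)) =
      maximalIdeal (Localization.AtPrime n) := by
    rw [← Localization.AtPrime.map_eq_maximalIdeal, ← Localization.AtPrime.map_eq_maximalIdeal,
      Ideal.map_map, ← IsScalarTower.algebraMap_eq,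
      IsScalarTower.algebraMap_eq A B (Localization.AtPrime n), ← Ideal.map_map,
      eq_map_comap_of_isMaximal A I n]
  have h2 : ∀ s : Localization.AtPrime n, ∃ r : Localization.AtPrime m,
      s - algebraMap (Localization.AtPrime m) (Localization.AtPrime n) r ∈
        maximalIdeal (Localization.AtPrime n) := by
    intro s
    obtain ⟨y, hy⟩ := (Ideal.bijective_algebraMap_quotient_residueField n).2
      (IsLocalRing.residue (Localization.AtPrime n) s)
    obtain ⟨b, rfl⟩ := Ideal.Quotient.mk_surjective y
    obtain ⟨a, ha⟩ := exists_sub_mem_map A I b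
    have ha' : b - algebraMap A B a ∈ n := map_le_of_isMaximal A I n ha
    refine ⟨algebraMap A (Localization.AtPrime m) a, ?_⟩
    rw [← IsScalarTower.algebraMap_apply, IsScalarTower.algebraMap_apply A B (Localization.AtPrime n)]
    have h3 : s - algebraMap B (Localization.AtPrime n) b ∈ maximalIdeal (Localization.AtPrime n) := by
      rw [← IsLocalRing.residue_eq_zero_iff (R := Localization.AtPrime n), map_sub, sub_eq_zero,
        ← hy]
      rfl
    have h4 : algebraMap B (Localization.AtPrime n) (b - algebraMap A B a) ∈
        maximalIdeal (Localization.AtPrime n) := by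
      rw [← Localization.AtPrime.map_eq_maximalIdeal]
      exact Ideal.mem_map_of_mem _ ha'
    have h5 := add_mem h3 h4
    rw [map_sub] at h5
    convert h5 using 1
    ring
  have hbij := cplMap_bijective_of (Localization.AtPrime m) (Localization.AtPrime n) h1 h2
  let R := Localization.AtPrime m
  let S := Localization.AtPrime n
  have hNS : IsNoetherianRing S := inferInstance
  have hNR : IsNoetherianRing R := inferInstance
  have hNC : IsNoetherianRing (Cpl S) := isNoetherianRing_cpl S
  have ht : IsScalarTower R S (Cpl S) := isScalarTower_cpl_base R S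
  let e : Cpl R ≃ₐ[R] Cpl S :=
    AlgEquiv.ofBijective
      { cplMap R S with
        commutes' := fun r => by
          change cplMap R S (algebraMap R (Cpl R) r) = _
          rw [cplMap_algebraMap, ← IsScalarTower.algebraMap_apply] } hbij
  have hRC : CAlg.IsRegularHom R (Cpl R) := hA m
  have hRC' : CAlg.IsRegularHom R (Cpl S) := isRegularHom_of_algEquiv R (Cpl R) (Cpl S) e hRC
  have hff : Module.FaithfullyFlat S (Cpl S) := faithfullyFlat_cpl S
  have hRS : CAlg.IsRegularHom R S := isRegularHom_descent R S (Cpl S) hRC'
  have hAR : CAlg.IsRegularHom A R := isRegularHom_localization A m.primeCompl R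
  exact isRegularHom_comp A R S hAR hRS (fun p _ => isNoetherianRing_fiber A S p)

theorem isRegularHom_adicCompletion (hA : CAlg.IsGRing A) :
    CAlg.IsRegularHom A (AdicCompletion I A) := by
  have hNB : IsNoetherianRing (AdicCompletion I A) := Groth.Agent.S0543.result A I
  exact isRegularHom_of_forall_atMaximal A (AdicCompletion I A)
    (fun n _ => isRegularHom_atMaximal_adicCompletion A I (fun p _ => hA.2 p) n)

end AdicRegular

end Groth.Agent.Lib.Helper56
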