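import Groth.Agent.Lib.Helper56.FlatSk
import Mathlib.RingTheory.LocalRing.ResidueField.Fiber
import Groth.Agent.S0543
import Mathlib.RingTheory.AdicCompletion.LocalRing
import Mathlib.RingTheory.AdicCompletion.AsTensorProduct

set_option autoImplicit false
universe u v w

namespace Groth.Agent.Lib.Helper56

open LocCoh RingTheory.Sequence IsLocalRing TensorProduct
open scoped Pointwise

section RingEquivTransfer2

variable {R R' : Type u} [CommRing R] [CommRing R']

theorem hasSk_self_of_ringEquiv (e : R ≃+* R') (k : ℕ) (h : HasSk k R R) : HasSk k R' R' := by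
  rw [hasSk_self_iff] at h ⊢
  intro P' _
  let e' := Localization.localRingEquiv (P'.comap (e : R →+* R')) P' e rfl
  rw [← ringKrullDim_eq_of_ringEquiv e', ← depth_self_of_ringEquiv e']
  exact h _

theorem hasRk_of_ringEquiv (e : R ≃+* R') (k : ℕ) (h : HasRk k R) : HasRk k R' := by
  intro P' _ hP'
  let e' := Localization.localRingEquiv (P'.comap (e : R →+* R')) P' e rfl
  have hht : (P'.comap (e : R →+* R')).height ≤ k := by
    have : (P'.comap (e : R →+* R')).height = P'.height := by
      have := e.height_comap P'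
      exact this
    rw [this]
    exact hP'
  have := h _ hht
  exact IsRegularLocalRing.of_ringEquiv e'

theorem isNormalRing_of_ringEquiv (e : R ≃+* R') (h : EGA4.IsNormalRing R) :
    EGA4.IsNormalRing R' := by
  intro P' _
  let e' := Localization.localRingEquiv (P'.comap (e : R →+* R')) P' e rfl
  obtain ⟨h1, h2⟩ := h (P'.comap (e : R →+* R'))
  exact ⟨e'.symm.toMulEquiv.isDomain _, IsIntegrallyClosed.of_equiv e'⟩

end RingEquivTransfer2

section FiberLoc

variable (A B : Type u) [CommRing A] [CommRing B] [Algebra A B]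

theorem comap_includeRight_comap (p : Ideal A) [p.IsPrime] (Q : Ideal (p.Fiber B)) [Q.IsPrime] :
    (Q.comap (Algebra.TensorProduct.includeRight : B →ₐ[A] p.Fiber B)).comap (algebraMap A B) =
      p := by
  have h1 : Q.LiesOver p := inferInstance
  have h2 := h1.over
  rw [Ideal.under_def] at h2
  ext a
  rw [Ideal.mem_comap, Ideal.mem_comap]
  have h3 : (Algebra.TensorProduct.includeRight : B →ₐ[A] p.Fiber B) (algebraMap A B a) =
      algebraMap A (p.Fiber B) a := by
    rw [AlgHom.commutes]
  rw [h3, ← Ideal.mem_comap, ← h2]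

noncomputable def fiberLocEquiv (p : Ideal A) [p.IsPrime] (Q : Ideal (p.Fiber B)) [Q.IsPrime] :
    Localization.AtPrime Q ≃+*
      EGA4.FibLocRing A B (Q.comap (Algebra.TensorProduct.includeRight : B →ₐ[A] p.Fiber B)) :=
  (Ideal.Fiber.algEquivAux₂ p Q).toRingEquiv.trans (Ideal.quotEquivOfEq (by
    rw [Ideal.map_map, ← IsScalarTower.algebraMap_eq, comap_includeRight_comap]))

theorem exists_fiber_prime (r : Ideal B) [hr : r.IsPrime] :
    ∃ (Q : Ideal ((r.comap (algebraMap A B)).Fiber B)) (_ : Q.IsPrime),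
      Q.comap (Algebra.TensorProduct.includeRight :
        B →ₐ[A] (r.comap (algebraMap A B)).Fiber B) = r := by
  let iso := PrimeSpectrum.primesOverOrderIsoFiber A B (r.comap (algebraMap A B))
  let x : (r.comap (algebraMap A B)).primesOver B := ⟨r, hr, ⟨rfl⟩⟩
  refine ⟨(iso x).asIdeal, (iso x).2, ?_⟩
  have h1 := PrimeSpectrum.coe_primesOverOrderIsoFiber_symm_apply (R := A) (S := B)
    (p := r.comap (algebraMap A B)) (iso x)
  rw [OrderIso.symm_apply_apply] at h1
  exact h1.symm

theorem hasSk_fibLocRing_of_fiber (k : ℕ) (r : Ideal B) [r.IsPrime]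
    (h : HasSk k ((r.comap (algebraMap A B)).Fiber B) ((r.comap (algebraMap A B)).Fiber B)) :
    HasSk k (EGA4.FibLocRing A B r) (EGA4.FibLocRing A B r) := by
  obtain ⟨Q, hQ, hQr⟩ := exists_fiber_prime A B r
  have h1 := hasSk_self_localization k h Q
  have h2 := hasSk_self_of_ringEquiv (fiberLocEquiv A B _ Q) k h1
  have key : ∀ (r' : Ideal B) [r'.IsPrime], r' = r →
      HasSk k (EGA4.FibLocRing A B r') (EGA4.FibLocRing A B r') →
      HasSk k (EGA4.FibLocRing A B r) (EGA4.FibLocRing A B r) := by
    intro r' _ hr' hh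
    subst hr'
    exact hh
  exact key _ hQr h2

theorem hasSk_fiber_of_fibLocRing (k : ℕ) (p : Ideal A) [p.IsPrime]
    (h : ∀ (r : Ideal B) [r.IsPrime], r.comap (algebraMap A B) = p →
      HasSk k (EGA4.FibLocRing A B r) (EGA4.FibLocRing A B r)) :
    HasSk k (p.Fiber B) (p.Fiber B) := by
  rw [hasSk_self_iff]
  intro Q _
  let e := fiberLocEquiv A B p Q
  rw [ringKrullDim_eq_of_ringEquiv e, depth_self_of_ringEquiv e]
  exact sk_ineq_of_hasSk_local _ k (h _ (comap_includeRight_comap A B p Q))

end FiberLoc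

section GlobalAscent

variable (A B : Type u) [CommRing A] [CommRing B] [IsNoetherianRing A] [IsNoetherianRing B]
  [Algebra A B] [Module.Flat A B]

theorem hasSk_of_flat_of_fibLocRing (k : ℕ)
    (hfib : ∀ (q : Ideal B) [q.IsPrime], HasSk k (EGA4.FibLocRing A B q) (EGA4.FibLocRing A B q))
    (hA : HasSk k A A) : HasSk k B B := by
  rw [hasSk_self_iff]
  intro q _
  exact sk_ineq_of_flat A B k q ((hasSk_self_iff k).mp hA _) (hfib q)

theorem hasSk_of_flat_of_fiber (k : ℕ)
    (hfib : ∀ (p : Ideal A) [p.IsPrime], HasSk k (p.Fiber B) (p.Fiber B))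
    (hA : HasSk k A A) : HasSk k B B :=
  hasSk_of_flat_of_fibLocRing A B k (fun q _ => hasSk_fibLocRing_of_fiber A B k q (hfib _)) hA

end GlobalAscent

section Completion

variable (A : Type u) [CommRing A] [IsNoetherianRing A] [IsLocalRing A]

theorem isNoetherianRing_cpl : IsNoetherianRing (EGA4.Cpl A) :=
  Groth.Agent.S0543.result A (maximalIdeal A)

theorem faithfullyFlat_cpl : Module.FaithfullyFlat A (EGA4.Cpl A) :=
  Module.FaithfullyFlat.of_flat_of_isLocalHom

theorem hasSk_cpl_iff (n : ℕ) (hA : EGA4.HasSnFormalFibres n A) :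
    HasSk n A A ↔ HasSk n (EGA4.Cpl A) (EGA4.Cpl A) := by
  have := isNoetherianRing_cpl A
  have := faithfullyFlat_cpl A
  constructor
  · intro h
    exact hasSk_of_flat_of_fiber A (EGA4.Cpl A) n (fun p _ => hA p) h
  · intro h
    exact Groth.Agent.Lib.Helper77.FlatDepth.hasSk_descent A (EGA4.Cpl A) n h

end Completion

end Groth.Agent.Lib.Helper56
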