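import Groth.Agent.Lib.Helper56.FibreCM
import Groth.Agent.Lib.Helper77.RegularCM
import Groth.Agent.Lib.Helper77.FlatDepth4
import Mathlib.RingTheory.RegularLocalRing.Polynomial

set_option autoImplicit false
universe u

namespace Groth.Agent.Lib.Helper56

open LocCoh IsLocalRing TensorProduct
open Groth.Agent.Lib.Helper77.FlatDepth

section CMRingBasic

theorem isCohenMacaulayRing_of_ringEquiv {R R' : Type u} [CommRing R] [CommRing R']
    (e : R ≃+* R') (h : IsCohenMacaulayRing R) : IsCohenMacaulayRing R' := by
  have hN : IsNoetherianRing R' := isNoetherianRing_of_ringEquiv R e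
  refine { isCohenMacaulayLocalRing_localization := ?_ }
  intro p' _
  have h1 := h.isCohenMacaulayLocalRing_localization (p'.comap (e : R →+* R'))
  exact isCohenMacaulayLocalRing_of_ringEquiv
    (Localization.localRingEquiv (p'.comap (e : R →+* R')) p' e rfl) h1

theorem isCohenMacaulayRing_of_isRegularRing (R : Type u) [CommRing R] [IsRegularRing R] :
    IsCohenMacaulayRing R := by
  refine { isCohenMacaulayLocalRing_localization := ?_ }
  intro p _
  exact Groth.Agent.Lib.Helper77.RegularCM.isCohenMacaulayLocalRing _

theorem isCohenMacaulayRing_of_isLocalization {R : Type u} [CommRing R] (M : Submonoid R)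
    (S : Type u) [CommRing S] [Algebra R S] [IsLocalization M S] (h : IsCohenMacaulayRing R) :
    IsCohenMacaulayRing S := by
  have hN : IsNoetherianRing S := IsLocalization.isNoetherianRing M S inferInstance
  refine { isCohenMacaulayLocalRing_localization := ?_ }
  intro p _
  have h1 := h.isCohenMacaulayLocalRing_localization (p.comap (algebraMap R S))
  have h2 : IsLocalization.AtPrime (Localization.AtPrime p) (p.comap (algebraMap R S)) :=
    IsLocalization.isLocalization_isLocalization_atPrime_isLocalization M _ p
  exact isCohenMacaulayLocalRing_of_ringEquiv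
    (IsLocalization.algEquiv (p.comap (algebraMap R S)).primeCompl
      (Localization.AtPrime (p.comap (algebraMap R S))) (Localization.AtPrime p)).toRingEquiv h1

theorem isCohenMacaulayRing_of_flat_of_fibres (A B : Type u) [CommRing A] [CommRing B]
    [Algebra A B] [IsNoetherianRing B] [Module.Flat A B] (hA : IsCohenMacaulayRing A)
    (hfib : ∀ (p : Ideal A) [p.IsPrime], IsCohenMacaulayRing (p.Fiber B)) :
    IsCohenMacaulayRing B := by
  refine { isCohenMacaulayLocalRing_localization := ?_ }
  intro q _
  obtain ⟨-, -, h3⟩ := loc_formulas A B q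
  exact h3.mpr ⟨hA.isCohenMacaulayLocalRing_localization _, isCM_fibLocRing_of_fiber A B q (hfib _)⟩

theorem isCohenMacaulayRing_of_isArtinianRing (R : Type u) [CommRing R] [IsArtinianRing R] :
    IsCohenMacaulayRing R := by
  refine { isCohenMacaulayLocalRing_localization := ?_ }
  intro p _
  apply isCM_of_dim_zero
  have : IsArtinianRing (Localization.AtPrime p) := inferInstance
  have : Ring.KrullDimLE 0 (Localization.AtPrime p) := inferInstance
  exact ringKrullDimZero_iff_ringKrullDim_eq_zero.mp this

end CMRingBasic

section CMPoly

theorem isCohenMacaulayRing_mvPolynomial (σ : Type) [Finite σ] (R : Type u) [CommRing R]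
    (h : IsCohenMacaulayRing R) : IsCohenMacaulayRing (MvPolynomial σ R) := by
  have hN : IsNoetherianRing R := h.toIsNoetherian
  apply isCohenMacaulayRing_of_flat_of_fibres R (MvPolynomial σ R) h
  intro p _
  have h1 : IsCohenMacaulayRing (MvPolynomial σ p.ResidueField) :=
    isCohenMacaulayRing_of_isRegularRing _
  exact isCohenMacaulayRing_of_ringEquiv
    (MvPolynomial.algebraTensorAlgEquiv R p.ResidueField).symm.toRingEquiv h1

theorem isCohenMacaulayRing_polynomial (R : Type u) [CommRing R]
    (h : IsCohenMacaulayRing R) : IsCohenMacaulayRing (Polynomial R) := by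
  have hN : IsNoetherianRing R := h.toIsNoetherian
  apply isCohenMacaulayRing_of_flat_of_fibres R (Polynomial R) h
  intro p _
  have h1 : IsCohenMacaulayRing (Polynomial p.ResidueField) :=
    isCohenMacaulayRing_of_isRegularRing _
  exact isCohenMacaulayRing_of_ringEquiv
    (polyEquivTensor R p.ResidueField).toRingEquiv h1

end CMPoly

end Groth.Agent.Lib.Helper56
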