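import Groth.Agent.Lib.Helper56.HomDescent
import Mathlib.RingTheory.QuasiFinite.Basic

set_option autoImplicit false
universe u

namespace Groth.Agent.Lib.Helper56

open LocCoh IsLocalRing TensorProduct

section HomComp

theorem isRegularRing_fiber_baseChange (B C T : Type u) [CommRing B] [CommRing C] [CommRing T]
    [Algebra B C] [Algebra B T] [Algebra.QuasiFinite B T]
    (hBC : ∀ (q : Ideal B) [q.IsPrime], CAlg.IsGeometricallyRegular q.ResidueField (q.Fiber C))
    (Q : Ideal T) [Q.IsPrime] : IsRegularRing (Q.Fiber (T ⊗[B] C)) := by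
  have hlo : Q.LiesOver (Q.under B) := ⟨rfl⟩
  let _ := Localization.AtPrime.algebraOfLiesOver (Q.under B) Q
  have hfin : Module.Finite (Q.under B).ResidueField Q.ResidueField := inferInstance
  have h1 : IsRegularRing (Q.ResidueField ⊗[(Q.under B).ResidueField] ((Q.under B).Fiber C)) :=
    hBC (Q.under B) Q.ResidueField hfin
  have e1 := Algebra.TensorProduct.cancelBaseChange B (Q.under B).ResidueField Q.ResidueField
    Q.ResidueField C
  have e2 := Algebra.TensorProduct.cancelBaseChange B T T Q.ResidueField C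
  exact IsRegularRing.of_ringEquiv
    (R := Q.ResidueField ⊗[(Q.under B).ResidueField] ((Q.under B).Fiber C))
    (e1.toRingEquiv.trans e2.symm.toRingEquiv)

variable (A B C : Type u) [CommRing A] [CommRing B] [CommRing C] [Algebra A B] [Algebra B C]
  [Algebra A C] [IsScalarTower A B C]

theorem isRegularHom_comp (hAB : CAlg.IsRegularHom A B) (hBC : CAlg.IsRegularHom B C)
    (hN : ∀ (p : Ideal A) [p.IsPrime], IsNoetherianRing (p.Fiber C)) :
    CAlg.IsRegularHom A C := by
  have h1 : Module.Flat A B := hAB.1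
  have h2 : Module.Flat B C := hBC.1
  refine ⟨Module.Flat.trans A B C, fun p _ => ⟨hN p, ?_⟩⟩
  intro k' _ _ hfin
  let _ : Algebra A k' :=
    ((algebraMap p.ResidueField k').comp (algebraMap A p.ResidueField)).toAlgebra
  have : IsScalarTower A p.ResidueField k' := IsScalarTower.of_algebraMap_eq (fun _ => rfl)
  have hq1 : Algebra.QuasiFinite A p.ResidueField := inferInstance
  have hq2 : Algebra.QuasiFinite p.ResidueField k' := inferInstance
  have hq3 : Algebra.QuasiFinite A k' := .trans A p.ResidueField k'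
  have hq4 : Algebra.QuasiFinite B (B ⊗[A] k') := inferInstance
  have hTB0 : IsRegularRing (k' ⊗[p.ResidueField] p.Fiber B) := (hAB.2 p).2 k' hfin
  have hTB : IsRegularRing (B ⊗[A] k') :=
    IsRegularRing.of_ringEquiv (R := k' ⊗[p.ResidueField] p.Fiber B)
      (fibreTensorEquiv A B p k').symm
  have hNTC : IsNoetherianRing ((B ⊗[A] k') ⊗[B] C) := by
    have := hN p
    have : IsNoetherianRing (p.Fiber C ⊗[p.ResidueField] k') :=
      IsNoetherianRing.of_finite (p.Fiber C) _
    exact isNoetherianRing_of_ringEquiv _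
      ((Algebra.TensorProduct.comm p.ResidueField (p.Fiber C) k').toRingEquiv.trans
        (fibreTensorEquiv' A B C p k').symm)
  have hflat : Module.Flat (B ⊗[A] k') ((B ⊗[A] k') ⊗[B] C) := inferInstance
  have hTC : IsRegularRing ((B ⊗[A] k') ⊗[B] C) :=
    isRegularRing_of_flat_of_fibres (B ⊗[A] k') _ hTB
      (fun Q _ => isRegularRing_fiber_baseChange B C (B ⊗[A] k') (fun q _ => (hBC.2 q).2) Q)
  exact IsRegularRing.of_ringEquiv (R := (B ⊗[A] k') ⊗[B] C) (fibreTensorEquiv' A B C p k')

end HomComp

end Groth.Agent.Lib.Helper56
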