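import Groth.Agent.Lib.Helper56.FlatRkAscent
import Mathlib.RingTheory.IntegralClosure.IntegrallyClosed

set_option autoImplicit false
universe u v w

namespace Groth.Agent.Lib.Helper56

open IsLocalRing

section NormalDescent

theorem isDomain_and_isIntegrallyClosed_of_faithfullyFlat (R S : Type*) [CommRing R]
    [CommRing S] [IsDomain S] [IsIntegrallyClosed S] [Algebra R S] [Module.FaithfullyFlat R S] :
    IsDomain R ∧ IsIntegrallyClosed R := by
  have hinj : Function.Injective (algebraMap R S) := FaithfulSMul.algebraMap_injective R S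
  have hdom : IsDomain R := hinj.isDomain _
  refine ⟨hdom, ?_⟩
  let K := FractionRing R
  let L := FractionRing S
  have hinj' : Function.Injective ((algebraMap S L).comp (algebraMap R S)) :=
    (IsFractionRing.injective S L).comp hinj
  let φ : K →+* L := IsFractionRing.lift (A := R) (K := K) (g := (algebraMap S L).comp (algebraMap R S)) hinj'
  have hφ : ∀ r : R, φ (algebraMap R K r) = algebraMap S L (algebraMap R S r) := fun r =>
    IsFractionRing.lift_algebraMap hinj' r
  rw [isIntegrallyClosed_iff K]
  intro x hx
  obtain ⟨a, b, hb, rfl⟩ := IsFractionRing.div_surjective (A := R) x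
  have hb0 : b ≠ 0 := nonZeroDivisors.ne_zero hb
  have hint : IsIntegral S (φ (algebraMap R K a / algebraMap R K b)) :=
    hx.map_of_comp_eq (algebraMap R S) φ (by
      ext r
      simp [hφ])
  obtain ⟨y, hy⟩ := (isIntegrallyClosed_iff L).mp inferInstance hint
  have hfb : algebraMap S L (algebraMap R S b) ≠ 0 := by
    rw [Ne, map_eq_zero_iff _ (IsFractionRing.injective S L), map_eq_zero_iff _ hinj]
    exact hb0
  have h1 : y * algebraMap R S b = algebraMap R S a := by
    apply IsFractionRing.injective S L
    rw [map_mul, hy, map_div₀, hφ, hφ, div_mul_cancel₀ _ hfb]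
  have h2 : a ∈ ((Ideal.span {b}).map (algebraMap R S)).comap (algebraMap R S) := by
    rw [Ideal.mem_comap, Ideal.map_span, Set.image_singleton, Ideal.mem_span_singleton']
    exact ⟨y, h1⟩
  rw [Ideal.comap_map_eq_self_of_faithfullyFlat, Ideal.mem_span_singleton'] at h2
  obtain ⟨c, hc⟩ := h2
  refine ⟨c, ?_⟩
  have hbK : algebraMap R K b ≠ 0 := by
    rw [Ne, map_eq_zero_iff _ (IsFractionRing.injective R K)]
    exact hb0
  rw [eq_div_iff hbK, ← map_mul, hc]

end NormalDescent

end Groth.Agent.Lib.Helper56
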