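import Groth.Agent.Lib.Helper56.DepthAss
import Groth.Agent.Lib.Helper76.RegularLocal
import Mathlib.RingTheory.DiscreteValuationRing.TFAE
import Mathlib.RingTheory.Localization.LocalizationLocalization
import Mathlib.RingTheory.Ideal.Height
import Mathlib.RingTheory.Ideal.KrullsHeightTheorem
import Mathlib.RingTheory.LocalProperties.IntegrallyClosed
import Mathlib.RingTheory.Localization.AsSubring

set_option autoImplicit false
universe u v w

namespace Groth.Agent.Lib.Helper56

open LocCoh RingTheory.Sequence IsLocalRing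
open scoped Pointwise

section RingEquivTransfer

variable {R : Type u} {S : Type v} [CommRing R] [CommRing S]

theorem isWeaklyRegular_self_map_ringEquiv (e : R ≃+* S) (rs : List R) :
    IsWeaklyRegular R rs ↔ IsWeaklyRegular S (rs.map e) :=
  (e.toAddEquiv).isWeaklyRegular_congr <| List.forall₂_map_right_iff.mpr <|
    List.forall₂_same.mpr fun r _ x => by simp

theorem depth_self_le_of_ringEquiv [IsLocalRing R] [IsLocalRing S] (e : R ≃+* S) :
    depth R R ≤ depth S S := by
  rw [← ENat.forall_natCast_le_iff_le]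
  intro n
  unfold depth
  rw [Helper67.le_idealDepth_iff, Helper67.le_idealDepth_iff]
  have hR : maximalIdeal R • (⊤ : Submodule R R) ≠ ⊤ := Helper67.maximalIdeal_smul_top_ne_top R
  have hS : maximalIdeal S • (⊤ : Submodule S S) ≠ ⊤ := Helper67.maximalIdeal_smul_top_ne_top S
  simp only [hR, hS, false_or]
  rintro ⟨rs, hlen, hreg, hmem⟩
  refine ⟨rs.map e, by simp [hlen], (isWeaklyRegular_self_map_ringEquiv e rs).mp hreg, ?_⟩
  intro s hs
  obtain ⟨r, hr, rfl⟩ := List.mem_map.mp hs
  have := hmem r hr
  rw [mem_maximalIdeal] at this ⊢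
  exact (map_mem_nonunits_iff e r).mpr this

theorem depth_self_of_ringEquiv [IsLocalRing R] [IsLocalRing S] (e : R ≃+* S) :
    depth R R = depth S S :=
  le_antisymm (depth_self_le_of_ringEquiv e) (depth_self_le_of_ringEquiv e.symm)

end RingEquivTransfer

section SelfForm

variable {R : Type u} [CommRing R]

theorem hasSk_self_iff (k : ℕ) :
    HasSk k R R ↔ ∀ (p : Ideal R) [p.IsPrime],
      min (k : WithBot ℕ∞) (ringKrullDim (Localization.AtPrime p)) ≤
        ((depth (Localization.AtPrime p) (Localization.AtPrime p) : ℕ∞) : WithBot ℕ∞) := by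
  unfold HasSk
  refine forall_congr' fun p => forall_congr' fun _ => ?_
  rw [supportDim_localizedModule_self, depth_localizedModule_self,
    Module.supportDim_self_eq_ringKrullDim]

theorem hasSk_self_localization (k : ℕ) (h : HasSk k R R) (p : Ideal R) [p.IsPrime] :
    HasSk k (Localization.AtPrime p) (Localization.AtPrime p) := by
  rw [hasSk_self_iff] at h ⊢
  intro Q _
  let e := (IsLocalization.localizationLocalizationAtPrimeIsoLocalization p.primeCompl
    Q).toRingEquiv
  have h1 := h (Q.comap (algebraMap R (Localization.AtPrime p)))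
  rwa [ringKrullDim_eq_of_ringEquiv e, depth_self_of_ringEquiv e] at h1

theorem hasRk_localization (k : ℕ) (h : HasRk k R) (p : Ideal R) [p.IsPrime] :
    HasRk k (Localization.AtPrime p) := by
  intro Q _ hQ
  let e := (IsLocalization.localizationLocalizationAtPrimeIsoLocalization p.primeCompl
    Q).toRingEquiv
  have h1 := h (Q.comap (algebraMap R (Localization.AtPrime p)))
    (by
      have := IsLocalization.height_under p.primeCompl Q
      rw [Ideal.under_def] at this
      rw [this]
      exact hQ)
  exact IsRegularLocalRing.of_ringEquiv e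

end SelfForm

section RegularLow

theorem isDomain_and_isIntegrallyClosed_of_isRegularLocalRing_of_dim_le_one (B : Type u)
    [CommRing B] [IsRegularLocalRing B] (h : ringKrullDim B ≤ 1) :
    IsDomain B ∧ IsIntegrallyClosed B := by
  have hd : IsDomain B := Helper76.isDomain_of_isRegularLocalRing B
  refine ⟨hd, ?_⟩
  have h1 := (IsRegularLocalRing.iff_finrank_cotangentSpace B).mp inferInstance
  have h2 : Module.finrank (ResidueField B) (CotangentSpace B) ≤ 1 := by
    rw [← h1] at h
    exact_mod_cast h
  have h3 : Module.finrank (ResidueField B) (CotangentSpace B) ≤ 1 →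
      (IsIntegrallyClosed B ∧ ∀ P : Ideal B, P ≠ ⊥ → P.IsPrime → P = maximalIdeal B) :=
    ((tfae_of_isNoetherianRing_of_isLocalRing_of_isDomain B).out 5 3).mp
  exact (h3 h2).1

theorem maximalIdeal_eq_bot_of_isRegularLocalRing_of_dim_eq_zero (B : Type u)
    [CommRing B] [IsRegularLocalRing B] (h : ringKrullDim B ≤ 0) :
    maximalIdeal B = ⊥ := by
  have h1 : ((maximalIdeal B).spanFinrank : WithBot ℕ∞) = ringKrullDim B :=
    IsRegularLocalRing.spanFinrank_maximalIdeal
  have h2 : (maximalIdeal B).spanFinrank = 0 := by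
    rw [← h1] at h
    have : (maximalIdeal B).spanFinrank ≤ 0 := by exact_mod_cast h
    omega
  exact (Submodule.spanFinrank_eq_zero_iff_eq_bot (IsNoetherian.noetherian _)).mp h2

end RegularLow

section KeyLemmas

variable {B : Type u} [CommRing B] [IsNoetherianRing B]

omit [IsNoetherianRing B] in
theorem mem_smul_top_iff_mem_span (s a : B) :
    a ∈ s • (⊤ : Submodule B B) ↔ a ∈ Ideal.span {s} := by
  rw [Submodule.mem_smul_pointwise_iff_exists, Ideal.mem_span_singleton']
  constructor
  · rintro ⟨c, -, hc⟩
    exact ⟨c, by rw [mul_comm]; exact hc⟩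
  · rintro ⟨c, hc⟩
    exact ⟨c, Submodule.mem_top, by rw [smul_eq_mul, mul_comm]; exact hc⟩

theorem self_mem_of_mem_ass_quotSMulTop (s : B) (P : Ideal B)
    (hP : P ∈ associatedPrimes B (QuotSMulTop s B)) : s ∈ P := by
  obtain ⟨_, x, hx⟩ := (isAssociatedPrime_iff).mp hP
  rw [hx, Submodule.mem_colon_singleton, Submodule.mem_bot]
  obtain ⟨y, rfl⟩ := Submodule.Quotient.mk_surjective _ x
  rw [← Submodule.Quotient.mk_smul, Submodule.Quotient.mk_eq_zero]
  exact Submodule.smul_mem_pointwise_smul _ _ _ Submodule.mem_top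

theorem height_le_one_of_mem_ass_quotSMulTop (hS2 : HasSk 2 B B) (s : B)
    (hs : IsSMulRegular B s) (P : Ideal B)
    (hP : P ∈ associatedPrimes B (QuotSMulTop s B)) : P.height ≤ 1 := by
  have hPp : P.IsPrime := IsAssociatedPrime.isPrime hP
  have hsP : s ∈ P := self_mem_of_mem_ass_quotSMulTop s P hP
  have h0 := depth_localizedModule_eq_zero_of_mem_associatedPrimes hP
  have hnt : Nontrivial (LocalizedModule P.primeCompl B) :=
    (locSelfEquiv P.primeCompl).toEquiv.nontrivial
  have h1 := depth_loc_quotSMulTop_add_one B P s hsP hs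
  rw [h0, zero_add] at h1
  have h2 := hS2 P
  rw [← h1, supportDim_localizedModule_self, Module.supportDim_self_eq_ringKrullDim,
    IsLocalization.AtPrime.ringKrullDim_eq_height P, min_le_iff] at h2
  rcases h2 with h2 | h2
  · exfalso
    norm_num at h2
  · exact_mod_cast h2

theorem mem_span_singleton_of_forall_ass (s a : B)
    (h : ∀ P ∈ associatedPrimes B (QuotSMulTop s B), ∃ u ∉ P, u * a ∈ Ideal.span {s}) :
    a ∈ Ideal.span {s} := by
  by_contra hcon
  have hne : (Submodule.Quotient.mk a : QuotSMulTop s B) ≠ 0 := by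
    rw [Ne, Submodule.Quotient.mk_eq_zero, mem_smul_top_iff_mem_span]
    exact hcon
  obtain ⟨P, hP, hle⟩ := exists_le_isAssociatedPrime_of_isNoetherianRing B _ hne
  obtain ⟨u, huP, hu⟩ := h P hP
  apply huP
  apply hle
  rw [Submodule.mem_colon_singleton, Submodule.mem_bot, ← Submodule.Quotient.mk_smul,
    Submodule.Quotient.mk_eq_zero, mem_smul_top_iff_mem_span]
  exact hu

end KeyLemmas

end Groth.Agent.Lib.Helper56
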