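import Groth.Agent.Lib.Helper56.NormalDescent
import Groth.Agent.Lib.Helper77.FlatDepth3
import Groth.Agent.S0601

set_option autoImplicit false
universe u v w

namespace Groth.Agent.Lib.Helper56

open LocCoh RingTheory.Sequence IsLocalRing
open scoped Pointwise

section LocalSelf2

theorem atUnitsEquiv (R : Type u) [CommRing R] [IsLocalRing R] :
    Nonempty (R ≃+* Localization.AtPrime (maximalIdeal R)) := by
  have hu : ∀ x ∈ (maximalIdeal R).primeCompl, IsUnit x := by
    intro x hx
    by_contra hnu
    exact hx ((mem_maximalIdeal x).mpr hnu)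
  exact ⟨(IsLocalization.atUnits R (maximalIdeal R).primeCompl
      (S := Localization.AtPrime (maximalIdeal R)) hu).toRingEquiv⟩

theorem sk_ineq_of_hasSk_local (R : Type u) [CommRing R] [IsLocalRing R] (k : ℕ)
    (h : HasSk k R R) :
    min (k : WithBot ℕ∞) (ringKrullDim R) ≤ ((depth R R : ℕ∞) : WithBot ℕ∞) := by
  obtain ⟨e⟩ := atUnitsEquiv R
  have h1 := (hasSk_self_iff k).mp h (maximalIdeal R)
  rwa [← ringKrullDim_eq_of_ringEquiv e, ← depth_self_of_ringEquiv e] at h1

theorem sk_ineq_of_hasSk_atPrime {A : Type u} [CommRing A] (p p' : Ideal A)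
    [p.IsPrime] [p'.IsPrime] (hle : p' ≤ p) (k : ℕ)
    (h : HasSk k (Localization.AtPrime p) (Localization.AtPrime p)) :
    min (k : WithBot ℕ∞) (ringKrullDim (Localization.AtPrime p')) ≤
      ((depth (Localization.AtPrime p') (Localization.AtPrime p') : ℕ∞) : WithBot ℕ∞) := by
  have hdisj : Disjoint (p.primeCompl : Set A) (p' : Set A) := by
    rw [Set.disjoint_left]
    intro a ha haq
    exact ha (hle haq)
  have hQprime : (p'.map (algebraMap A (Localization.AtPrime p))).IsPrime :=
    IsLocalization.isPrime_of_isPrime_disjoint p.primeCompl _ p' inferInstance hdisj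
  have hQc : (p'.map (algebraMap A (Localization.AtPrime p))).comap
      (algebraMap A (Localization.AtPrime p)) = p' := by
    have := IsLocalization.under_map_of_isPrime_disjoint p.primeCompl
      (Localization.AtPrime p) (I := p') inferInstance hdisj
    rwa [Ideal.under_def] at this
  have e := (IsLocalization.localizationLocalizationAtPrimeIsoLocalization p.primeCompl
    (p'.map (algebraMap A (Localization.AtPrime p)))).toRingEquiv
  have h1 := (hasSk_self_iff k).mp h (p'.map (algebraMap A (Localization.AtPrime p)))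
  rw [← ringKrullDim_eq_of_ringEquiv e, ← depth_self_of_ringEquiv e] at h1
  have key : ∀ (p'' : Ideal A) [p''.IsPrime], p'' = p' →
      min (k : WithBot ℕ∞) (ringKrullDim (Localization.AtPrime p'')) ≤
        ((depth (Localization.AtPrime p'') (Localization.AtPrime p'') : ℕ∞) : WithBot ℕ∞) →
      min (k : WithBot ℕ∞) (ringKrullDim (Localization.AtPrime p')) ≤
        ((depth (Localization.AtPrime p') (Localization.AtPrime p') : ℕ∞) : WithBot ℕ∞) := by
    intro p'' _ hp'' hh
    subst hp''
    exact hh
  exact key _ hQc h1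

theorem normal_of_localizations (R : Type u) [CommRing R] [IsLocalRing R]
    (h : ∀ (P : Ideal R) [P.IsPrime], IsDomain (Localization.AtPrime P) ∧
      IsIntegrallyClosed (Localization.AtPrime P)) : IsDomain R ∧ IsIntegrallyClosed R := by
  obtain ⟨e⟩ := atUnitsEquiv R
  obtain ⟨h1, h2⟩ := h (maximalIdeal R)
  exact ⟨e.toMulEquiv.isDomain _, IsIntegrallyClosed.of_equiv e.symm⟩

end LocalSelf2

section Arith

theorem sk_arith_add (k : ℕ) (a b : WithBot ℕ∞) (x y : ℕ∞)
    (ha : min (k : WithBot ℕ∞) a ≤ (x : WithBot ℕ∞))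
    (hb : min (k : WithBot ℕ∞) b ≤ (y : WithBot ℕ∞)) (hb0 : b ≠ ⊥) (ha0 : a ≠ ⊥) :
    min (k : WithBot ℕ∞) (a + b) ≤ ((x + y : ℕ∞) : WithBot ℕ∞) := by
  induction a using WithBot.recBotCoe with
  | bot => exact absurd rfl ha0
  | coe a =>
    induction b using WithBot.recBotCoe with
    | bot => exact absurd rfl hb0
    | coe b =>
      have ha' : min (k : ℕ∞) a ≤ x := by
        have : ((min (k : ℕ∞) a : ℕ∞) : WithBot ℕ∞) ≤ (x : WithBot ℕ∞) := by
          rw [WithBot.coe_min]; exact_mod_cast ha
        exact WithBot.coe_le_coe.mp this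
      have hb' : min (k : ℕ∞) b ≤ y := by
        have : ((min (k : ℕ∞) b : ℕ∞) : WithBot ℕ∞) ≤ (y : WithBot ℕ∞) := by
          rw [WithBot.coe_min]; exact_mod_cast hb
        exact WithBot.coe_le_coe.mp this
      have key : min (k : ℕ∞) (a + b) ≤ x + y := by
        rcases min_le_iff.mp ha' with h1 | h1
        · exact le_trans (min_le_left _ _) (le_trans h1 le_self_add)
        · rcases min_le_iff.mp hb' with h2 | h2
          · exact le_trans (min_le_left _ _) (le_trans h2 le_add_self)
          · exact le_trans (min_le_right _ _) (add_le_add h1 h2)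
      have : ((min (k : ℕ∞) (a + b) : ℕ∞) : WithBot ℕ∞) ≤ ((x + y : ℕ∞) : WithBot ℕ∞) :=
        WithBot.coe_le_coe.mpr key
      rw [WithBot.coe_min] at this
      exact_mod_cast this

end Arith

section Ascent

variable (A B : Type u) [CommRing A] [CommRing B] [IsNoetherianRing A] [IsNoetherianRing B]
  [Algebra A B] [Module.Flat A B]

theorem sk_ineq_of_flat (k : ℕ) (q : Ideal B) [q.IsPrime]
    (hA : min (k : WithBot ℕ∞) (ringKrullDim (Localization.AtPrime (q.comap (algebraMap A B)))) ≤
      ((depth (Localization.AtPrime (q.comap (algebraMap A B)))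
        (Localization.AtPrime (q.comap (algebraMap A B))) : ℕ∞) : WithBot ℕ∞))
    (hF : HasSk k (EGA4.FibLocRing A B q) (EGA4.FibLocRing A B q)) :
    min (k : WithBot ℕ∞) (ringKrullDim (Localization.AtPrime q)) ≤
      ((depth (Localization.AtPrime q) (Localization.AtPrime q) : ℕ∞) : WithBot ℕ∞) := by
  obtain ⟨h1, h2, -⟩ := Groth.Agent.Lib.Helper77.FlatDepth.loc_formulas A B q
  have hF' := sk_ineq_of_hasSk_local (EGA4.FibLocRing A B q) k hF
  rw [h1, h2]
  refine sk_arith_add k _ _ _ _ hA hF' ?_ ?_
  · exact ringKrullDim_ne_bot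
  · exact ringKrullDim_ne_bot

theorem hasSk_atPrime_of_flat_of_fibres (k : ℕ)
    (hfib : ∀ (q : Ideal B) [q.IsPrime], HasSk k (EGA4.FibLocRing A B q) (EGA4.FibLocRing A B q))
    (q : Ideal B) [q.IsPrime]
    (hA : HasSk k (Localization.AtPrime (q.comap (algebraMap A B)))
      (Localization.AtPrime (q.comap (algebraMap A B)))) :
    HasSk k (Localization.AtPrime q) (Localization.AtPrime q) := by
  rw [hasSk_self_iff]
  intro Q hQ
  let e := (IsLocalization.localizationLocalizationAtPrimeIsoLocalization q.primeCompl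
    Q).toRingEquiv
  have hle' : Q.comap (algebraMap B (Localization.AtPrime q)) ≤ q := by
    have h1 : Q ≤ maximalIdeal (Localization.AtPrime q) := IsLocalRing.le_maximalIdeal hQ.ne_top
    have h2 := Ideal.comap_mono (f := algebraMap B (Localization.AtPrime q)) h1
    rwa [show Ideal.comap (algebraMap B (Localization.AtPrime q))
      (maximalIdeal (Localization.AtPrime q)) = q from
      Localization.AtPrime.under_maximalIdeal] at h2
  rw [← ringKrullDim_eq_of_ringEquiv e, ← depth_self_of_ringEquiv e]
  apply sk_ineq_of_flat A B k _ _ (hfib _)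
  exact sk_ineq_of_hasSk_atPrime (q.comap (algebraMap A B)) _ (Ideal.comap_mono hle') k hA

end Ascent

end Groth.Agent.Lib.Helper56
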