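import Groth.Agent.Lib.Helper56.FiberLoc
import Groth.Agent.S2611
import Groth.Agent.S2610

set_option autoImplicit false
universe u

namespace Groth.Agent.Lib.Helper56

open LocCoh IsLocalRing TensorProduct

section GeomNormal

theorem isNormalRing_of_isGeomNormal (k : Type u) [Field k] (S : Type u) [CommRing S]
    [Algebra k S] (h : EGA4.IsGeomNormal k S) : EGA4.IsNormalRing S :=
  isNormalRing_of_ringEquiv (Algebra.TensorProduct.lid k S).toRingEquiv
    (h k (Module.Finite.self k))

variable (A B : Type u) [CommRing A] [CommRing B] [Algebra A B]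

theorem normal_fibLocRing_of_fiber (r : Ideal B) [r.IsPrime]
    (h : EGA4.IsNormalRing ((r.comap (algebraMap A B)).Fiber B)) :
    IsDomain (EGA4.FibLocRing A B r) ∧ IsIntegrallyClosed (EGA4.FibLocRing A B r) := by
  obtain ⟨Q, hQ, hQr⟩ := exists_fiber_prime A B r
  obtain ⟨h1, h2⟩ := h Q
  let e := fiberLocEquiv A B _ Q
  have h3 : IsDomain (EGA4.FibLocRing A B (Q.comap (Algebra.TensorProduct.includeRight :
        B →ₐ[A] (r.comap (algebraMap A B)).Fiber B))) ∧
      IsIntegrallyClosed (EGA4.FibLocRing A B (Q.comap (Algebra.TensorProduct.includeRight :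
        B →ₐ[A] (r.comap (algebraMap A B)).Fiber B))) :=
    ⟨e.symm.toMulEquiv.isDomain _,
      IsIntegrallyClosed.of_equiv (R := Localization.AtPrime Q) e⟩
  have key : ∀ (r' : Ideal B) [r'.IsPrime], r' = r →
      (IsDomain (EGA4.FibLocRing A B r') ∧ IsIntegrallyClosed (EGA4.FibLocRing A B r')) →
      (IsDomain (EGA4.FibLocRing A B r) ∧ IsIntegrallyClosed (EGA4.FibLocRing A B r)) := by
    intro r' _ hr' hh
    subst hr'
    exact hh
  exact key _ hQr h3

end GeomNormal

section CplNormal

variable (A : Type u) [CommRing A] [IsNoetherianRing A] [IsLocalRing A]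

theorem isNormalRing_cpl_iff (hA : EGA4.HasGeomNormalFormalFibres A) :
    EGA4.IsNormalRing A ↔ EGA4.IsNormalRing (EGA4.Cpl A) := by
  have := isNoetherianRing_cpl A
  have := faithfullyFlat_cpl A
  constructor
  · intro h q _
    obtain ⟨h1, h2⟩ := h (q.comap (algebraMap A (EGA4.Cpl A)))
    exact Groth.Agent.S2611.result A (EGA4.Cpl A)
      (fun r _ => normal_fibLocRing_of_fiber A (EGA4.Cpl A) r
        (isNormalRing_of_isGeomNormal _ _ (hA _))) q
  · intro h p _
    obtain ⟨q, hq, hqp⟩ := Ideal.exists_isPrime_liesOver_of_faithfullyFlat (B := EGA4.Cpl A) p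
    obtain ⟨h1, h2⟩ := h q
    have h3 := Groth.Agent.S2610.result A (EGA4.Cpl A) q
    have key : ∀ (p' : Ideal A) [p'.IsPrime], p' = p →
        (IsDomain (Localization.AtPrime p') ∧ IsIntegrallyClosed (Localization.AtPrime p')) →
        (IsDomain (Localization.AtPrime p) ∧ IsIntegrallyClosed (Localization.AtPrime p)) := by
      intro p' _ hp' hh
      subst hp'
      exact hh
    refine key _ ?_ h3
    have := hqp.over
    rw [Ideal.under_def] at this
    exact this.symm

end CplNormal

end Groth.Agent.Lib.Helper56
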