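import Groth.Agent.Lib.Helper56.HomComp
import Groth.Agent.Lib.Helper56.CplNormal

set_option autoImplicit false
universe u

namespace Groth.Agent.Lib.Helper56

open LocCoh IsLocalRing TensorProduct

section NormalComp

theorem isNormalRing_of_flat_of_fibres (A B : Type u) [CommRing A] [CommRing B] [Algebra A B]
    [IsNoetherianRing A] [IsNoetherianRing B] [Module.Flat A B] (hA : EGA4.IsNormalRing A)
    (hfib : ∀ (p : Ideal A) [p.IsPrime], EGA4.IsNormalRing (p.Fiber B)) :
    EGA4.IsNormalRing B := by
  intro q _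
  obtain ⟨h1, h2⟩ := hA (q.comap (algebraMap A B))
  exact Groth.Agent.S2611.result A B
    (fun r _ => normal_fibLocRing_of_fiber A B r (hfib _)) q

theorem isNormalRing_fiber_baseChange (B C T : Type u) [CommRing B] [CommRing C] [CommRing T]
    [Algebra B C] [Algebra B T] [Algebra.QuasiFinite B T]
    (hBC : ∀ (q : Ideal B) [q.IsPrime], EGA4.IsGeomNormal q.ResidueField (q.Fiber C))
    (Q : Ideal T) [Q.IsPrime] : EGA4.IsNormalRing (Q.Fiber (T ⊗[B] C)) := by
  have hlo : Q.LiesOver (Q.under B) := ⟨rfl⟩
  let _ := Localization.AtPrime.algebraOfLiesOver (Q.under B) Q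
  have hfin : Module.Finite (Q.under B).ResidueField Q.ResidueField := inferInstance
  have h1 : EGA4.IsNormalRing
      (Q.ResidueField ⊗[(Q.under B).ResidueField] ((Q.under B).Fiber C)) :=
    hBC (Q.under B) Q.ResidueField hfin
  have e1 := Algebra.TensorProduct.cancelBaseChange B (Q.under B).ResidueField Q.ResidueField
    Q.ResidueField C
  have e2 := Algebra.TensorProduct.cancelBaseChange B T T Q.ResidueField C
  exact isNormalRing_of_ringEquiv (e1.toRingEquiv.trans e2.symm.toRingEquiv) h1

variable (A B C : Type u) [CommRing A] [CommRing B] [CommRing C] [Algebra A B] [Algebra B C]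
  [Algebra A C] [IsScalarTower A B C]

theorem isNormalHom_comp [IsNoetherianRing B] [IsNoetherianRing C]
    (hAB : EGA4.IsNormalHom A B) (hBC : EGA4.IsNormalHom B C) :
    EGA4.IsNormalHom A C := by
  have h1 : Module.Flat A B := hAB.1
  have h2 : Module.Flat B C := hBC.1
  refine ⟨Module.Flat.trans A B C, fun p _ => ?_⟩
  intro k' _ _ hfin
  let _ : Algebra A k' :=
    ((algebraMap p.ResidueField k').comp (algebraMap A p.ResidueField)).toAlgebra
  have : IsScalarTower A p.ResidueField k' := IsScalarTower.of_algebraMap_eq (fun _ => rfl)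
  have hq1 : Algebra.QuasiFinite A p.ResidueField := inferInstance
  have hq2 : Algebra.QuasiFinite p.ResidueField k' := inferInstance
  have hq3 : Algebra.QuasiFinite A k' := .trans A p.ResidueField k'
  have hq4 : Algebra.QuasiFinite B (B ⊗[A] k') := inferInstance
  have hTB0 : EGA4.IsNormalRing (k' ⊗[p.ResidueField] p.Fiber B) := hAB.2 p k' hfin
  have hTB : EGA4.IsNormalRing (B ⊗[A] k') :=
    isNormalRing_of_ringEquiv (fibreTensorEquiv A B p k').symm hTB0
  have hNTB : IsNoetherianRing (B ⊗[A] k') := by
    have := isNoetherianRing_fiber A B p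
    have : IsNoetherianRing (p.Fiber B ⊗[p.ResidueField] k') :=
      IsNoetherianRing.of_finite (p.Fiber B) _
    exact isNoetherianRing_of_ringEquiv _
      ((Algebra.TensorProduct.comm p.ResidueField (p.Fiber B) k').toRingEquiv.trans
        (fibreTensorEquiv A B p k').symm)
  have hNTC : IsNoetherianRing ((B ⊗[A] k') ⊗[B] C) := by
    have := isNoetherianRing_fiber A C p
    have : IsNoetherianRing (p.Fiber C ⊗[p.ResidueField] k') :=
      IsNoetherianRing.of_finite (p.Fiber C) _
    exact isNoetherianRing_of_ringEquiv _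
      ((Algebra.TensorProduct.comm p.ResidueField (p.Fiber C) k').toRingEquiv.trans
        (fibreTensorEquiv' A B C p k').symm)
  have hflat : Module.Flat (B ⊗[A] k') ((B ⊗[A] k') ⊗[B] C) := inferInstance
  have hTC : EGA4.IsNormalRing ((B ⊗[A] k') ⊗[B] C) :=
    isNormalRing_of_flat_of_fibres (B ⊗[A] k') _ hTB
      (fun Q _ => isNormalRing_fiber_baseChange B C (B ⊗[A] k') (fun q _ => hBC.2 q) Q)
  exact isNormalRing_of_ringEquiv (fibreTensorEquiv' A B C p k') hTC

end NormalComp

end Groth.Agent.Lib.Helper56
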