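import Groth.Prelude.Def_EGA4b
import Groth.Agent.Lib.Helper56.GeomReduced
import Groth.Agent.Lib.Helper94.GeomRedFib

set_option autoImplicit false
universe u

namespace Groth.Agent.Lib.Helper56

open TensorProduct EGA4

theorem isReduced_of_isNormalRing (R : Type u) [CommRing R] (h : IsNormalRing R) : IsReduced R := by
  refine isReduced_ofLocalizationMaximal R (fun m hm => ?_)
  haveI := hm.isPrime
  haveI := (h m).1
  infer_instance

theorem isGeometricallyReduced_of_isGeomNormal (k S : Type u) [Field k] [CommRing S] [Algebra k S]
    (h : IsGeomNormal k S) : Algebra.IsGeometricallyReduced k S := by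
  rw [Algebra.isGeometricallyReduced_field_iff]
  refine isReduced_of_forall_finite (fun E hE => ?_)
  exact isReduced_of_isNormalRing _ (h E hE)

theorem isReduced_tensor_of_isNormalHom (A A' : Type u) [CommRing A] [CommRing A']
    [IsNoetherianRing A] [Algebra A A']
    (h : EGA4.IsNormalHom A A') (B : Type u) [CommRing B] [Algebra A B] [IsReduced B] :
    IsReduced (A' ⊗[A] B) := by
  obtain ⟨hflat, hfib⟩ := h
  haveI := hflat
  apply IsReduced.tensorProduct_of_flat_of_forall_fg
  intro B' hB'
  haveI : Algebra.FiniteType A B' := (Subalgebra.fg_iff_finiteType B').mp hB'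
  haveI : IsNoetherianRing B' := Algebra.FiniteType.isNoetherianRing A B'
  haveI : IsReduced B' := isReduced_of_injective B'.val Subtype.val_injective
  haveI := Groth.Agent.Lib.Helper94.isReduced_baseChange A A' B'
    (fun q _ => isGeometricallyReduced_of_isGeomNormal _ _ (hfib q))
  exact isReduced_of_injective (Algebra.TensorProduct.comm A A' B').toAlgHom
    (Algebra.TensorProduct.comm A A' B').injective

end Groth.Agent.Lib.Helper56
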