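import Groth.Agent.Lib.Helper56.CplFlat
import Groth.Agent.Lib.Helper56.HomComp
import Groth.Agent.Lib.Helper56.NormalComp
import Groth.Agent.Lib.Helper56.FibreCM
import Groth.Agent.Lib.Helper56.CMRing
import Groth.Agent.Lib.Helper56.NormalReduced
import Groth.Agent.Lib.Helper56.Serre3
import Groth.Agent.Lib.Helper35.RegField

set_option autoImplicit false
universe u

namespace Groth.Agent.Lib.Helper56

open IsLocalRing EGA4 TensorProduct LocCoh

section RegularNormal

theorem hasSk_self_of_isCohenMacaulayRing (k : ℕ) (R : Type u) [CommRing R]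
    (h : IsCohenMacaulayRing R) : HasSk k R R := by
  rw [hasSk_self_iff]
  intro p _
  have h1 := (h.isCohenMacaulayLocalRing_localization p).supportDim_eq_depth
  rw [Module.supportDim_self_eq_ringKrullDim] at h1
  rw [h1]
  exact min_le_right _ _

theorem isNormalRing_of_isRegularRing (R : Type u) [CommRing R] [IsRegularRing R] :
    EGA4.IsNormalRing R :=
  (serre_normal_iff R).mpr ⟨fun _ _ _ => inferInstance,
    hasSk_self_of_isCohenMacaulayRing 2 R (isCohenMacaulayRing_of_isRegularRing R)⟩

theorem isNormalHom_of_isRegularHom (A B : Type u) [CommRing A] [CommRing B] [Algebra A B]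
    (h : CAlg.IsRegularHom A B) : EGA4.IsNormalHom A B :=
  ⟨h.1, fun p _ k' _ _ hfin =>
    have : IsRegularRing (k' ⊗[p.ResidueField] p.Fiber B) := (h.2 p).2 k' hfin
    isNormalRing_of_isRegularRing _⟩

end RegularNormal

section GeomRed

theorem isGeometricallyReduced_of_forall_finite (k S : Type u) [Field k] [CommRing S] [Algebra k S]
    (h : ∀ (k' : Type u) [Field k'] [Algebra k k'], Module.Finite k k' → IsReduced (k' ⊗[k] S)) :
    Algebra.IsGeometricallyReduced k S := by
  rw [Algebra.isGeometricallyReduced_field_iff]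
  exact isReduced_of_forall_finite (fun E hE => h E hE)

theorem isGeometricallyReduced_of_isGeometricallyRegular (k S : Type u) [Field k] [CommRing S]
    [Algebra k S] (h : CAlg.IsGeometricallyRegular k S) : Algebra.IsGeometricallyReduced k S :=
  isGeometricallyReduced_of_forall_finite k S (fun k' _ _ hfin =>
    have : IsRegularRing (k' ⊗[k] S) := h k' hfin
    Groth.Agent.Lib.Helper35.RegField.isReduced_of_isRegularRing _)

variable (A B C : Type u) [CommRing A] [CommRing B] [CommRing C] [Algebra A B] [Algebra B C]
  [Algebra A C] [IsScalarTower A B C]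

theorem geomReduced_fibres_comp [IsNoetherianRing B] [Module.Flat B C]
    (hAB : ∀ (p : Ideal A) [p.IsPrime], Algebra.IsGeometricallyReduced p.ResidueField (p.Fiber B))
    (hBC : ∀ (q : Ideal B) [q.IsPrime], Algebra.IsGeometricallyReduced q.ResidueField (q.Fiber C))
    (p : Ideal A) [p.IsPrime] : Algebra.IsGeometricallyReduced p.ResidueField (p.Fiber C) := by
  apply isGeometricallyReduced_of_forall_finite
  intro k' _ _ hfin
  let _ : Algebra A k' :=
    ((algebraMap p.ResidueField k').comp (algebraMap A p.ResidueField)).toAlgebra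
  have : IsScalarTower A p.ResidueField k' := IsScalarTower.of_algebraMap_eq (fun _ => rfl)
  have := hAB p
  have halg : Algebra.IsAlgebraic p.ResidueField k' := Algebra.IsAlgebraic.of_finite _ _
  have hTB0 : IsReduced (k' ⊗[p.ResidueField] p.Fiber B) := inferInstance
  have hTB : IsReduced (B ⊗[A] k') :=
    isReduced_of_injective (fibreTensorEquiv A B p k').toRingHom (fibreTensorEquiv A B p k').injective
  have hNTB : IsNoetherianRing (B ⊗[A] k') := by
    have := isNoetherianRing_fiber A B p
    have : IsNoetherianRing (p.Fiber B ⊗[p.ResidueField] k') :=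
      IsNoetherianRing.of_finite (p.Fiber B) _
    exact isNoetherianRing_of_ringEquiv _
      ((Algebra.TensorProduct.comm p.ResidueField (p.Fiber B) k').toRingEquiv.trans
        (fibreTensorEquiv A B p k').symm)
  have hTC : IsReduced ((B ⊗[A] k') ⊗[B] C) :=
    Groth.Agent.Lib.Helper94.isReduced_baseChange B C (B ⊗[A] k') hBC
  exact isReduced_of_injective (fibreTensorEquiv' A B C p k').symm.toRingHom
    (fibreTensorEquiv' A B C p k').symm.injective

theorem geomReduced_fibres_descent [Module.FaithfullyFlat B C]
    (hAC : ∀ (p : Ideal A) [p.IsPrime], Algebra.IsGeometricallyReduced p.ResidueField (p.Fiber C))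
    (p : Ideal A) [p.IsPrime] : Algebra.IsGeometricallyReduced p.ResidueField (p.Fiber B) := by
  apply isGeometricallyReduced_of_forall_finite
  intro k' _ _ hfin
  let _ : Algebra A k' :=
    ((algebraMap p.ResidueField k').comp (algebraMap A p.ResidueField)).toAlgebra
  have : IsScalarTower A p.ResidueField k' := IsScalarTower.of_algebraMap_eq (fun _ => rfl)
  have := hAC p
  have halg : Algebra.IsAlgebraic p.ResidueField k' := Algebra.IsAlgebraic.of_finite _ _
  have hTC0 : IsReduced (k' ⊗[p.ResidueField] p.Fiber C) := inferInstance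
  have hTC : IsReduced ((B ⊗[A] k') ⊗[B] C) :=
    isReduced_of_injective (fibreTensorEquiv' A B C p k').toRingHom
      (fibreTensorEquiv' A B C p k').injective
  have hff : Module.FaithfullyFlat (B ⊗[A] k') ((B ⊗[A] k') ⊗[B] C) := inferInstance
  have hTB : IsReduced (B ⊗[A] k') :=
    isReduced_of_injective (algebraMap (B ⊗[A] k') ((B ⊗[A] k') ⊗[B] C))
      (FaithfulSMul.algebraMap_injective _ _)
  exact isReduced_of_injective (fibreTensorEquiv A B p k').symm.toRingHom
    (fibreTensorEquiv A B p k').symm.injective

end GeomRed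

section FormalDescent

variable (A A' : Type u) [CommRing A] [CommRing A'] [IsNoetherianRing A]
    [IsNoetherianRing A'] [IsLocalRing A] [IsLocalRing A'] [Algebra A A'] [IsLocalHom (algebraMap A A')]

theorem isRegularHom_cpl_descent
    (hf : CAlg.IsRegularHom A A') (hA' : CAlg.IsRegularHom A' (EGA4.Cpl A')) :
    CAlg.IsRegularHom A (EGA4.Cpl A) := by
  let _ := cplAlgebra A A'
  have := isScalarTower_cpl A A'
  have := isScalarTower_cpl_base A A'
  have : Module.Flat A A' := hf.1
  have := faithfullyFlat_cplMap A A'
  have : IsNoetherianRing (Cpl A') := Groth.Agent.S0543.result A' (maximalIdeal A')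
  have hcomp : CAlg.IsRegularHom A (Cpl A') :=
    isRegularHom_comp A A' (Cpl A') hf hA' (fun p _ => isNoetherianRing_fiber A (Cpl A') p)
  exact isRegularHom_descent A (Cpl A) (Cpl A') hcomp

theorem hasGeomNormalFormalFibres_descent
    (hf : EGA4.IsNormalHom A A') (hA' : CAlg.IsRegularHom A' (EGA4.Cpl A')) :
    EGA4.HasGeomNormalFormalFibres A := by
  let _ := cplAlgebra A A'
  have := isScalarTower_cpl A A'
  have := isScalarTower_cpl_base A A'
  have : Module.Flat A A' := hf.1
  have := faithfullyFlat_cplMap A A'
  have : IsNoetherianRing (Cpl A') := Groth.Agent.S0543.result A' (maximalIdeal A')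
  have hcomp : EGA4.IsNormalHom A (Cpl A') :=
    isNormalHom_comp A A' (Cpl A') hf (isNormalHom_of_isRegularHom _ _ hA')
  exact (isNormalHom_descent A (Cpl A) (Cpl A') hcomp).2

theorem hasGeomReducedFormalFibres_descent [Module.Flat A A']
    (hf : ∀ (p : Ideal A) [p.IsPrime], Algebra.IsGeometricallyReduced p.ResidueField (p.Fiber A'))
    (hA' : CAlg.IsRegularHom A' (EGA4.Cpl A')) : EGA4.HasGeomReducedFormalFibres A := by
  let _ := cplAlgebra A A'
  have := isScalarTower_cpl A A'
  have := isScalarTower_cpl_base A A'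
  have := faithfullyFlat_cplMap A A'
  have : Module.Flat A' (Cpl A') := hA'.1
  have hcomp := geomReduced_fibres_comp A A' (Cpl A') hf
    (fun q _ => isGeometricallyReduced_of_isGeometricallyRegular _ _ (hA'.2 q).2)
  intro p _
  exact geomReduced_fibres_descent A (Cpl A) (Cpl A') (fun p _ => hcomp p) p

theorem hasCMFormalFibres_descent [Module.Flat A A']
    (hf : ∀ (p : Ideal A) [p.IsPrime], LocCoh.IsCohenMacaulayRing (p.Fiber A'))
    (hA' : CAlg.IsRegularHom A' (EGA4.Cpl A')) : EGA4.HasCMFormalFibres A := by
  let _ := cplAlgebra A A'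
  have := isScalarTower_cpl A A'
  have := isScalarTower_cpl_base A A'
  have := faithfullyFlat_cplMap A A'
  have : IsNoetherianRing (Cpl A') := Groth.Agent.S0543.result A' (maximalIdeal A')
  have : IsNoetherianRing (Cpl A) := Groth.Agent.S0543.result A (maximalIdeal A)
  have : Module.Flat A' (Cpl A') := hA'.1
  have hBC : ∀ (q : Ideal A') [q.IsPrime], LocCoh.IsCohenMacaulayRing (q.Fiber (Cpl A')) := by
    intro q _
    have := isRegularRing_of_isGeometricallyRegular _ _ (hA'.2 q).2
    exact isCohenMacaulayRing_of_isRegularRing _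
  obtain ⟨hflat, hcomp⟩ := isCM_fibres_comp A A' (Cpl A') hf hBC
  exact (isCM_fibres_descent A (Cpl A) (Cpl A') hcomp).2

end FormalDescent

end Groth.Agent.Lib.Helper56
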