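import Groth.Agent.Lib.Helper56.HomComp
import Groth.Agent.Lib.Helper56.NormalComp

set_option autoImplicit false
universe u

namespace Groth.Agent.Lib.Helper56

open TensorProduct

section HomLoc

variable (A B : Type u) [CommRing A] [CommRing B] [Algebra A B] (S : Submonoid A)
  (A' B' : Type u) [CommRing A'] [CommRing B'] [Algebra A A'] [Algebra B B'] [Algebra A' B']
  [Algebra A B'] [IsScalarTower A A' B'] [IsScalarTower A B B'] [IsLocalization S A']
  [IsLocalization (Algebra.algebraMapSubmonoid B S) B']

include S in
theorem flat_of_isLocalization [Module.Flat A B] : Module.Flat A' B' := by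
  have hpo : Algebra.IsPushout A B A' B' := Algebra.isPushout_of_isLocalization S A' B B'
  have hpo' : Algebra.IsPushout A A' B B' := hpo.symm
  exact Module.Flat.isBaseChange A A' B B' hpo'.out

include S in
theorem exists_fibre_equiv_of_isLocalization (p' : Ideal A') [p'.IsPrime] (k' : Type u) [Field k']
    [Algebra p'.ResidueField k'] (hfin : Module.Finite p'.ResidueField k') :
    ∃ (_ : Algebra (p'.under A).ResidueField k'),
      Module.Finite (p'.under A).ResidueField k' ∧
      Nonempty ((k' ⊗[p'.ResidueField] p'.Fiber B') ≃+*
        (k' ⊗[(p'.under A).ResidueField] (p'.under A).Fiber B)) := by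
  have hpo : Algebra.IsPushout A B A' B' := Algebra.isPushout_of_isLocalization S A' B B'
  let φ : (p'.under A).ResidueField →+* p'.ResidueField :=
    Ideal.ResidueField.map (p'.under A) p' (algebraMap A A') rfl
  have hφ : Function.Bijective φ :=
    (RingHom.surjectiveOnStalks_of_isLocalization (M := S) A').residueFieldMap_bijective
      (p'.under A) p' rfl
  let _ : Algebra A' k' :=
    ((algebraMap p'.ResidueField k').comp (algebraMap A' p'.ResidueField)).toAlgebra
  have : IsScalarTower A' p'.ResidueField k' := IsScalarTower.of_algebraMap_eq (fun _ => rfl)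
  let _ : Algebra A k' := ((algebraMap A' k').comp (algebraMap A A')).toAlgebra
  have : IsScalarTower A A' k' := IsScalarTower.of_algebraMap_eq (fun _ => rfl)
  let _ : Algebra (p'.under A).ResidueField p'.ResidueField := φ.toAlgebra
  let alg : Algebra (p'.under A).ResidueField k' :=
    ((algebraMap p'.ResidueField k').comp φ).toAlgebra
  have : IsScalarTower (p'.under A).ResidueField p'.ResidueField k' :=
    IsScalarTower.of_algebraMap_eq (fun _ => rfl)
  have : IsScalarTower A (p'.under A).ResidueField k' := by
    refine IsScalarTower.of_algebraMap_eq (fun a => ?_)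
    show algebraMap p'.ResidueField k' (algebraMap A' p'.ResidueField (algebraMap A A' a)) =
      algebraMap p'.ResidueField k' (φ (algebraMap A (p'.under A).ResidueField a))
    rw [Ideal.ResidueField.map_algebraMap]
  have hf1 : Module.Finite (p'.under A).ResidueField p'.ResidueField :=
    Module.Finite.of_surjective (Algebra.linearMap (p'.under A).ResidueField p'.ResidueField)
      hφ.surjective
  have hf2 : Module.Finite (p'.under A).ResidueField k' :=
    Module.Finite.trans p'.ResidueField k'
  refine ⟨alg, hf2, ⟨?_⟩⟩
  have e1 : B' ⊗[A'] k' ≃ₐ[B] B ⊗[A] k' := Algebra.IsPushout.cancelBaseChangeAlg A B A' B' k'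
  exact (fibreTensorEquiv A' B' p' k').symm.trans
    (e1.toRingEquiv.trans (fibreTensorEquiv A B (p'.under A) k'))

include S in
theorem isRegularHom_of_isLocalization (h : CAlg.IsRegularHom A B) : CAlg.IsRegularHom A' B' := by
  have := h.1
  refine ⟨flat_of_isLocalization A B S A' B', fun p' _ => ⟨?_, ?_⟩⟩
  · obtain ⟨alg, hfin, ⟨e⟩⟩ := exists_fibre_equiv_of_isLocalization A B S A' B' p' p'.ResidueField
      (Module.Finite.self _)
    have := (h.2 (p'.under A)).1
    have : IsNoetherianRing
        ((p'.under A).Fiber B ⊗[(p'.under A).ResidueField] p'.ResidueField) :=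
      IsNoetherianRing.of_finite ((p'.under A).Fiber B) _
    have : IsNoetherianRing
        (p'.ResidueField ⊗[(p'.under A).ResidueField] (p'.under A).Fiber B) :=
      isNoetherianRing_of_ringEquiv _
        (Algebra.TensorProduct.comm (p'.under A).ResidueField ((p'.under A).Fiber B)
          p'.ResidueField).toRingEquiv
    have : IsNoetherianRing (p'.ResidueField ⊗[p'.ResidueField] p'.Fiber B') :=
      isNoetherianRing_of_ringEquiv _ e.symm
    exact isNoetherianRing_of_ringEquiv _
      (Algebra.TensorProduct.lid p'.ResidueField (p'.Fiber B')).toRingEquiv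
  · intro k' _ _ hfin
    obtain ⟨alg, hfin', ⟨e⟩⟩ := exists_fibre_equiv_of_isLocalization A B S A' B' p' k' hfin
    have := (h.2 (p'.under A)).2 k' hfin'
    exact IsRegularRing.of_ringEquiv
      (R := k' ⊗[(p'.under A).ResidueField] (p'.under A).Fiber B) e.symm

include S in
theorem isNormalHom_of_isLocalization (h : EGA4.IsNormalHom A B) : EGA4.IsNormalHom A' B' := by
  have := h.1
  refine ⟨flat_of_isLocalization A B S A' B', fun p' _ => ?_⟩
  intro k' _ _ hfin
  obtain ⟨alg, hfin', ⟨e⟩⟩ := exists_fibre_equiv_of_isLocalization A B S A' B' p' k' hfin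
  have := h.2 (p'.under A) k' hfin'
  exact isNormalRing_of_ringEquiv e.symm this

end HomLoc

end Groth.Agent.Lib.Helper56
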