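import Groth.Agent.Lib.Helper56.FibreDescent

set_option autoImplicit false
universe u

namespace Groth.Agent.Lib.Helper56

open LocCoh IsLocalRing TensorProduct

section HomDescent

variable (A B C : Type u) [CommRing A] [CommRing B] [CommRing C] [Algebra A B] [Algebra B C]
  [Algebra A C] [IsScalarTower A B C]

theorem isRegularHom_descent [Module.FaithfullyFlat B C] (hAC : CAlg.IsRegularHom A C) :
    CAlg.IsRegularHom A B := by
  have hAC1 : Module.Flat A C := hAC.1
  refine ⟨Groth.Agent.S1128.flat_of_flat_of_faithfullyFlat A B C, ?_⟩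
  intro p _
  constructor
  · have hN := (hAC.2 p).1
    have hN' : IsNoetherianRing ((B ⊗[A] p.ResidueField) ⊗[B] C) :=
      isNoetherianRing_of_ringEquiv _ ((fibreTensorEquiv' A B C p p.ResidueField).trans
        (Algebra.TensorProduct.lid p.ResidueField (p.Fiber C)).toRingEquiv).symm
    have hN'' : IsNoetherianRing (B ⊗[A] p.ResidueField) :=
      isNoetherianRing_of_faithfullyFlat _ ((B ⊗[A] p.ResidueField) ⊗[B] C)
    exact isNoetherianRing_of_ringEquiv _ ((fibreTensorEquiv A B p p.ResidueField).trans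
        (Algebra.TensorProduct.lid p.ResidueField (p.Fiber B)).toRingEquiv)
  · intro k' _ _ hfin
    let _ : Algebra A k' :=
      ((algebraMap p.ResidueField k').comp (algebraMap A p.ResidueField)).toAlgebra
    have : IsScalarTower A p.ResidueField k' := IsScalarTower.of_algebraMap_eq (fun _ => rfl)
    have h1 : IsRegularRing (k' ⊗[p.ResidueField] p.Fiber C) := (hAC.2 p).2 k' hfin
    have h2 : IsRegularRing ((B ⊗[A] k') ⊗[B] C) :=
      IsRegularRing.of_ringEquiv (R := k' ⊗[p.ResidueField] p.Fiber C)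
        (fibreTensorEquiv' A B C p k').symm
    have h3 : IsRegularRing (B ⊗[A] k') :=
      isRegularRing_of_faithfullyFlat _ ((B ⊗[A] k') ⊗[B] C) h2
    exact IsRegularRing.of_ringEquiv (R := B ⊗[A] k') (fibreTensorEquiv A B p k')

theorem isNormalHom_descent [Module.FaithfullyFlat B C] (hAC : EGA4.IsNormalHom A C) :
    EGA4.IsNormalHom A B := by
  have hAC1 : Module.Flat A C := hAC.1
  refine ⟨Groth.Agent.S1128.flat_of_flat_of_faithfullyFlat A B C, ?_⟩
  intro p _ k' _ _ hfin
  let _ : Algebra A k' :=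
    ((algebraMap p.ResidueField k').comp (algebraMap A p.ResidueField)).toAlgebra
  have : IsScalarTower A p.ResidueField k' := IsScalarTower.of_algebraMap_eq (fun _ => rfl)
  have h1 : EGA4.IsNormalRing (k' ⊗[p.ResidueField] p.Fiber C) := hAC.2 p k' hfin
  have h2 : EGA4.IsNormalRing ((B ⊗[A] k') ⊗[B] C) :=
    isNormalRing_of_ringEquiv (fibreTensorEquiv' A B C p k').symm h1
  have h3 : EGA4.IsNormalRing (B ⊗[A] k') :=
    isNormalRing_of_faithfullyFlat _ ((B ⊗[A] k') ⊗[B] C) h2
  exact isNormalRing_of_ringEquiv (fibreTensorEquiv A B p k') h3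

end HomDescent

end Groth.Agent.Lib.Helper56
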