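import Groth.Agent.Lib.Helper56.TensorNormal

set_option autoImplicit false
set_option linter.unusedSectionVars false
universe u
namespace Groth.Agent.Lib.Helper56
open TensorProduct Polynomial

section SepGenExt

variable (k K : Type u) [Field k] [Field K] [Algebra k K] [Algebra.EssFiniteType k K]

open IntermediateField in
theorem exists_sepGen_ext :
    ∃ (k' K' : Type u) (_ : Field k') (_ : Field K') (_ : Algebra k k') (_ : Algebra k' K')
      (_ : Algebra K K') (_ : Algebra k K'), IsScalarTower k k' K' ∧ IsScalarTower k K K' ∧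
      Module.Finite k k' ∧ IsPurelyInseparable k k' ∧ SepGen k' K' := by
  classical
  let Ω := AlgebraicClosure K
  obtain ⟨X, hX⟩ := IntermediateField.fg_top k K
  let X' : Finset Ω := X.image (algebraMap K Ω)
  obtain ⟨T, ι, hι, y, hT, hy, h2, h3⟩ := exists_finset_sepGen k X'
  let k' : IntermediateField k Ω := IntermediateField.adjoin k (T : Set Ω)
  have hk'P : k' ≤ perfectClosure k Ω := IntermediateField.adjoin_le_iff.mpr hT
  have hpi : IsPurelyInseparable k k' := (le_perfectClosure_iff k Ω k').mp hk'P
  have hfin : Module.Finite k k' := by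
    refine IntermediateField.finiteDimensional_adjoin (fun t ht => ?_)
    have h1 : IsIntegral k (⟨t, hT ht⟩ : perfectClosure k Ω) :=
      IsPurelyInseparable.isIntegral' k _
    exact IntermediateField.isIntegral_iff.mp h1
  let _ : Algebra k' (perfectClosure k Ω) := (IntermediateField.inclusion hk'P).toAlgebra
  have htower : IsScalarTower k' (perfectClosure k Ω) Ω :=
    IsScalarTower.of_algebraMap_eq (fun _ => rfl)
  have hy' : AlgebraicIndependent k' y :=
    hy.restrictScalars (K := perfectClosure k Ω) (IntermediateField.inclusion hk'P).injective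
  let F : IntermediateField k' Ω := IntermediateField.adjoin k' (Set.range y)
  have hsepF : ∀ x ∈ X', IsSeparable F x := by
    intro x hx
    rw [isSeparable_iff_sepOver]
    refine (h3 x hx).mono ?_
    have hle : adjoin k ((T : Set Ω) ∪ Set.range y) ≤ F.restrictScalars k := by
      rw [adjoin_le_iff]
      rintro t (ht | ht)
      · exact F.algebraMap_mem ⟨t, subset_adjoin k _ ht⟩
      · exact subset_adjoin _ _ ht
    intro z hz
    exact ⟨⟨z, hle hz⟩, rfl⟩
  let K' : IntermediateField F Ω := IntermediateField.adjoin F (X' : Set Ω)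
  have hsep : Algebra.IsSeparable F K' :=
    (IntermediateField.isSeparable_adjoin_iff_isSeparable F Ω).mpr hsepF
  have hfinK : Module.Finite F K' :=
    IntermediateField.finiteDimensional_adjoin (fun x hx => (hsepF x hx).isIntegral)
  have hSG : SepGen k' K' :=
    ⟨ι, hι, F, inferInstance, inferInstance, inferInstance, inferInstance,
      ⟨hy'.aevalEquivField⟩, hfinK, hsep⟩
  have hmem : ∀ z : K, algebraMap K Ω z ∈ K' := by
    intro z
    have hz : z ∈ adjoin k (X : Set K) := by rw [hX]; trivial
    induction hz using adjoin_induction with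
    | mem z hz => exact subset_adjoin _ _ (Finset.mem_coe.mpr (Finset.mem_image_of_mem _ hz))
    | algebraMap c =>
      rw [← IsScalarTower.algebraMap_apply k K Ω]
      exact K'.algebraMap_mem (algebraMap k F c)
    | add z w hz hw h1 h2 => rw [map_add]; exact add_mem h1 h2
    | inv z hz h1 => rw [map_inv₀]; exact inv_mem h1
    | mul z w hz hw h1 h2 => rw [map_mul]; exact mul_mem h1 h2
  let φ : K →+* K' := (algebraMap K Ω).codRestrict K' hmem
  let _ : Algebra K K' := φ.toAlgebra
  let _ : Algebra k K' := ((algebraMap k' K').comp (algebraMap k k')).toAlgebra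
  refine ⟨k', K', inferInstance, inferInstance, inferInstance, inferInstance, inferInstance,
    inferInstance, ?_, ?_, hfin, hpi, hSG⟩
  · exact IsScalarTower.of_algebraMap_eq (fun _ => rfl)
  · refine IsScalarTower.of_algebraMap_eq (fun c => Subtype.ext ?_)
    exact IsScalarTower.algebraMap_apply k K Ω c

end SepGenExt

section GeomNormalAny

variable (k S : Type u) [Field k] [CommRing S] [Algebra k S]

theorem isNormalRing_tensor_of_forall_purelyInseparable_any
    (h : ∀ (k' : Type u) [Field k'] [Algebra k k'], Module.Finite k k' → IsPurelyInseparable k k' →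
      EGA4.IsNormalRing (k' ⊗[k] S))
    (K : Type u) [Field K] [Algebra k K] [Algebra.EssFiniteType k K] :
    EGA4.IsNormalRing (K ⊗[k] S) := by
  obtain ⟨k', K', _, _, _, _, _, _, ht1, ht2, hfin, hpi, hSG⟩ := exists_sepGen_ext k K
  have h1 := h k' hfin hpi
  have h2 : EGA4.IsNormalRing (K' ⊗[k'] (k' ⊗[k] S)) :=
    isNormalRing_tensor_of_sepGen k' K' (k' ⊗[k] S) hSG h1
  have h3 : EGA4.IsNormalRing (K' ⊗[k] S) :=
    isNormalRing_of_ringEquiv
      (Algebra.TensorProduct.cancelBaseChange k k' k' K' S).toRingEquiv h2
  exact isNormalRing_tensor_descent k K K' S h3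

theorem isNormalRing_tensor_of_isGeomNormal_any (h : EGA4.IsGeomNormal k S)
    (K : Type u) [Field K] [Algebra k K] : EGA4.IsNormalRing (K ⊗[k] S) := by
  apply isNormalRing_tensor_of_forall_fg'
  intro E
  have hess : Algebra.EssFiniteType k (IntermediateField.adjoin k (E : Set K)) :=
    IntermediateField.essFiniteType_iff.mpr ⟨E, rfl⟩
  exact isNormalRing_tensor_of_forall_purelyInseparable_any k S (fun k' _ _ hf _ => h k' hf) _

end GeomNormalAny


section LocGeom

variable (k S : Type u) [Field k] [CommRing S] [Algebra k S]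

theorem isNormalRing_tensor_of_isLocalization_right (T : Type u) [CommRing T] [Algebra k T]
    (M : Submonoid S) (S' : Type u) [CommRing S']
    [Algebra S S'] [Algebra k S'] [IsScalarTower k S S'] [IsLocalization M S']
    (h : EGA4.IsNormalRing (T ⊗[k] S)) : EGA4.IsNormalRing (T ⊗[k] S') := by
  let φ : T ⊗[k] S →ₐ[T] T ⊗[k] S' :=
    Algebra.TensorProduct.map (AlgHom.id T T) (IsScalarTower.toAlgHom k S S')
  let _ : Algebra (T ⊗[k] S) (T ⊗[k] S') := φ.toRingHom.toAlgebra
  have hst : IsScalarTower T (T ⊗[k] S) (T ⊗[k] S') :=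
    IsScalarTower.of_algebraMap_eq (fun t => (φ.commutes t).symm)
  have hloc : IsLocalization (M.map (Algebra.TensorProduct.includeRight (R := k) (A := T)))
      (T ⊗[k] S') := by
    refine IsLocalization.tensorProduct_tensorProduct_right k T M S' ?_
    ext s
    change φ (1 ⊗ₜ s) = 1 ⊗ₜ (algebraMap S S' s)
    simp [φ]
  exact Groth.Agent.Lib.Helper57.isNormalRing_of_isLocalization
    (M.map (Algebra.TensorProduct.includeRight (R := k) (A := T))) _ h

theorem isGeomNormal_of_isLocalization (M : Submonoid S) (S' : Type u) [CommRing S']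
    [Algebra S S'] [Algebra k S'] [IsScalarTower k S S'] [IsLocalization M S']
    (h : EGA4.IsGeomNormal k S) : EGA4.IsGeomNormal k S' := by
  intro k' _ _ hfin
  exact isNormalRing_tensor_of_isLocalization_right k S k' M S' (h k' hfin)

end LocGeom


section LocalReduction

variable (k S : Type u) [Field k] [CommRing S] [Algebra k S]

theorem isNormalRing_tensor_of_forall_atPrime_right (T : Type u) [CommRing T] [Algebra k T]
    (h : ∀ (q : Ideal S) [q.IsPrime], EGA4.IsNormalRing (T ⊗[k] Localization.AtPrime q)) :
    EGA4.IsNormalRing (T ⊗[k] S) := by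
  apply Groth.Agent.Lib.Helper57.isNormalRing_of_forall_exists_isLocalization
  intro r _
  let q : Ideal S := r.comap (Algebra.TensorProduct.includeRight (R := k) (A := T)).toRingHom
  have hq : q.IsPrime := Ideal.comap_isPrime _ r
  let S' := Localization.AtPrime q
  let φ : T ⊗[k] S →ₐ[T] T ⊗[k] S' :=
    Algebra.TensorProduct.map (AlgHom.id T T) (IsScalarTower.toAlgHom k S S')
  let alg : Algebra (T ⊗[k] S) (T ⊗[k] S') := φ.toRingHom.toAlgebra
  have hst : IsScalarTower T (T ⊗[k] S) (T ⊗[k] S') :=
    IsScalarTower.of_algebraMap_eq (fun t => (φ.commutes t).symm)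
  have hloc : IsLocalization
      (q.primeCompl.map (Algebra.TensorProduct.includeRight (R := k) (A := T)))
      (T ⊗[k] S') := by
    refine IsLocalization.tensorProduct_tensorProduct_right k T q.primeCompl S' ?_
    ext s
    change φ (1 ⊗ₜ s) = 1 ⊗ₜ (algebraMap S S' s)
    simp [φ]
  refine ⟨q.primeCompl.map (Algebra.TensorProduct.includeRight (R := k) (A := T)),
    T ⊗[k] S', inferInstance, alg, hloc, ?_, h q⟩
  rw [Set.disjoint_left]
  rintro _ ⟨s, hs, rfl⟩ hr
  exact hs hr

end LocalReduction

section Main

variable (k A B : Type u) [Field k] [CommRing A] [CommRing B] [Algebra k A] [Algebra k B]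

theorem isNormalRing_tensor_of_isGeomNormal_of_domains [IsDomain A] [IsDomain B]
    [IsIntegrallyClosed B] (hA : EGA4.IsGeomNormal k A) : EGA4.IsNormalRing (A ⊗[k] B) := by
  apply isNormalRing_tensor_of_domains k A B
  · intro C hfg hic
    have h1 : EGA4.IsGeomNormal k (FractionRing A) :=
      isGeomNormal_of_isLocalization k A (nonZeroDivisors A) (FractionRing A) hA
    have h2 : Algebra.IsGeometricallyReduced k (FractionRing A) :=
      isGeometricallyReduced_of_isGeomNormal k _ h1
    exact isNormalRing_tensor_of_isGeometricallyReduced_any k (FractionRing A) C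
      (Groth.Agent.Lib.Helper57.isNormalRing_of_isIntegrallyClosed C)
  · intro C hfg hic
    have h := isNormalRing_tensor_of_isGeomNormal_any k A hA (FractionRing C)
    exact isNormalRing_of_ringEquiv (Algebra.TensorProduct.comm k (FractionRing C) A).toRingEquiv h

theorem isNormalRing_tensor_of_isGeomNormal_general (hA : EGA4.IsGeomNormal k A)
    (hB : EGA4.IsNormalRing B) : EGA4.IsNormalRing (A ⊗[k] B) := by
  have hA' : EGA4.IsNormalRing A := isNormalRing_of_isGeomNormal k A hA
  apply isNormalRing_tensor_of_forall_atPrime_right k B A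
  intro q _
  have h1 : EGA4.IsNormalRing (Localization.AtPrime q ⊗[k] A) := by
    apply isNormalRing_tensor_of_forall_atPrime_right k A (Localization.AtPrime q)
    intro p _
    have hAp : EGA4.IsGeomNormal k (Localization.AtPrime p) :=
      isGeomNormal_of_isLocalization k A p.primeCompl _ hA
    obtain ⟨hd, hic⟩ := hB q
    obtain ⟨hd', -⟩ := hA' p
    have h2 := isNormalRing_tensor_of_isGeomNormal_of_domains k (Localization.AtPrime p)
      (Localization.AtPrime q) hAp
    exact isNormalRing_of_ringEquiv
      (Algebra.TensorProduct.comm k (Localization.AtPrime p) (Localization.AtPrime q)).toRingEquiv h2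
  exact isNormalRing_of_ringEquiv
    (Algebra.TensorProduct.comm k (Localization.AtPrime q) A).toRingEquiv h1

end Main

end Groth.Agent.Lib.Helper56
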