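import Groth.Agent.Lib.Helper56.CplQuot
import Groth.Agent.Lib.Helper56.TensorNormal2
import Groth.Agent.Lib.Helper56.HomLoc
import Groth.Agent.Lib.Helper56.HomDescent

set_option autoImplicit false
set_option linter.unusedSectionVars false
set_option linter.style.haveILetI false
universe u
namespace Groth.Agent.Lib.Helper56
open TensorProduct IsLocalRing EGA4 Groth.Agent.Lib.Helper56.ComplFlatOld

section CplBij

variable (R S : Type u) [CommRing R] [CommRing S] [IsLocalRing R] [IsLocalRing S] [Algebra R S]
  [IsLocalHom (algebraMap R S)] [IsNoetherianRing R] [IsNoetherianRing S]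

theorem map_cplMap_maximalIdeal'
    (h1 : (maximalIdeal R).map (algebraMap R S) = maximalIdeal S) :
    (maximalIdeal (Cpl R)).map (cplMap R S) =
      (maximalIdeal S).map (algebraMap S (Cpl S)) := by
  have e : (cplMap R S).comp (algebraMap R (Cpl R)) =
      (algebraMap S (Cpl S)).comp (algebraMap R S) :=
    RingHom.ext (fun a => cplMap_algebraMap R S a)
  rw [AdicCompletion.maximalIdeal_eq_map, Ideal.map_map, e, ← Ideal.map_map, h1]

theorem cplMap_surjective_of
    (h1 : (maximalIdeal R).map (algebraMap R S) = maximalIdeal S)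
    (h2 : ∀ s : S, ∃ r : R, s - algebraMap R S r ∈ maximalIdeal S) :
    Function.Surjective (cplMap R S) := by
  have : IsNoetherianRing (Cpl S) := Groth.Agent.S0543.result _ _
  have hH : IsHausdorff ((maximalIdeal (Cpl R)).map (cplMap R S)) (Cpl S) := by
    apply IsHausdorff.of_le_jacobson
    rw [map_cplMap_maximalIdeal' R S h1, ← AdicCompletion.maximalIdeal_eq_map]
    exact maximalIdeal_le_jacobson _
  apply surjective_of_mk_map_comp_surjective (I := maximalIdeal (Cpl R)) (cplMap R S)
  intro y
  have key : ∀ y' : Cpl S ⧸ (maximalIdeal S).map (algebraMap S (Cpl S)),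
      ∃ b : S, Ideal.Quotient.mk _ (algebraMap S (Cpl S) b) = y' := by
    intro y'
    have h3 := surjective_mk_algebraMap (maximalIdeal S) (IsNoetherian.noetherian _) 1
    rw [pow_one] at h3
    exact h3 y'
  have key' : ∀ y' : Cpl S ⧸ (maximalIdeal (Cpl R)).map (cplMap R S),
      ∃ r : R, Ideal.Quotient.mk _ (algebraMap S (Cpl S) (algebraMap R S r)) = y' := by
    rw [map_cplMap_maximalIdeal' R S h1]
    intro y'
    obtain ⟨b, hb⟩ := key y'
    obtain ⟨r, hr⟩ := h2 b
    refine ⟨r, ?_⟩
    rw [← hb, Ideal.Quotient.eq, ← map_sub]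
    have := Ideal.mem_map_of_mem (algebraMap S (Cpl S)) hr
    rw [← neg_sub, map_neg]
    exact Ideal.neg_mem_iff _ |>.mpr this
  obtain ⟨r, hr⟩ := key' y
  refine ⟨algebraMap R (Cpl R) r, ?_⟩
  rw [RingHom.comp_apply, cplMap_algebraMap]
  exact hr

theorem cplMap_bijective_of [Module.Flat R S]
    (h1 : (maximalIdeal R).map (algebraMap R S) = maximalIdeal S)
    (h2 : ∀ s : S, ∃ r : R, s - algebraMap R S r ∈ maximalIdeal S) :
    Function.Bijective (cplMap R S) := by
  refine ⟨?_, cplMap_surjective_of R S h1 h2⟩
  letI := cplAlgebra R S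
  have := faithfullyFlat_cplMap R S
  exact FaithfulSMul.algebraMap_injective (Cpl R) (Cpl S)

end CplBij


section Transfer

variable (A B B' : Type u) [CommRing A] [CommRing B] [CommRing B'] [Algebra A B] [Algebra A B']

theorem isNormalHom_of_algEquiv (e : B ≃ₐ[A] B') (h : EGA4.IsNormalHom A B) :
    EGA4.IsNormalHom A B' := by
  obtain ⟨hflat, hfib⟩ := h
  refine ⟨Module.Flat.of_linearEquiv e.toLinearEquiv.symm, fun p _ => ?_⟩
  exact isGeomNormal_of_algEquiv (S := p.Fiber B) (S' := p.Fiber B')
    (Algebra.TensorProduct.congr AlgEquiv.refl e) (hfib p)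

end Transfer

section Loc

variable (A : Type u) [CommRing A] (M : Submonoid A) (A' : Type u) [CommRing A'] [Algebra A A']
  [IsLocalization M A']

include M in
theorem isNormalHom_localization : EGA4.IsNormalHom A A' := by
  refine ⟨IsLocalization.flat A' M, fun p _ => ?_⟩
  intro k' _ _ hfin
  let _ : Algebra A k' :=
    ((algebraMap p.ResidueField k').comp (algebraMap A p.ResidueField)).toAlgebra
  have : IsScalarTower A p.ResidueField k' := IsScalarTower.of_algebraMap_eq (fun _ => rfl)
  have h1 : IsLocalization (Algebra.algebraMapSubmonoid k' M) (k' ⊗[A] A') :=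
    IsLocalization.tensor A' M
  have h2 : EGA4.IsNormalRing (k' ⊗[A] A') :=
    Groth.Agent.Lib.Helper57.isNormalRing_of_isLocalization (Algebra.algebraMapSubmonoid k' M) _
      (Groth.Agent.Lib.Helper57.isNormalRing_of_isIntegrallyClosed k')
  exact isNormalRing_of_ringEquiv
    (Algebra.TensorProduct.cancelBaseChange A p.ResidueField p.ResidueField k' A').symm.toRingEquiv h2

end Loc

section LocalTarget

variable (A T S : Type u) [CommRing A] [CommRing T] [CommRing S] [Algebra A T] [Algebra A S]

theorem isNormalRing_tensor_of_forall_atMaximal_right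
    (h : ∀ (n : Ideal S) [n.IsMaximal], EGA4.IsNormalRing (T ⊗[A] Localization.AtPrime n)) :
    EGA4.IsNormalRing (T ⊗[A] S) := by
  apply Groth.Agent.Lib.Helper57.isNormalRing_of_forall_exists_isLocalization
  intro r _
  let q : Ideal S := r.comap (Algebra.TensorProduct.includeRight (R := A) (A := T)).toRingHom
  have hq : q.IsPrime := Ideal.comap_isPrime _ r
  obtain ⟨n, hn, hqn⟩ := Ideal.exists_le_maximal q hq.ne_top
  have hnp : n.IsPrime := hn.isPrime
  let S' := Localization.AtPrime n
  let φ : T ⊗[A] S →ₐ[T] T ⊗[A] S' :=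
    Algebra.TensorProduct.map (AlgHom.id T T) (IsScalarTower.toAlgHom A S S')
  let alg : Algebra (T ⊗[A] S) (T ⊗[A] S') := φ.toRingHom.toAlgebra
  have hst : IsScalarTower T (T ⊗[A] S) (T ⊗[A] S') :=
    IsScalarTower.of_algebraMap_eq (fun t => (φ.commutes t).symm)
  have hloc : IsLocalization
      (n.primeCompl.map (Algebra.TensorProduct.includeRight (R := A) (A := T)))
      (T ⊗[A] S') := by
    refine IsLocalization.tensorProduct_tensorProduct_right A T n.primeCompl S' ?_
    ext s
    change φ (1 ⊗ₜ s) = 1 ⊗ₜ (algebraMap S S' s)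
    simp [φ]
  refine ⟨n.primeCompl.map (Algebra.TensorProduct.includeRight (R := A) (A := T)),
    T ⊗[A] S', inferInstance, alg, hloc, ?_, h n⟩
  rw [Set.disjoint_left]
  rintro _ ⟨s, hs, rfl⟩ hr
  exact hs (hqn hr)

theorem isNormalHom_of_forall_atMaximal (B : Type u) [CommRing B] [Algebra A B] [Module.Flat A B]
    (h : ∀ (n : Ideal B) [n.IsMaximal], EGA4.IsNormalHom A (Localization.AtPrime n)) :
    EGA4.IsNormalHom A B := by
  refine ⟨inferInstance, fun p _ => ?_⟩
  intro k' _ _ hfin
  let _ : Algebra A k' :=
    ((algebraMap p.ResidueField k').comp (algebraMap A p.ResidueField)).toAlgebra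
  have : IsScalarTower A p.ResidueField k' := IsScalarTower.of_algebraMap_eq (fun _ => rfl)
  have h2 : EGA4.IsNormalRing (k' ⊗[A] B) := by
    apply isNormalRing_tensor_of_forall_atMaximal_right
    intro n _
    have h3 := (h n).2 p k' hfin
    exact isNormalRing_of_ringEquiv
      (Algebra.TensorProduct.cancelBaseChange A p.ResidueField p.ResidueField k'
        (Localization.AtPrime n)).toRingEquiv h3
  exact isNormalRing_of_ringEquiv
    (Algebra.TensorProduct.cancelBaseChange A p.ResidueField p.ResidueField k' B).symm.toRingEquiv h2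

end LocalTarget


section Adic

variable (A : Type u) [CommRing A] [IsNoetherianRing A] (I : Ideal A)

theorem exists_sub_mem_map (b : AdicCompletion I A) :
    ∃ a : A, b - algebraMap A (AdicCompletion I A) a ∈
      I.map (algebraMap A (AdicCompletion I A)) := by
  obtain ⟨a, ha⟩ := Ideal.Quotient.mk_surjective (AdicCompletion.evalOneₐ I b)
  refine ⟨a, ?_⟩
  rw [← AdicCompletion.ker_evalOneₐ_eq_map I (IsNoetherian.noetherian I), RingHom.mem_ker,
    map_sub, sub_eq_zero]
  change AdicCompletion.evalOneₐ I b = AdicCompletion.evalOneₐ I (algebraMap A _ a)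
  rw [AlgHom.commutes, ← ha]
  rfl

theorem map_le_of_isMaximal (n : Ideal (AdicCompletion I A)) [hn : n.IsMaximal] :
    I.map (algebraMap A (AdicCompletion I A)) ≤ n := by
  have := AdicCompletion.isAdicComplete_self I (IsNoetherian.noetherian I)
  exact (IsAdicComplete.le_jacobson_bot _).trans (sInf_le ⟨bot_le, hn⟩)

theorem comap_isMaximal_of_isMaximal (n : Ideal (AdicCompletion I A)) [hn : n.IsMaximal] :
    (n.comap (algebraMap A (AdicCompletion I A))).IsMaximal := by
  let f : A →+* AdicCompletion I A ⧸ n :=
    (Ideal.Quotient.mk n).comp (algebraMap A (AdicCompletion I A))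
  have hf : Function.Surjective f := by
    intro y
    obtain ⟨b, rfl⟩ := Ideal.Quotient.mk_surjective y
    obtain ⟨a, ha⟩ := exists_sub_mem_map A I b
    refine ⟨a, ?_⟩
    change Ideal.Quotient.mk n (algebraMap A _ a) = Ideal.Quotient.mk n b
    rw [eq_comm, Ideal.Quotient.eq]
    exact map_le_of_isMaximal A I n ha
  let _ : Field (AdicCompletion I A ⧸ n) := Ideal.Quotient.field n
  have h1 : (Ideal.comap f ⊥).IsMaximal := Ideal.comap_isMaximal_of_surjective f hf
  have h2 : Ideal.comap f ⊥ = n.comap (algebraMap A (AdicCompletion I A)) := by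
    rw [← Ideal.comap_comap, ← RingHom.ker_eq_comap_bot, Ideal.mk_ker]
  rwa [h2] at h1

theorem eq_map_comap_of_isMaximal (n : Ideal (AdicCompletion I A)) [hn : n.IsMaximal] :
    (n.comap (algebraMap A (AdicCompletion I A))).map (algebraMap A (AdicCompletion I A)) = n := by
  have hm := comap_isMaximal_of_isMaximal A I n
  have hle : I ≤ n.comap (algebraMap A (AdicCompletion I A)) :=
    Ideal.map_le_iff_le_comap.mp (map_le_of_isMaximal A I n)
  have hmax := AdicCompletion.isMaximal_map_of_le I _ hle (IsNoetherian.noetherian I)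
  exact hmax.eq_of_le hn.ne_top Ideal.map_comap_le

theorem isNormalHom_atMaximal_adicCompletion
    (hA : ∀ (p : Ideal A) [p.IsPrime], EGA4.HasGeomNormalFormalFibres (Localization.AtPrime p))
    (n : Ideal (AdicCompletion I A)) [hn : n.IsMaximal] :
    EGA4.IsNormalHom A (Localization.AtPrime n) := by
  let B := AdicCompletion I A
  let m : Ideal A := n.comap (algebraMap A B)
  have hmmax : m.IsMaximal := comap_isMaximal_of_isMaximal A I n
  have hm : m.IsPrime := hmmax.isPrime
  have hlo : n.LiesOver m := ⟨rfl⟩
  let _ := Localization.AtPrime.algebraOfLiesOver m n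
  have hloc : IsLocalHom (algebraMap (Localization.AtPrime m) (Localization.AtPrime n)) :=
    Localization.isLocalHom_localRingHom m n (algebraMap A B) Ideal.LiesOver.over
  have hNB : IsNoetherianRing B := Groth.Agent.S0543.result A I
  have hflat : Module.Flat (Localization.AtPrime m) (Localization.AtPrime n) := inferInstance
  have h1 : (maximalIdeal (Localization.AtPrime m)).map
      (algebraMap (Localization.AtPrime m) (Localization.AtPrime n)) =
      maximalIdeal (Localization.AtPrime n) := by
    rw [← Localization.AtPrime.map_eq_maximalIdeal, ← Localization.AtPrime.map_eq_maximalIdeal,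
      Ideal.map_map, ← IsScalarTower.algebraMap_eq,
      IsScalarTower.algebraMap_eq A B (Localization.AtPrime n), ← Ideal.map_map,
      eq_map_comap_of_isMaximal A I n]
  have h2 : ∀ s : Localization.AtPrime n, ∃ r : Localization.AtPrime m,
      s - algebraMap (Localization.AtPrime m) (Localization.AtPrime n) r ∈
        maximalIdeal (Localization.AtPrime n) := by
    intro s
    obtain ⟨y, hy⟩ := (Ideal.bijective_algebraMap_quotient_residueField n).2
      (IsLocalRing.residue (Localization.AtPrime n) s)
    obtain ⟨b, rfl⟩ := Ideal.Quotient.mk_surjective y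
    obtain ⟨a, ha⟩ := exists_sub_mem_map A I b
    have ha' : b - algebraMap A B a ∈ n := map_le_of_isMaximal A I n ha
    refine ⟨algebraMap A (Localization.AtPrime m) a, ?_⟩
    rw [← IsScalarTower.algebraMap_apply, IsScalarTower.algebraMap_apply A B (Localization.AtPrime n)]
    have h3 : s - algebraMap B (Localization.AtPrime n) b ∈ maximalIdeal (Localization.AtPrime n) := by
      rw [← IsLocalRing.residue_eq_zero_iff (R := Localization.AtPrime n), map_sub, sub_eq_zero,
        ← hy]
      rfl
    have h4 : algebraMap B (Localization.AtPrime n) (b - algebraMap A B a) ∈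
        maximalIdeal (Localization.AtPrime n) := by
      rw [← Localization.AtPrime.map_eq_maximalIdeal]
      exact Ideal.mem_map_of_mem _ ha'
    have h5 := add_mem h3 h4
    rw [map_sub] at h5
    convert h5 using 1
    ring
  have hbij := cplMap_bijective_of (Localization.AtPrime m) (Localization.AtPrime n) h1 h2
  let R := Localization.AtPrime m
  let S := Localization.AtPrime n
  have hNS : IsNoetherianRing S := inferInstance
  have hNR : IsNoetherianRing R := inferInstance
  have hNC : IsNoetherianRing (Cpl S) := isNoetherianRing_cpl S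
  have ht : IsScalarTower R S (Cpl S) := isScalarTower_cpl_base R S
  let e : Cpl R ≃ₐ[R] Cpl S :=
    AlgEquiv.ofBijective
      { cplMap R S with
        commutes' := fun r => by
          change cplMap R S (algebraMap R (Cpl R) r) = _
          rw [cplMap_algebraMap, ← IsScalarTower.algebraMap_apply] } hbij
  have hRC : EGA4.IsNormalHom R (Cpl R) := ⟨inferInstance, hA m⟩
  have hRC' : EGA4.IsNormalHom R (Cpl S) := isNormalHom_of_algEquiv R (Cpl R) (Cpl S) e hRC
  have hff : Module.FaithfullyFlat S (Cpl S) := faithfullyFlat_cpl S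
  have hRS : EGA4.IsNormalHom R S := isNormalHom_descent R S (Cpl S) hRC'
  have hAR : EGA4.IsNormalHom A R := isNormalHom_localization A m.primeCompl R
  exact isNormalHom_comp A R S hAR hRS

theorem isNormalHom_adicCompletion
    (hA : ∀ (p : Ideal A) [p.IsPrime], EGA4.HasGeomNormalFormalFibres (Localization.AtPrime p)) :
    EGA4.IsNormalHom A (AdicCompletion I A) :=
  isNormalHom_of_forall_atMaximal A (AdicCompletion I A)
    (fun n _ => isNormalHom_atMaximal_adicCompletion A I hA n)

end Adic

end Groth.Agent.Lib.Helper56
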