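import Mathlib
import Groth.Agent.Lib.Helper58.AdicFunct
import Groth.Agent.Lib.Helper47.AdicFinite
import Groth.Agent.Lib.Helper63.ComplRing
import Groth.Agent.S0543

set_option autoImplicit false
set_option linter.unusedSectionVars false
set_option linter.style.haveILetI false
universe u
namespace Groth.Agent.Lib.Helper56
open TensorProduct

section AdicLe

variable {R : Type*} [CommRing R] (I I' : Ideal R)

theorem isAdicComplete_of_le_of_pow_le [IsAdicComplete I R] (h1 : I ≤ I') (k : ℕ) (hk0 : 0 < k)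
    (hk : I' ^ k ≤ I) : IsAdicComplete I' R := by
  have hle : ∀ n : ℕ, (I' ^ (k * n) • ⊤ : Submodule R R) ≤ I ^ n • ⊤ := by
    intro n
    rw [pow_mul]
    exact Submodule.smul_mono_left (Ideal.pow_right_mono hk n)
  have hle' : ∀ n : ℕ, (I ^ n • ⊤ : Submodule R R) ≤ I' ^ n • ⊤ := fun n =>
    Submodule.smul_mono_left (Ideal.pow_right_mono h1 n)
  have hkn : ∀ n : ℕ, n ≤ k * n := fun n => Nat.le_mul_of_pos_left n hk0
  have hH : IsHausdorff I' R := by
    rw [isHausdorff_iff]
    intro x hx
    apply IsHausdorff.haus (inferInstance : IsHausdorff I R)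
    intro n
    exact (hx (k * n)).mono (hle n)
  have hP : IsPrecomplete I' R := by
    rw [isPrecomplete_iff]
    intro f hf
    obtain ⟨L, hL⟩ := IsPrecomplete.prec (inferInstance : IsPrecomplete I R)
      (f := fun n => f (k * n)) (by
        intro m n hmn
        exact (hf (Nat.mul_le_mul_left k hmn)).mono (hle m))
    refine ⟨L, fun n => ?_⟩
    exact (hf (hkn n)).trans ((hL n).mono (hle' n))
  exact { hH, hP with }

end AdicLe

section FiniteCpl

variable (A : Type u) [CommRing A] [IsNoetherianRing A] (I : Ideal A)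
  (C : Type u) [CommRing C] [Algebra A C] (K : Ideal C)

noncomputable def cplSigma : C →+* AdicCompletion I A ⊗[A] C :=
  (Algebra.TensorProduct.includeRight : C →ₐ[A] AdicCompletion I A ⊗[A] C).toRingHom

theorem cplSigma_apply (c : C) : cplSigma A I C c = 1 ⊗ₜ c := rfl

variable {A I C K}

theorem pow_le_comap_ofId (h1 : I.map (algebraMap A C) ≤ K) (n : ℕ) :
    I ^ n ≤ (K ^ n).comap (Algebra.ofId A C) := by
  have h : I ≤ K.comap (algebraMap A C) := Ideal.map_le_iff_le_comap.mp h1
  exact (Ideal.pow_right_mono h n).trans (Ideal.le_comap_pow _ n)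

noncomputable def cplRho (h1 : I.map (algebraMap A C) ≤ K) (n : ℕ) :
    AdicCompletion I A ⊗[A] C →ₐ[A] C ⧸ K ^ n :=
  Algebra.TensorProduct.lift
    ((Ideal.quotientMapₐ (K ^ n) (Algebra.ofId A C) (pow_le_comap_ofId h1 n)).comp
      (AdicCompletion.evalₐ I n))
    (Ideal.Quotient.mkₐ A (K ^ n))
    (fun _ _ => Commute.all _ _)

theorem cplRho_sigma (h1 : I.map (algebraMap A C) ≤ K) (n : ℕ) (c : C) :
    cplRho h1 n (cplSigma A I C c) = Ideal.Quotient.mk _ c := by
  rw [cplSigma_apply, cplRho, Algebra.TensorProduct.lift_tmul, map_one, one_mul]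
  rfl

theorem mem_pow_of_sigma_mem (h1 : I.map (algebraMap A C) ≤ K) (n : ℕ) (c : C)
    (h : cplSigma A I C c ∈ (K ^ n).map (cplSigma A I C)) : c ∈ K ^ n := by
  have h2 : (K ^ n).map (cplSigma A I C) ≤ RingHom.ker (cplRho h1 n).toRingHom := by
    rw [Ideal.map_le_iff_le_comap]
    intro x hx
    rw [Ideal.mem_comap, RingHom.mem_ker]
    change cplRho h1 n (cplSigma A I C x) = 0
    rw [cplRho_sigma, Ideal.Quotient.eq_zero_iff_mem]
    exact hx
  have h3 := h2 h
  rw [RingHom.mem_ker] at h3
  change cplRho h1 n (cplSigma A I C c) = 0 at h3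
  rw [cplRho_sigma, Ideal.Quotient.eq_zero_iff_mem] at h3
  exact h3

theorem algebraMap_tmul_eq (a : A) (c : C) :
    algebraMap A (AdicCompletion I A) a ⊗ₜ[A] c = cplSigma A I C (algebraMap A C a * c) := by
  rw [cplSigma_apply, Algebra.algebraMap_eq_smul_one, TensorProduct.smul_tmul, Algebra.smul_def]

theorem tmul_mem_of_mem_map_pow (h1 : I.map (algebraMap A C) ≤ K) (n : ℕ)
    (x : AdicCompletion I A) (hx : x ∈ (I.map (algebraMap A (AdicCompletion I A))) ^ n) (c : C) :
    x ⊗ₜ[A] c ∈ (K ^ n).map (cplSigma A I C) := by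
  rw [← Ideal.map_pow] at hx
  induction hx using Submodule.span_induction generalizing c with
  | mem y hy =>
    obtain ⟨a, ha, rfl⟩ := hy
    have hac : algebraMap A C a * c ∈ K ^ n := by
      apply Ideal.mul_mem_right
      have := pow_le_comap_ofId (K := K) h1 n ha
      exact this
    rw [algebraMap_tmul_eq]
    exact Ideal.mem_map_of_mem _ hac
  | zero => rw [TensorProduct.zero_tmul]; exact Ideal.zero_mem _
  | add y z _ _ hy hz => rw [TensorProduct.add_tmul]; exact Ideal.add_mem _ (hy c) (hz c)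
  | smul r y _ hy =>
    have : (r • y) ⊗ₜ[A] c = (r ⊗ₜ[A] (1 : C)) * (y ⊗ₜ[A] c) := by
      rw [Algebra.TensorProduct.tmul_mul_tmul, one_mul, smul_eq_mul]
    rw [this]
    exact Ideal.mul_mem_left _ _ (hy c)

theorem exists_sub_sigma_mem (h1 : I.map (algebraMap A C) ≤ K) (n : ℕ)
    (d : AdicCompletion I A ⊗[A] C) :
    ∃ c : C, d - cplSigma A I C c ∈ (K ^ n).map (cplSigma A I C) := by
  induction d using TensorProduct.induction_on with
  | zero => exact ⟨0, by rw [map_zero, sub_zero]; exact Ideal.zero_mem _⟩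
  | tmul x c =>
    obtain ⟨a, ha⟩ := Groth.Agent.Lib.Helper63.ComplRing.exists_sub_mem I
      (IsNoetherian.noetherian I) x n
    refine ⟨algebraMap A C a * c, ?_⟩
    have : x ⊗ₜ[A] c - cplSigma A I C (algebraMap A C a * c) =
        (x - algebraMap A (AdicCompletion I A) a) ⊗ₜ[A] c := by
      rw [TensorProduct.sub_tmul, algebraMap_tmul_eq]
    rw [this]
    exact tmul_mem_of_mem_map_pow h1 n _ ha c
  | add x y hx hy =>
    obtain ⟨c1, h1'⟩ := hx
    obtain ⟨c2, h2'⟩ := hy
    refine ⟨c1 + c2, ?_⟩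
    have : x + y - cplSigma A I C (c1 + c2) =
        (x - cplSigma A I C c1) + (y - cplSigma A I C c2) := by
      rw [map_add]; ring
    rw [this]
    exact Ideal.add_mem _ h1' h2'

theorem quotientMap_sigma_bijective (h1 : I.map (algebraMap A C) ≤ K) (n : ℕ) :
    Function.Bijective (Ideal.quotientMap ((K.map (cplSigma A I C)) ^ n) (cplSigma A I C)
      (Groth.Agent.Lib.Helper58.AdicFunct.pow_le_comap_pow K (K.map (cplSigma A I C))
        (cplSigma A I C) Ideal.le_comap_map n)) := by
  constructor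
  · rw [injective_iff_map_eq_zero]
    intro x hx
    obtain ⟨c, rfl⟩ := Ideal.Quotient.mk_surjective x
    rw [Ideal.quotientMap_mk, Ideal.Quotient.eq_zero_iff_mem, ← Ideal.map_pow] at hx
    rw [Ideal.Quotient.eq_zero_iff_mem]
    exact mem_pow_of_sigma_mem h1 n c hx
  · intro y
    obtain ⟨d, rfl⟩ := Ideal.Quotient.mk_surjective y
    obtain ⟨c, hc⟩ := exists_sub_sigma_mem h1 n d
    refine ⟨Ideal.Quotient.mk _ c, ?_⟩
    rw [Ideal.quotientMap_mk, eq_comm, Ideal.Quotient.eq, ← Ideal.map_pow]
    exact hc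

variable [Module.Finite A C]

theorem isAdicComplete_map_sigma (h1 : I.map (algebraMap A C) ≤ K) (k : ℕ) (hk0 : 0 < k)
    (hk : K ^ k ≤ I.map (algebraMap A C)) :
    IsAdicComplete (K.map (cplSigma A I C)) (AdicCompletion I A ⊗[A] C) := by
  have hN : IsNoetherianRing (AdicCompletion I A) := Groth.Agent.S0543.result A I
  have hc : IsAdicComplete (I.map (algebraMap A (AdicCompletion I A))) (AdicCompletion I A) :=
    AdicCompletion.isAdicComplete_self I (IsNoetherian.noetherian I)
  have hD := Groth.Agent.Lib.Helper47.AdicFinite.isAdicComplete_map_of_finite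
    (I.map (algebraMap A (AdicCompletion I A))) (AdicCompletion I A ⊗[A] C)
  have heq : (I.map (algebraMap A (AdicCompletion I A))).map
      (algebraMap (AdicCompletion I A) (AdicCompletion I A ⊗[A] C)) =
      (I.map (algebraMap A C)).map (cplSigma A I C) := by
    rw [Ideal.map_map, Ideal.map_map]
    congr 1
    ext a
    simp only [RingHom.comp_apply, cplSigma_apply, Algebra.TensorProduct.algebraMap_apply,
      Algebra.algebraMap_self, RingHom.id_apply]
    rw [Algebra.algebraMap_eq_smul_one a, TensorProduct.smul_tmul, ← Algebra.algebraMap_eq_smul_one]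
  rw [heq] at hD
  refine @isAdicComplete_of_le_of_pow_le _ _ _ _ hD (Ideal.map_mono h1) k hk0 ?_
  rw [← Ideal.map_pow]
  exact Ideal.map_mono hk

theorem nonempty_finiteCplEquiv (h1 : I.map (algebraMap A C) ≤ K) (k : ℕ) (hk0 : 0 < k)
    (hk : K ^ k ≤ I.map (algebraMap A C)) :
    Nonempty (AdicCompletion K C ≃+* AdicCompletion I A ⊗[A] C) := by
  have hc := isAdicComplete_map_sigma h1 k hk0 hk
  have hb := Groth.Agent.Lib.Helper58.AdicFunct.adicMap_bijective K (K.map (cplSigma A I C))
    (cplSigma A I C) Ideal.le_comap_map (quotientMap_sigma_bijective h1)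
  exact ⟨(RingEquiv.ofBijective _ hb).trans
    (AdicCompletion.ofAlgEquiv (K.map (cplSigma A I C))).symm.toRingEquiv⟩

end FiniteCpl

end Groth.Agent.Lib.Helper56
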