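import Groth.Agent.Lib.Helper56.GeomRegBC

set_option autoImplicit false
universe u
namespace Groth.Agent.Lib.Helper56
open TensorProduct

theorem isGeometricallyRegular_of_algEquiv {k S S' : Type u} [Field k] [CommRing S] [CommRing S']
    [Algebra k S] [Algebra k S'] (e : S ≃ₐ[k] S') (h : CAlg.IsGeometricallyRegular k S) :
    CAlg.IsGeometricallyRegular k S' := by
  intro k' _ _ hk'
  have := h k' hk'
  exact IsRegularRing.of_ringEquiv (R := k' ⊗[k] S)
    (Algebra.TensorProduct.congr (AlgEquiv.refl (R := k) (A₁ := k')) e).toRingEquiv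

theorem isGeomNormal_of_algEquiv {k S S' : Type u} [Field k] [CommRing S] [CommRing S']
    [Algebra k S] [Algebra k S'] (e : S ≃ₐ[k] S') (h : EGA4.IsGeomNormal k S) :
    EGA4.IsGeomNormal k S' := by
  intro k' _ _ hk'
  exact isNormalRing_of_ringEquiv
    (Algebra.TensorProduct.congr (AlgEquiv.refl (R := k) (A₁ := k')) e).toRingEquiv (h k' hk')

section FibreBC

variable (R Λ R' : Type u) [CommRing R] [CommRing Λ] [CommRing R'] [Algebra R Λ] [Algebra R R']

noncomputable def fibreBaseChangeEquiv (p' : Ideal R') [p'.IsPrime] (p : Ideal R) [p.IsPrime]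
    [p'.LiesOver p] [Algebra (Localization.AtPrime p) (Localization.AtPrime p')]
    [Localization.AtPrime.IsLiesOverAlgebra p p'] :
    p'.Fiber (R' ⊗[R] Λ) ≃ₐ[p'.ResidueField] p'.ResidueField ⊗[p.ResidueField] p.Fiber Λ :=
  (Algebra.TensorProduct.cancelBaseChange R R' p'.ResidueField p'.ResidueField Λ).trans
    (Algebra.TensorProduct.cancelBaseChange R p.ResidueField p'.ResidueField
      p'.ResidueField Λ).symm

theorem isRegularHom_baseChange_of_essFiniteType [Algebra.EssFiniteType R R']
    (h : CAlg.IsRegularHom R Λ) : CAlg.IsRegularHom R' (R' ⊗[R] Λ) := by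
  have hflat : Module.Flat R Λ := h.1
  refine ⟨inferInstance, fun p' _ => ?_⟩
  have hlo : p'.LiesOver (p'.under R) := ⟨rfl⟩
  let _ := Localization.AtPrime.algebraOfLiesOver (p'.under R) p'
  have hess : Algebra.EssFiniteType (p'.under R).ResidueField p'.ResidueField := inferInstance
  obtain ⟨hN, hG⟩ := h.2 (p'.under R)
  let e := fibreBaseChangeEquiv R Λ R' p' (p'.under R)
  constructor
  · have h1 : IsNoetherianRing ((p'.under R).Fiber Λ ⊗[(p'.under R).ResidueField] p'.ResidueField) :=
      isNoetherianRing_tensor_essFiniteType _ _ _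
    exact isNoetherianRing_of_ringEquiv _
      ((Algebra.TensorProduct.comm (p'.under R).ResidueField ((p'.under R).Fiber Λ)
        p'.ResidueField).toRingEquiv.trans e.symm.toRingEquiv)
  · exact isGeometricallyRegular_of_algEquiv e.symm
      (isGeometricallyRegular_baseChange _ _ _ hG)

theorem isNormalHom_baseChange_of_essFiniteType [Algebra.EssFiniteType R R']
    (hN : ∀ (p : Ideal R) [p.IsPrime], IsNoetherianRing (p.Fiber Λ))
    (h : EGA4.IsNormalHom R Λ) : EGA4.IsNormalHom R' (R' ⊗[R] Λ) := by
  have hflat : Module.Flat R Λ := h.1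
  refine ⟨inferInstance, fun p' _ => ?_⟩
  have hlo : p'.LiesOver (p'.under R) := ⟨rfl⟩
  let _ := Localization.AtPrime.algebraOfLiesOver (p'.under R) p'
  have hess : Algebra.EssFiniteType (p'.under R).ResidueField p'.ResidueField := inferInstance
  have hG := h.2 (p'.under R)
  have := hN (p'.under R)
  let e := fibreBaseChangeEquiv R Λ R' p' (p'.under R)
  exact isGeomNormal_of_algEquiv e.symm (isGeomNormal_baseChange _ _ _ hG)

end FibreBC

end Groth.Agent.Lib.Helper56
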