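import Groth.Agent.Lib.Helper56.FiniteCpl
import Groth.Prelude.Def_EGA4b

set_option autoImplicit false
set_option linter.unusedSectionVars false
set_option linter.style.haveILetI false
universe u
namespace Groth.Agent.Lib.Helper56
open TensorProduct IsLocalRing

section SemilocalCpl

variable (A : Type u) [CommRing A] [IsNoetherianRing A] [IsLocalRing A]
  (C : Type u) [CommRing C] [Algebra A C] [Module.Finite A C]

theorem map_maximalIdeal_le_jacobson :
    (maximalIdeal A).map (algebraMap A C) ≤ Ideal.jacobson (⊥ : Ideal C) := by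
  refine le_sInf ?_
  rintro M ⟨-, hM⟩
  have hint : Algebra.IsIntegral A C := Algebra.IsIntegral.of_finite A C
  have hmax : (M.comap (algebraMap A C)).IsMaximal :=
    Ideal.isMaximal_comap_of_isIntegral_of_isMaximal M
  rw [Ideal.map_le_iff_le_comap, IsLocalRing.eq_maximalIdeal hmax]

theorem isArtinianRing_quotient_map_maximalIdeal :
    IsArtinianRing (C ⧸ (maximalIdeal A).map (algebraMap A C)) := by
  letI : Field (A ⧸ maximalIdeal A) := Ideal.Quotient.field (maximalIdeal A)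
  have h1 : Module.Finite A (C ⧸ (maximalIdeal A).map (algebraMap A C)) :=
    Module.Finite.of_surjective
      (Ideal.Quotient.mkₐ A ((maximalIdeal A).map (algebraMap A C))).toLinearMap
      (Ideal.Quotient.mkₐ_surjective A _)
  have h2 : Module.Finite (A ⧸ maximalIdeal A) (C ⧸ (maximalIdeal A).map (algebraMap A C)) :=
    Module.Finite.of_restrictScalars_finite A _ _
  exact IsArtinianRing.of_finite (A ⧸ maximalIdeal A) _

theorem exists_pow_jacobson_le :
    ∃ k : ℕ, 0 < k ∧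
      (Ideal.jacobson (⊥ : Ideal C)) ^ k ≤ (maximalIdeal A).map (algebraMap A C) := by
  have hart := isArtinianRing_quotient_map_maximalIdeal A C
  set J := (maximalIdeal A).map (algebraMap A C) with hJdef
  have hsurj := Ideal.Quotient.mk_surjective (I := J)
  have hjac : (Ideal.jacobson (⊥ : Ideal C)).map (Ideal.Quotient.mk J) ≤ Ideal.jacobson ⊥ := by
    refine le_sInf ?_
    rintro M ⟨-, hM⟩
    rw [Ideal.map_le_iff_le_comap]
    have hcm : (M.comap (Ideal.Quotient.mk J)).IsMaximal :=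
      Ideal.comap_isMaximal_of_surjective _ hsurj
    exact sInf_le ⟨bot_le, hcm⟩
  obtain ⟨c, hc⟩ := IsArtinianRing.isNilpotent_jacobson_bot (R := C ⧸ J)
  refine ⟨c + 1, Nat.succ_pos c, ?_⟩
  have h1 : ((Ideal.jacobson (⊥ : Ideal C)) ^ c).map (Ideal.Quotient.mk J) = ⊥ := by
    rw [Ideal.map_pow, eq_bot_iff]
    have h2 := Ideal.pow_right_mono hjac c
    rw [hc] at h2
    exact h2
  rw [Ideal.map_eq_bot_iff_le_ker, Ideal.mk_ker] at h1
  exact (Ideal.pow_le_pow_right (Nat.le_succ c)).trans h1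

theorem nonempty_jacobsonCplEquiv :
    Nonempty (AdicCompletion (Ideal.jacobson (⊥ : Ideal C)) C ≃+* EGA4.Cpl A ⊗[A] C) := by
  obtain ⟨k, hk0, hk⟩ := exists_pow_jacobson_le A C
  exact nonempty_finiteCplEquiv (map_maximalIdeal_le_jacobson A C) k hk0 hk

theorem nonempty_mapCplEquiv :
    Nonempty (AdicCompletion ((maximalIdeal A).map (algebraMap A C)) C ≃+* EGA4.Cpl A ⊗[A] C) :=
  nonempty_finiteCplEquiv le_rfl 1 Nat.one_pos (by rw [pow_one])

end SemilocalCpl

section SubalgebraReduced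

variable (A : Type u) [CommRing A] (L : Type u) [Field L] [Algebra A L] (C : Subalgebra A L)
  (B : Type u) [CommRing B] [Algebra A B] [Module.Flat A B]

theorem isReduced_tensor_of_subalgebra
    (hC : ∀ x : L, ∃ s : C, s ≠ 0 ∧ ∃ c : C, (s : L) * x = (c : L))
    (h : IsReduced (C ⊗[A] B)) : IsReduced (L ⊗[A] B) := by
  let ι : C ⊗[A] B →ₐ[A] L ⊗[A] B := Algebra.TensorProduct.map C.val (AlgHom.id A B)
  have hι : Function.Injective ι :=
    Module.Flat.rTensor_preserves_injective_linearMap (M := B) C.val.toLinearMap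
      Subtype.val_injective
  have key : ∀ z : L ⊗[A] B, ∃ s : C, s ≠ 0 ∧ ∃ w : C ⊗[A] B,
      ((s : L) ⊗ₜ[A] (1 : B)) * z = ι w := by
    intro z
    induction z using TensorProduct.induction_on with
    | zero => exact ⟨1, one_ne_zero, 0, by rw [mul_zero, map_zero]⟩
    | tmul l b =>
      obtain ⟨s, hs, c, hc⟩ := hC l
      refine ⟨s, hs, c ⊗ₜ b, ?_⟩
      rw [Algebra.TensorProduct.tmul_mul_tmul, one_mul, hc]
      rfl
    | add x y hx hy =>
      obtain ⟨s1, hs1, w1, hw1⟩ := hx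
      obtain ⟨s2, hs2, w2, hw2⟩ := hy
      refine ⟨s1 * s2, mul_ne_zero hs1 hs2,
        (s2 ⊗ₜ[A] (1 : B)) * w1 + (s1 ⊗ₜ[A] (1 : B)) * w2, ?_⟩
      have e1 : ι (s2 ⊗ₜ[A] (1 : B)) = (s2 : L) ⊗ₜ[A] (1 : B) := rfl
      have e2 : ι (s1 ⊗ₜ[A] (1 : B)) = (s1 : L) ⊗ₜ[A] (1 : B) := rfl
      have e3 : (((s1 * s2 : C) : L) ⊗ₜ[A] (1 : B)) =
          ((s1 : L) ⊗ₜ[A] (1 : B)) * ((s2 : L) ⊗ₜ[A] (1 : B)) := by
        rw [Algebra.TensorProduct.tmul_mul_tmul, mul_one]
        rfl
      rw [map_add, map_mul, map_mul, e1, e2, ← hw1, ← hw2, e3]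
      ring
  refine ⟨fun z hz => ?_⟩
  obtain ⟨s, hs, w, hw⟩ := key z
  have hnil : IsNilpotent (ι w) := by
    rw [← hw]
    exact Commute.isNilpotent_mul_left (Commute.all _ _) hz
  have hw0 : w = 0 := by
    obtain ⟨n, hn⟩ := hnil
    rw [← map_pow] at hn
    have : w ^ n = 0 := hι (by rw [hn, map_zero])
    exact (IsNilpotent.eq_zero ⟨n, this⟩)
  rw [hw0, map_zero] at hw
  have hsL : (s : L) ≠ 0 := fun h0 => hs (Subtype.ext h0)
  have : z = (((s : L)⁻¹) ⊗ₜ[A] (1 : B)) * (((s : L) ⊗ₜ[A] (1 : B)) * z) := by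
    rw [← mul_assoc, Algebra.TensorProduct.tmul_mul_tmul, inv_mul_cancel₀ hsL, mul_one]
    exact (one_mul z).symm
  rw [this, hw, mul_zero]

end SubalgebraReduced

end Groth.Agent.Lib.Helper56
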