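import Groth.Agent.Lib.Helper56.FracLoc
import Groth.Agent.Lib.Helper56.FormalDescent

set_option autoImplicit false
universe u

namespace Groth.Agent.Lib.Helper56

open scoped nonZeroDivisors
open TensorProduct EGA4

section GenericFibre

attribute [local instance] Algebra.TensorProduct.rightAlgebra

variable (A C B : Type u) [CommRing A] [CommRing C] [Algebra A C] [CommRing B] [IsDomain B]
  [Algebra A B]

theorem isLocalization_bot_fiber :
    IsLocalization (Algebra.algebraMapSubmonoid (B ⊗[A] C) B⁰)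
      ((⊥ : Ideal B).ResidueField ⊗[B] (B ⊗[A] C)) :=
  (Algebra.isLocalization_iff_isPushout B⁰ (⊥ : Ideal B).ResidueField).mpr inferInstance

omit [IsDomain B] in
theorem isLocalization_frac_tensor (K : Type u) [Field K] [Algebra B K] [IsFractionRing B K] :
    IsLocalization (Algebra.algebraMapSubmonoid (B ⊗[A] C) B⁰) (K ⊗[B] (B ⊗[A] C)) :=
  (Algebra.isLocalization_iff_isPushout B⁰ K).mpr inferInstance

theorem isRegularLocalRing_atPrime_of_comap_eq_bot [Module.Finite A B]
    (hAC : ∀ (p : Ideal A) [p.IsPrime], CAlg.IsGeometricallyRegular p.ResidueField (p.Fiber C))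
    (q : Ideal (B ⊗[A] C)) [q.IsPrime] (hq : q.comap (algebraMap B (B ⊗[A] C)) = ⊥) :
    IsRegularLocalRing (Localization.AtPrime q) := by
  have hloc := isLocalization_bot_fiber A C B
  have hreg : IsRegularRing ((⊥ : Ideal B).ResidueField ⊗[B] (B ⊗[A] C)) :=
    isRegularRing_fiber_baseChange A C B hAC ⊥
  obtain ⟨Q, hQ, ⟨e⟩⟩ := nonempty_localization_equiv_of_comap_eq_bot
    ((⊥ : Ideal B).ResidueField ⊗[B] (B ⊗[A] C)) q hq
  exact IsRegularLocalRing.of_ringEquiv (R := Localization.AtPrime Q) e.symm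

theorem isReduced_atPrime_of_comap_eq_bot
    (hAC : ∀ (p : Ideal A) [p.IsPrime],
      Algebra.IsGeometricallyReduced p.ResidueField (p.Fiber C))
    (q : Ideal (B ⊗[A] C)) [q.IsPrime] (hq : q.comap (algebraMap B (B ⊗[A] C)) = ⊥) :
    IsReduced (Localization.AtPrime q) := by
  have hloc := isLocalization_bot_fiber A C B
  have h1 : IsReduced ((⊥ : Ideal B).ResidueField ⊗[A] C) :=
    Groth.Agent.Lib.Helper94.isReduced_field_tensor A C (⊥ : Ideal B).ResidueField hAC
  have hred : IsReduced ((⊥ : Ideal B).ResidueField ⊗[B] (B ⊗[A] C)) :=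
    isReduced_of_injective
      (Algebra.TensorProduct.cancelBaseChange A B (⊥ : Ideal B).ResidueField
        (⊥ : Ideal B).ResidueField C).toAlgHom
      (Algebra.TensorProduct.cancelBaseChange A B (⊥ : Ideal B).ResidueField
        (⊥ : Ideal B).ResidueField C).injective
  obtain ⟨Q, hQ, ⟨e⟩⟩ := nonempty_localization_equiv_of_comap_eq_bot
    ((⊥ : Ideal B).ResidueField ⊗[B] (B ⊗[A] C)) q hq
  have : IsReduced (Localization.AtPrime Q) := inferInstance
  exact isReduced_of_injective e.toRingHom e.injective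

omit [IsDomain B] [Algebra A B] in
theorem converse_key (p : Ideal A) [p.IsPrime] (k' : Type u) [Field k']
    [Algebra p.ResidueField k'] (hfin : Module.Finite p.ResidueField k')
    (P : ∀ (R : Type u) [CommRing R], Prop)
    (hPiso : ∀ (R R' : Type u) [CommRing R] [CommRing R'], (R ≃+* R') → P R → P R')
    (H : ∀ (B : Type u) [CommRing B] [IsDomain B] [Algebra A B] [Module.Finite A B]
      (q : Ideal (B ⊗[A] C)) [q.IsPrime],
      q.comap (algebraMap B (B ⊗[A] C)) = ⊥ → P (Localization.AtPrime q)) :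
    ∃ (TK : Type u) (_ : CommRing TK), Nonempty (TK ≃+* k' ⊗[p.ResidueField] p.Fiber C) ∧
      (∀ (Q : Ideal TK) [Q.IsPrime], P (Localization.AtPrime Q)) ∧
      (IsNoetherianRing C → IsNoetherianRing TK) := by
  let _ : Algebra A k' :=
    ((algebraMap p.ResidueField k').comp (algebraMap A p.ResidueField)).toAlgebra
  have : IsScalarTower A p.ResidueField k' := IsScalarTower.of_algebraMap_eq (fun _ => rfl)
  let _ : Algebra (A ⧸ p) k' :=
    ((algebraMap p.ResidueField k').comp (algebraMap (A ⧸ p) p.ResidueField)).toAlgebra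
  have : IsScalarTower (A ⧸ p) p.ResidueField k' := IsScalarTower.of_algebraMap_eq (fun _ => rfl)
  have : IsScalarTower A (A ⧸ p) k' := IsScalarTower.of_algebraMap_eq (fun _ => rfl)
  obtain ⟨B, hBfin, hBfrac⟩ :=
    exists_finite_subalgebra_isFractionRing (A ⧸ p) p.ResidueField k'
  have hfinAB : Module.Finite A B := Module.Finite.trans (A ⧸ p) B
  have hloc := isLocalization_frac_tensor A C B k'
  refine ⟨k' ⊗[B] (B ⊗[A] C), inferInstance, ⟨?_⟩, ?_, ?_⟩
  · exact (Algebra.TensorProduct.cancelBaseChange A B k' k' C).toRingEquiv.trans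
      (Algebra.TensorProduct.cancelBaseChange A p.ResidueField k' k' C).symm.toRingEquiv
  · intro Q _
    obtain ⟨e⟩ := nonempty_localization_equiv (B := B) (T := B ⊗[A] C) (k' ⊗[B] (B ⊗[A] C)) Q
    exact hPiso _ _ e (H B _ (comap_comap_eq_bot (B := B) (T := B ⊗[A] C)
      (k' ⊗[B] (B ⊗[A] C)) Q))
  · intro hC
    have : Module.Finite C (C ⊗[A] B) := inferInstance
    have : IsNoetherianRing (C ⊗[A] B) := IsNoetherianRing.of_finite C _
    have : IsNoetherianRing (B ⊗[A] C) :=
      isNoetherianRing_of_ringEquiv _ (Algebra.TensorProduct.comm A C B).toRingEquiv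
    exact IsLocalization.isNoetherianRing (Algebra.algebraMapSubmonoid (B ⊗[A] C) B⁰) _ this

end GenericFibre

section CplCriteria

variable (A : Type u) [CommRing A] [IsNoetherianRing A] [IsLocalRing A]

theorem isRegularHom_cpl_iff :
    CAlg.IsRegularHom A (Cpl A) ↔
      ∀ (B : Type u) [CommRing B] [IsDomain B] [Algebra A B] [Module.Finite A B]
        (q : Ideal (B ⊗[A] Cpl A)) [q.IsPrime],
        q.comap (algebraMap B (B ⊗[A] Cpl A)) = ⊥ →
          IsRegularLocalRing (Localization.AtPrime q) := by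
  have hN : IsNoetherianRing (Cpl A) := Groth.Agent.S0543.result A _
  constructor
  · intro h B _ _ _ _ q _ hq
    exact isRegularLocalRing_atPrime_of_comap_eq_bot A (Cpl A) B (fun p _ => (h.2 p).2) q hq
  · intro H
    refine ⟨inferInstance, fun p _ => ⟨isNoetherianRing_fiber A (Cpl A) p, ?_⟩⟩
    intro k' _ _ hfin
    obtain ⟨TK, _, ⟨e⟩, hQ, hNT⟩ := converse_key A (Cpl A) p k' hfin
      (fun R _ => IsRegularLocalRing R)
      (fun R R' _ _ e h => IsRegularLocalRing.of_ringEquiv (R := R) e) H
    have := hNT hN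
    have : IsRegularRing TK := isRegularRing_iff.mpr hQ
    exact IsRegularRing.of_ringEquiv (R := TK) e

omit [IsNoetherianRing A] in
theorem hasGeomReducedFormalFibres_iff :
    HasGeomReducedFormalFibres A ↔
      ∀ (B : Type u) [CommRing B] [IsDomain B] [Algebra A B] [Module.Finite A B]
        (q : Ideal (B ⊗[A] Cpl A)) [q.IsPrime],
        q.comap (algebraMap B (B ⊗[A] Cpl A)) = ⊥ → IsReduced (Localization.AtPrime q) := by
  constructor
  · intro h B _ _ _ _ q _ hq
    exact isReduced_atPrime_of_comap_eq_bot A (Cpl A) B (fun p _ => h p) q hq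
  · intro H p _
    apply isGeometricallyReduced_of_forall_finite
    intro k' _ _ hfin
    obtain ⟨TK, _, ⟨e⟩, hQ, hNT⟩ := converse_key A (Cpl A) p k' hfin
      (fun R _ => IsReduced R)
      (fun R R' _ _ e h => isReduced_of_injective e.symm.toRingHom e.symm.injective) H
    have : IsReduced TK := isReduced_ofLocalizationMaximal TK (fun m hm => by
      have := hm.isPrime
      exact hQ m)
    exact isReduced_of_injective e.symm.toRingHom e.symm.injective

end CplCriteria

end Groth.Agent.Lib.Helper56
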