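import Groth.Agent.Lib.Helper56.CMRing
import Mathlib.FieldTheory.FinTrdeg
import Mathlib.RingTheory.AlgebraicIndependent.Adjoin
import Mathlib.FieldTheory.IntermediateField.Adjoin.Algebra

set_option autoImplicit false
universe u
namespace Groth.Agent.Lib.Helper56
open LocCoh TensorProduct

theorem isCohenMacaulayRing_of_finite_flat (R T : Type u) [CommRing R] [CommRing T] [Algebra R T]
    [Module.Finite R T] [Module.Flat R T] (hR : IsCohenMacaulayRing R) :
    IsCohenMacaulayRing T := by
  have hN : IsNoetherianRing R := hR.toIsNoetherian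
  have hNT : IsNoetherianRing T := IsNoetherianRing.of_finite R T
  apply isCohenMacaulayRing_of_flat_of_fibres R T hR
  intro p _
  have : Module.Finite p.ResidueField (p.Fiber T) := inferInstance
  have : IsArtinianRing (p.Fiber T) := IsArtinianRing.of_finite p.ResidueField _
  exact isCohenMacaulayRing_of_isArtinianRing _

theorem isCM_fractionRing_tensor (k L : Type u) [Field k] [Field L] [Algebra k L] (ι : Type u)
    [Finite ι] :
    IsCohenMacaulayRing (FractionRing (MvPolynomial ι k) ⊗[k] L) := by
  have h1 : IsCohenMacaulayRing (MvPolynomial ι L) := isCohenMacaulayRing_of_isRegularRing _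
  have h2 : IsCohenMacaulayRing (MvPolynomial ι k ⊗[k] L) :=
    isCohenMacaulayRing_of_ringEquiv
      (((MvPolynomial.algebraTensorAlgEquiv k L (σ := ι)).symm.toRingEquiv).trans
        (Algebra.TensorProduct.comm k L (MvPolynomial ι k)).toRingEquiv) h1
  have h3 : IsLocalization (Algebra.algebraMapSubmonoid (MvPolynomial ι k ⊗[k] L)
      (nonZeroDivisors (MvPolynomial ι k)))
      ((MvPolynomial ι k ⊗[k] L) ⊗[MvPolynomial ι k] FractionRing (MvPolynomial ι k)) :=
    IsLocalization.tensor _ _
  have h4 : IsCohenMacaulayRing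
      ((MvPolynomial ι k ⊗[k] L) ⊗[MvPolynomial ι k] FractionRing (MvPolynomial ι k)) :=
    isCohenMacaulayRing_of_isLocalization (Algebra.algebraMapSubmonoid (MvPolynomial ι k ⊗[k] L)
      (nonZeroDivisors (MvPolynomial ι k))) _ h2
  exact isCohenMacaulayRing_of_ringEquiv
    ((Algebra.TensorProduct.comm (MvPolynomial ι k) (MvPolynomial ι k ⊗[k] L)
      (FractionRing (MvPolynomial ι k))).toRingEquiv.trans
      (Algebra.TensorProduct.cancelBaseChange k (MvPolynomial ι k) (MvPolynomial ι k)
        (FractionRing (MvPolynomial ι k)) L).toRingEquiv) h4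

theorem isCM_tensor_of_finite (k F K L : Type u) [Field k] [Field F] [Field K] [Field L]
    [Algebra k F] [Algebra F K] [Algebra k K] [IsScalarTower k F K] [Algebra k L]
    [Module.Finite F K] (h1 : IsCohenMacaulayRing (F ⊗[k] L)) :
    IsCohenMacaulayRing (K ⊗[k] L) := by
  have h2 : IsCohenMacaulayRing ((F ⊗[k] L) ⊗[F] K) :=
    isCohenMacaulayRing_of_finite_flat (F ⊗[k] L) _ h1
  exact isCohenMacaulayRing_of_ringEquiv
    ((Algebra.TensorProduct.comm F (F ⊗[k] L) K).toRingEquiv.trans
      (Algebra.TensorProduct.cancelBaseChange k F F K L).toRingEquiv) h2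

theorem isCM_tensor_of_essFiniteType (k K L : Type u) [Field k] [Field K] [Field L]
    [Algebra k K] [Algebra k L] [Algebra.EssFiniteType k K] :
    IsCohenMacaulayRing (K ⊗[k] L) := by
  obtain ⟨ι, x, hx⟩ := exists_isTranscendenceBasis' k K
  have hfin : Finite ι := finite_of_isTranscendenceBasis hx
  have halg : Algebra.IsAlgebraic (IntermediateField.adjoin k (Set.range x)) K :=
    hx.isAlgebraic_field
  have hess : Algebra.EssFiniteType (IntermediateField.adjoin k (Set.range x)) K :=
    Algebra.EssFiniteType.of_comp k _ K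
  have hfinite : Module.Finite (IntermediateField.adjoin k (Set.range x)) K :=
    Algebra.finite_of_essFiniteType_of_isAlgebraic
  have h1 : IsCohenMacaulayRing ((IntermediateField.adjoin k (Set.range x)) ⊗[k] L) :=
    isCohenMacaulayRing_of_ringEquiv
      (Algebra.TensorProduct.congr hx.1.aevalEquivField (AlgEquiv.refl (A₁ := L))).toRingEquiv
      (isCM_fractionRing_tensor k L ι)
  exact isCM_tensor_of_finite k (IntermediateField.adjoin k (Set.range x)) K L h1

end Groth.Agent.Lib.Helper56
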