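import Groth.Agent.Lib.Helper56.CplCriteria
import Groth.Agent.Lib.Helper56.NormalComp
import Groth.Agent.Lib.Helper56.FormalDescent
import Groth.Agent.Lib.Helper56.CMTensor
import Groth.Agent.Lib.Helper35.RegField

set_option autoImplicit false
universe u
namespace Groth.Agent.Lib.Helper56
open TensorProduct

theorem isRegularRing_of_isLocalization' {R : Type u} [CommRing R] (M : Submonoid R)
    (T : Type u) [CommRing T] [Algebra R T] [IsLocalization M T] (hR : IsRegularRing R) :
    IsRegularRing T := by
  have hN : IsNoetherianRing T := IsLocalization.isNoetherianRing M T inferInstance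
  rw [isRegularRing_iff]
  intro p hp
  have h := IsRegularRing.isRegularLocalRing_localization (R := R) (p.comap (algebraMap R T))
  have h2 : IsLocalization.AtPrime (Localization.AtPrime p) (p.comap (algebraMap R T)) :=
    IsLocalization.isLocalization_isLocalization_atPrime_isLocalization M _ p
  exact IsRegularLocalRing.of_ringEquiv (R := Localization.AtPrime (p.comap (algebraMap R T)))
    (IsLocalization.algEquiv (p.comap (algebraMap R T)).primeCompl
      (Localization.AtPrime (p.comap (algebraMap R T))) (Localization.AtPrime p)).toRingEquiv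

def UnivRegular (k K : Type u) [Field k] [Field K] [Algebra k K] : Prop :=
  ∀ (κ : Type u) [Field κ] [Algebra k κ], IsRegularRing (κ ⊗[k] K)

section U1

variable (k K S : Type u) [Field k] [Field K] [Algebra k K] [Algebra.EssFiniteType k K]
  [CommRing S] [Algebra k S]

theorem isNoetherianRing_tensor_essFiniteType [IsNoetherianRing S] :
    IsNoetherianRing (S ⊗[k] K) :=
  Algebra.EssFiniteType.isNoetherianRing S (S ⊗[k] K)

omit [Algebra.EssFiniteType k K] in
theorem isRegularRing_fibre_of_univRegular (hK : UnivRegular k K) (p : Ideal S) [p.IsPrime] :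
    IsRegularRing (p.Fiber (S ⊗[k] K)) := by
  have h := hK p.ResidueField
  exact IsRegularRing.of_ringEquiv (R := p.ResidueField ⊗[k] K)
    (Algebra.TensorProduct.cancelBaseChange k S S p.ResidueField K).symm.toRingEquiv

theorem isRegularRing_tensor_of_univRegular (hK : UnivRegular k K) (hS : IsRegularRing S) :
    IsRegularRing (K ⊗[k] S) := by
  have hN := isNoetherianRing_tensor_essFiniteType k K S
  have h1 : IsRegularRing (S ⊗[k] K) :=
    isRegularRing_of_flat_of_fibres S (S ⊗[k] K) hS
      (fun p _ => isRegularRing_fibre_of_univRegular k K S hK p)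
  exact IsRegularRing.of_ringEquiv (R := S ⊗[k] K) (Algebra.TensorProduct.comm k S K).toRingEquiv

theorem isNormalRing_tensor_of_univRegular [IsNoetherianRing S] (hK : UnivRegular k K)
    (hS : EGA4.IsNormalRing S) : EGA4.IsNormalRing (K ⊗[k] S) := by
  have hN := isNoetherianRing_tensor_essFiniteType k K S
  have h1 : EGA4.IsNormalRing (S ⊗[k] K) :=
    isNormalRing_of_flat_of_fibres S (S ⊗[k] K) hS
      (fun p _ => by
        have := isRegularRing_fibre_of_univRegular k K S hK p
        exact isNormalRing_of_isRegularRing _)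
  exact isNormalRing_of_ringEquiv (Algebra.TensorProduct.comm k S K).toRingEquiv h1

end U1

section U2

theorem UnivRegular.of_algEquiv {k K K' : Type u} [Field k] [Field K] [Field K'] [Algebra k K]
    [Algebra k K'] (e : K ≃ₐ[k] K') (h : UnivRegular k K) : UnivRegular k K' := by
  intro κ _ _
  have := h κ
  exact IsRegularRing.of_ringEquiv (R := κ ⊗[k] K)
    (Algebra.TensorProduct.congr (AlgEquiv.refl (R := k) (A₁ := κ)) e).toRingEquiv

theorem univRegular_of_finite_isSeparable (k K : Type u) [Field k] [Field K] [Algebra k K]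
    [Module.Finite k K] [Algebra.IsSeparable k K] : UnivRegular k K := by
  intro κ _ _
  have h1 : IsReduced (κ ⊗[k] K) := isReduced_tensor_of_isSeparable
  have h2 : Module.Finite κ (κ ⊗[k] K) := inferInstance
  have h3 : IsArtinianRing (κ ⊗[k] K) := IsArtinianRing.of_finite κ _
  exact Groth.Agent.Lib.Helper35.RegField.isRegularRing_of_isArtinianRing_of_isReduced _

theorem univRegular_fractionRing_mvPolynomial (k : Type u) [Field k] (ι : Type u) [Finite ι] :
    UnivRegular k (FractionRing (MvPolynomial ι k)) := by
  intro L _ _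
  have h1 : IsRegularRing (MvPolynomial ι L) := inferInstance
  have h2 : IsRegularRing (MvPolynomial ι k ⊗[k] L) :=
    IsRegularRing.of_ringEquiv (R := MvPolynomial ι L)
      (((MvPolynomial.algebraTensorAlgEquiv k L (σ := ι)).symm.toRingEquiv).trans
        (Algebra.TensorProduct.comm k L (MvPolynomial ι k)).toRingEquiv)
  have h3 : IsLocalization (Algebra.algebraMapSubmonoid (MvPolynomial ι k ⊗[k] L)
      (nonZeroDivisors (MvPolynomial ι k)))
      ((MvPolynomial ι k ⊗[k] L) ⊗[MvPolynomial ι k] FractionRing (MvPolynomial ι k)) :=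
    IsLocalization.tensor _ _
  have h4 : IsRegularRing
      ((MvPolynomial ι k ⊗[k] L) ⊗[MvPolynomial ι k] FractionRing (MvPolynomial ι k)) :=
    isRegularRing_of_isLocalization' (Algebra.algebraMapSubmonoid (MvPolynomial ι k ⊗[k] L)
      (nonZeroDivisors (MvPolynomial ι k))) _ h2
  have h5 : IsRegularRing (FractionRing (MvPolynomial ι k) ⊗[k] L) :=
    IsRegularRing.of_ringEquiv
      (R := (MvPolynomial ι k ⊗[k] L) ⊗[MvPolynomial ι k] FractionRing (MvPolynomial ι k))
      ((Algebra.TensorProduct.comm (MvPolynomial ι k) (MvPolynomial ι k ⊗[k] L)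
        (FractionRing (MvPolynomial ι k))).toRingEquiv.trans
        (Algebra.TensorProduct.cancelBaseChange k (MvPolynomial ι k) (MvPolynomial ι k)
          (FractionRing (MvPolynomial ι k)) L).toRingEquiv)
  exact IsRegularRing.of_ringEquiv (R := FractionRing (MvPolynomial ι k) ⊗[k] L)
    (Algebra.TensorProduct.comm k (FractionRing (MvPolynomial ι k)) L).toRingEquiv

theorem UnivRegular.trans (k F K : Type u) [Field k] [Field F] [Field K] [Algebra k F]
    [Algebra F K] [Algebra k K] [IsScalarTower k F K] [Algebra.EssFiniteType F K]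
    (h1 : UnivRegular k F) (h2 : UnivRegular F K) : UnivRegular k K := by
  intro κ _ _
  have h0 := h1 κ
  have h3 : IsRegularRing (F ⊗[k] κ) :=
    IsRegularRing.of_ringEquiv (R := κ ⊗[k] F) (Algebra.TensorProduct.comm k κ F).toRingEquiv
  have h4 : IsRegularRing (K ⊗[F] (F ⊗[k] κ)) :=
    isRegularRing_tensor_of_univRegular F K (F ⊗[k] κ) h2 h3
  exact IsRegularRing.of_ringEquiv (R := K ⊗[F] (F ⊗[k] κ))
    ((Algebra.TensorProduct.cancelBaseChange k F F K κ).toRingEquiv.trans
      (Algebra.TensorProduct.comm k K κ).toRingEquiv)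

end U2

end Groth.Agent.Lib.Helper56
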