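import Groth.Agent.Lib.Helper56.HomLoc
import Groth.Agent.Lib.Helper56.FormalDescent

set_option autoImplicit false
universe u

namespace Groth.Agent.Lib.Helper56

open TensorProduct

section HomPushout

variable (A B : Type u) [CommRing A] [CommRing B] [Algebra A B]
  (A' B' : Type u) [CommRing A'] [CommRing B'] [Algebra A A'] [Algebra B B'] [Algebra A' B']
  [Algebra A B'] [IsScalarTower A A' B'] [IsScalarTower A B B'] [hpo : Algebra.IsPushout A B A' B']

include hpo in
theorem flat_of_isPushout [Module.Flat A B] : Module.Flat A' B' := by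
  have hpo' : Algebra.IsPushout A A' B B' := hpo.symm
  exact Module.Flat.isBaseChange A A' B B' hpo'.out

include hpo in
theorem exists_fibre_equiv_of_surjectiveOnStalks (hs : (algebraMap A A').SurjectiveOnStalks)
    (p' : Ideal A') [p'.IsPrime] (k' : Type u) [Field k']
    [Algebra p'.ResidueField k'] (hfin : Module.Finite p'.ResidueField k') :
    ∃ (_ : Algebra (p'.under A).ResidueField k'),
      Module.Finite (p'.under A).ResidueField k' ∧
      Nonempty ((k' ⊗[p'.ResidueField] p'.Fiber B') ≃+*
        (k' ⊗[(p'.under A).ResidueField] (p'.under A).Fiber B)) := by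
  let φ : (p'.under A).ResidueField →+* p'.ResidueField :=
    Ideal.ResidueField.map (p'.under A) p' (algebraMap A A') rfl
  have hφ : Function.Bijective φ := hs.residueFieldMap_bijective (p'.under A) p' rfl
  let _ : Algebra A' k' :=
    ((algebraMap p'.ResidueField k').comp (algebraMap A' p'.ResidueField)).toAlgebra
  have : IsScalarTower A' p'.ResidueField k' := IsScalarTower.of_algebraMap_eq (fun _ => rfl)
  let _ : Algebra A k' := ((algebraMap A' k').comp (algebraMap A A')).toAlgebra
  have : IsScalarTower A A' k' := IsScalarTower.of_algebraMap_eq (fun _ => rfl)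
  let _ : Algebra (p'.under A).ResidueField p'.ResidueField := φ.toAlgebra
  let alg : Algebra (p'.under A).ResidueField k' :=
    ((algebraMap p'.ResidueField k').comp φ).toAlgebra
  have : IsScalarTower (p'.under A).ResidueField p'.ResidueField k' :=
    IsScalarTower.of_algebraMap_eq (fun _ => rfl)
  have : IsScalarTower A (p'.under A).ResidueField k' := by
    refine IsScalarTower.of_algebraMap_eq (fun a => ?_)
    show algebraMap p'.ResidueField k' (algebraMap A' p'.ResidueField (algebraMap A A' a)) =
      algebraMap p'.ResidueField k' (φ (algebraMap A (p'.under A).ResidueField a))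
    rw [Ideal.ResidueField.map_algebraMap]
  have hf1 : Module.Finite (p'.under A).ResidueField p'.ResidueField :=
    Module.Finite.of_surjective (Algebra.linearMap (p'.under A).ResidueField p'.ResidueField)
      hφ.surjective
  have hf2 : Module.Finite (p'.under A).ResidueField k' :=
    Module.Finite.trans p'.ResidueField k'
  refine ⟨alg, hf2, ⟨?_⟩⟩
  have e1 : B' ⊗[A'] k' ≃ₐ[B] B ⊗[A] k' := Algebra.IsPushout.cancelBaseChangeAlg A B A' B' k'
  exact (fibreTensorEquiv A' B' p' k').symm.trans
    (e1.toRingEquiv.trans (fibreTensorEquiv A B (p'.under A) k'))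

include hpo in
theorem nonempty_fiber_equiv_of_surjectiveOnStalks (hs : (algebraMap A A').SurjectiveOnStalks)
    (p' : Ideal A') [p'.IsPrime] :
    Nonempty (p'.Fiber B' ≃+* (p'.under A).Fiber B) := by
  let φ : (p'.under A).ResidueField →ₐ[A] p'.ResidueField :=
    Ideal.ResidueField.mapₐ (p'.under A) p' (Algebra.ofId A A') rfl
  have hφ : Function.Bijective φ := hs.residueFieldMap_bijective (p'.under A) p' rfl
  let e : (p'.under A).ResidueField ≃ₐ[A] p'.ResidueField := AlgEquiv.ofBijective φ hφ
  have e1 : B' ⊗[A'] p'.ResidueField ≃ₐ[B] B ⊗[A] p'.ResidueField :=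
    Algebra.IsPushout.cancelBaseChangeAlg A B A' B' p'.ResidueField
  exact ⟨(Algebra.TensorProduct.comm A' p'.ResidueField B').toRingEquiv.trans
    (e1.toRingEquiv.trans ((Algebra.TensorProduct.comm A B p'.ResidueField).toRingEquiv.trans
      (Algebra.TensorProduct.congr e.symm (AlgEquiv.refl (R := A) (A₁ := B))).toRingEquiv))⟩

include hpo in
theorem isRegularHom_of_isPushout (hs : (algebraMap A A').SurjectiveOnStalks)
    (h : CAlg.IsRegularHom A B) : CAlg.IsRegularHom A' B' := by
  have := h.1
  refine ⟨flat_of_isPushout A B A' B', fun p' _ => ⟨?_, ?_⟩⟩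
  · obtain ⟨e⟩ := nonempty_fiber_equiv_of_surjectiveOnStalks A B A' B' hs p'
    have := (h.2 (p'.under A)).1
    exact isNoetherianRing_of_ringEquiv _ e.symm
  · intro k' _ _ hfin
    obtain ⟨alg, hfin', ⟨e⟩⟩ := exists_fibre_equiv_of_surjectiveOnStalks A B A' B' hs p' k' hfin
    have := (h.2 (p'.under A)).2 k' hfin'
    exact IsRegularRing.of_ringEquiv
      (R := k' ⊗[(p'.under A).ResidueField] (p'.under A).Fiber B) e.symm

include hpo in
theorem isGeomNormal_fibres_of_isPushout (hs : (algebraMap A A').SurjectiveOnStalks)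
    (h : ∀ (p : Ideal A) [p.IsPrime], EGA4.IsGeomNormal p.ResidueField (p.Fiber B))
    (p' : Ideal A') [p'.IsPrime] : EGA4.IsGeomNormal p'.ResidueField (p'.Fiber B') := by
  intro k' _ _ hfin
  obtain ⟨alg, hfin', ⟨e⟩⟩ := exists_fibre_equiv_of_surjectiveOnStalks A B A' B' hs p' k' hfin
  have := h (p'.under A) k' hfin'
  exact isNormalRing_of_ringEquiv e.symm this

include hpo in
theorem isGeometricallyReduced_fibres_of_isPushout (hs : (algebraMap A A').SurjectiveOnStalks)
    (h : ∀ (p : Ideal A) [p.IsPrime],
      Algebra.IsGeometricallyReduced p.ResidueField (p.Fiber B))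
    (p' : Ideal A') [p'.IsPrime] :
    Algebra.IsGeometricallyReduced p'.ResidueField (p'.Fiber B') := by
  apply isGeometricallyReduced_of_forall_finite
  intro k' _ _ hfin
  obtain ⟨alg, hfin', ⟨e⟩⟩ := exists_fibre_equiv_of_surjectiveOnStalks A B A' B' hs p' k' hfin
  have := h (p'.under A)
  have halg : Algebra.IsAlgebraic (p'.under A).ResidueField k' := Algebra.IsAlgebraic.of_finite _ _
  have : IsReduced (k' ⊗[(p'.under A).ResidueField] (p'.under A).Fiber B) := inferInstance
  exact isReduced_of_injective e.toRingHom e.injective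

include hpo in
theorem isCM_fibres_of_isPushout (hs : (algebraMap A A').SurjectiveOnStalks)
    (h : ∀ (p : Ideal A) [p.IsPrime], LocCoh.IsCohenMacaulayRing (p.Fiber B))
    (p' : Ideal A') [p'.IsPrime] : LocCoh.IsCohenMacaulayRing (p'.Fiber B') := by
  obtain ⟨e⟩ := nonempty_fiber_equiv_of_surjectiveOnStalks A B A' B' hs p'
  exact isCohenMacaulayRing_of_ringEquiv e.symm (h (p'.under A))

end HomPushout

end Groth.Agent.Lib.Helper56
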