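import Groth.Agent.Lib.Helper56.FlatRk

set_option autoImplicit false
universe u v w

namespace Groth.Agent.Lib.Helper56

open LocCoh RingTheory.Sequence IsLocalRing
open scoped Pointwise

section SpanFinrank

theorem spanFinrank_le_add_of_le {S : Type*} [CommRing S] (I J : Ideal S) (hIJ : I ≤ J)
    (hI : I.FG) (hJ : (J.map (Ideal.Quotient.mk I)).FG) :
    J.spanFinrank ≤ I.spanFinrank + (J.map (Ideal.Quotient.mk I)).spanFinrank := by
  classical
  obtain ⟨s, hs1, hs2⟩ := Submodule.FG.exists_span_finset_card_eq_spanFinrank hI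
  obtain ⟨sb, hsb1, hsb2⟩ := Submodule.FG.exists_span_finset_card_eq_spanFinrank hJ
  let g : S ⧸ I → S := Function.surjInv Ideal.Quotient.mk_surjective
  have hg : ∀ x, Ideal.Quotient.mk I (g x) = x := Function.surjInv_eq Ideal.Quotient.mk_surjective
  let u : Finset S := sb.image g
  have hu : (Ideal.span (u : Set S)).map (Ideal.Quotient.mk I) = J.map (Ideal.Quotient.mk I) := by
    rw [Ideal.map_span, ← hsb2]
    congr 1
    ext x
    simp only [u, Finset.coe_image, Set.mem_image, Finset.mem_coe]
    constructor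
    · rintro ⟨y, ⟨z, hz, rfl⟩, rfl⟩
      rw [hg]
      exact hz
    · intro hx
      exact ⟨g x, ⟨x, hx, rfl⟩, hg x⟩
  have hJeq : J = Ideal.span ((s ∪ u : Finset S) : Set S) := by
    rw [Finset.coe_union, Ideal.span_union]
    have hs2' : Ideal.span (s : Set S) = I := hs2
    rw [hs2']
    apply le_antisymm
    · intro y hy
      have h1 : Ideal.Quotient.mk I y ∈ (Ideal.span (u : Set S)).map (Ideal.Quotient.mk I) := by
        rw [hu]
        exact Ideal.mem_map_of_mem _ hy
      rw [Ideal.mem_map_iff_of_surjective _ Ideal.Quotient.mk_surjective] at h1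
      obtain ⟨z, hz, hzy⟩ := h1
      have h2 : y - z ∈ I := by
        rw [← Ideal.Quotient.eq_zero_iff_mem, map_sub, hzy, sub_self]
      have : y = (y - z) + z := by ring
      rw [this]
      exact Ideal.add_mem _ (Ideal.mem_sup_left h2) (Ideal.mem_sup_right hz)
    · refine sup_le hIJ ?_
      rw [Ideal.span_le]
      intro x hx
      simp only [u, Finset.coe_image, Set.mem_image, Finset.mem_coe] at hx
      obtain ⟨z, hz, rfl⟩ := hx
      have h1 : z ∈ J.map (Ideal.Quotient.mk I) := by
        rw [← hsb2]
        exact Submodule.subset_span hz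
      rw [← hg z, Ideal.mem_quotient_iff_mem hIJ] at h1
      exact h1
  have h3 : J.spanFinrank ≤ (s ∪ u).card := by
    conv_lhs => rw [hJeq]
    have := Submodule.spanFinrank_span_le_ncard_of_finite (R := S) (Finset.finite_toSet (s ∪ u))
    rw [Set.ncard_coe_finset] at this
    exact this
  calc J.spanFinrank ≤ (s ∪ u).card := h3
    _ ≤ s.card + u.card := Finset.card_union_le _ _
    _ ≤ s.card + sb.card := by gcongr; exact Finset.card_image_le
    _ = _ := by rw [hs1, hsb1]

end SpanFinrank

section FibreRegular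

theorem map_quotientMk_maximalIdeal {S : Type*} [CommRing S] [IsLocalRing S] (I : Ideal S)
    [IsLocalRing (S ⧸ I)] :
    (maximalIdeal S).map (Ideal.Quotient.mk I) = maximalIdeal (S ⧸ I) := by
  apply le_antisymm
  · have : IsLocalHom (Ideal.Quotient.mk I) :=
      Function.Surjective.isLocalHom _ Ideal.Quotient.mk_surjective
    exact IsLocalRing.map_maximalIdeal_le (Ideal.Quotient.mk I)
  · intro x hx
    obtain ⟨y, rfl⟩ := Ideal.Quotient.mk_surjective x
    apply Ideal.mem_map_of_mem
    rw [mem_maximalIdeal, mem_nonunits_iff] at hx ⊢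
    exact fun h => hx (h.map _)

theorem regular_of_flat_of_fibre_regular (R S : Type u) [CommRing R] [CommRing S]
    [IsRegularLocalRing R] [IsLocalRing S] [IsNoetherianRing S] [Algebra R S]
    [IsLocalHom (algebraMap R S)] [Module.Flat R S]
    (h : IsRegularLocalRing (S ⧸ (maximalIdeal R).map (algebraMap R S))) :
    IsRegularLocalRing S := by
  apply IsRegularLocalRing.of_spanFinrank_maximalIdeal_le
  set I := (maximalIdeal R).map (algebraMap R S) with hI
  have hIle : I ≤ maximalIdeal S := IsLocalRing.map_maximalIdeal_le (algebraMap R S)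
  have hmap : (maximalIdeal S).map (Ideal.Quotient.mk I) = maximalIdeal (S ⧸ I) :=
    map_quotientMk_maximalIdeal I
  have h1 := spanFinrank_le_add_of_le I (maximalIdeal S) hIle (IsNoetherian.noetherian _)
    (IsNoetherian.noetherian _)
  have h2 : I.spanFinrank ≤ (maximalIdeal R).spanFinrank :=
    Ideal.spanFinrank_map_le_of_fg _ (IsNoetherian.noetherian _)
  have h3 : ((maximalIdeal R).spanFinrank : WithBot ℕ∞) = ringKrullDim R :=
    IsRegularLocalRing.spanFinrank_maximalIdeal
  have h4 : ((maximalIdeal (S ⧸ I)).spanFinrank : WithBot ℕ∞) = ringKrullDim (S ⧸ I) :=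
    IsRegularLocalRing.spanFinrank_maximalIdeal
  have hlo : (maximalIdeal S).LiesOver (maximalIdeal R) :=
    ⟨(maximalIdeal_comap (algebraMap R S)).symm⟩
  have h5 := Ideal.height_eq_height_add_of_liesOver_of_hasGoingDown (maximalIdeal R)
    (maximalIdeal S)
  rw [hmap] at h1 h5
  have h6 : ringKrullDim S = ringKrullDim R + ringKrullDim (S ⧸ I) := by
    rw [← IsLocalRing.maximalIdeal_height_eq_ringKrullDim,
      ← IsLocalRing.maximalIdeal_height_eq_ringKrullDim,
      ← IsLocalRing.maximalIdeal_height_eq_ringKrullDim, h5]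
    rfl
  rw [h6, ← h3, ← h4]
  have : (maximalIdeal S).spanFinrank ≤
      (maximalIdeal R).spanFinrank + (maximalIdeal (S ⧸ I)).spanFinrank :=
    le_trans h1 (by gcongr)
  exact_mod_cast this

end FibreRegular

end Groth.Agent.Lib.Helper56
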