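import Groth.Agent.Lib.Helper56.Serre3
import Groth.Agent.Lib.Helper67.CM
import Groth.Prelude.Def_Found
import Mathlib.RingTheory.Filtration
import Mathlib.RingTheory.Localization.Ideal
import Mathlib.Order.KrullDimension

set_option autoImplicit false
universe u v w

namespace Groth.Agent.Lib.Helper56

open LocCoh RingTheory.Sequence IsLocalRing
open scoped Pointwise

section QuotLoc

variable {A : Type u} [CommRing A]

theorem algebraMapSubmonoid_quotient_primeCompl (I p : Ideal A) [p.IsPrime] (hIp : I ≤ p)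
    [(p.map (Ideal.Quotient.mk I)).IsPrime] :
    Algebra.algebraMapSubmonoid (A ⧸ I) p.primeCompl =
      (p.map (Ideal.Quotient.mk I)).primeCompl := by
  ext x
  obtain ⟨x, rfl⟩ := Ideal.Quotient.mk_surjective x
  rw [Ideal.mem_primeCompl_iff, Ideal.mem_quotient_iff_mem hIp]
  constructor
  · rintro ⟨y, hy, hxy⟩ hx
    have h1 : Ideal.Quotient.mk I y = Ideal.Quotient.mk I x := hxy
    have : Ideal.Quotient.mk I y ∈ p.map (Ideal.Quotient.mk I) := by
      rw [h1, Ideal.mem_quotient_iff_mem hIp]
      exact hx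
    rw [Ideal.mem_quotient_iff_mem hIp] at this
    exact hy this
  · intro hx
    exact ⟨x, hx, rfl⟩

theorem nonempty_quotLocEquiv (I p : Ideal A) [p.IsPrime] (hIp : I ≤ p)
    [(p.map (Ideal.Quotient.mk I)).IsPrime] :
    Nonempty ((Localization.AtPrime p ⧸ I.map (algebraMap A (Localization.AtPrime p))) ≃+*
      Localization.AtPrime (p.map (Ideal.Quotient.mk I))) := by
  have h1 : IsLocalization (Algebra.algebraMapSubmonoid (A ⧸ I) p.primeCompl)
      (Localization.AtPrime p ⧸ I.map (algebraMap A (Localization.AtPrime p))) := inferInstance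
  rw [algebraMapSubmonoid_quotient_primeCompl I p hIp] at h1
  exact ⟨(IsLocalization.algEquiv (p.map (Ideal.Quotient.mk I)).primeCompl _ _).toRingEquiv⟩

end QuotLoc

section DomainLift

theorem isDomain_of_quotient_span_singleton (A : Type u) [CommRing A] [IsNoetherianRing A]
    [IsLocalRing A] (t : A) (hreg : t ∈ nonZeroDivisors A)
    [IsDomain (A ⧸ Ideal.span {t})] : IsDomain A := by
  have hprime : (Ideal.span {t}).IsPrime := (Ideal.Quotient.isDomain_iff_prime _).mp inferInstance
  have hne : Ideal.span {t} ≠ ⊤ := hprime.ne_top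
  have hK := Ideal.iInf_pow_eq_bot_of_isLocalRing (Ideal.span {t}) hne
  have key : ∀ a : A, a ≠ 0 → ∃ (n : ℕ) (a' : A), a = t ^ n * a' ∧ a' ∉ Ideal.span {t} := by
    intro a ha
    have h1 : ∃ i, a ∉ Ideal.span {t} ^ i := by
      by_contra hcon
      push Not at hcon
      have : a ∈ ⨅ i, Ideal.span {t} ^ i := (Submodule.mem_iInf _).mpr hcon
      rw [hK] at this
      exact ha ((Submodule.mem_bot A).mp this)
    classical
    have hfind := Nat.find_spec h1
    rcases Nat.eq_zero_or_pos (Nat.find h1) with h0 | hpos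
    · rw [h0, pow_zero, Ideal.one_eq_top] at hfind
      exact absurd Submodule.mem_top hfind
    · obtain ⟨n, hn⟩ : ∃ n, Nat.find h1 = n + 1 := ⟨Nat.find h1 - 1, by omega⟩
      have hmem : a ∈ Ideal.span {t} ^ n := by
        by_contra hcon
        exact Nat.find_min h1 (by omega : n < Nat.find h1) hcon
      rw [Ideal.span_singleton_pow, Ideal.mem_span_singleton'] at hmem
      obtain ⟨a', ha'⟩ := hmem
      refine ⟨n, a', by rw [← ha', mul_comm], fun hmem' => hfind ?_⟩
      rw [hn, Ideal.span_singleton_pow, Ideal.mem_span_singleton']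
      obtain ⟨b, hb⟩ := Ideal.mem_span_singleton'.mp hmem'
      exact ⟨b, by rw [← ha', ← hb, pow_succ]; ring⟩
  have : NoZeroDivisors A := ⟨fun {a b} hab => by
    by_contra hcon
    push Not at hcon
    obtain ⟨n, a', rfl, ha'⟩ := key a hcon.1
    obtain ⟨m, b', rfl, hb'⟩ := key b hcon.2
    have h1 : t ^ (n + m) * (a' * b') = 0 := by
      rw [← hab, pow_add]
      ring
    have hpow : t ^ (n + m) ∈ nonZeroDivisors A := pow_mem hreg _
    have h2 : a' * b' = 0 := (mem_nonZeroDivisors_iff.mp hpow).1 _ h1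
    have h3 : a' * b' ∈ Ideal.span {t} := by
      rw [h2]
      exact Ideal.zero_mem _
    rcases hprime.mem_or_mem h3 with h | h
    · exact ha' h
    · exact hb' h⟩
  exact NoZeroDivisors.to_isDomain A

end DomainLift

section NormalLoc

theorem normal_localizations (B : Type u) [CommRing B] [IsDomain B] [IsIntegrallyClosed B]
    (P : Ideal B) [P.IsPrime] :
    IsDomain (Localization.AtPrime P) ∧ IsIntegrallyClosed (Localization.AtPrime P) :=
  ⟨inferInstance, isIntegrallyClosed_of_isLocalization _ P.primeCompl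
    P.primeCompl_le_nonZeroDivisors⟩

end NormalLoc

section Swap

theorem isSMulRegular_swap {A : Type u} [CommRing A] [IsNoetherianRing A] [IsLocalRing A]
    {t x : A} (ht : t ∈ maximalIdeal A) (hx : x ∈ maximalIdeal A) (h1 : IsSMulRegular A t)
    (h2 : IsSMulRegular (QuotSMulTop t A) x) :
    IsSMulRegular A x ∧ IsSMulRegular (QuotSMulTop x A) t := by
  have hw : IsWeaklyRegular A [t, x] := by
    rw [isWeaklyRegular_cons_iff, isWeaklyRegular_singleton_iff]
    exact ⟨h1, h2⟩
  have hw' : IsWeaklyRegular A [x, t] :=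
    IsLocalRing.isWeaklyRegular_of_perm_of_subset_maximalIdeal hw (List.Perm.swap x t [])
      (by
        intro r hr
        simp only [List.mem_cons, List.not_mem_nil, or_false] at hr
        rcases hr with rfl | rfl <;> assumption)
  rw [isWeaklyRegular_cons_iff, isWeaklyRegular_singleton_iff] at hw'
  exact hw'

end Swap

section AssQuot

variable {A : Type u} [CommRing A]

theorem self_mem_of_mem_ass_quotSMulTop' [IsNoetherianRing A] (s : A) (M : Type v)
    [AddCommGroup M] [Module A M] (P : Ideal A)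
    (hP : P ∈ associatedPrimes A (QuotSMulTop s M)) : s ∈ P := by
  obtain ⟨_, x, hx⟩ := (isAssociatedPrime_iff).mp hP
  rw [hx, Submodule.mem_colon_singleton, Submodule.mem_bot]
  obtain ⟨y, rfl⟩ := Submodule.Quotient.mk_surjective _ x
  rw [← Submodule.Quotient.mk_smul, Submodule.Quotient.mk_eq_zero]
  exact Submodule.smul_mem_pointwise_smul _ _ _ Submodule.mem_top

theorem mk_mk_eq_zero_iff (t x a : A) :
    (Submodule.Quotient.mk (Submodule.Quotient.mk a : QuotSMulTop x A) :
      QuotSMulTop t (QuotSMulTop x A)) = 0 ↔ ∃ d e : A, a = t * d + x * e := by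
  rw [Submodule.Quotient.mk_eq_zero, Submodule.mem_smul_pointwise_iff_exists]
  constructor
  · rintro ⟨m, -, hm⟩
    obtain ⟨d, rfl⟩ := Submodule.Quotient.mk_surjective _ m
    rw [← Submodule.Quotient.mk_smul, Submodule.Quotient.eq,
      Submodule.mem_smul_pointwise_iff_exists] at hm
    obtain ⟨e, -, he⟩ := hm
    refine ⟨d, -e, ?_⟩
    simp only [smul_eq_mul] at he
    linear_combination he
  · rintro ⟨d, e, rfl⟩
    refine ⟨Submodule.Quotient.mk d, Submodule.mem_top, ?_⟩
    rw [← Submodule.Quotient.mk_smul, Submodule.Quotient.eq,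
      Submodule.mem_smul_pointwise_iff_exists]
    exact ⟨-e, Submodule.mem_top, by simp only [smul_eq_mul]; ring⟩

theorem mk_quot_eq_zero_iff (t x a : A) :
    (Submodule.Quotient.mk (Ideal.Quotient.mk (Ideal.span {t}) a) :
      QuotSMulTop (Ideal.Quotient.mk (Ideal.span {t}) x) (A ⧸ Ideal.span {t})) = 0 ↔
      ∃ d e : A, a = t * d + x * e := by
  rw [Submodule.Quotient.mk_eq_zero, Submodule.mem_smul_pointwise_iff_exists]
  constructor
  · rintro ⟨m, -, hm⟩
    obtain ⟨e, rfl⟩ := Ideal.Quotient.mk_surjective m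
    rw [smul_eq_mul, ← map_mul, Ideal.Quotient.eq, Ideal.mem_span_singleton'] at hm
    obtain ⟨d, hd⟩ := hm
    refine ⟨-d, e, ?_⟩
    linear_combination hd
  · rintro ⟨d, e, rfl⟩
    refine ⟨Ideal.Quotient.mk _ e, Submodule.mem_top, ?_⟩
    rw [smul_eq_mul, ← map_mul, Ideal.Quotient.eq, Ideal.mem_span_singleton']
    exact ⟨-d, by ring⟩

theorem map_mem_ass_quotient [IsNoetherianRing A] (t x : A) (P : Ideal A)
    (hP : P ∈ associatedPrimes A (QuotSMulTop t (QuotSMulTop x A))) :
    P.map (Ideal.Quotient.mk (Ideal.span {t})) ∈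
      associatedPrimes (A ⧸ Ideal.span {t})
        (QuotSMulTop (Ideal.Quotient.mk (Ideal.span {t}) x) (A ⧸ Ideal.span {t})) := by
  have htP : t ∈ P := self_mem_of_mem_ass_quotSMulTop' t _ P hP
  have hle : Ideal.span {t} ≤ P := (Ideal.span_singleton_le_iff_mem P).mpr htP
  obtain ⟨hPp, n, hn⟩ := (isAssociatedPrime_iff).mp hP
  obtain ⟨n', rfl⟩ := Submodule.Quotient.mk_surjective _ n
  obtain ⟨c, rfl⟩ := Submodule.Quotient.mk_surjective _ n'
  have hmem : ∀ r : A, r ∈ P ↔ ∃ d e : A, r * c = t * d + x * e := by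
    intro r
    rw [hn, Submodule.mem_colon_singleton, Submodule.mem_bot, ← Submodule.Quotient.mk_smul,
      ← Submodule.Quotient.mk_smul, mk_mk_eq_zero_iff, smul_eq_mul]
  refine (isAssociatedPrime_iff).mpr ⟨Ideal.isPrime_map_quotientMk_of_isPrime hle,
    Submodule.Quotient.mk (Ideal.Quotient.mk _ c), ?_⟩
  ext r
  obtain ⟨r, rfl⟩ := Ideal.Quotient.mk_surjective r
  rw [Ideal.mem_quotient_iff_mem hle, hmem, Submodule.mem_colon_singleton, Submodule.mem_bot,
    ← Submodule.Quotient.mk_smul, smul_eq_mul, ← map_mul, mk_quot_eq_zero_iff]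

end AssQuot

section Catenary

theorem height_eq_length_of_saturated {A : Type u} [CommRing A] [IsDomain A] [IsNoetherianRing A]
    (hcat : CAlg.IsCatenary A) (s : LTSeries (PrimeSpectrum A)) (hhead : s.head = ⊥)
    (hsat : ∀ i : Fin s.length, s i.castSucc ⋖ s i.succ) :
    s.last.asIdeal.height = s.length := by
  obtain ⟨l, hl_last, hl_len⟩ := s.last.asIdeal.exists_ltSeries_length_eq_height
  have hl_last' : l.last = s.last := hl_last
  have hlen' : (l.length : ℕ∞) = Order.height l.last := by
    rw [hl_last', ← PrimeSpectrum.height_eq_orderHeight]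
    exact hl_len
  have hidx := fun i => Order.height_eq_index_of_length_eq_height_last hlen' i
  have hl_head : l.head = ⊥ := by
    have h0 := hidx 0
    simp only [Fin.val_zero, Nat.cast_zero] at h0
    exact (Order.height_eq_zero.mp h0).eq_bot
  have hl_sat : ∀ i : Fin l.length, l i.castSucc ⋖ l i.succ := by
    intro i
    refine ⟨l.strictMono (Fin.castSucc_lt_succ), fun c hc1 hc2 => ?_⟩
    have h1 := Order.height_add_one_le hc1
    have h2 := Order.height_add_one_le hc2
    rw [hidx] at h1 h2
    have h3 : ((i.castSucc : ℕ) : ℕ∞) + 1 + 1 ≤ ((i.succ : ℕ) : ℕ∞) :=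
      le_trans (by gcongr) h2
    simp only [Fin.val_castSucc, Fin.val_succ] at h3
    have : (i : ℕ) + 1 + 1 ≤ (i : ℕ) + 1 := by exact_mod_cast h3
    omega
  have := hcat.2 l s (by rw [hl_head, hhead]) hl_last' hl_sat hsat
  rw [← hl_len, this]

theorem height_eq_two_of_covBy {A : Type u} [CommRing A] [IsDomain A] [IsNoetherianRing A]
    (hcat : CAlg.IsCatenary A) (Q P : PrimeSpectrum A) (hQ : ⊥ ⋖ Q) (hQP : Q ⋖ P) :
    P.asIdeal.height = 2 := by
  let s : LTSeries (PrimeSpectrum A) := LTSeries.mk 2 ![⊥, Q, P] (by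
    rw [Fin.strictMono_iff_lt_succ]
    intro i
    fin_cases i
    · exact hQ.lt
    · exact hQP.lt)
  have h := height_eq_length_of_saturated hcat s rfl (by
    intro i
    fin_cases i
    · exact hQ
    · exact hQP)
  exact h

end Catenary

end Groth.Agent.Lib.Helper56
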