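import Mathlib

set_option autoImplicit false
set_option linter.style.haveILetI false
set_option linter.unusedSectionVars false
universe u
open CategoryTheory Abelian IsLocalRing

namespace Groth.Agent.Lib.Helper56.S18639L1

theorem ext_step {R : Type u} [CommRing R] (M : Submonoid R)
    {S : ShortComplex (ModuleCat.{u} R)} (hS : S.ShortExact) (T : ModuleCat.{u} R) (j : ℕ)
    (hj : Subsingleton (Ext.{u} T S.X₂ (j + 1)))
    (P : ∀ y : Ext.{u} T S.X₁ (j + 2), ∃ s ∈ M, s • y = 0) :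
    ∀ x : Ext.{u} T S.X₃ (j + 1), ∃ s ∈ M, s • x = 0 := by
  intro x
  obtain ⟨s, hs, hsy⟩ := P (x.comp hS.extClass rfl)
  refine ⟨s, hs, ?_⟩
  have h1 : (s • x).comp hS.extClass (rfl : j + 1 + 1 = j + 2) = 0 := by
    rw [Ext.smul_comp]
    exact hsy
  obtain ⟨x₂, hx₂⟩ := Ext.covariant_sequence_exact₃ T hS (s • x) rfl h1
  rw [← hx₂, Subsingleton.elim x₂ 0, Ext.zero_comp]

end Groth.Agent.Lib.Helper56.S18639L1
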