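import Groth.Agent.Lib.Helper56.SkQuot
import Groth.Agent.S0602

set_option autoImplicit false
universe u v w

namespace Groth.Agent.Lib.Helper56

open LocCoh RingTheory.Sequence IsLocalRing
open scoped Pointwise

section HeightCoheight

variable {A : Type u} [CommRing A] [IsNoetherianRing A] [IsLocalRing A]

theorem coheight_add_height_eq (hcat : CAlg.IsCatenary A) (heq : EGA4.IsEquidim A) :
    ∀ (n : ℕ) (q : PrimeSpectrum A), Order.height q = n →
      ((Order.coheight q + n : ℕ∞) : WithBot ℕ∞) = ringKrullDim A := by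
  intro n
  induction n with
  | zero =>
    intro q hq
    have hmin : q.asIdeal ∈ minimalPrimes A :=
      PrimeSpectrum.isMin_iff.mp (Order.height_eq_zero.mp (by simpa using hq))
    rw [Nat.cast_zero, add_zero, coheight_eq_ringKrullDim_quotient, heq _ hmin]
  | succ n ih =>
    intro q hq
    have hfin : Order.height q < ⊤ := by rw [hq]; exact ENat.natCast_lt_top _
    have hlt : (n : ℕ∞) < Order.height q := by
      rw [hq]
      exact_mod_cast Nat.lt_succ_self n
    obtain ⟨p, hpq, hp⟩ := (Order.coe_lt_height_iff hfin).mp hlt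
    have hcov : p ⋖ q := by
      refine ⟨hpq, fun c hc1 hc2 => ?_⟩
      have h1 := Order.height_add_one_le hc1
      have h2 := Order.height_add_one_le hc2
      rw [hp] at h1
      rw [hq] at h2
      have h3 : ((n : ℕ∞) + 1) + 1 ≤ ((n + 1 : ℕ) : ℕ∞) := le_trans (by gcongr) h2
      have h4 : n + 1 + 1 ≤ n + 1 := by exact_mod_cast h3
      omega
    have h5 := coheight_eq_add_one_of_covBy hcat p q hcov
    have h6 := ih p hp
    rw [← h6, h5]
    congr 1
    push_cast
    rw [add_assoc, add_comm (1 : ℕ∞) (n : ℕ∞)]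

theorem height_eq_add_one_of_covBy (hcat : CAlg.IsCatenary A) (heq : EGA4.IsEquidim A)
    (p q : PrimeSpectrum A) (h : p ⋖ q) : q.asIdeal.height = p.asIdeal.height + 1 := by
  have hp : p.asIdeal.height ≠ ⊤ := Ideal.height_ne_top p.2.ne_top
  have hq : q.asIdeal.height ≠ ⊤ := Ideal.height_ne_top q.2.ne_top
  obtain ⟨a, ha⟩ := ENat.ne_top_iff_exists.mp hp
  obtain ⟨b, hb⟩ := ENat.ne_top_iff_exists.mp hq
  obtain ⟨c, hc⟩ := ENat.ne_top_iff_exists.mp (Order.coheight_lt_top q).ne
  have h1 := coheight_add_height_eq hcat heq a p (by rw [← PrimeSpectrum.height_eq_orderHeight, ha])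
  have h2 := coheight_add_height_eq hcat heq b q (by rw [← PrimeSpectrum.height_eq_orderHeight, hb])
  have h3 := coheight_eq_add_one_of_covBy hcat p q h
  rw [h3, ← hc] at h1
  rw [← hc, ← h1] at h2
  have h4 : ((c : ℕ∞) + (b : ℕ∞)) = (c : ℕ∞) + 1 + (a : ℕ∞) := WithBot.coe_injective h2
  have h5 : c + b = c + 1 + a := by exact_mod_cast h4
  rw [← ha, ← hb]
  have : b = a + 1 := by omega
  rw [this]
  push_cast
  rfl

end HeightCoheight

section RkLift

theorem isRegularLocalRing_atPrime_of_quotient_hasRk (A : Type u) [CommRing A]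
    [IsNoetherianRing A] (t : A) (hreg : t ∈ nonZeroDivisors A) (k : ℕ)
    (hR : HasRk k (A ⧸ Ideal.span {t})) (p : Ideal A) [p.IsPrime] (htp : t ∈ p)
    (hp : p.height ≤ k + 1) : IsRegularLocalRing (Localization.AtPrime p) := by
  have hle : Ideal.span {t} ≤ p := (Ideal.span_singleton_le_iff_mem p).mpr htp
  have hpbar : (p.map (Ideal.Quotient.mk (Ideal.span {t}))).IsPrime :=
    Ideal.isPrime_map_quotientMk_of_isPrime hle
  obtain ⟨e⟩ := nonempty_quotLocEquiv (Ideal.span {t}) p hle
  have hmap : (Ideal.span {t}).map (algebraMap A (Localization.AtPrime p)) =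
      Ideal.span {algebraMap A (Localization.AtPrime p) t} := by
    rw [Ideal.map_span, Set.image_singleton]
  have htB_mem : algebraMap A (Localization.AtPrime p) t ∈
      maximalIdeal (Localization.AtPrime p) :=
    (IsLocalization.AtPrime.to_map_mem_maximal_iff (Localization.AtPrime p) p t).mpr htp
  have htB_reg : algebraMap A (Localization.AtPrime p) t ∈
      nonZeroDivisors (Localization.AtPrime p) :=
    IsLocalization.map_nonZeroDivisors_le p.primeCompl _ (Submonoid.mem_map_of_mem _ hreg)
  have hdim := ringKrullDim_quotient_span_singleton_succ_eq_ringKrullDim_of_mem_nonZeroDivisors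
    htB_reg htB_mem
  have hdimB := IsLocalization.AtPrime.ringKrullDim_eq_height p (Localization.AtPrime p)
  let e' : (Localization.AtPrime p ⧸ Ideal.span {algebraMap A (Localization.AtPrime p) t}) ≃+*
      Localization.AtPrime (p.map (Ideal.Quotient.mk (Ideal.span {t}))) :=
    (Ideal.quotEquivOfEq hmap.symm).trans e
  have hdim' : ringKrullDim
      (Localization.AtPrime p ⧸ Ideal.span {algebraMap A (Localization.AtPrime p) t}) =
      (p.map (Ideal.Quotient.mk (Ideal.span {t}))).height := by
    rw [ringKrullDim_eq_of_ringEquiv e', IsLocalization.AtPrime.ringKrullDim_eq_height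
      (p.map (Ideal.Quotient.mk (Ideal.span {t})))]
  have hpbar_ht : (p.map (Ideal.Quotient.mk (Ideal.span {t}))).height ≤ k := by
    have h1 : (((p.map (Ideal.Quotient.mk (Ideal.span {t}))).height : ℕ∞) : WithBot ℕ∞) + 1 ≤
        ((k : ℕ∞) : WithBot ℕ∞) + 1 := by
      rw [← hdim', hdim, hdimB]
      have : ((p.height : ℕ∞) : WithBot ℕ∞) ≤ ((k + 1 : ℕ∞) : WithBot ℕ∞) :=
        WithBot.coe_le_coe.mpr hp
      exact this
    have := Helper67.withBot_enat_le_of_add_one_le h1
    exact_mod_cast this
  have hreg1 : IsRegularLocalRing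
      (Localization.AtPrime (p.map (Ideal.Quotient.mk (Ideal.span {t})))) := hR _ hpbar_ht
  have hreg2 : IsRegularLocalRing
      (Localization.AtPrime p ⧸ Ideal.span {algebraMap A (Localization.AtPrime p) t}) :=
    IsRegularLocalRing.of_ringEquiv e'.symm
  exact Groth.Agent.S0560.result _ _ htB_mem htB_reg

variable {A : Type u} [CommRing A] [IsNoetherianRing A] [IsLocalRing A]

theorem hasRk_of_quotient (hcat : CAlg.IsCatenary A) (heq : EGA4.IsEquidim A) (t : A)
    (ht : t ∈ maximalIdeal A) (hreg : t ∈ nonZeroDivisors A) (k : ℕ)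
    (hR : HasRk k (A ⧸ Ideal.span {t})) : HasRk k A := by
  intro q hq hqk
  by_cases htq : t ∈ q
  · exact isRegularLocalRing_atPrime_of_quotient_hasRk A t hreg k hR q htq
      (le_trans hqk le_self_add)
  · have hne : q ⊔ Ideal.span {t} ≠ ⊤ := by
      intro h
      have hle : q ⊔ Ideal.span {t} ≤ maximalIdeal A :=
        sup_le (IsLocalRing.le_maximalIdeal hq.ne_top)
          ((Ideal.span_singleton_le_iff_mem _).mpr ht)
      rw [h] at hle
      exact (maximalIdeal.isMaximal A).ne_top (top_le_iff.mp hle)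
    obtain ⟨p, hp⟩ := Ideal.nonempty_minimalPrimes hne
    have hpp : p.IsPrime := hp.1.1
    have hqp : q ≤ p := le_trans le_sup_left hp.1.2
    have htp : t ∈ p := hp.1.2 (Ideal.mem_sup_right (Ideal.mem_span_singleton_self t))
    have hcov := covBy_of_mem_minimalPrimes_sup q p t htq hp
    have hht := height_eq_add_one_of_covBy hcat heq _ _ hcov
    simp only at hht
    have hp2 : p.height ≤ k + 1 := by
      rw [hht]
      gcongr
    have := isRegularLocalRing_atPrime_of_quotient_hasRk A t hreg k hR p htp hp2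
    exact isRegularLocalRing_atPrime_of_le p q hqp

end RkLift

section EquidimTransfer

variable {A : Type u} [CommRing A]

theorem isEquidimModule_quotSMulTop_self (t : A) (heq : EGA4.IsEquidim (A ⧸ Ideal.span {t})) :
    EGA4.IsEquidimModule A (QuotSMulTop t A) := by
  have hI : (t • (⊤ : Submodule A A)) = Ideal.span {t} := by
    simp [← Submodule.ideal_span_singleton_smul]
  have hann : Module.annihilator A (QuotSMulTop t A) = Ideal.span {t} := by
    rw [← hI]
    exact Ideal.annihilator_quotient
  intro P hP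
  rw [hann] at hP
  have hdim : Module.supportDim A (QuotSMulTop t A) = ringKrullDim (A ⧸ Ideal.span {t}) := by
    have h1 : Module.supportDim A (QuotSMulTop t A) =
        ringKrullDim (A ⧸ (t • (⊤ : Submodule A A) : Ideal A)) :=
      Module.supportDim_quotient_eq_ringKrullDim _
    rw [h1]
    exact ringKrullDim_eq_of_ringEquiv (Ideal.quotEquivOfEq hI)
  rw [hdim]
  have hker : RingHom.ker (Ideal.Quotient.mk (Ideal.span {t})) = Ideal.span {t} := Ideal.mk_ker
  have h2 := Ideal.comap_minimalPrimes_eq_of_surjective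
    (f := Ideal.Quotient.mk (Ideal.span {t})) Ideal.Quotient.mk_surjective ⊥
  rw [← RingHom.ker_eq_comap_bot, hker] at h2
  rw [h2] at hP
  obtain ⟨Pbar, hPbar, rfl⟩ := hP
  have hPbarp : Pbar.IsPrime := hPbar.1.1
  rw [← heq Pbar hPbar]
  let f := Ideal.quotientMap Pbar (Ideal.Quotient.mk (Ideal.span {t})) le_rfl
  have hf : Function.Bijective f :=
    ⟨Ideal.quotientMap_injective, Ideal.quotientMap_surjective Ideal.Quotient.mk_surjective⟩
  exact ringKrullDim_eq_of_ringEquiv (RingEquiv.ofBijective f hf)

theorem isEquidim_of_isEquidimModule_self (h : EGA4.IsEquidimModule A A) : EGA4.IsEquidim A := by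
  intro p hp
  have hann : Module.annihilator A A = ⊥ := Module.annihilator_eq_bot.mpr inferInstance
  have := h p (by rw [hann]; exact hp)
  rw [this, Module.supportDim_self_eq_ringKrullDim]

end EquidimTransfer

end Groth.Agent.Lib.Helper56
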