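import Groth.Agent.Lib.Helper67.Depth
import Mathlib.RingTheory.Regular.Flat
import Mathlib.RingTheory.Localization.BaseChange
import Mathlib.RingTheory.Localization.Finiteness
import Mathlib.RingTheory.KrullDimension.Regular
import Mathlib.RingTheory.Flat.Localization

set_option autoImplicit false
universe u v w

namespace Groth.Agent.Lib.Helper56

open LocCoh RingTheory.Sequence

section Congr

variable {R : Type u} [CommRing R]

theorem smul_top_eq_top_of_equiv (I : Ideal R) {M : Type v} {N : Type w} [AddCommGroup M]
    [Module R M] [AddCommGroup N] [Module R N] (e : M ≃ₗ[R] N)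
    (h : I • (⊤ : Submodule R M) = ⊤) : I • (⊤ : Submodule R N) = ⊤ := by
  have h2 := congrArg (Submodule.map e.toLinearMap) h
  rw [Submodule.map_smul'', Submodule.map_top, LinearEquiv.range] at h2
  exact h2

theorem smul_top_eq_top_congr (I : Ideal R) {M : Type v} {N : Type w} [AddCommGroup M]
    [Module R M] [AddCommGroup N] [Module R N] (e : M ≃ₗ[R] N) :
    I • (⊤ : Submodule R M) = ⊤ ↔ I • (⊤ : Submodule R N) = ⊤ :=
  ⟨smul_top_eq_top_of_equiv I e, smul_top_eq_top_of_equiv I e.symm⟩

theorem enat_eq_of_forall_natCast_le_iff {a b : ℕ∞}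
    (h : ∀ n : ℕ, (n : ℕ∞) ≤ a ↔ (n : ℕ∞) ≤ b) : a = b :=
  le_antisymm (ENat.forall_natCast_le_iff_le.mp fun n hn => (h n).mp hn)
    (ENat.forall_natCast_le_iff_le.mp fun n hn => (h n).mpr hn)

theorem idealDepth_congr (I : Ideal R) {M : Type v} {N : Type w} [AddCommGroup M]
    [Module R M] [AddCommGroup N] [Module R N] (e : M ≃ₗ[R] N) :
    idealDepth I M = idealDepth I N := by
  apply enat_eq_of_forall_natCast_le_iff
  intro n
  rw [Helper67.le_idealDepth_iff, Helper67.le_idealDepth_iff, smul_top_eq_top_congr I e]
  refine or_congr Iff.rfl (exists_congr fun rs => ?_)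
  rw [e.isWeaklyRegular_congr rs]

theorem depth_congr [IsLocalRing R] {M : Type v} {N : Type w} [AddCommGroup M]
    [Module R M] [AddCommGroup N] [Module R N] (e : M ≃ₗ[R] N) :
    depth R M = depth R N :=
  idealDepth_congr _ e

end Congr

section Loc

variable {A : Type u} [CommRing A]

noncomputable def locEquiv (S : Submonoid A) {M : Type v} {N : Type w} [AddCommGroup M]
    [Module A M] [AddCommGroup N] [Module A N] (e : M ≃ₗ[A] N) :
    LocalizedModule S M ≃ₗ[Localization S] LocalizedModule S N :=
  IsLocalizedModule.mapEquiv S (LocalizedModule.mkLinearMap S M)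
    (LocalizedModule.mkLinearMap S N) (Localization S) e

theorem hasSk_of_equiv {M : Type v} {N : Type w} [AddCommGroup M]
    [Module A M] [AddCommGroup N] [Module A N] (e : M ≃ₗ[A] N) (k : ℕ)
    (h : HasSk k A M) : HasSk k A N := by
  intro p _
  have h1 := h p
  rw [Module.supportDim_eq_of_equiv (locEquiv p.primeCompl e),
    depth_congr (locEquiv p.primeCompl e)] at h1
  exact h1

noncomputable def locQuotSMulTopEquiv (S : Submonoid A) (x : A) (M : Type v) [AddCommGroup M]
    [Module A M] :
    LocalizedModule S (QuotSMulTop x M) ≃ₗ[Localization S]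
      QuotSMulTop (algebraMap A (Localization S) x) (LocalizedModule S M) :=
  (LocalizedModule.equivTensorProduct S (QuotSMulTop x M)) ≪≫ₗ
    (QuotSMulTop.algebraMapTensorEquivTensorQuotSMulTop x M (Localization S)).symm ≪≫ₗ
      QuotSMulTop.congr _ (LocalizedModule.equivTensorProduct S M).symm

theorem isSMulRegular_localizedModule (S : Submonoid A) {x : A} {M : Type v} [AddCommGroup M]
    [Module A M] (h : IsSMulRegular M x) :
    IsSMulRegular (LocalizedModule S M) (algebraMap A (Localization S) x) :=
  IsSMulRegular.of_isLocalizedModule (Localization S) S (LocalizedModule.mkLinearMap S M) h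

theorem subsingleton_quotSMulTop_of_isUnit {R : Type u} [CommRing R] {x : R} (hx : IsUnit x)
    (M : Type v) [AddCommGroup M] [Module R M] : Subsingleton (QuotSMulTop x M) := by
  rw [Submodule.Quotient.subsingleton_iff]
  rw [eq_top_iff]
  intro m _
  obtain ⟨u, rfl⟩ := hx
  have : m = (u : R) • ((↑u⁻¹ : R) • m) := by
    rw [smul_smul, Units.mul_inv, one_smul]
  rw [this]
  exact Submodule.smul_mem_pointwise_smul _ _ _ Submodule.mem_top

end Loc

section Arith

theorem sk_arith (k : ℕ) (hk : 1 ≤ k) (δ : WithBot ℕ∞) (d : ℕ∞)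
    (h : min (k : WithBot ℕ∞) (δ + 1) ≤ ((d + 1 : ℕ∞) : WithBot ℕ∞)) :
    min ((k - 1 : ℕ) : WithBot ℕ∞) δ ≤ (d : WithBot ℕ∞) := by
  rw [min_le_iff] at h ⊢
  rcases h with h | h
  · left
    have h' : (k : ℕ∞) ≤ d + 1 := by
      have : ((k : ℕ∞) : WithBot ℕ∞) ≤ ((d + 1 : ℕ∞) : WithBot ℕ∞) := by simpa using h
      exact WithBot.coe_le_coe.mp this
    have goal' : ((k - 1 : ℕ) : ℕ∞) ≤ d := by
      induction d using ENat.recTopCoe with
      | top => exact le_top
      | coe d' =>
        have : k ≤ d' + 1 := by exact_mod_cast h'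
        have : k - 1 ≤ d' := by omega
        exact_mod_cast this
    have : (((k - 1 : ℕ) : ℕ∞) : WithBot ℕ∞) ≤ ((d : ℕ∞) : WithBot ℕ∞) :=
      WithBot.coe_le_coe.mpr goal'
    exact this
  · right
    induction δ using WithBot.recBotCoe with
    | bot => exact bot_le
    | coe e =>
      have h' : e + 1 ≤ d + 1 := by
        have : ((e + 1 : ℕ∞) : WithBot ℕ∞) ≤ ((d + 1 : ℕ∞) : WithBot ℕ∞) := by simpa using h
        exact WithBot.coe_le_coe.mp this
      exact WithBot.coe_le_coe.mpr ((ENat.add_le_add_iff_right ENat.one_ne_top).mp h')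

end Arith

section SkQuot

variable {A : Type u} [CommRing A] [IsNoetherianRing A]

theorem hasSk_quotSMulTop (k : ℕ) (hk : 1 ≤ k) (M : Type u) [AddCommGroup M] [Module A M]
    [Module.Finite A M] (hM : HasSk k A M) (x : A) (hx : IsSMulRegular M x) :
    HasSk (k - 1) A (QuotSMulTop x M) := by
  intro p _
  rw [Module.supportDim_eq_of_equiv (locQuotSMulTopEquiv p.primeCompl x M),
    depth_congr (locQuotSMulTopEquiv p.primeCompl x M)]
  by_cases hxp : x ∈ p
  · by_cases hnt : Nontrivial (LocalizedModule p.primeCompl M)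
    · have hx' : algebraMap A (Localization.AtPrime p) x ∈
          IsLocalRing.maximalIdeal (Localization.AtPrime p) :=
        (IsLocalization.AtPrime.to_map_mem_maximal_iff (Localization.AtPrime p) p x).mpr hxp
      have hreg := isSMulRegular_localizedModule p.primeCompl hx
      have h1 : depth (Localization.AtPrime p)
            (QuotSMulTop (algebraMap A (Localization.AtPrime p) x)
              (LocalizedModule p.primeCompl M)) + 1 =
          depth (Localization.AtPrime p) (LocalizedModule p.primeCompl M) :=
        Helper67.idealDepth_quotSMulTop_add_one _ _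
          (Helper67.maximalIdeal_smul_top_ne_top _) _ hx' hreg
      have h2 := Module.supportDim_quotSMulTop_succ_eq_supportDim hreg hx'
      have h3 := hM p
      rw [← h1, ← h2] at h3
      exact sk_arith k hk _ _ h3
    · rw [not_nontrivial_iff_subsingleton] at hnt
      have : Subsingleton (QuotSMulTop (algebraMap A (Localization.AtPrime p) x)
          (LocalizedModule p.primeCompl M)) :=
        Function.Surjective.subsingleton (Submodule.mkQ_surjective _)
      rw [Module.supportDim_eq_bot_of_subsingleton]
      simp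
  · have hu : IsUnit (algebraMap A (Localization.AtPrime p) x) :=
      IsLocalization.map_units (Localization.AtPrime p) (⟨x, hxp⟩ : p.primeCompl)
    have := subsingleton_quotSMulTop_of_isUnit hu (LocalizedModule p.primeCompl M)
    rw [Module.supportDim_eq_bot_of_subsingleton]
    simp

theorem hasSk_quot_ofList (k : ℕ) (M : Type u) [AddCommGroup M] [Module A M]
    [Module.Finite A M] (hM : HasSk k A M) (rs : List A) (hrs : IsWeaklyRegular M rs)
    (hr : rs.length ≤ k) :
    HasSk (k - rs.length) A (M ⧸ (Ideal.ofList rs • (⊤ : Submodule A M))) := by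
  induction rs generalizing M k with
  | nil =>
    have e : (M ⧸ (Ideal.ofList ([] : List A) • (⊤ : Submodule A M))) ≃ₗ[A] M :=
      Submodule.quotEquivOfEqBot _ (by simp)
    simpa using hasSk_of_equiv e.symm k hM
  | cons x rs ih =>
    rw [isWeaklyRegular_cons_iff] at hrs
    simp only [List.length_cons] at hr ⊢
    have h1 := hasSk_quotSMulTop k (by omega) M hM x hrs.1
    have h2 := ih (k - 1) (QuotSMulTop x M) h1 hrs.2 (by omega)
    have h3 := hasSk_of_equiv
      (Submodule.quotOfListConsSMulTopEquivQuotSMulTopInner M x rs).symm _ h2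
    have : k - (rs.length + 1) = k - 1 - rs.length := by omega
    rw [this]
    exact h3

end SkQuot

end Groth.Agent.Lib.Helper56
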