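import Groth.Agent.Lib.Helper56.CplQuot
import Groth.Agent.Lib.Helper56.HomPushout

set_option autoImplicit false
universe u

namespace Groth.Agent.Lib.Helper56

open IsLocalRing EGA4 TensorProduct

section FormalQuot

variable (A : Type u) [CommRing A] [IsNoetherianRing A] [IsLocalRing A] (I : Ideal A)
  [Nontrivial (A ⧸ I)]

omit [IsNoetherianRing A] [IsLocalRing A] [Nontrivial (A ⧸ I)] in
theorem surjectiveOnStalks_quotient : (algebraMap A (A ⧸ I)).SurjectiveOnStalks :=
  RingHom.surjectiveOnStalks_of_surjective Ideal.Quotient.mk_surjective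

theorem isRegularHom_cpl_quot (hA : CAlg.IsRegularHom A (Cpl A)) :
    CAlg.IsRegularHom (A ⧸ I) (Cpl (A ⧸ I)) := by
  let _ := cplAlgebra A (A ⧸ I)
  have := isScalarTower_cpl A (A ⧸ I)
  have := isScalarTower_cpl_base A (A ⧸ I)
  have := isPushout_cpl_quot A I
  exact isRegularHom_of_isPushout A (Cpl A) (A ⧸ I) (Cpl (A ⧸ I))
    (surjectiveOnStalks_quotient A I) hA

theorem hasGeomReducedFormalFibres_quot (hA : HasGeomReducedFormalFibres A) :
    HasGeomReducedFormalFibres (A ⧸ I) := by
  let _ := cplAlgebra A (A ⧸ I)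
  have := isScalarTower_cpl A (A ⧸ I)
  have := isScalarTower_cpl_base A (A ⧸ I)
  have := isPushout_cpl_quot A I
  intro q _
  exact isGeometricallyReduced_fibres_of_isPushout A (Cpl A) (A ⧸ I) (Cpl (A ⧸ I))
    (surjectiveOnStalks_quotient A I) (fun p _ => hA p) q

theorem hasGeomNormalFormalFibres_quot (hA : HasGeomNormalFormalFibres A) :
    HasGeomNormalFormalFibres (A ⧸ I) := by
  let _ := cplAlgebra A (A ⧸ I)
  have := isScalarTower_cpl A (A ⧸ I)
  have := isScalarTower_cpl_base A (A ⧸ I)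
  have := isPushout_cpl_quot A I
  intro q _
  exact isGeomNormal_fibres_of_isPushout A (Cpl A) (A ⧸ I) (Cpl (A ⧸ I))
    (surjectiveOnStalks_quotient A I) (fun p _ => hA p) q

theorem hasCMFormalFibres_quot (hA : HasCMFormalFibres A) :
    HasCMFormalFibres (A ⧸ I) := by
  let _ := cplAlgebra A (A ⧸ I)
  have := isScalarTower_cpl A (A ⧸ I)
  have := isScalarTower_cpl_base A (A ⧸ I)
  have := isPushout_cpl_quot A I
  intro q _
  exact isCM_fibres_of_isPushout A (Cpl A) (A ⧸ I) (Cpl (A ⧸ I))
    (surjectiveOnStalks_quotient A I) (fun p _ => hA p) q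

end FormalQuot

end Groth.Agent.Lib.Helper56
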