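import Groth.Agent.Lib.Helper56.ComplFlatOld
import Groth.Agent.Lib.Helper61.CompleteLE
import Groth.Prelude.Def_EGA4b

set_option autoImplicit false
set_option linter.style.haveILetI false
universe u

open TensorProduct

namespace Groth.Agent.Lib.Helper56

open Groth.Agent.Lib.Helper56.ComplFlatOld

section F

variable {B' B : Type u} [CommRing B'] [CommRing B]
  (I' : Ideal B') (I : Ideal B) (φ : B' →+* B)

theorem flat_complMap_of_le [IsNoetherianRing B'] [IsNoetherianRing B]
    (hφ : φ.Flat) (h : I'.map φ ≤ I) :
    (FSch.complMap I' I φ h).Flat := by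
  show (letI := (FSch.complMap I' I φ h).toAlgebra;
    Module.Flat (AdicCompletion I' B') (AdicCompletion I B))
  letI algRS : Algebra (AdicCompletion I' B') (AdicCompletion I B) :=
    (FSch.complMap I' I φ h).toAlgebra
  letI algB'B : Algebra B' B := φ.toAlgebra
  letI algB'S : Algebra B' (AdicCompletion I B) :=
    ((algebraMap B (AdicCompletion I B)).comp φ).toAlgebra
  haveI t1 : IsScalarTower B' B (AdicCompletion I B) :=
    IsScalarTower.of_algebraMap_eq (fun b => rfl)
  haveI t2 : IsScalarTower B' (AdicCompletion I' B') (AdicCompletion I B) :=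
    IsScalarTower.of_algebraMap_eq (fun b => (complMap_algebraMap I' I φ h b).symm)
  haveI : IsNoetherianRing (AdicCompletion I' B') := Groth.Agent.S0543.result B' I'
  haveI : IsNoetherianRing (AdicCompletion I B) := Groth.Agent.S0543.result B I
  haveI : Module.Flat B' B := hφ
  haveI : Module.Flat B' (AdicCompletion I B) := Module.Flat.trans B' B (AdicCompletion I B)
  have hfg' : I'.FG := IsNoetherian.noetherian I'
  have hfg : I.FG := IsNoetherian.noetherian I
  have h𝔞S : (I'.map (algebraMap B' (AdicCompletion I' B'))).map
      (algebraMap (AdicCompletion I' B') (AdicCompletion I B)) ≤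
      I.map (algebraMap B (AdicCompletion I B)) := by
    have e : (algebraMap (AdicCompletion I' B') (AdicCompletion I B)).comp
        (algebraMap B' (AdicCompletion I' B')) = (algebraMap B (AdicCompletion I B)).comp φ := by
      refine RingHom.ext (fun b => ?_)
      exact complMap_algebraMap I' I φ h b
    rw [Ideal.map_map, e, ← Ideal.map_map]
    exact Ideal.map_mono h
  haveI : IsAdicComplete (I.map (algebraMap B (AdicCompletion I B))) (AdicCompletion I B) :=
    AdicCompletion.isAdicComplete_self I hfg
  haveI : IsAdicComplete ((I'.map (algebraMap B' (AdicCompletion I' B'))).map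
      (algebraMap (AdicCompletion I' B') (AdicCompletion I B))) (AdicCompletion I B) :=
    Groth.Agent.Lib.Helper61.CompleteLE.isAdicComplete_of_le _ _ h𝔞S (IsNoetherian.noetherian _)
  rw [Groth.Agent.S14002.result (AdicCompletion I' B') (AdicCompletion I B)
    (I'.map (algebraMap B' (AdicCompletion I' B')))]
  intro n hn
  exact flat_quotient_tensor (B' := B') (R := AdicCompletion I' B') (M := AdicCompletion I B)
    (I' ^ n) ((I'.map (algebraMap B' (AdicCompletion I' B'))) ^ n) (Ideal.map_pow _ _ _)
    (surjective_mk_algebraMap I' hfg' n) inferInstance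

end F

section Local

open IsLocalRing EGA4

variable (A A' : Type u) [CommRing A] [CommRing A'] [IsLocalRing A] [IsLocalRing A']
  [Algebra A A'] [IsLocalHom (algebraMap A A')]

theorem map_maximalIdeal_le_of_isLocalHom :
    (maximalIdeal A).map (algebraMap A A') ≤ maximalIdeal A' :=
  ((IsLocalRing.local_hom_TFAE (algebraMap A A')).out 0 2).mp ‹_›

noncomputable def cplMap : Cpl A →+* Cpl A' :=
  FSch.complMap (maximalIdeal A) (maximalIdeal A') (algebraMap A A')
    (map_maximalIdeal_le_of_isLocalHom A A')

@[reducible] noncomputable def cplAlgebra : Algebra (Cpl A) (Cpl A') := (cplMap A A').toAlgebra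

theorem cplMap_algebraMap (a : A) :
    cplMap A A' (algebraMap A (Cpl A) a) = algebraMap A' (Cpl A') (algebraMap A A' a) :=
  complMap_algebraMap _ _ _ _ a

omit [IsLocalRing A] [IsLocalHom (algebraMap A A')] in
theorem isScalarTower_cpl_base : IsScalarTower A A' (Cpl A') :=
  IsScalarTower.of_algebraMap_eq (fun _ => rfl)

theorem isScalarTower_cpl :
    letI := cplAlgebra A A'
    IsScalarTower A (Cpl A) (Cpl A') := by
  letI := cplAlgebra A A'
  exact IsScalarTower.of_algebraMap_eq (fun a => (cplMap_algebraMap A A' a).symm)

variable [IsNoetherianRing A] [IsNoetherianRing A']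

theorem isLocalHom_cplMap : IsLocalHom (cplMap A A') := by
  apply ((IsLocalRing.local_hom_TFAE _).out 0 2).mpr
  have e : (cplMap A A').comp (algebraMap A (Cpl A)) =
      (algebraMap A' (Cpl A')).comp (algebraMap A A') :=
    RingHom.ext (fun a => cplMap_algebraMap A A' a)
  rw [AdicCompletion.maximalIdeal_eq_map, AdicCompletion.maximalIdeal_eq_map, Ideal.map_map, e,
    ← Ideal.map_map]
  exact Ideal.map_mono (map_maximalIdeal_le_of_isLocalHom A A')

theorem flat_cplMap [Module.Flat A A'] :
    letI := cplAlgebra A A'
    Module.Flat (Cpl A) (Cpl A') :=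
  flat_complMap_of_le (maximalIdeal A) (maximalIdeal A') (algebraMap A A')
    (RingHom.flat_algebraMap_iff.mpr inferInstance) (map_maximalIdeal_le_of_isLocalHom A A')

theorem faithfullyFlat_cplMap [Module.Flat A A'] :
    letI := cplAlgebra A A'
    Module.FaithfullyFlat (Cpl A) (Cpl A') := by
  letI := cplAlgebra A A'
  haveI := flat_cplMap A A'
  haveI : IsLocalHom (algebraMap (Cpl A) (Cpl A')) := isLocalHom_cplMap A A'
  exact Module.FaithfullyFlat.of_flat_of_isLocalHom

end Local

end Groth.Agent.Lib.Helper56
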