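import Mathlib.RingTheory.Jacobson.Ring
import Mathlib.FieldTheory.IsAlgClosed.Basic
import Mathlib.RingTheory.TensorProduct.Free
import Mathlib.RingTheory.Adjoin.FGBaseChange
import Mathlib.RingTheory.Flat.Basic
import Mathlib.LinearAlgebra.Basis.VectorSpace
import Mathlib.RingTheory.FiniteType
import Mathlib.FieldTheory.IntermediateField.Adjoin.Basic
import Mathlib.LinearAlgebra.TensorProduct.Finiteness

set_option autoImplicit false

namespace Groth.Agent.Lib.Helper56

open TensorProduct

theorem exists_algHom_ne_zero {F A : Type*} [Field F] [IsAlgClosed F] [CommRing A] [Algebra F A]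
    [Algebra.FiniteType F A] (c : A) (hc : ¬ IsNilpotent c) : ∃ χ : A →ₐ[F] F, χ c ≠ 0 := by
  haveI : IsJacobsonRing A := isJacobsonRing_of_finiteType (A := F)
  have h1 : c ∉ (⊥ : Ideal A).jacobson := by
    rw [← Ideal.radical_eq_jacobson]
    exact hc
  rw [Ideal.jacobson, Ideal.mem_sInf] at h1
  push Not at h1
  obtain ⟨m, ⟨_, hm⟩, hcm⟩ := h1
  letI := Ideal.Quotient.field m
  haveI : Algebra.FiniteType F (A ⧸ m) :=
    Algebra.FiniteType.of_surjective (Ideal.Quotient.mkₐ F m) Ideal.Quotient.mk_surjective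
  haveI := finite_of_finite_type_of_isJacobsonRing F (A ⧸ m)
  have hbij : Function.Bijective (algebraMap F (A ⧸ m)) :=
    IsAlgClosed.algebraMap_bijective_of_isIntegral
  let e : F ≃ₐ[F] A ⧸ m := AlgEquiv.ofBijective (Algebra.ofId F (A ⧸ m)) hbij
  refine ⟨(e.symm : A ⧸ m →ₐ[F] F).comp (Ideal.Quotient.mkₐ F m), ?_⟩
  intro h0
  apply hcm
  have h2 : e.symm (Ideal.Quotient.mk m c) = 0 := h0
  have h3 : Ideal.Quotient.mk m c = 0 := by
    rw [← e.apply_symm_apply (Ideal.Quotient.mk m c), h2, map_zero]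
  exact Ideal.Quotient.eq_zero_iff_mem.mp h3

theorem repr_lift_eq {F A Ω ι : Type*} [Field F] [CommRing A] [Algebra F A] [Field Ω]
    [Algebra F Ω] (b : Module.Basis ι F Ω) (χ : A →ₐ[F] F) (z : A ⊗[F] Ω) (i : ι) :
    b.repr (Algebra.TensorProduct.lift ((Algebra.ofId F Ω).comp χ) (AlgHom.id F Ω)
      (fun _ _ => Commute.all _ _) z) i = χ ((Algebra.TensorProduct.basis A b).repr z i) := by
  induction z using TensorProduct.induction_on with
  | zero => simp
  | tmul a ω =>
    simp only [Algebra.TensorProduct.lift_tmul, AlgHom.coe_comp, Function.comp_apply,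
      AlgHom.coe_id, id_eq, Algebra.TensorProduct.basis_repr_tmul, Finsupp.smul_apply,
      Finsupp.mapRange_apply, smul_eq_mul, map_mul, AlgHom.commutes, Algebra.algebraMap_self,
      RingHom.id_apply]
    rw [Algebra.ofId_apply, ← Algebra.smul_def, map_smul, Finsupp.smul_apply, smul_eq_mul]
  | add x y hx hy =>
    simp only [map_add, Finsupp.add_apply, hx, hy]

theorem noZeroDivisors_tensor_of_finiteType {F A Ω : Type*} [Field F] [IsAlgClosed F] [CommRing A]
    [IsDomain A] [Algebra F A] [Algebra.FiniteType F A] [Field Ω] [Algebra F Ω] :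
    NoZeroDivisors (A ⊗[F] Ω) := by
  refine ⟨fun {x y} hxy => ?_⟩
  by_contra hcon
  push Not at hcon
  obtain ⟨hx, hy⟩ := hcon
  let b := Module.Basis.ofVectorSpace F Ω
  let B := Algebra.TensorProduct.basis A b
  have hx' : B.repr x ≠ 0 := fun h => hx (B.repr.map_eq_zero_iff.mp h)
  have hy' : B.repr y ≠ 0 := fun h => hy (B.repr.map_eq_zero_iff.mp h)
  obtain ⟨i0, hi0⟩ := Finsupp.ne_iff.mp hx'
  obtain ⟨j0, hj0⟩ := Finsupp.ne_iff.mp hy'
  simp only [Finsupp.coe_zero, Pi.zero_apply] at hi0 hj0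
  have hc : ¬ IsNilpotent (B.repr x i0 * B.repr y j0) := by
    intro hnil
    exact mul_ne_zero hi0 hj0 hnil.eq_zero
  obtain ⟨χ, hχ⟩ := exists_algHom_ne_zero (F := F) _ hc
  let Φ : A ⊗[F] Ω →ₐ[F] Ω :=
    Algebra.TensorProduct.lift ((Algebra.ofId F Ω).comp χ) (AlgHom.id F Ω)
      (fun _ _ => Commute.all _ _)
  have h0 : Φ x * Φ y = 0 := by rw [← map_mul, hxy, map_zero]
  rw [map_mul] at hχ
  rcases mul_eq_zero.mp h0 with h | h
  · have := repr_lift_eq b χ x i0
    rw [show Algebra.TensorProduct.lift ((Algebra.ofId F Ω).comp χ) (AlgHom.id F Ω)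
      (fun _ _ => Commute.all _ _) x = 0 from h] at this
    simp only [map_zero, Finsupp.coe_zero, Pi.zero_apply] at this
    exact hχ (by rw [← this, zero_mul])
  · have := repr_lift_eq b χ y j0
    rw [show Algebra.TensorProduct.lift ((Algebra.ofId F Ω).comp χ) (AlgHom.id F Ω)
      (fun _ _ => Commute.all _ _) y = 0 from h] at this
    simp only [map_zero, Finsupp.coe_zero, Pi.zero_apply] at this
    exact hχ (by rw [← this, mul_zero])

theorem baseChange_mono {R A B : Type*} [CommSemiring R] [Semiring A] [CommSemiring B]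
    [Algebra R A] [Algebra R B] {C D : Subalgebra R A} (h : C ≤ D) :
    C.baseChange B ≤ D.baseChange B := by
  rintro _ ⟨z, rfl⟩
  refine ⟨Algebra.TensorProduct.map (AlgHom.id B B) (Subalgebra.inclusion h) z, ?_⟩
  induction z using TensorProduct.induction_on with
  | zero => simp
  | tmul a c => rfl
  | add x y hx hy =>
    simp only [map_add] at hx hy ⊢
    rw [hx, hy]

theorem isDomain_tensor_of_isAlgClosed {F A Ω : Type*} [Field F] [IsAlgClosed F] [CommRing A]
    [IsDomain A] [Algebra F A] [Field Ω] [Algebra F Ω] :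
    IsDomain (Ω ⊗[F] A) := by
  haveI : Nontrivial (Ω ⊗[F] A) :=
    (Algebra.TensorProduct.includeRight_injective (R := F) (A := Ω) (B := A)
      (algebraMap F Ω).injective).nontrivial
  haveI : NoZeroDivisors (Ω ⊗[F] A) := by
    refine ⟨fun {x y} hxy => ?_⟩
    obtain ⟨Cx, hCx, hx⟩ := exists_fg_and_mem_baseChange x
    obtain ⟨Cy, hCy, hy⟩ := exists_fg_and_mem_baseChange y
    let D := Cx ⊔ Cy
    have hD : D.FG := hCx.sup hCy
    obtain ⟨x', rfl⟩ := baseChange_mono (B := Ω) (le_sup_left : Cx ≤ D) hx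
    obtain ⟨y', rfl⟩ := baseChange_mono (B := Ω) (le_sup_right : Cy ≤ D) hy
    have hinj : Function.Injective (Algebra.TensorProduct.map (AlgHom.id Ω Ω) D.val) :=
      Module.Flat.lTensor_preserves_injective_linearMap (M := Ω) D.val.toLinearMap
        Subtype.val_injective
    haveI : Algebra.FiniteType F D := ⟨D.fg_top.mpr hD⟩
    haveI : NoZeroDivisors (D ⊗[F] Ω) := noZeroDivisors_tensor_of_finiteType
    haveI : NoZeroDivisors (Ω ⊗[F] D) :=
      (Algebra.TensorProduct.comm F Ω D).toMulEquiv.noZeroDivisors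
    have h0 : x' * y' = 0 := by
      apply hinj
      rw [map_mul, map_zero]
      exact hxy
    rcases mul_eq_zero.mp h0 with h | h
    · left; rw [h, map_zero]
    · right; rw [h, map_zero]
  exact NoZeroDivisors.to_isDomain _

theorem exists_finset_forall_mem_range {k L S : Type*} [Field k] [Field L] [Algebra k L]
    [CommRing S] [Algebra k S] (z : L ⊗[k] S) :
    ∃ T : Finset L, ∀ E : IntermediateField k L, (T : Set L) ⊆ E →
      z ∈ Set.range (Algebra.TensorProduct.map E.val (AlgHom.id k S)) := by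
  classical
  obtain ⟨T0, hT0⟩ := TensorProduct.exists_finset z
  refine ⟨T0.image Prod.fst, fun E hE => ?_⟩
  have hmem : ∀ i ∈ T0, i.1 ∈ E := fun i hi => hE (by simpa using ⟨i.2, hi⟩)
  refine ⟨∑ i ∈ T0.attach, (⟨i.1.1, hmem i.1 i.2⟩ : E) ⊗ₜ[k] i.1.2, ?_⟩
  rw [hT0, map_sum, ← Finset.sum_attach T0]
  rfl

theorem map_val_injective {k L S : Type*} [Field k] [Field L] [Algebra k L]
    [CommRing S] [Algebra k S] (E : IntermediateField k L) :
    Function.Injective (Algebra.TensorProduct.map E.val (AlgHom.id k S)) :=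
  Module.Flat.rTensor_preserves_injective_linearMap (M := S) E.val.toLinearMap
    Subtype.val_injective

end Groth.Agent.Lib.Helper56
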