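import Groth.Agent.Lib.Helper56.HenselFormal
import Groth.Agent.Lib.Helper56.FormalDescent

set_option autoImplicit false
set_option linter.unusedSectionVars false
set_option linter.style.haveILetI false
universe u
namespace Groth.Agent.Lib.Helper56
open TensorProduct IsLocalRing EGA4

section LocTensor

variable (R0 Ah T R : Type u) [CommRing R0] [CommRing Ah] [CommRing T] [CommRing R]
  [Algebra R0 Ah] [Algebra R0 T] [Algebra Ah R] [Algebra R0 R] [IsScalarTower R0 Ah R]

noncomputable def locTensorMap : Ah ⊗[R0] T →ₐ[R0] R ⊗[R0] T :=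
  Algebra.TensorProduct.map (IsScalarTower.toAlgHom R0 Ah R) (AlgHom.id R0 T)

theorem isLocalization_locTensorMap (M : Submonoid Ah) [IsLocalization M R] :
    @IsLocalization _ _ (Algebra.algebraMapSubmonoid (Ah ⊗[R0] T) M)
      (R ⊗[R0] T) _ (locTensorMap R0 Ah T R).toRingHom.toAlgebra := by
  let _ : Algebra (Ah ⊗[R0] T) (R ⊗[R0] T) := (locTensorMap R0 Ah T R).toRingHom.toAlgebra
  have hst : IsScalarTower Ah (Ah ⊗[R0] T) (R ⊗[R0] T) :=
    IsScalarTower.of_algebraMap_eq (fun a => by
      change _ = locTensorMap R0 Ah T R (a ⊗ₜ 1)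
      simp only [locTensorMap, Algebra.TensorProduct.map_tmul, map_one]
      rfl)
  refine IsLocalization.tensorProduct_tensorProduct R0 T M R ?_
  ext b
  change locTensorMap R0 Ah T R (1 ⊗ₜ b) = 1 ⊗ₜ b
  simp [locTensorMap]

theorem isReduced_tensor_of_isLocalization (M : Submonoid Ah) [IsLocalization M R]
    (h : IsReduced (Ah ⊗[R0] T)) :
    IsReduced (R ⊗[R0] T) := by
  let _ : Algebra (Ah ⊗[R0] T) (R ⊗[R0] T) := (locTensorMap R0 Ah T R).toRingHom.toAlgebra
  have hloc := isLocalization_locTensorMap R0 Ah T R M
  exact isReduced_localizationPreserves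
    (Algebra.algebraMapSubmonoid (Ah ⊗[R0] T) M) (R ⊗[R0] T) h

theorem algebraMapSubmonoid_tensor_le_nonZeroDivisors [Module.Flat R0 T] (M : Submonoid Ah)
    (hM : M ≤ nonZeroDivisors Ah) :
    Algebra.algebraMapSubmonoid (Ah ⊗[R0] T) M ≤ nonZeroDivisors (Ah ⊗[R0] T) := by
  rintro _ ⟨m, hm, rfl⟩
  have hinj : Function.Injective (LinearMap.mulLeft R0 m) := by
    intro x y hxy
    exact (mem_nonZeroDivisors_iff_right.mp (hM hm)) _ (by
      have : m * (x - y) = 0 := by rw [mul_sub]; exact sub_eq_zero.mpr hxy
      rwa [mul_comm] at this) |> sub_eq_zero.mp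
  have hinj2 := Module.Flat.rTensor_preserves_injective_linearMap (M := T)
    (LinearMap.mulLeft R0 m) hinj
  rw [mem_nonZeroDivisors_iff_right]
  intro z hz
  apply hinj2
  rw [map_zero]
  have key : ∀ w : Ah ⊗[R0] T, (LinearMap.mulLeft R0 m).rTensor T w =
      algebraMap Ah (Ah ⊗[R0] T) m * w := by
    intro w
    induction w using TensorProduct.induction_on with
    | zero => simp
    | tmul a t =>
      rw [LinearMap.rTensor_tmul, Algebra.TensorProduct.algebraMap_apply,
        Algebra.TensorProduct.tmul_mul_tmul, one_mul]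
      rfl
    | add x y hx hy => rw [map_add, hx, hy, mul_add]
  rw [key, mul_comm]
  exact hz

theorem isDomain_tensor_of_isLocalization [Module.Flat R0 T] (M : Submonoid Ah)
    [IsLocalization M R] (hM : M ≤ nonZeroDivisors Ah)
    (h : IsDomain (Ah ⊗[R0] T)) : IsDomain (R ⊗[R0] T) := by
  let _ : Algebra (Ah ⊗[R0] T) (R ⊗[R0] T) := (locTensorMap R0 Ah T R).toRingHom.toAlgebra
  have hloc := isLocalization_locTensorMap R0 Ah T R M
  exact IsLocalization.isDomain_of_le_nonZeroDivisors (R ⊗[R0] T)
    (algebraMapSubmonoid_tensor_le_nonZeroDivisors R0 Ah T M hM)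

end LocTensor

section N2

theorem finite_integralClosure_of_isN2 (A : Type u) [CommRing A] [IsDomain A] (hN2 : CAlg.IsN2 A)
    (K K' : Type u) [Field K] [Algebra A K] [IsFractionRing A K] [Field K'] [Algebra K K']
    [Algebra A K'] [IsScalarTower A K K'] [FiniteDimensional K K'] :
    Module.Finite A (integralClosure A K') := by
  let e := FractionRing.algEquiv A K
  let _ : Algebra (FractionRing A) K := e.toAlgHom.toRingHom.toAlgebra
  let _ : Algebra (FractionRing A) K' :=
    ((algebraMap K K').comp (algebraMap (FractionRing A) K)).toAlgebra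
  have hst1 : IsScalarTower (FractionRing A) K K' := IsScalarTower.of_algebraMap_eq (fun _ => rfl)
  have hst2 : IsScalarTower A (FractionRing A) K := IsScalarTower.of_algebraMap_eq (fun a => by
    change _ = e (algebraMap A (FractionRing A) a)
    rw [AlgEquiv.commutes])
  have hst3 : IsScalarTower A (FractionRing A) K' := IsScalarTower.of_algebraMap_eq (fun a => by
    change _ = algebraMap K K' (algebraMap (FractionRing A) K (algebraMap A (FractionRing A) a))
    rw [← IsScalarTower.algebraMap_apply A (FractionRing A) K,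
      ← IsScalarTower.algebraMap_apply A K K'])
  have hfin1 : Module.Finite (FractionRing A) K :=
    Module.Finite.of_surjective (Algebra.linearMap (FractionRing A) K) (by
        intro x
        exact ⟨e.symm x, by simp [Algebra.linearMap_apply, RingHom.algebraMap_toAlgebra]⟩)
  have hfin2 : Module.Finite (FractionRing A) K' := Module.Finite.trans K K'
  exact hN2 K' hfin2

end N2

section Main

variable (A : Type u) [CommRing A] [IsNoetherianRing A] [IsLocalRing A] [IsDomain A]

theorem isReduced_tensor_cpl_of_algebraic_domain (hA : EGA4.HasGeomReducedFormalFibres A)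
    (L : Type u) [Field L] [Algebra A L] (hinj : Function.Injective (algebraMap A L))
    [Algebra.IsAlgebraic A L] : IsReduced (L ⊗[A] Cpl A) := by
  let _ : Algebra (⊥ : Ideal A).ResidueField L :=
    (IsFractionRing.lift (K := (⊥ : Ideal A).ResidueField) hinj).toAlgebra
  have hst : IsScalarTower A (⊥ : Ideal A).ResidueField L :=
    IsScalarTower.of_algebraMap_eq (fun x => (IsFractionRing.lift_algebraMap hinj x).symm)
  have halg : Algebra.IsAlgebraic (⊥ : Ideal A).ResidueField L :=
    (IsFractionRing.comap_isAlgebraic_iff (A := A) (K := (⊥ : Ideal A).ResidueField)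
      (C := L)).mp inferInstance
  have hgr : Algebra.IsGeometricallyReduced (⊥ : Ideal A).ResidueField
      ((⊥ : Ideal A).ResidueField ⊗[A] Cpl A) := hA ⊥
  have hred1 : IsReduced (L ⊗[(⊥ : Ideal A).ResidueField]
      ((⊥ : Ideal A).ResidueField ⊗[A] Cpl A)) := inferInstance
  exact isReduced_of_injective
    (Algebra.TensorProduct.cancelBaseChange A (⊥ : Ideal A).ResidueField
      (⊥ : Ideal A).ResidueField L (Cpl A)).symm
    (Algebra.TensorProduct.cancelBaseChange A (⊥ : Ideal A).ResidueField
      (⊥ : Ideal A).ResidueField L (Cpl A)).symm.injective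

variable [IsDomain (Cpl A)]
  (K L : Type u) [Field K] [Field L] [Algebra A K] [IsFractionRing A K]
  [Algebra (Cpl A) L] [IsFractionRing (Cpl A) L] [Algebra K L] [Algebra A L]
  [IsScalarTower A K L] [IsScalarTower A (Cpl A) L]

theorem isGeometricallyReduced_fractionRing_cpl (hA : EGA4.HasGeomReducedFormalFibres A) :
    Algebra.IsGeometricallyReduced K L := by
  apply isGeometricallyReduced_of_forall_finite
  intro K' _ _ hfin
  let _ : Algebra A K' := ((algebraMap K K').comp (algebraMap A K)).toAlgebra
  have hst : IsScalarTower A K K' := IsScalarTower.of_algebraMap_eq (fun _ => rfl)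
  have hinj : Function.Injective (algebraMap A K') :=
    (algebraMap K K').injective.comp (IsFractionRing.injective A K)
  have halgK : Algebra.IsAlgebraic K K' := Algebra.IsAlgebraic.of_finite K K'
  have halg : Algebra.IsAlgebraic A K' :=
    (IsFractionRing.comap_isAlgebraic_iff (A := A) (K := K) (C := K')).mpr halgK
  have h1 : IsReduced (K' ⊗[A] Cpl A) := isReduced_tensor_cpl_of_algebraic_domain A hA K' hinj
  have h2 : IsReduced (Cpl A ⊗[A] K') :=
    isReduced_of_injective (Algebra.TensorProduct.comm A (Cpl A) K')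
      (Algebra.TensorProduct.comm A (Cpl A) K').injective
  have h3 : IsReduced (L ⊗[A] K') :=
    isReduced_tensor_of_isLocalization A (Cpl A) K' L (nonZeroDivisors (Cpl A)) h2
  have h4 : IsReduced (K' ⊗[A] L) :=
    isReduced_of_injective (Algebra.TensorProduct.comm A K' L)
      (Algebra.TensorProduct.comm A K' L).injective
  exact isReduced_of_injective (IsLocalization.algebraTensorEquiv (nonZeroDivisors A) K K' L)
    (IsLocalization.algebraTensorEquiv (nonZeroDivisors A) K K' L).injective

theorem finrank_eq_one_of_intermediate [HenselianLocalRing A]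
    (h : EGA4.HasGeomNormalFormalFibres A)
    (K' : Type u) [Field K'] [Algebra K K'] [Algebra K' L] [IsScalarTower K K' L]
    [FiniteDimensional K K'] : Module.finrank K K' = 1 := by
  let _ : Algebra A K' := ((algebraMap K K').comp (algebraMap A K)).toAlgebra
  have hst : IsScalarTower A K K' := IsScalarTower.of_algebraMap_eq (fun _ => rfl)
  have hgr := hasGeomReducedFormalFibres_of_hasGeomNormalFormalFibres A h
  have hNag := isNagata_of_hasGeomReducedFormalFibres A hgr
  have hN2 : CAlg.IsN2 A :=
    Groth.Agent.Lib.Helper38.Tate.isN2_of_ringEquiv (RingEquiv.quotientBot A) (hNag.2 ⊥)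
  have hfinB : Module.Finite A (integralClosure A K') := finite_integralClosure_of_isN2 A hN2 K K'
  have hic : IsIntegrallyClosed (integralClosure A K') :=
    integralClosure.isIntegrallyClosedOfFiniteExtension K
  have hfr : IsFractionRing (integralClosure A K') K' :=
    integralClosure.isFractionRing_of_finite_extension K K'
  have hBn : EGA4.IsNormalRing (integralClosure A K') :=
    Groth.Agent.Lib.Helper57.isNormalRing_of_isIntegrallyClosed _
  have hffA : Module.FaithfullyFlat A (Cpl A) := Module.FaithfullyFlat.of_flat_of_isLocalHom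
  have hD1 : IsDomain (integralClosure A K' ⊗[A] Cpl A) :=
    isDomain_tensor_cpl_of_finite_normal A h (integralClosure A K') hBn
  have hD2 : IsDomain (K' ⊗[A] Cpl A) :=
    isDomain_tensor_of_isLocalization A (integralClosure A K') (Cpl A) K'
      (nonZeroDivisors (integralClosure A K')) le_rfl hD1
  have hD3 : IsDomain (Cpl A ⊗[A] K') :=
    (Algebra.TensorProduct.comm A (Cpl A) K').injective.isDomain
      (Algebra.TensorProduct.comm A (Cpl A) K').toRingEquiv.toRingHom
  have hflatK : Module.Flat A K := IsLocalization.flat K (nonZeroDivisors A)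
  have hflatK' : Module.Flat A K' := Module.Flat.trans A K K'
  have hD4 : IsDomain (L ⊗[A] K') :=
    isDomain_tensor_of_isLocalization A (Cpl A) K' L (nonZeroDivisors (Cpl A)) le_rfl hD3
  have hD5 : IsDomain (L ⊗[K] K') :=
    (IsLocalization.algebraTensorEquiv (nonZeroDivisors A) K L K').injective.isDomain
      (IsLocalization.algebraTensorEquiv (nonZeroDivisors A) K L K').toRingEquiv.toRingHom
  let μ : L ⊗[K] K' →ₐ[L] L :=
    Algebra.TensorProduct.lift (AlgHom.id L L) (IsScalarTower.toAlgHom K K' L)
      (fun _ _ => Commute.all _ _)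
  have hint : Algebra.IsIntegral L (L ⊗[K] K') := Algebra.IsIntegral.of_finite L _
  have hker : RingHom.ker μ.toRingHom = ⊥ := by
    apply Ideal.eq_bot_of_comap_eq_bot (R := L)
    ext l
    rw [Ideal.mem_comap, RingHom.mem_ker, Ideal.mem_bot]
    change μ (algebraMap L (L ⊗[K] K') l) = 0 ↔ l = 0
    rw [AlgHom.commutes]
    rfl
  have hμinj : Function.Injective μ := (RingHom.injective_iff_ker_eq_bot μ.toRingHom).mpr hker
  have hμsurj : Function.Surjective μ := fun l => ⟨algebraMap L _ l, AlgHom.commutes μ l⟩
  have e : (L ⊗[K] K') ≃ₗ[L] L := LinearEquiv.ofBijective μ.toLinearMap ⟨hμinj, hμsurj⟩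
  have h1 : Module.finrank L (L ⊗[K] K') = 1 := by
    rw [e.finrank_eq, Module.finrank_self]
  rw [Module.finrank_baseChange] at h1
  exact h1

theorem mem_range_of_isAlgebraic [HenselianLocalRing A]
    (h : EGA4.HasGeomNormalFormalFibres A) (x : L) (hx : IsAlgebraic K x) :
    x ∈ Set.range (algebraMap K L) := by
  have hfin : FiniteDimensional K (IntermediateField.adjoin K {x}) :=
    IntermediateField.adjoin.finiteDimensional hx.isIntegral
  have h1 := finrank_eq_one_of_intermediate A K L h (IntermediateField.adjoin K {x})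
  rw [IntermediateField.finrank_adjoin_simple_eq_one_iff] at h1
  exact IntermediateField.mem_bot.mp h1

end Main

end Groth.Agent.Lib.Helper56
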