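import Mathlib

set_option autoImplicit false
set_option linter.style.haveILetI false
set_option linter.unusedSectionVars false

namespace Groth.Agent.Lib.Helper56.BrDim

open IsLocalRing Polynomial

universe u

section Hensel

variable {E : Type u} [CommRing E] [IsDomain E] [HenselianLocalRing E]

theorem isUnit_one_add {R : Type u} [CommRing R] [IsLocalRing R] (a : R)
    (ha : a ∈ maximalIdeal R) : IsUnit (1 + a) := by
  by_contra h
  have h1 : 1 + a ∈ maximalIdeal R := (mem_maximalIdeal _).mpr h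
  have h2 : (1 : R) ∈ maximalIdeal R := by
    have := Ideal.sub_mem _ h1 ha
    rwa [add_sub_cancel_right] at this
  exact (Ideal.ne_top_iff_one _).mp (maximalIdeal.isMaximal R).ne_top h2

theorem hensel_step (t : E) (ht : t ∈ maximalIdeal E) (n : ℕ) (y e : E)
    (h : y ^ 2 - t ^ n * y = t ^ (3 * n + 1) * e) :
    ∃ y' g : E, (y' = 0 ∨ y' = t ^ n) ∧ y - y' = t ^ (n + 1) * g := by
  set d := 2 * y - t ^ n with hd
  have hmem : 4 * t ^ (n + 1) * e ∈ maximalIdeal E := by
    have : t ^ (n + 1) ∈ maximalIdeal E := Ideal.pow_mem_of_mem _ ht _ (Nat.succ_pos n)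
    exact Ideal.mul_mem_right _ _ (Ideal.mul_mem_left _ _ this)
  obtain ⟨u, hu⟩ := isUnit_one_add _ hmem
  set c₀ := t ^ (n + 1) * e * (↑u⁻¹ : E) with hc₀
  have hc₀m : c₀ ∈ maximalIdeal E := by
    have : t ^ (n + 1) ∈ maximalIdeal E := Ideal.pow_mem_of_mem _ ht _ (Nat.succ_pos n)
    exact Ideal.mul_mem_right _ _ (Ideal.mul_mem_right _ _ this)
  let Q : Polynomial E := X ^ 2 + X + C c₀
  have hmonic : Q.Monic := by
    have h1 : (C c₀ : Polynomial E).degree < ((X : Polynomial E) ^ 2 + X).degree := by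
      have : ((X : Polynomial E) ^ 2 + X).degree = 2 := by
        rw [degree_add_eq_left_of_degree_lt]
        · exact degree_X_pow 2
        · rw [degree_X_pow, degree_X]; norm_num
      rw [this]
      exact lt_of_le_of_lt degree_C_le (by norm_num)
    have h2 : ((X : Polynomial E) ^ 2 + X).Monic := by
      apply Monic.add_of_left (monic_X_pow 2)
      rw [degree_X_pow, degree_X]; norm_num
    exact h2.add_of_left h1
  have h0 : Q.eval 0 ∈ maximalIdeal E := by
    simp only [Q, eval_add, eval_pow, eval_X, eval_C]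
    simpa using hc₀m
  have h0' : IsUnit (Q.derivative.eval 0) := by
    simp only [Q, derivative_add, derivative_X_pow, derivative_X, derivative_C, eval_add, eval_mul,
      eval_pow, eval_X, eval_C, eval_one]
    simp
  obtain ⟨z, hz, hz0⟩ := HenselianLocalRing.is_henselian Q hmonic 0 h0 h0'
  have hzeq : z ^ 2 + z + c₀ = 0 := by
    have := hz
    simp only [Q, IsRoot.def, eval_add, eval_pow, eval_X, eval_C] at this
    exact this
  have hzm : z ∈ maximalIdeal E := by simpa using hz0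
  have huinv : (↑u : E) * (↑u⁻¹ : E) = 1 := Units.mul_inv u
  have hdsq : d ^ 2 = t ^ (2 * n) * (↑u : E) := by
    rw [hu, hd]
    have e1 : (2 * y - t ^ n) ^ 2 = 4 * (y ^ 2 - t ^ n * y) + t ^ (2 * n) := by ring
    rw [e1, h]
    ring
  have hG : y ^ 2 - t ^ n * y = d ^ 2 * c₀ := by
    rw [h, hdsq, hc₀]
    have : t ^ (2 * n) * (↑u : E) * (t ^ (n + 1) * e * (↑u⁻¹ : E)) =
        t ^ (2 * n) * t ^ (n + 1) * e * ((↑u : E) * (↑u⁻¹ : E)) := by ring
    rw [this, huinv, mul_one, ← pow_add]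
    congr 2
    ring
  have key : (y + d * z) * ((y + d * z) - t ^ n) = 0 := by
    have e1 : (y + d * z) * ((y + d * z) - t ^ n) =
        (y ^ 2 - t ^ n * y) + d * z * (2 * y - t ^ n) + d ^ 2 * z ^ 2 := by ring
    rw [e1, hG, ← hd]
    have e2 : d ^ 2 * c₀ + d * z * d + d ^ 2 * z ^ 2 = d ^ 2 * (z ^ 2 + z + c₀) := by ring
    rw [e2, hzeq, mul_zero]
  obtain ⟨v, hv⟩ := isUnit_one_add z hzm
  have hvinv : (↑v : E) * (↑v⁻¹ : E) = 1 := Units.mul_inv v
  have hzc : z = -(c₀ * (↑v⁻¹ : E)) := by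
    have h1 : z * (↑v : E) = -c₀ := by
      rw [hv]
      have : z * (1 + z) = z ^ 2 + z := by ring
      rw [this]
      exact eq_neg_of_add_eq_zero_left hzeq
    calc z = z * ((↑v : E) * (↑v⁻¹ : E)) := by rw [hvinv, mul_one]
      _ = (z * (↑v : E)) * (↑v⁻¹ : E) := by ring
      _ = -(c₀ * (↑v⁻¹ : E)) := by rw [h1]; ring
  refine ⟨y + d * z, d * (e * (↑u⁻¹ : E) * (↑v⁻¹ : E)), ?_, ?_⟩
  · rcases mul_eq_zero.mp key with h1 | h1
    · exact Or.inl h1
    · exact Or.inr (sub_eq_zero.mp h1)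
  · have : y - (y + d * z) = -(d * z) := by ring
    rw [this, hzc, hc₀]
    ring

end Hensel

end Groth.Agent.Lib.Helper56.BrDim
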