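import Mathlib
import Groth.Agent.Lib.Helper56.BrDim1
import Groth.Agent.Lib.Helper87.PunctConn

set_option autoImplicit false
set_option linter.style.haveILetI false
set_option linter.unusedSectionVars false

namespace Groth.Agent.Lib.Helper56.BrDim

open IsLocalRing

universe u

section Approx

variable {E F : Type u} [CommRing E] [IsLocalRing E] [CommRing F] [IsLocalRing F] [Algebra E F]

theorem exists_sub_mem_map_pow
    (hm : (maximalIdeal E).map (algebraMap E F) = maximalIdeal F)
    (hres : ∀ x : F, ∃ y : E, x - algebraMap E F y ∈ maximalIdeal F) (n : ℕ) (x : F) :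
    ∃ r : E, x - algebraMap E F r ∈ (maximalIdeal E ^ n).map (algebraMap E F) := by
  induction n generalizing x with
  | zero => exact ⟨0, by simp [Ideal.map_top]⟩
  | succ n ih =>
    obtain ⟨r, hr⟩ := ih x
    suffices h : ∀ y ∈ (maximalIdeal E ^ n).map (algebraMap E F),
        ∃ r' : E, y - algebraMap E F r' ∈ (maximalIdeal E ^ (n + 1)).map (algebraMap E F) by
      obtain ⟨r', hr'⟩ := h _ hr
      refine ⟨r + r', ?_⟩
      rw [map_add, ← sub_sub]
      exact hr'
    intro y hy
    rw [Ideal.map] at hy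
    induction hy using Submodule.span_induction with
    | mem y hy =>
      obtain ⟨a, ha, rfl⟩ := hy
      exact ⟨a, by simp⟩
    | zero => exact ⟨0, by simp⟩
    | add y z _ _ hy hz =>
      obtain ⟨r₁, h₁⟩ := hy
      obtain ⟨r₂, h₂⟩ := hz
      refine ⟨r₁ + r₂, ?_⟩
      rw [map_add, add_sub_add_comm]
      exact Ideal.add_mem _ h₁ h₂
    | smul s y hy hy' =>
      obtain ⟨r₁, h₁⟩ := hy'
      obtain ⟨t, ht⟩ := hres s
      refine ⟨t * r₁, ?_⟩
      have e : s • y - algebraMap E F (t * r₁) =
          (s - algebraMap E F t) * y + algebraMap E F t * (y - algebraMap E F r₁) := by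
        rw [map_mul, smul_eq_mul]
        ring
      rw [e]
      apply Ideal.add_mem
      · rw [← hm] at ht
        have hy2 : y ∈ (maximalIdeal E ^ n).map (algebraMap E F) := hy
        rw [pow_succ', Ideal.map_mul]
        exact Ideal.mul_mem_mul ht hy2
      · exact Ideal.mul_mem_left _ _ h₁

end Approx

theorem exists_pow_le_span {E : Type u} [CommRing E] [IsLocalRing E] [IsDomain E]
    [IsNoetherianRing E] [Ring.KrullDimLE 1 E] (t : E) (ht0 : t ≠ 0) :
    ∃ c : ℕ, maximalIdeal E ^ c ≤ Ideal.span {t} := by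
  have hle : maximalIdeal E ≤ (Ideal.span {t}).radical := by
    rw [Ideal.radical_eq_sInf]
    refine le_sInf ?_
    rintro P ⟨hP1, hP2⟩
    have hPne : P ≠ ⊥ := by
      rintro rfl
      exact ht0 (by simpa using hP1 (Ideal.mem_span_singleton_self t))
    have := hP2.isMaximal_of_ne_bot hPne
    exact (IsLocalRing.eq_maximalIdeal this).ge
  exact Ideal.exists_pow_le_of_le_radical_of_fg hle (IsNoetherian.noetherian _)

theorem eq_zero_of_sq {F : Type u} [CommRing F] [IsLocalRing F] (t : F)
    (ht : t ∈ maximalIdeal F) (hreg : IsSMulRegular F t) (n : ℕ) (w g : F)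
    (h1 : w ^ 2 = t ^ n * w) (h2 : w = t ^ (n + 1) * g) : w = 0 := by
  have e : t ^ (2 * n + 1) * (t * g ^ 2 - g) = 0 := by
    have : t ^ (2 * n + 1) * (t * g ^ 2 - g) =
        (t ^ (n + 1) * g) ^ 2 - t ^ n * (t ^ (n + 1) * g) := by ring
    rw [this, ← h2, h1, sub_self]
  have e2 : t * g ^ 2 - g = 0 := by
    have hr := hreg.pow (2 * n + 1)
    apply hr
    simp only [smul_eq_mul, mul_zero]
    exact e
  have hu : IsUnit (1 + (-(t * g))) :=
    isUnit_one_add _ (by simpa using Ideal.mul_mem_right g _ ht)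
  have e3 : g * (1 + (-(t * g))) = 0 := by
    have : g * (1 + (-(t * g))) = -(t * g ^ 2 - g) := by ring
    rw [this, e2, neg_zero]
  have hg : g = 0 := hu.mul_left_eq_zero.mp e3
  rw [h2, hg, mul_zero]

end Groth.Agent.Lib.Helper56.BrDim
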