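import Groth.Agent.Lib.Helper56.FiberLoc
import Mathlib.RingTheory.TensorProduct.Quotient
import Mathlib.RingTheory.Ideal.Quotient.Operations

set_option autoImplicit false
universe u

namespace Groth.Agent.Lib.Helper56

open LocCoh IsLocalRing TensorProduct

section QuotFlat

variable (R S : Type u) [CommRing R] [CommRing S] [Algebra R S]

theorem flat_quotient_map [Module.Flat R S] (I : Ideal R) :
    Module.Flat (R ⧸ I) (S ⧸ I.map (algebraMap R S)) :=
  Module.Flat.of_linearEquiv
    (Algebra.TensorProduct.quotIdealMapEquivQuotTensor S I).toLinearEquiv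

theorem algebraMap_quotient_comp_mk (I : Ideal R) :
    (algebraMap (R ⧸ I) (S ⧸ I.map (algebraMap R S))).comp (Ideal.Quotient.mk I) =
      (Ideal.Quotient.mk (I.map (algebraMap R S))).comp (algebraMap R S) := by
  ext a
  rfl

variable [IsLocalRing R] [IsLocalRing S] [IsLocalHom (algebraMap R S)]

theorem isLocalHom_quotient_map (I : Ideal R) [IsLocalRing (R ⧸ I)]
    [IsLocalRing (S ⧸ I.map (algebraMap R S))] :
    IsLocalHom (algebraMap (R ⧸ I) (S ⧸ I.map (algebraMap R S))) := by
  constructor
  intro x hx
  obtain ⟨a, rfl⟩ := Ideal.Quotient.mk_surjective x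
  by_contra hnu
  have ha : a ∈ maximalIdeal R := by
    rw [mem_maximalIdeal, mem_nonunits_iff]
    intro hu
    exact hnu (hu.map _)
  have h1 : algebraMap R S a ∈ maximalIdeal S :=
    (IsLocalRing.map_maximalIdeal_le (algebraMap R S)) (Ideal.mem_map_of_mem _ ha)
  have h2 : Ideal.Quotient.mk (I.map (algebraMap R S)) (algebraMap R S a) ∈
      maximalIdeal (S ⧸ I.map (algebraMap R S)) := by
    rw [← map_quotientMk_maximalIdeal]
    exact Ideal.mem_map_of_mem _ h1
  rw [mem_maximalIdeal, mem_nonunits_iff] at h2
  exact h2 hx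

theorem map_maximalIdeal_quotient_eq (I : Ideal R) [IsLocalRing (R ⧸ I)] :
    (maximalIdeal (R ⧸ I)).map (algebraMap (R ⧸ I) (S ⧸ I.map (algebraMap R S))) =
      ((maximalIdeal R).map (algebraMap R S)).map
        (Ideal.Quotient.mk (I.map (algebraMap R S))) := by
  rw [← map_quotientMk_maximalIdeal, Ideal.map_map, algebraMap_quotient_comp_mk, ← Ideal.map_map]

variable [IsNoetherianRing R] [IsNoetherianRing S] [Module.Flat R S]

theorem quot_formulas (I : Ideal R) [IsLocalRing (R ⧸ I)]
    [IsLocalRing (S ⧸ I.map (algebraMap R S))] (hI : I ≤ maximalIdeal R) :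
    depth (S ⧸ I.map (algebraMap R S)) (S ⧸ I.map (algebraMap R S)) =
      depth (R ⧸ I) (R ⧸ I) +
        depth (S ⧸ (maximalIdeal R).map (algebraMap R S))
          (S ⧸ (maximalIdeal R).map (algebraMap R S)) ∧
    ringKrullDim (S ⧸ I.map (algebraMap R S)) =
      ringKrullDim (R ⧸ I) + ringKrullDim (S ⧸ (maximalIdeal R).map (algebraMap R S)) := by
  have hflat := flat_quotient_map R S I
  have hloc := isLocalHom_quotient_map R S I
  have h1 := Groth.Agent.Lib.Helper77.FlatDepth.depth_ring_eq_add (R ⧸ I)
    (S ⧸ I.map (algebraMap R S))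
  have h2 := Groth.Agent.Lib.Helper77.FlatDepth.dim_eq_add (R ⧸ I)
    (S ⧸ I.map (algebraMap R S))
  have hle : I.map (algebraMap R S) ≤ (maximalIdeal R).map (algebraMap R S) := Ideal.map_mono hI
  let e1 := Ideal.quotEquivOfEq (map_maximalIdeal_quotient_eq R S I)
  let e2 := DoubleQuot.quotQuotEquivQuotOfLE hle
  let e := e1.trans e2
  rw [h1, h2, depth_self_of_ringEquiv e, ringKrullDim_eq_of_ringEquiv e]
  exact ⟨rfl, rfl⟩

end QuotFlat

section Comp

variable (A B C : Type u) [CommRing A] [CommRing B] [CommRing C] [IsNoetherianRing B]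
  [IsNoetherianRing C] [Algebra A B] [Algebra B C] [Algebra A C] [IsScalarTower A B C]
  [Module.Flat B C]

theorem fibLoc_comp_formulas (r : Ideal C) [r.IsPrime] :
    depth (EGA4.FibLocRing A C r) (EGA4.FibLocRing A C r) =
      depth (EGA4.FibLocRing A B (r.comap (algebraMap B C)))
        (EGA4.FibLocRing A B (r.comap (algebraMap B C))) +
      depth (EGA4.FibLocRing B C r) (EGA4.FibLocRing B C r) ∧
    ringKrullDim (EGA4.FibLocRing A C r) =
      ringKrullDim (EGA4.FibLocRing A B (r.comap (algebraMap B C))) +
      ringKrullDim (EGA4.FibLocRing B C r) := by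
  set q := r.comap (algebraMap B C) with hq
  have : r.LiesOver q := ⟨rfl⟩
  let _ := Localization.AtPrime.algebraOfLiesOver q r
  have hloc : IsLocalHom (algebraMap (Localization.AtPrime q) (Localization.AtPrime r)) :=
    Localization.isLocalHom_localRingHom q r (algebraMap B C) rfl
  have hflat : Module.Flat (Localization.AtPrime q) (Localization.AtPrime r) := inferInstance
  set I := (q.comap (algebraMap A B)).map (algebraMap A (Localization.AtPrime q)) with hI
  have hIle : I ≤ maximalIdeal (Localization.AtPrime q) :=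
    Groth.Agent.Lib.Helper77.FlatDepth.fibLoc_ideal_le A B q
  have hJ : I.map (algebraMap (Localization.AtPrime q) (Localization.AtPrime r)) =
      (r.comap (algebraMap A C)).map (algebraMap A (Localization.AtPrime r)) := by
    rw [hI, Ideal.map_map, ← IsScalarTower.algebraMap_eq, hq, Ideal.comap_comap,
      ← IsScalarTower.algebraMap_eq]
  have hK : (maximalIdeal (Localization.AtPrime q)).map
      (algebraMap (Localization.AtPrime q) (Localization.AtPrime r)) =
      (r.comap (algebraMap B C)).map (algebraMap B (Localization.AtPrime r)) := by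
    rw [← Localization.AtPrime.map_eq_maximalIdeal, Ideal.map_map,
      ← IsScalarTower.algebraMap_eq]
  have hnt : Nontrivial (Localization.AtPrime r ⧸
      I.map (algebraMap (Localization.AtPrime q) (Localization.AtPrime r))) := by
    rw [Ideal.Quotient.nontrivial_iff]
    intro htop
    have h1 : I.map (algebraMap (Localization.AtPrime q) (Localization.AtPrime r)) ≤
        maximalIdeal (Localization.AtPrime r) :=
      le_trans (Ideal.map_mono hIle) (IsLocalRing.map_maximalIdeal_le _)
    rw [htop] at h1
    exact (maximalIdeal.isMaximal _).ne_top (top_le_iff.mp h1)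
  have hlr : IsLocalRing (Localization.AtPrime r ⧸
      I.map (algebraMap (Localization.AtPrime q) (Localization.AtPrime r))) :=
    IsLocalRing.of_surjective' (Ideal.Quotient.mk _) Ideal.Quotient.mk_surjective
  obtain ⟨h1, h2⟩ := quot_formulas (Localization.AtPrime q) (Localization.AtPrime r) I hIle
  let eJ := Ideal.quotEquivOfEq hJ
  let eK := Ideal.quotEquivOfEq hK
  rw [depth_self_of_ringEquiv eJ, depth_self_of_ringEquiv eK] at h1
  rw [ringKrullDim_eq_of_ringEquiv eJ, ringKrullDim_eq_of_ringEquiv eK] at h2
  exact ⟨h1, h2⟩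

end Comp

end Groth.Agent.Lib.Helper56
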