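import Groth.Agent.Lib.Helper56.TensorLimit

set_option autoImplicit false
universe u
namespace Groth.Agent.Lib.Helper56
open TensorProduct LocCoh IsLocalRing

section BC

variable (A B A' : Type u) [CommRing A] [CommRing B] [CommRing A'] [Algebra A B] [Algebra A A']

theorem isNoetherianRing_finite_tensor_fibre (p' : Ideal A') [p'.IsPrime] (p : Ideal A) [p.IsPrime]
    [p'.LiesOver p] [Algebra (Localization.AtPrime p) (Localization.AtPrime p')]
    [Localization.AtPrime.IsLiesOverAlgebra p p'] [IsNoetherianRing (A' ⊗[A] B)]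
    (L : Type u) [Field L] [Algebra p'.ResidueField L] [Module.Finite p'.ResidueField L]
    [Algebra p.ResidueField L] [IsScalarTower p.ResidueField p'.ResidueField L] :
    IsNoetherianRing (L ⊗[p.ResidueField] p.Fiber B) := by
  have h1 : IsNoetherianRing (p'.Fiber (A' ⊗[A] B)) := isNoetherianRing_fiber A' (A' ⊗[A] B) p'
  have h2 : IsNoetherianRing (p'.Fiber (A' ⊗[A] B) ⊗[p'.ResidueField] L) :=
    isNoetherianRing_tensor_essFiniteType p'.ResidueField L (p'.Fiber (A' ⊗[A] B))
  have e := fibreBaseChangeEquiv A B A' p' p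
  exact isNoetherianRing_of_ringEquiv (p'.Fiber (A' ⊗[A] B) ⊗[p'.ResidueField] L)
    (((Algebra.TensorProduct.comm p'.ResidueField (p'.Fiber (A' ⊗[A] B)) L).toRingEquiv.trans
      (Algebra.TensorProduct.congr (AlgEquiv.refl (R := p'.ResidueField) (A₁ := L))
        e).toRingEquiv).trans
      (Algebra.TensorProduct.cancelBaseChange p.ResidueField p'.ResidueField p'.ResidueField L
        (p.Fiber B)).toRingEquiv)

theorem isRegularHom_baseChange [IsNoetherianRing (A' ⊗[A] B)] (h : CAlg.IsRegularHom A B) :
    CAlg.IsRegularHom A' (A' ⊗[A] B) := by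
  have hflat : Module.Flat A B := h.1
  refine ⟨inferInstance, fun p' _ => ⟨isNoetherianRing_fiber A' (A' ⊗[A] B) p', ?_⟩⟩
  have hlo : p'.LiesOver (p'.under A) := ⟨rfl⟩
  let _ := Localization.AtPrime.algebraOfLiesOver (p'.under A) p'
  obtain ⟨hN, hG⟩ := h.2 (p'.under A)
  refine isGeometricallyRegular_of_algEquiv
    (S := p'.ResidueField ⊗[(p'.under A).ResidueField] (p'.under A).Fiber B)
    (S' := p'.Fiber (A' ⊗[A] B)) (fibreBaseChangeEquiv A B A' p' (p'.under A)).symm ?_
  intro L _ _ hL
  let _ : Algebra (p'.under A).ResidueField L :=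
    ((algebraMap p'.ResidueField L).comp
      (algebraMap (p'.under A).ResidueField p'.ResidueField)).toAlgebra
  have : IsScalarTower (p'.under A).ResidueField p'.ResidueField L :=
    IsScalarTower.of_algebraMap_eq (fun _ => rfl)
  have := isNoetherianRing_finite_tensor_fibre A B A' p' (p'.under A) L
  have h1 : IsRegularRing (L ⊗[(p'.under A).ResidueField] (p'.under A).Fiber B) :=
    isRegularRing_tensor_of_isGeometricallyRegular _ _ L hG
  exact IsRegularRing.of_ringEquiv (R := L ⊗[(p'.under A).ResidueField] (p'.under A).Fiber B)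
    (Algebra.TensorProduct.cancelBaseChange (p'.under A).ResidueField p'.ResidueField
      p'.ResidueField L ((p'.under A).Fiber B)).symm.toRingEquiv

theorem isNormalHom_baseChange [IsNoetherianRing B] [IsNoetherianRing (A' ⊗[A] B)]
    (h : EGA4.IsNormalHom A B) : EGA4.IsNormalHom A' (A' ⊗[A] B) := by
  have hflat : Module.Flat A B := h.1
  refine ⟨inferInstance, fun p' _ => ?_⟩
  have hlo : p'.LiesOver (p'.under A) := ⟨rfl⟩
  let _ := Localization.AtPrime.algebraOfLiesOver (p'.under A) p'
  have hG := h.2 (p'.under A)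
  have hN := isNoetherianRing_fiber A B (p'.under A)
  refine isGeomNormal_of_algEquiv
    (S := p'.ResidueField ⊗[(p'.under A).ResidueField] (p'.under A).Fiber B)
    (S' := p'.Fiber (A' ⊗[A] B)) (fibreBaseChangeEquiv A B A' p' (p'.under A)).symm ?_
  intro L _ _ hL
  let _ : Algebra (p'.under A).ResidueField L :=
    ((algebraMap p'.ResidueField L).comp
      (algebraMap (p'.under A).ResidueField p'.ResidueField)).toAlgebra
  have : IsScalarTower (p'.under A).ResidueField p'.ResidueField L :=
    IsScalarTower.of_algebraMap_eq (fun _ => rfl)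
  have := isNoetherianRing_finite_tensor_fibre A B A' p' (p'.under A) L
  have h1 : EGA4.IsNormalRing (L ⊗[(p'.under A).ResidueField] (p'.under A).Fiber B) :=
    isNormalRing_tensor_of_isGeomNormal _ _ L hG
  exact isNormalRing_of_ringEquiv
    (Algebra.TensorProduct.cancelBaseChange (p'.under A).ResidueField p'.ResidueField
      p'.ResidueField L ((p'.under A).Fiber B)).symm.toRingEquiv h1

theorem isRegularHom_of_baseChange [IsNoetherianRing B] [Module.FaithfullyFlat A A']
    (h : CAlg.IsRegularHom A' (A' ⊗[A] B)) : CAlg.IsRegularHom A B := by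
  have hflat : Module.Flat A' (A' ⊗[A] B) := h.1
  refine ⟨Module.Flat.of_flat_tensorProduct A B A', fun p _ => ⟨isNoetherianRing_fiber A B p, ?_⟩⟩
  obtain ⟨p', hp', hlo⟩ := Ideal.exists_isPrime_liesOver_of_faithfullyFlat (B := A') p
  let _ := Localization.AtPrime.algebraOfLiesOver p p'
  obtain ⟨hN, hG⟩ := h.2 p'
  exact isGeometricallyRegular_of_baseChange p.ResidueField (p.Fiber B) p'.ResidueField
    (isGeometricallyRegular_of_algEquiv (fibreBaseChangeEquiv A B A' p' p) hG)

theorem isNormalHom_of_baseChange [Module.FaithfullyFlat A A']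
    (h : EGA4.IsNormalHom A' (A' ⊗[A] B)) : EGA4.IsNormalHom A B := by
  have hflat : Module.Flat A' (A' ⊗[A] B) := h.1
  refine ⟨Module.Flat.of_flat_tensorProduct A B A', fun p _ => ?_⟩
  obtain ⟨p', hp', hlo⟩ := Ideal.exists_isPrime_liesOver_of_faithfullyFlat (B := A') p
  let _ := Localization.AtPrime.algebraOfLiesOver p p'
  have hG := h.2 p'
  exact isGeomNormal_of_baseChange p.ResidueField (p.Fiber B) p'.ResidueField
    (isGeomNormal_of_algEquiv (fibreBaseChangeEquiv A B A' p' p) hG)

end BC

end Groth.Agent.Lib.Helper56
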