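import Groth.Agent.Lib.Helper56.FibreRegular
import Groth.Prelude.Def_EGA4b

set_option autoImplicit false
universe u v w

namespace Groth.Agent.Lib.Helper56

open LocCoh RingTheory.Sequence IsLocalRing
open scoped Pointwise

section FlatRkAscent

variable (A B : Type u) [CommRing A] [CommRing B] [IsNoetherianRing A] [IsNoetherianRing B]
  [Algebra A B] [Module.Flat A B]

omit [IsNoetherianRing A] in
theorem isRegularLocalRing_atPrime_of_fibre (q : Ideal B) [q.IsPrime]
    (hA : IsRegularLocalRing (Localization.AtPrime (q.comap (algebraMap A B))))
    (hF : IsRegularLocalRing (EGA4.FibLocRing A B q)) :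
    IsRegularLocalRing (Localization.AtPrime q) := by
  have hlo : q.LiesOver (q.comap (algebraMap A B)) := ⟨rfl⟩
  let _ := Localization.AtPrime.algebraOfLiesOver (q.comap (algebraMap A B)) q
  have hflat : Module.Flat (Localization.AtPrime (q.comap (algebraMap A B)))
      (Localization.AtPrime q) := inferInstance
  have hloc : IsLocalHom (algebraMap (Localization.AtPrime (q.comap (algebraMap A B)))
      (Localization.AtPrime q)) :=
    Localization.isLocalHom_localRingHom (q.comap (algebraMap A B)) q (algebraMap A B)
      Ideal.LiesOver.over
  have hmap : (maximalIdeal (Localization.AtPrime (q.comap (algebraMap A B)))).map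
        (algebraMap (Localization.AtPrime (q.comap (algebraMap A B))) (Localization.AtPrime q)) =
      (q.comap (algebraMap A B)).map (algebraMap A (Localization.AtPrime q)) := by
    rw [← Localization.AtPrime.map_eq_maximalIdeal, Ideal.map_map,
      ← IsScalarTower.algebraMap_eq]
  apply regular_of_flat_of_fibre_regular (Localization.AtPrime (q.comap (algebraMap A B)))
    (Localization.AtPrime q)
  exact IsRegularLocalRing.of_ringEquiv (Ideal.quotEquivOfEq hmap.symm)

omit [IsNoetherianRing A] [IsNoetherianRing B] [Module.Flat A B] in
theorem ringKrullDim_fibLocRing_le (q : Ideal B) [q.IsPrime] :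
    ringKrullDim (EGA4.FibLocRing A B q) ≤ q.height := by
  rw [← IsLocalization.AtPrime.ringKrullDim_eq_height q (Localization.AtPrime q)]
  exact ringKrullDim_quotient_le _

theorem height_comap_le_of_flat (q : Ideal B) [q.IsPrime] :
    (q.comap (algebraMap A B)).height ≤ q.height := by
  have hlo : q.LiesOver (q.comap (algebraMap A B)) := ⟨rfl⟩
  rw [Ideal.height_eq_height_add_of_liesOver_of_hasGoingDown (q.comap (algebraMap A B)) q]
  exact le_self_add

end FlatRkAscent

section LocalSelf

theorem isRegularLocalRing_of_hasRk_of_dim_le (R : Type u) [CommRing R] [IsLocalRing R]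
    (k : ℕ) (h : HasRk k R) (hd : ringKrullDim R ≤ k) : IsRegularLocalRing R := by
  have h1 : (maximalIdeal R).height ≤ k := by
    have := IsLocalRing.maximalIdeal_height_eq_ringKrullDim (R := R)
    rw [← this] at hd
    exact_mod_cast hd
  have h2 := h (maximalIdeal R) h1
  have hu : ∀ x ∈ (maximalIdeal R).primeCompl, IsUnit x := by
    intro x hx
    by_contra hnu
    exact hx ((mem_maximalIdeal x).mpr hnu)
  exact IsRegularLocalRing.of_ringEquiv
    (IsLocalization.atUnits R (maximalIdeal R).primeCompl
      (S := Localization.AtPrime (maximalIdeal R)) hu).symm.toRingEquiv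

theorem isRegularLocalRing_atPrime_of_hasRk_atPrime {A : Type u} [CommRing A] (p p' : Ideal A)
    [p.IsPrime] [p'.IsPrime] (hle : p' ≤ p) (k : ℕ) (h : HasRk k (Localization.AtPrime p))
    (hp' : p'.height ≤ k) : IsRegularLocalRing (Localization.AtPrime p') := by
  have hdisj : Disjoint (p.primeCompl : Set A) (p' : Set A) := by
    rw [Set.disjoint_left]
    intro a ha haq
    exact ha (hle haq)
  have hQprime : (p'.map (algebraMap A (Localization.AtPrime p))).IsPrime :=
    IsLocalization.isPrime_of_isPrime_disjoint p.primeCompl _ p' inferInstance hdisj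
  have hQc : (p'.map (algebraMap A (Localization.AtPrime p))).comap
      (algebraMap A (Localization.AtPrime p)) = p' := by
    have := IsLocalization.under_map_of_isPrime_disjoint p.primeCompl
      (Localization.AtPrime p) (I := p') inferInstance hdisj
    rwa [Ideal.under_def] at this
  have hht : (p'.map (algebraMap A (Localization.AtPrime p))).height ≤ k := by
    have := IsLocalization.height_under p.primeCompl
      (p'.map (algebraMap A (Localization.AtPrime p)))
    rw [Ideal.under_def, hQc] at this
    rw [← this]
    exact hp'
  have e := (IsLocalization.localizationLocalizationAtPrimeIsoLocalization p.primeCompl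
    (p'.map (algebraMap A (Localization.AtPrime p)))).toRingEquiv
  have hreg : IsRegularLocalRing (Localization.AtPrime
      (p'.map (algebraMap A (Localization.AtPrime p)))) := h _ hht
  have hreg2 : IsRegularLocalRing (Localization.AtPrime
      ((p'.map (algebraMap A (Localization.AtPrime p))).comap
        (algebraMap A (Localization.AtPrime p)))) := IsRegularLocalRing.of_ringEquiv e.symm
  exact isRegularLocalRing_atPrime_congr hQc

end LocalSelf

section Ascent

variable (A B : Type u) [CommRing A] [CommRing B] [IsNoetherianRing A] [IsNoetherianRing B]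
  [Algebra A B] [Module.Flat A B]

theorem hasRkAt_of_flat_of_fibres (k : ℕ)
    (hfib : ∀ (q : Ideal B) [q.IsPrime], HasRk k (EGA4.FibLocRing A B q))
    (q : Ideal B) [q.IsPrime] (hA : EGA4.HasRkAt k A (q.comap (algebraMap A B))) :
    EGA4.HasRkAt k B q := by
  unfold EGA4.HasRkAt at hA ⊢
  intro Q hQ hQk
  let e := (IsLocalization.localizationLocalizationAtPrimeIsoLocalization q.primeCompl
    Q).toRingEquiv
  have hht : (Q.comap (algebraMap B (Localization.AtPrime q))).height ≤ k := by
    have := IsLocalization.height_under q.primeCompl Q
    rw [Ideal.under_def] at this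
    rw [this]
    exact hQk
  have hle' : Q.comap (algebraMap B (Localization.AtPrime q)) ≤ q := by
    have h1 : Q ≤ maximalIdeal (Localization.AtPrime q) := IsLocalRing.le_maximalIdeal hQ.ne_top
    have h2 := Ideal.comap_mono (f := algebraMap B (Localization.AtPrime q)) h1
    rwa [show Ideal.comap (algebraMap B (Localization.AtPrime q))
      (maximalIdeal (Localization.AtPrime q)) = q from
      Localization.AtPrime.under_maximalIdeal] at h2
  set q' := Q.comap (algebraMap B (Localization.AtPrime q)) with hq'
  have hp'ht : (q'.comap (algebraMap A B)).height ≤ k :=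
    le_trans (height_comap_le_of_flat A B q') hht
  have hA' : IsRegularLocalRing (Localization.AtPrime (q'.comap (algebraMap A B))) :=
    isRegularLocalRing_atPrime_of_hasRk_atPrime (q.comap (algebraMap A B))
      (q'.comap (algebraMap A B)) (Ideal.comap_mono hle') k hA hp'ht
  have hne : (q'.comap (algebraMap A B)).map (algebraMap A (Localization.AtPrime q')) ≠ ⊤ := by
    intro htop
    have h1 : (q'.comap (algebraMap A B)).map (algebraMap A (Localization.AtPrime q')) ≤
        maximalIdeal (Localization.AtPrime q') := by
      rw [Ideal.map_le_iff_le_comap]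
      intro a ha
      rw [Ideal.mem_comap, IsScalarTower.algebraMap_apply A B (Localization.AtPrime q')]
      exact (IsLocalization.AtPrime.to_map_mem_maximal_iff (Localization.AtPrime q') q' _).mpr ha
    rw [htop] at h1
    exact (maximalIdeal.isMaximal _).ne_top (top_le_iff.mp h1)
  have hnt : Nontrivial (EGA4.FibLocRing A B q') := Ideal.Quotient.nontrivial_iff.mpr hne
  have hF : IsRegularLocalRing (EGA4.FibLocRing A B q') :=
    isRegularLocalRing_of_hasRk_of_dim_le _ k (hfib q')
      (le_trans (ringKrullDim_fibLocRing_le A B q') (by exact_mod_cast hht))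
  have hB' := isRegularLocalRing_atPrime_of_fibre A B q' hA' hF
  exact IsRegularLocalRing.of_ringEquiv e

end Ascent

end Groth.Agent.Lib.Helper56
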