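import Groth.Agent.Lib.Helper56.FibreCM
import Groth.Agent.Lib.Helper56.FlatRkAscent

set_option autoImplicit false
universe u

namespace Groth.Agent.Lib.Helper56

open LocCoh IsLocalRing TensorProduct

section RegFibre

variable (A B : Type u) [CommRing A] [CommRing B] [Algebra A B] [IsNoetherianRing B]

theorem isRegularLocalRing_fibLocRing_of_fiber (r : Ideal B) [r.IsPrime]
    (h : IsRegularRing ((r.comap (algebraMap A B)).Fiber B)) :
    IsRegularLocalRing (EGA4.FibLocRing A B r) := by
  obtain ⟨Q, hQ, hQr⟩ := exists_fiber_prime A B r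
  have h1 : IsRegularLocalRing (Localization.AtPrime Q) :=
    h.isRegularLocalRing_localization Q
  have h2 : IsRegularLocalRing (EGA4.FibLocRing A B
      (Q.comap (Algebra.TensorProduct.includeRight :
        B →ₐ[A] (r.comap (algebraMap A B)).Fiber B))) :=
    IsRegularLocalRing.of_ringEquiv (R := Localization.AtPrime Q) (fiberLocEquiv A B _ Q)
  have key : ∀ (r' : Ideal B) [r'.IsPrime], r' = r →
      IsRegularLocalRing (EGA4.FibLocRing A B r') →
      IsRegularLocalRing (EGA4.FibLocRing A B r) := by
    intro r' _ hr' hh
    subst hr'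
    exact hh
  exact key _ hQr h2

theorem isRegularRing_fiber_of_fibLocRing (p : Ideal A) [p.IsPrime]
    (h : ∀ (r : Ideal B) [r.IsPrime], r.comap (algebraMap A B) = p →
      IsRegularLocalRing (EGA4.FibLocRing A B r)) :
    IsRegularRing (p.Fiber B) := by
  have := isNoetherianRing_fiber A B p
  rw [isRegularRing_iff]
  intro Q _
  have := h _ (comap_includeRight_comap A B p Q)
  exact IsRegularLocalRing.of_ringEquiv (R' := Localization.AtPrime Q) (fiberLocEquiv A B p Q).symm

theorem isRegularRing_of_flat_of_fibres [IsNoetherianRing A] [Module.Flat A B]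
    (hA : IsRegularRing A)
    (hfib : ∀ (p : Ideal A) [p.IsPrime], IsRegularRing (p.Fiber B)) :
    IsRegularRing B := by
  rw [isRegularRing_iff]
  intro q _
  exact isRegularLocalRing_atPrime_of_fibre A B q
    (hA.isRegularLocalRing_localization _)
    (isRegularLocalRing_fibLocRing_of_fiber A B q (hfib _))

end RegFibre

section GeomReg

theorem isRegularRing_of_isGeometricallyRegular (k S : Type u) [Field k] [CommRing S]
    [Algebra k S] (h : CAlg.IsGeometricallyRegular k S) : IsRegularRing S := by
  have h1 : IsRegularRing (TensorProduct k k S) := h k (Module.Finite.self k)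
  exact IsRegularRing.of_ringEquiv (Algebra.TensorProduct.lid k S).toRingEquiv

theorem isRegularRing_of_isRegularHom (R S : Type u) [CommRing R] [CommRing S] [Algebra R S]
    [IsRegularRing R] [IsNoetherianRing S] (h : CAlg.IsRegularHom R S) : IsRegularRing S := by
  have hflat : Module.Flat R S := h.1
  exact isRegularRing_of_flat_of_fibres R S inferInstance
    (fun p _ => isRegularRing_of_isGeometricallyRegular _ _ (h.2 p).2)

end GeomReg

end Groth.Agent.Lib.Helper56
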