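import Groth.Agent.Lib.Helper56.RegularHom
import Groth.Agent.Lib.Helper56.NormalDescent
import Groth.Agent.Lib.Helper56.FiberLoc
import Groth.Agent.S1128

set_option autoImplicit false
universe u

namespace Groth.Agent.Lib.Helper56

open LocCoh IsLocalRing TensorProduct

section Descent

theorem isNoetherianRing_of_faithfullyFlat (A B : Type u) [CommRing A] [CommRing B]
    [Algebra A B] [Module.FaithfullyFlat A B] [IsNoetherianRing B] : IsNoetherianRing A := by
  rw [isNoetherianRing_iff, isNoetherian_iff']
  have hB : WellFoundedGT (Ideal B) := by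
    rw [← isNoetherian_iff', ← isNoetherianRing_iff]; infer_instance
  have hmono : StrictMono (Ideal.map (algebraMap A B) : Ideal A → Ideal B) := by
    intro I J hIJ
    refine lt_of_le_of_ne (Ideal.map_mono hIJ.le) ?_
    intro h
    have := congrArg (Ideal.comap (algebraMap A B)) h
    rw [Ideal.comap_map_eq_self_of_faithfullyFlat,
      Ideal.comap_map_eq_self_of_faithfullyFlat] at this
    exact hIJ.ne this
  exact hmono.wellFoundedGT

theorem isRegularRing_of_faithfullyFlat (A B : Type u) [CommRing A] [CommRing B]
    [Algebra A B] [Module.FaithfullyFlat A B] (h : IsRegularRing B) : IsRegularRing A := by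
  have hN : IsNoetherianRing A := isNoetherianRing_of_faithfullyFlat A B
  rw [isRegularRing_iff]
  intro P hP
  obtain ⟨Q, hQp, hl⟩ := Ideal.exists_isPrime_liesOver_of_faithfullyFlat (B := B) P
  have hreg : IsRegularLocalRing (Localization.AtPrime Q) := h.isRegularLocalRing_localization Q
  let _ := Localization.AtPrime.algebraOfLiesOver P Q
  have hflat : Module.Flat (Localization.AtPrime P) (Localization.AtPrime Q) := inferInstance
  have hloc : IsLocalHom (algebraMap (Localization.AtPrime P) (Localization.AtPrime Q)) :=
    Localization.isLocalHom_localRingHom P Q (algebraMap A B) Ideal.LiesOver.over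
  exact Groth.Agent.S0565.result (Localization.AtPrime P) (Localization.AtPrime Q)

theorem isNormalRing_of_faithfullyFlat (A B : Type u) [CommRing A] [CommRing B]
    [Algebra A B] [Module.FaithfullyFlat A B] (h : EGA4.IsNormalRing B) : EGA4.IsNormalRing A := by
  intro P hP
  obtain ⟨Q, hQp, hl⟩ := Ideal.exists_isPrime_liesOver_of_faithfullyFlat (B := B) P
  obtain ⟨h1, h2⟩ := h Q
  let _ := Localization.AtPrime.algebraOfLiesOver P Q
  have hflat : Module.Flat (Localization.AtPrime P) (Localization.AtPrime Q) := inferInstance
  have hloc : IsLocalHom (algebraMap (Localization.AtPrime P) (Localization.AtPrime Q)) :=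
    Localization.isLocalHom_localRingHom P Q (algebraMap A B) Ideal.LiesOver.over
  have hff : Module.FaithfullyFlat (Localization.AtPrime P) (Localization.AtPrime Q) :=
    Module.FaithfullyFlat.of_flat_of_isLocalHom
  exact isDomain_and_isIntegrallyClosed_of_faithfullyFlat _ (Localization.AtPrime Q)

end Descent

section FibreTensor

variable (A B C : Type u) [CommRing A] [CommRing B] [CommRing C] [Algebra A B] [Algebra B C]
  [Algebra A C] [IsScalarTower A B C]

noncomputable def fibreTensorEquiv (p : Ideal A) [p.IsPrime] (k' : Type u) [Field k']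
    [Algebra p.ResidueField k'] [Algebra A k'] [IsScalarTower A p.ResidueField k'] :
    (B ⊗[A] k') ≃+* (k' ⊗[p.ResidueField] (p.Fiber B)) :=
  (Algebra.TensorProduct.comm A B k').toRingEquiv.trans
    (Algebra.TensorProduct.cancelBaseChange A p.ResidueField k' k' B).symm.toRingEquiv

noncomputable def fibreTensorEquiv' (p : Ideal A) [p.IsPrime] (k' : Type u) [Field k']
    [Algebra p.ResidueField k'] [Algebra A k'] [IsScalarTower A p.ResidueField k'] :
    ((B ⊗[A] k') ⊗[B] C) ≃+* (k' ⊗[p.ResidueField] (p.Fiber C)) :=
  (((Algebra.TensorProduct.comm B (B ⊗[A] k') C).toRingEquiv.trans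
    (Algebra.TensorProduct.cancelBaseChange A B C C k').toRingEquiv).trans
    (Algebra.TensorProduct.comm A C k').toRingEquiv).trans
    (Algebra.TensorProduct.cancelBaseChange A p.ResidueField k' k' C).symm.toRingEquiv

end FibreTensor

end Groth.Agent.Lib.Helper56
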