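import Groth.Agent.Lib.Helper56.Normal2
import Groth.Agent.S0560
import Groth.Agent.S0564

set_option autoImplicit false
universe u v w

namespace Groth.Agent.Lib.Helper56

open LocCoh RingTheory.Sequence IsLocalRing
open scoped Pointwise

section S2Lift

theorem hasSk_two_of_quotient_normal (A : Type u) [CommRing A] [IsNoetherianRing A]
    [IsLocalRing A] [IsDomain A] (t : A) (ht : t ∈ maximalIdeal A) (ht0 : t ≠ 0)
    [IsDomain (A ⧸ Ideal.span {t})] [IsIntegrallyClosed (A ⧸ Ideal.span {t})] :
    HasSk 2 A A := by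
  rw [hasSk_self_iff]
  intro q _
  obtain ⟨k, hk⟩ := exists_natCast_eq_ringKrullDim (Localization.AtPrime q)
  rcases Nat.lt_or_ge k 2 with hk2 | hk2
  · interval_cases k
    · rw [hk]
      simp
    · have h1 : 1 ≤ ringKrullDim (Localization.AtPrime q) := by rw [hk]; norm_num
      have := one_le_depth_of_domain_local _ h1
      rw [hk]
      refine le_trans (min_le_right _ _) ?_
      exact_mod_cast this
  · have h2 : 2 ≤ q.height := by
      have h3 := IsLocalization.AtPrime.ringKrullDim_eq_height q (Localization.AtPrime q)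
      rw [hk] at h3
      have h4 : ((k : ℕ∞) : WithBot ℕ∞) = (q.height : WithBot ℕ∞) := by exact_mod_cast h3
      have h5 : (k : ℕ∞) = q.height := WithBot.coe_injective h4
      rw [← h5]
      exact_mod_cast hk2
    have := two_le_depth_loc_of_quotient_normal A t ht ht0 q h2
    refine le_trans (min_le_left _ _) ?_
    have h' : ((2 : ℕ∞) : WithBot ℕ∞) ≤
        ((depth (Localization.AtPrime q) (Localization.AtPrime q) : ℕ∞) : WithBot ℕ∞) :=
      WithBot.coe_le_coe.mpr this
    simpa using h'

end S2Lift

section R1Lift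

theorem isRegularLocalRing_atPrime_congr {A : Type u} [CommRing A] {q q' : Ideal A}
    [hq : q.IsPrime] [_hq' : q'.IsPrime] (h : q' = q)
    [hreg : IsRegularLocalRing (Localization.AtPrime q')] :
    IsRegularLocalRing (Localization.AtPrime q) := by
  subst h
  exact hreg

theorem isRegularLocalRing_atPrime_of_le {A : Type u} [CommRing A] (p q : Ideal A) [p.IsPrime]
    [q.IsPrime] (hqp : q ≤ p) [IsRegularLocalRing (Localization.AtPrime p)] :
    IsRegularLocalRing (Localization.AtPrime q) := by
  have hdisj : Disjoint (p.primeCompl : Set A) (q : Set A) := by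
    rw [Set.disjoint_left]
    intro a ha haq
    exact ha (hqp haq)
  have hQprime : (q.map (algebraMap A (Localization.AtPrime p))).IsPrime :=
    IsLocalization.isPrime_of_isPrime_disjoint p.primeCompl _ q inferInstance hdisj
  have hQc : (q.map (algebraMap A (Localization.AtPrime p))).comap
      (algebraMap A (Localization.AtPrime p)) = q := by
    have := IsLocalization.under_map_of_isPrime_disjoint p.primeCompl
      (Localization.AtPrime p) (I := q) inferInstance hdisj
    rwa [Ideal.under_def] at this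
  have e := (IsLocalization.localizationLocalizationAtPrimeIsoLocalization p.primeCompl
    (q.map (algebraMap A (Localization.AtPrime p)))).toRingEquiv
  have hreg : IsRegularLocalRing (Localization.AtPrime
      (q.map (algebraMap A (Localization.AtPrime p)))) := Groth.Agent.S0564.result _ _
  have hreg2 : IsRegularLocalRing (Localization.AtPrime
      ((q.map (algebraMap A (Localization.AtPrime p))).comap
        (algebraMap A (Localization.AtPrime p)))) := IsRegularLocalRing.of_ringEquiv e.symm
  exact isRegularLocalRing_atPrime_congr hQc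

theorem isRegularLocalRing_atPrime_of_mem (A : Type u) [CommRing A] [IsNoetherianRing A]
    [IsDomain A] (t : A) (ht0 : t ≠ 0)
    [IsDomain (A ⧸ Ideal.span {t})] [IsIntegrallyClosed (A ⧸ Ideal.span {t})]
    (p : Ideal A) [p.IsPrime] (htp : t ∈ p) (hp : p.height ≤ 2) :
    IsRegularLocalRing (Localization.AtPrime p) := by
  have hle : Ideal.span {t} ≤ p := (Ideal.span_singleton_le_iff_mem p).mpr htp
  have hpbar : (p.map (Ideal.Quotient.mk (Ideal.span {t}))).IsPrime :=
    Ideal.isPrime_map_quotientMk_of_isPrime hle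
  obtain ⟨e⟩ := nonempty_quotLocEquiv (Ideal.span {t}) p hle
  have hmap : (Ideal.span {t}).map (algebraMap A (Localization.AtPrime p)) =
      Ideal.span {algebraMap A (Localization.AtPrime p) t} := by
    rw [Ideal.map_span, Set.image_singleton]
  have htB_mem : algebraMap A (Localization.AtPrime p) t ∈
      maximalIdeal (Localization.AtPrime p) :=
    (IsLocalization.AtPrime.to_map_mem_maximal_iff (Localization.AtPrime p) p t).mpr htp
  have htB_reg : algebraMap A (Localization.AtPrime p) t ∈
      nonZeroDivisors (Localization.AtPrime p) := by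
    apply mem_nonZeroDivisors_of_ne_zero
    rw [Ne, map_eq_zero_iff _ (IsLocalization.injective _ p.primeCompl_le_nonZeroDivisors)]
    exact ht0
  have hdim := ringKrullDim_quotient_span_singleton_succ_eq_ringKrullDim_of_mem_nonZeroDivisors
    htB_reg htB_mem
  have hdimB := IsLocalization.AtPrime.ringKrullDim_eq_height p (Localization.AtPrime p)
  let e' : (Localization.AtPrime p ⧸ Ideal.span {algebraMap A (Localization.AtPrime p) t}) ≃+*
      Localization.AtPrime (p.map (Ideal.Quotient.mk (Ideal.span {t}))) :=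
    (Ideal.quotEquivOfEq hmap.symm).trans e
  have hdim' : ringKrullDim
      (Localization.AtPrime p ⧸ Ideal.span {algebraMap A (Localization.AtPrime p) t}) =
      (p.map (Ideal.Quotient.mk (Ideal.span {t}))).height := by
    rw [ringKrullDim_eq_of_ringEquiv e', IsLocalization.AtPrime.ringKrullDim_eq_height
      (p.map (Ideal.Quotient.mk (Ideal.span {t})))]
  have hpbar_ht : (p.map (Ideal.Quotient.mk (Ideal.span {t}))).height ≤ 1 := by
    have h1 : (((p.map (Ideal.Quotient.mk (Ideal.span {t}))).height : ℕ∞) : WithBot ℕ∞) + 1 ≤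
        (1 : WithBot ℕ∞) + 1 := by
      rw [← hdim', hdim, hdimB]
      have : ((p.height : ℕ∞) : WithBot ℕ∞) ≤ ((2 : ℕ∞) : WithBot ℕ∞) :=
        WithBot.coe_le_coe.mpr hp
      refine le_trans this ?_
      norm_num
    have := Helper67.withBot_enat_le_of_add_one_le h1
    exact_mod_cast this
  have hR1 := hasRk_one_of_normal (A ⧸ Ideal.span {t}) (fun P _ => normal_localizations _ P)
  have hreg1 : IsRegularLocalRing
      (Localization.AtPrime (p.map (Ideal.Quotient.mk (Ideal.span {t})))) := hR1 _ hpbar_ht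
  have hreg2 : IsRegularLocalRing
      (Localization.AtPrime p ⧸ Ideal.span {algebraMap A (Localization.AtPrime p) t}) :=
    IsRegularLocalRing.of_ringEquiv e'.symm
  exact Groth.Agent.S0560.result _ _ htB_mem htB_reg

theorem bot_covBy_of_height_le_one {A : Type u} [CommRing A] [IsDomain A] (q : Ideal A)
    [hqp : q.IsPrime] (hq : q.height ≤ 1) (hq0 : q ≠ ⊥) :
    (⊥ : PrimeSpectrum A) ⋖ ⟨q, hqp⟩ := by
  refine ⟨bot_lt_iff_ne_bot.mpr (fun h => hq0 (congrArg PrimeSpectrum.asIdeal h)), ?_⟩
  intro c hc1 hc2
  have h1 : (⊥ : Ideal A) < c.asIdeal := hc1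
  have h2 : c.asIdeal < q := hc2
  have : (⊥ : Ideal A).IsPrime := Ideal.isPrime_bot
  have h3 := Ideal.height_add_one_le_of_lt_of_isPrime h1
  have h4 := Ideal.height_add_one_le_of_lt_of_isPrime h2
  have h3' : (1 : ℕ∞) ≤ c.asIdeal.height := le_trans le_add_self h3
  have h5 : (1 : ℕ∞) + 1 ≤ 1 := le_trans (by gcongr) (le_trans h4 hq)
  norm_num at h5

theorem covBy_of_mem_minimalPrimes_sup {A : Type u} [CommRing A] [IsNoetherianRing A]
    (q p : Ideal A) [hqp : q.IsPrime] [hpp : p.IsPrime] (t : A) (htq : t ∉ q)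
    (hp : p ∈ (q ⊔ Ideal.span {t}).minimalPrimes) :
    (⟨q, hqp⟩ : PrimeSpectrum A) ⋖ ⟨p, hpp⟩ := by
  have hqle : q ≤ p := le_trans le_sup_left hp.1.2
  have htp : t ∈ p := hp.1.2 (Ideal.mem_sup_right (Ideal.mem_span_singleton_self t))
  have hlt : q < p := lt_of_le_of_ne hqle (fun h => htq (h ▸ htp))
  refine ⟨hlt, ?_⟩
  intro c hc1 hc2
  have h1 : q < c.asIdeal := hc1
  have h2 : c.asIdeal < p := hc2
  have hht := Ideal.map_height_le_one_of_mem_minimalPrimes hp
  have hcbar : (c.asIdeal.map (Ideal.Quotient.mk q)).IsPrime :=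
    Ideal.isPrime_map_quotientMk_of_isPrime h1.le
  have hpbar : (p.map (Ideal.Quotient.mk q)).IsPrime :=
    Ideal.isPrime_map_quotientMk_of_isPrime hqle
  have hbot : (⊥ : Ideal (A ⧸ q)).IsPrime := Ideal.isPrime_bot
  have h3 : (⊥ : Ideal (A ⧸ q)) < c.asIdeal.map (Ideal.Quotient.mk q) := by
    rw [bot_lt_iff_ne_bot]
    intro h
    have := Ideal.comap_map_mk h1.le
    rw [h, ← RingHom.ker_eq_comap_bot, Ideal.mk_ker] at this
    exact h1.ne this
  have h4 : c.asIdeal.map (Ideal.Quotient.mk q) < p.map (Ideal.Quotient.mk q) := by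
    refine lt_of_le_of_ne (Ideal.map_mono h2.le) ?_
    intro h
    have e1 := Ideal.comap_map_mk h1.le
    have e2 := Ideal.comap_map_mk hqle
    rw [h, e2] at e1
    exact h2.ne e1.symm
  have h5 := Ideal.height_add_one_le_of_lt_of_isPrime h3
  have h6 := Ideal.height_add_one_le_of_lt_of_isPrime h4
  have h5' : (1 : ℕ∞) ≤ (c.asIdeal.map (Ideal.Quotient.mk q)).height := le_trans le_add_self h5
  have h7 : (1 : ℕ∞) + 1 ≤ 1 := le_trans (by gcongr) (le_trans h6 hht)
  norm_num at h7

theorem hasRk_one_of_quotient_normal (A : Type u) [CommRing A] [IsNoetherianRing A]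
    [IsLocalRing A] [IsDomain A] (hcat : CAlg.IsCatenary A) (t : A)
    (ht : t ∈ maximalIdeal A) (ht0 : t ≠ 0)
    [IsDomain (A ⧸ Ideal.span {t})] [IsIntegrallyClosed (A ⧸ Ideal.span {t})] :
    HasRk 1 A := by
  intro q _ hq
  by_cases htq : t ∈ q
  · exact isRegularLocalRing_atPrime_of_mem A t ht0 q htq (le_trans hq (by norm_num))
  · have hne : q ⊔ Ideal.span {t} ≠ ⊤ := by
      intro h
      have hle : q ⊔ Ideal.span {t} ≤ maximalIdeal A :=
        sup_le (IsLocalRing.le_maximalIdeal (Ideal.IsPrime.ne_top inferInstance))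
          ((Ideal.span_singleton_le_iff_mem _).mpr ht)
      rw [h] at hle
      exact (maximalIdeal.isMaximal A).ne_top (top_le_iff.mp hle)
    obtain ⟨p, hp⟩ := Ideal.nonempty_minimalPrimes hne
    have hpp : p.IsPrime := hp.1.1
    have hqp : q ≤ p := le_trans le_sup_left hp.1.2
    have htp : t ∈ p := hp.1.2 (Ideal.mem_sup_right (Ideal.mem_span_singleton_self t))
    have hp2 : p.height ≤ 2 := by
      by_cases hq0 : q = ⊥
      · rw [hq0, bot_sup_eq] at hp
        exact le_trans (Ideal.height_le_one_of_isPrincipal_of_mem_minimalPrimes _ p hp)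
          (by norm_num)
      · have h1 := bot_covBy_of_height_le_one q hq hq0
        have h2 := covBy_of_mem_minimalPrimes_sup q p t htq hp
        exact (height_eq_two_of_covBy hcat _ _ h1 h2).le
    have := isRegularLocalRing_atPrime_of_mem A t ht0 p htp hp2
    exact isRegularLocalRing_atPrime_of_le p q hqp

end R1Lift

end Groth.Agent.Lib.Helper56
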