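import Groth.Agent.Lib.Helper38.AnUnram
import Groth.Agent.Lib.Helper38.Tate
import Groth.Agent.Lib.Helper56.NormalReduced
import Groth.Agent.S0568
import Groth.Agent.S0543
import Groth.Agent.Lib.Helper94.GeomRedFib

set_option autoImplicit false
set_option linter.unusedSectionVars false
set_option linter.style.haveILetI false
universe u
namespace Groth.Agent.Lib.Helper56
open TensorProduct IsLocalRing EGA4

theorem isReduced_fractionRing_tensor (B Ah L : Type u) [CommRing B] [CommRing Ah] [Algebra B Ah]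
    [CommRing L] [Algebra B L] (h : IsReduced (Ah ⊗[B] L)) :
    IsReduced (FractionRing Ah ⊗[B] L) := by
  let R := FractionRing Ah
  let φ : Ah ⊗[B] L →ₐ[B] R ⊗[B] L :=
    Algebra.TensorProduct.map (IsScalarTower.toAlgHom B Ah R) (AlgHom.id B L)
  let _ : Algebra (Ah ⊗[B] L) (R ⊗[B] L) := φ.toRingHom.toAlgebra
  have hstφ : IsScalarTower Ah (Ah ⊗[B] L) (R ⊗[B] L) :=
    IsScalarTower.of_algebraMap_eq (fun a => by
      change _ = φ (a ⊗ₜ 1)
      simp only [φ, Algebra.TensorProduct.map_tmul, map_one]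
      rfl)
  have hloc : IsLocalization (Algebra.algebraMapSubmonoid (Ah ⊗[B] L) (nonZeroDivisors Ah))
      (R ⊗[B] L) := by
    refine IsLocalization.tensorProduct_tensorProduct B L (nonZeroDivisors Ah) R ?_
    ext b
    change φ (1 ⊗ₜ b) = 1 ⊗ₜ b
    simp [φ]
  exact isReduced_localizationPreserves
    (Algebra.algebraMapSubmonoid (Ah ⊗[B] L) (nonZeroDivisors Ah)) (R ⊗[B] L) h

section FormalNagata

variable (A : Type u) [CommRing A] [IsNoetherianRing A] [IsLocalRing A]

theorem includeRight_quot_surjective (p : Ideal A) (B : Type u) [CommRing B] [Algebra A B] :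
    Function.Surjective (Algebra.TensorProduct.includeRight : B →ₐ[A] (A ⧸ p) ⊗[A] B) := by
  intro x
  induction x using TensorProduct.induction_on with
  | zero => exact ⟨0, map_zero _⟩
  | tmul a b =>
    obtain ⟨a, rfl⟩ := Ideal.Quotient.mk_surjective a
    refine ⟨a • b, ?_⟩
    rw [Algebra.TensorProduct.includeRight_apply, ← TensorProduct.smul_tmul]
    congr 1
    rw [Algebra.smul_def, mul_one]
    rfl
  | add x y hx hy =>
    obtain ⟨x', rfl⟩ := hx
    obtain ⟨y', rfl⟩ := hy
    exact ⟨x' + y', map_add _ _ _⟩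

theorem isN2_quotient_of_hasGeomReducedFormalFibres
    (hA : EGA4.HasGeomReducedFormalFibres A) (p : Ideal A) [p.IsPrime] : CAlg.IsN2 (A ⧸ p) := by
  intro L _ _ _ _ hfin
  let Ah := (A ⧸ p) ⊗[A] Cpl A
  have hNC : IsNoetherianRing (Cpl A) := Groth.Agent.S0543.result A _
  have hffA : Module.FaithfullyFlat A (Cpl A) := Module.FaithfullyFlat.of_flat_of_isLocalHom
  have hsurj := includeRight_quot_surjective A p (Cpl A)
  have hNAh : IsNoetherianRing Ah :=
    isNoetherianRing_of_surjective (Cpl A) Ah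
      (Algebra.TensorProduct.includeRight : Cpl A →ₐ[A] Ah).toRingHom hsurj
  have hNagC := Groth.Agent.S0568.result (Cpl A)
  have hNag : ∀ (q : Ideal Ah) [q.IsPrime], CAlg.IsN2 (Ah ⧸ q) := by
    intro q _
    let g : Cpl A →+* Ah ⧸ q := (Ideal.Quotient.mk q).comp
      (Algebra.TensorProduct.includeRight : Cpl A →ₐ[A] Ah).toRingHom
    have hg : Function.Surjective g := Ideal.Quotient.mk_surjective.comp hsurj
    have hker : (RingHom.ker g).IsPrime := RingHom.ker_isPrime g
    exact Groth.Agent.Lib.Helper38.Tate.isN2_of_ringEquiv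
      (RingHom.quotientKerEquivOfSurjective hg) (hNagC.2 (RingHom.ker g))
  let κ := p.ResidueField
  have hinjL : Function.Injective (algebraMap (A ⧸ p) L) := by
    rw [IsScalarTower.algebraMap_eq (A ⧸ p) (FractionRing (A ⧸ p)) L]
    exact (algebraMap (FractionRing (A ⧸ p)) L).injective.comp
      (IsFractionRing.injective (A ⧸ p) (FractionRing (A ⧸ p)))
  let _ : Algebra A L := ((algebraMap (A ⧸ p) L).comp (algebraMap A (A ⧸ p))).toAlgebra
  have hst1 : IsScalarTower A (A ⧸ p) L := IsScalarTower.of_algebraMap_eq (fun _ => rfl)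
  let _ : Algebra κ L := (IsFractionRing.lift (K := κ) hinjL).toAlgebra
  have hst2 : IsScalarTower (A ⧸ p) κ L :=
    IsScalarTower.of_algebraMap_eq (fun x => (IsFractionRing.lift_algebraMap hinjL x).symm)
  have hst3 : IsScalarTower A κ L := by
    refine IsScalarTower.of_algebraMap_eq (fun x => ?_)
    rw [IsScalarTower.algebraMap_apply A (A ⧸ p) L, IsScalarTower.algebraMap_apply (A ⧸ p) κ L,
      ← IsScalarTower.algebraMap_apply A (A ⧸ p) κ]
  have halgK : Algebra.IsAlgebraic (FractionRing (A ⧸ p)) L := Algebra.IsAlgebraic.of_finite _ _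
  have halgB : Algebra.IsAlgebraic (A ⧸ p) L :=
    (IsFractionRing.comap_isAlgebraic_iff (A := A ⧸ p) (K := FractionRing (A ⧸ p)) (C := L)).mpr halgK
  have halgκ : Algebra.IsAlgebraic κ L :=
    (IsFractionRing.comap_isAlgebraic_iff (A := A ⧸ p) (K := κ) (C := L)).mp halgB
  have hgr : Algebra.IsGeometricallyReduced κ (κ ⊗[A] Cpl A) := hA p
  have hred1 : IsReduced (L ⊗[κ] (κ ⊗[A] Cpl A)) := inferInstance
  have hred2 : IsReduced (L ⊗[A] Cpl A) :=
    isReduced_of_injective (Algebra.TensorProduct.cancelBaseChange A κ κ L (Cpl A)).symm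
      (Algebra.TensorProduct.cancelBaseChange A κ κ L (Cpl A)).symm.injective
  have hred3 : IsReduced (L ⊗[A ⧸ p] Ah) :=
    isReduced_of_injective (Algebra.TensorProduct.cancelBaseChange A (A ⧸ p) (A ⧸ p) L (Cpl A))
      (Algebra.TensorProduct.cancelBaseChange A (A ⧸ p) (A ⧸ p) L (Cpl A)).injective
  have hred4 : IsReduced (Ah ⊗[A ⧸ p] L) :=
    isReduced_of_injective (Algebra.TensorProduct.comm (A ⧸ p) Ah L)
      (Algebra.TensorProduct.comm (A ⧸ p) Ah L).injective
  have hredAh : IsReduced Ah :=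
    isReduced_of_injective (Algebra.TensorProduct.includeLeft : Ah →ₐ[A ⧸ p] Ah ⊗[A ⧸ p] L)
      (Algebra.TensorProduct.includeLeft_injective hinjL)
  have hred5 : IsReduced (FractionRing Ah ⊗[A ⧸ p] L) :=
    isReduced_fractionRing_tensor (A ⧸ p) Ah L hred4
  exact Groth.Agent.Lib.Helper38.AnUnram.finite_integralClosure_of_tensor_reduced
    (A ⧸ p) Ah L (FractionRing Ah) hNag hred5

theorem isNagata_of_hasGeomReducedFormalFibres
    (hA : EGA4.HasGeomReducedFormalFibres A) : CAlg.IsNagata A :=
  ⟨inferInstance, fun p _ => isN2_quotient_of_hasGeomReducedFormalFibres A hA p⟩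

theorem isReduced_cpl_of_hasGeomReducedFormalFibres [IsReduced A]
    (hA : EGA4.HasGeomReducedFormalFibres A) : IsReduced (Cpl A) := by
  have hffA : Module.FaithfullyFlat A (Cpl A) := Module.FaithfullyFlat.of_flat_of_isLocalHom
  refine Groth.Agent.Lib.Helper94.isReduced_of_flat_of_fibers A (Cpl A) (fun p => ?_)
  haveI : (p.1 : Ideal A).IsPrime := p.2.1.1
  haveI : Algebra.IsGeometricallyReduced p.1.ResidueField (p.1.Fiber (Cpl A)) := hA p.1
  exact Algebra.isReduced_of_isGeometricallyReduced p.1.ResidueField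

theorem finite_integralClosure_of_hasGeomReducedFormalFibres [IsReduced A]
    (hA : EGA4.HasGeomReducedFormalFibres A) :
    Module.Finite A (integralClosure A (FractionRing A)) := by
  have hNag := isNagata_of_hasGeomReducedFormalFibres A hA
  exact Groth.Agent.Lib.Helper38.AnUnram.finite_integralClosure_of_reduced_finite A
    (FractionRing A) (FractionRing A) (fun q _ => hNag.2 q)

theorem hasGeomReducedFormalFibres_of_hasGeomNormalFormalFibres
    (hA : EGA4.HasGeomNormalFormalFibres A) : EGA4.HasGeomReducedFormalFibres A :=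
  fun p _ => isGeometricallyReduced_of_isGeomNormal _ _ (hA p)

end FormalNagata

end Groth.Agent.Lib.Helper56
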