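import Groth.Agent.Lib.Helper56.SemilocalCpl
import Groth.Agent.Lib.Helper56.FormalNagata
import Groth.Agent.Lib.Helper56.HomBaseChange2
import Groth.Agent.Lib.Helper56.NormalComp
import Groth.Agent.Lib.Helper56.FlatSk
import Groth.Agent.Lib.Helper57.NormalRing
import Groth.Agent.Lib.Helper87.GeomUnibranch

set_option autoImplicit false
set_option linter.unusedSectionVars false
set_option linter.style.haveILetI false
universe u
namespace Groth.Agent.Lib.Helper56
open TensorProduct IsLocalRing EGA4

section HenselFormal

variable (A : Type u) [CommRing A] [IsNoetherianRing A] [IsLocalRing A]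

theorem isNoetherianRing_tensor_cpl (B : Type u) [CommRing B] [Algebra A B] [Module.Finite A B] :
    IsNoetherianRing (B ⊗[A] Cpl A) := by
  have hNC : IsNoetherianRing (Cpl A) := Groth.Agent.S0543.result A _
  have h1 : IsNoetherianRing (Cpl A ⊗[A] B) := IsNoetherianRing.of_finite (Cpl A) _
  exact isNoetherianRing_of_ringEquiv _ (Algebra.TensorProduct.comm A (Cpl A) B).toRingEquiv

theorem isNormalRing_tensor_cpl_of_finite (h : EGA4.HasGeomNormalFormalFibres A)
    (B : Type u) [CommRing B] [Algebra A B] [Module.Finite A B] (hB : EGA4.IsNormalRing B) :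
    EGA4.IsNormalRing (B ⊗[A] Cpl A) := by
  have hNC : IsNoetherianRing (Cpl A) := Groth.Agent.S0543.result A _
  have hNB : IsNoetherianRing B := IsNoetherianRing.of_finite A B
  have hNT := isNoetherianRing_tensor_cpl A B
  have hffA : Module.FaithfullyFlat A (Cpl A) := Module.FaithfullyFlat.of_flat_of_isLocalHom
  have hNH : EGA4.IsNormalHom A (Cpl A) := ⟨inferInstance, h⟩
  have hNH' : EGA4.IsNormalHom B (B ⊗[A] Cpl A) := isNormalHom_baseChange A (Cpl A) B hNH
  exact isNormalRing_of_flat_of_fibres B (B ⊗[A] Cpl A) hB
    (fun p _ => isNormalRing_of_isGeomNormal _ _ (hNH'.2 p))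

theorem isLocalRing_tensor_cpl_of_finite (B : Type u) [CommRing B] [Algebra A B]
    [Module.Finite A B] [IsLocalRing B] : IsLocalRing (B ⊗[A] Cpl A) := by
  obtain ⟨e⟩ := nonempty_jacobsonCplEquiv A B
  have hNB : IsNoetherianRing B := IsNoetherianRing.of_finite A B
  have key : ∀ I J : Ideal B, I = J → IsLocalRing (AdicCompletion I B) →
      IsLocalRing (AdicCompletion J B) := by
    intro I J h hI; subst h; exact hI
  have h1 : IsLocalRing (AdicCompletion (Ideal.jacobson (⊥ : Ideal B)) B) :=
    key _ _ (IsLocalRing.jacobson_eq_maximalIdeal ⊥ bot_ne_top).symm inferInstance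
  have h2 : IsLocalRing (Cpl A ⊗[A] B) := RingEquiv.isLocalRing e
  exact RingEquiv.isLocalRing (Algebra.TensorProduct.comm A (Cpl A) B).toRingEquiv

theorem isDomain_of_isNormalRing_of_isLocalRing (R : Type u) [CommRing R] [IsLocalRing R]
    (hR : EGA4.IsNormalRing R) : IsDomain R := by
  obtain ⟨e⟩ := atUnitsEquiv R
  have := (hR (maximalIdeal R)).1
  exact e.injective.isDomain e.toRingHom

theorem isDomain_tensor_cpl_of_finite_normal [HenselianLocalRing A]
    (h : EGA4.HasGeomNormalFormalFibres A)
    (B : Type u) [CommRing B] [Algebra A B] [Module.Finite A B] [IsDomain B]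
    (hB : EGA4.IsNormalRing B) : IsDomain (B ⊗[A] Cpl A) := by
  have hloc : IsLocalRing B :=
    Groth.Agent.Lib.Helper87.Unibranch.isLocalRing_of_finite_of_isDomain A B
  have hloc' := isLocalRing_tensor_cpl_of_finite A B
  exact isDomain_of_isNormalRing_of_isLocalRing _ (isNormalRing_tensor_cpl_of_finite A h B hB)

theorem isDomain_cpl_of_henselian [HenselianLocalRing A] [IsDomain A]
    (h : EGA4.HasGeomNormalFormalFibres A) : IsDomain (Cpl A) := by
  have hgr := hasGeomReducedFormalFibres_of_hasGeomNormalFormalFibres A h
  have hfin : Module.Finite A (integralClosure A (FractionRing A)) :=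
    finite_integralClosure_of_hasGeomReducedFormalFibres A hgr
  have hfr : IsFractionRing (integralClosure A (FractionRing A)) (FractionRing A) :=
    integralClosure.isFractionRing_of_finite_extension (FractionRing A) (FractionRing A)
  have hic : IsIntegrallyClosed (integralClosure A (FractionRing A)) :=
    integralClosure.isIntegrallyClosedOfFiniteExtension (FractionRing A)
  have hB : EGA4.IsNormalRing (integralClosure A (FractionRing A)) :=
    Groth.Agent.Lib.Helper57.isNormalRing_of_isIntegrallyClosed _
  have hD := isDomain_tensor_cpl_of_finite_normal A h (integralClosure A (FractionRing A)) hB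
  have hffA : Module.FaithfullyFlat A (Cpl A) := Module.FaithfullyFlat.of_flat_of_isLocalHom
  have hinj : Function.Injective (algebraMap A (integralClosure A (FractionRing A))) := by
    intro x y hxy
    have := congrArg (Subtype.val) hxy
    exact IsFractionRing.injective A (FractionRing A) this
  let φ : Cpl A →ₐ[A] integralClosure A (FractionRing A) ⊗[A] Cpl A :=
    Algebra.TensorProduct.includeRight
  have hφ : Function.Injective φ :=
    Algebra.TensorProduct.includeRight_injective hinj
  exact hφ.isDomain φ.toRingHom

end HenselFormal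

end Groth.Agent.Lib.Helper56
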