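import Groth.Agent.Lib.Helper56.SepGen

set_option autoImplicit false
universe u
namespace Groth.Agent.Lib.Helper56
open TensorProduct

section Descent

variable (k K K' S : Type u) [Field k] [Field K] [Field K'] [Algebra k K] [Algebra K K']
  [Algebra k K'] [IsScalarTower k K K'] [CommRing S] [Algebra k S]

noncomputable def tensorTowerEquiv : (K ⊗[k] S) ⊗[K] K' ≃+* K' ⊗[k] S :=
  (Algebra.TensorProduct.comm K (K ⊗[k] S) K').toRingEquiv.trans
    (Algebra.TensorProduct.cancelBaseChange k K K K' S).toRingEquiv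

theorem isRegularRing_tensor_descent (h : IsRegularRing (K' ⊗[k] S)) :
    IsRegularRing (K ⊗[k] S) := by
  have h4 : IsRegularRing ((K ⊗[k] S) ⊗[K] K') :=
    IsRegularRing.of_ringEquiv (R := K' ⊗[k] S) (tensorTowerEquiv k K K' S).symm
  exact isRegularRing_of_faithfullyFlat (K ⊗[k] S) ((K ⊗[k] S) ⊗[K] K') h4

theorem isNormalRing_tensor_descent (h : EGA4.IsNormalRing (K' ⊗[k] S)) :
    EGA4.IsNormalRing (K ⊗[k] S) := by
  have h4 : EGA4.IsNormalRing ((K ⊗[k] S) ⊗[K] K') :=
    isNormalRing_of_ringEquiv (tensorTowerEquiv k K K' S).symm h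
  exact isNormalRing_of_faithfullyFlat (K ⊗[k] S) ((K ⊗[k] S) ⊗[K] K') h4

end Descent

section Main

variable (k S : Type u) [Field k] [CommRing S] [Algebra k S] [IsNoetherianRing S]

omit [IsNoetherianRing S] in
theorem isRegularRing_tensor_of_forall_purelyInseparable
    (h : ∀ (k' : Type u) [Field k'] [Algebra k k'], Module.Finite k k' → IsPurelyInseparable k k' →
      IsRegularRing (k' ⊗[k] S))
    (K : Type u) [Field K] [Algebra k K] [Algebra.EssFiniteType k K] :
    IsRegularRing (K ⊗[k] S) := by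
  obtain ⟨k', K', _, _, _, _, _, _, ht1, ht2, hfin, hpi, hess, hUR⟩ := exists_univRegular_ext k K
  have h1 := h k' hfin hpi
  have h2 : IsRegularRing (K' ⊗[k'] (k' ⊗[k] S)) :=
    isRegularRing_tensor_of_univRegular k' K' (k' ⊗[k] S) hUR h1
  have h3 : IsRegularRing (K' ⊗[k] S) :=
    IsRegularRing.of_ringEquiv (R := K' ⊗[k'] (k' ⊗[k] S))
      (Algebra.TensorProduct.cancelBaseChange k k' k' K' S).toRingEquiv
  exact isRegularRing_tensor_descent k K K' S h3

theorem isNormalRing_tensor_of_forall_purelyInseparable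
    (h : ∀ (k' : Type u) [Field k'] [Algebra k k'], Module.Finite k k' → IsPurelyInseparable k k' →
      EGA4.IsNormalRing (k' ⊗[k] S))
    (K : Type u) [Field K] [Algebra k K] [Algebra.EssFiniteType k K] :
    EGA4.IsNormalRing (K ⊗[k] S) := by
  obtain ⟨k', K', _, _, _, _, _, _, ht1, ht2, hfin, hpi, hess, hUR⟩ := exists_univRegular_ext k K
  have h1 := h k' hfin hpi
  have hN0 : IsNoetherianRing (S ⊗[k] k') := isNoetherianRing_tensor_essFiniteType k k' S
  have hN : IsNoetherianRing (k' ⊗[k] S) :=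
    isNoetherianRing_of_ringEquiv (S ⊗[k] k') (Algebra.TensorProduct.comm k S k').toRingEquiv
  have h2 : EGA4.IsNormalRing (K' ⊗[k'] (k' ⊗[k] S)) :=
    isNormalRing_tensor_of_univRegular k' K' (k' ⊗[k] S) hUR h1
  have h3 : EGA4.IsNormalRing (K' ⊗[k] S) :=
    isNormalRing_of_ringEquiv
      (Algebra.TensorProduct.cancelBaseChange k k' k' K' S).toRingEquiv h2
  exact isNormalRing_tensor_descent k K K' S h3

end Main

end Groth.Agent.Lib.Helper56
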