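import Groth.Agent.Lib.Helper56.SepGenNormal

set_option autoImplicit false
universe u
namespace Groth.Agent.Lib.Helper56
open TensorProduct Polynomial

section Crit

variable {R : Type u} [CommRing R]

theorem exists_mul_eq_of_fractionRing_atPrime (p : Ideal R) [p.IsPrime]
    [IsDomain (Localization.AtPrime p)] (z : FractionRing (Localization.AtPrime p)) :
    ∃ a b : R, algebraMap R (Localization.AtPrime p) b ≠ 0 ∧
      algebraMap R (FractionRing (Localization.AtPrime p)) b * z =
        algebraMap R (FractionRing (Localization.AtPrime p)) a := by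
  obtain ⟨A, B, hB, rfl⟩ := IsFractionRing.div_surjective (A := Localization.AtPrime p) z
  obtain ⟨x, s, rfl⟩ := IsLocalization.exists_mk'_eq p.primeCompl A
  obtain ⟨y, t, rfl⟩ := IsLocalization.exists_mk'_eq p.primeCompl B
  have hB0 : IsLocalization.mk' (Localization.AtPrime p) y t ≠ 0 := nonZeroDivisors.ne_zero hB
  have hB0' : algebraMap (Localization.AtPrime p) (FractionRing (Localization.AtPrime p))
      (IsLocalization.mk' (Localization.AtPrime p) y t) ≠ 0 := by
    rwa [Ne, map_eq_zero_iff _ (IsFractionRing.injective _ _)]
  have hy : algebraMap R (Localization.AtPrime p) y =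
      IsLocalization.mk' (Localization.AtPrime p) y t * algebraMap R _ (t : R) :=
    (IsLocalization.mk'_spec _ y t).symm
  have hx : algebraMap R (Localization.AtPrime p) x =
      IsLocalization.mk' (Localization.AtPrime p) x s * algebraMap R _ (s : R) :=
    (IsLocalization.mk'_spec _ x s).symm
  have hs : IsUnit (algebraMap R (Localization.AtPrime p) (s : R)) :=
    IsLocalization.map_units _ s
  have ht : IsUnit (algebraMap R (Localization.AtPrime p) (t : R)) :=
    IsLocalization.map_units _ t
  refine ⟨x * t, y * s, ?_, ?_⟩
  · rw [map_mul, hy]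
    exact mul_ne_zero (mul_ne_zero hB0 ht.ne_zero) hs.ne_zero
  · rw [IsScalarTower.algebraMap_apply R (Localization.AtPrime p)
      (FractionRing (Localization.AtPrime p)), IsScalarTower.algebraMap_apply R
      (Localization.AtPrime p) (FractionRing (Localization.AtPrime p)) (x * t),
      map_mul (algebraMap R (Localization.AtPrime p)) y,
      map_mul (algebraMap R (Localization.AtPrime p)) x, hy, hx]
    simp only [map_mul]
    field_simp

theorem isIntegrallyClosed_atPrime_of_crit (p : Ideal R) [p.IsPrime]
    [IsDomain (Localization.AtPrime p)]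
    (h : ∀ (a b : R) (P : Polynomial R), P.Monic →
      algebraMap R (Localization.AtPrime p) b ≠ 0 →
      algebraMap R (Localization.AtPrime p) ((P.scaleRoots b).eval a) = 0 →
      ∃ d : Localization.AtPrime p,
        algebraMap R (Localization.AtPrime p) a = d * algebraMap R (Localization.AtPrime p) b) :
    IsIntegrallyClosed (Localization.AtPrime p) := by
  rw [isIntegrallyClosed_iff (FractionRing (Localization.AtPrime p))]
  intro z hz
  obtain ⟨⟨m, hm⟩, P, hP, hPz⟩ :=
    IsIntegral.exists_multiple_integral_of_isLocalization p.primeCompl z hz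
  obtain ⟨a, b, hb, hab⟩ := exists_mul_eq_of_fractionRing_atPrime p z
  have hinj : Function.Injective (algebraMap (Localization.AtPrime p)
      (FractionRing (Localization.AtPrime p))) := IsFractionRing.injective _ _
  have h1 : algebraMap R (FractionRing (Localization.AtPrime p)) b * ((⟨m, hm⟩ : p.primeCompl) • z) =
      algebraMap R (FractionRing (Localization.AtPrime p)) (m * a) := by
    rw [Submonoid.smul_def, Algebra.smul_def, map_mul, ← hab]
    ring
  have h2 : eval₂ (algebraMap R (FractionRing (Localization.AtPrime p)))
      (algebraMap R (FractionRing (Localization.AtPrime p)) (m * a)) (P.scaleRoots b) = 0 := by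
    rw [← h1, scaleRoots_eval₂_mul, hPz, mul_zero]
  rw [Polynomial.eval₂_at_apply, IsScalarTower.algebraMap_apply R (Localization.AtPrime p)
    (FractionRing (Localization.AtPrime p)), map_eq_zero_iff _ hinj] at h2
  obtain ⟨d, hd⟩ := h (m * a) b P hP hb h2
  have hmu : IsUnit (algebraMap R (Localization.AtPrime p) m) :=
    IsLocalization.map_units _ (⟨m, hm⟩ : p.primeCompl)
  obtain ⟨u, hu⟩ := hmu
  refine ⟨d * ↑u⁻¹, ?_⟩
  have hb' : algebraMap R (FractionRing (Localization.AtPrime p)) b ≠ 0 := by
    rw [IsScalarTower.algebraMap_apply R (Localization.AtPrime p)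
      (FractionRing (Localization.AtPrime p)), Ne, map_eq_zero_iff _ hinj]
    exact hb
  apply mul_left_cancel₀ hb'
  rw [hab]
  have h3 : algebraMap R (Localization.AtPrime p) a = d * ↑u⁻¹ * algebraMap R _ b := by
    have : algebraMap R (Localization.AtPrime p) m * algebraMap R _ a =
        d * algebraMap R _ b := by rw [← map_mul]; exact hd
    rw [← hu] at this
    calc algebraMap R (Localization.AtPrime p) a
        = ↑u⁻¹ * (↑u * algebraMap R _ a) := by rw [← mul_assoc, Units.inv_mul, one_mul]
      _ = ↑u⁻¹ * (d * algebraMap R _ b) := by rw [this]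
      _ = d * ↑u⁻¹ * algebraMap R _ b := by ring
  rw [IsScalarTower.algebraMap_apply R (Localization.AtPrime p)
    (FractionRing (Localization.AtPrime p)) a, h3, IsScalarTower.algebraMap_apply R
    (Localization.AtPrime p) (FractionRing (Localization.AtPrime p)) b, map_mul]
  simp only [map_mul]
  ring

theorem crit_of_isIntegrallyClosed_atPrime (p : Ideal R) [p.IsPrime]
    [IsDomain (Localization.AtPrime p)] [IsIntegrallyClosed (Localization.AtPrime p)]
    (a b : R) (P : Polynomial R) (hP : P.Monic)
    (hb : algebraMap R (Localization.AtPrime p) b ≠ 0)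
    (h0 : algebraMap R (Localization.AtPrime p) ((P.scaleRoots b).eval a) = 0) :
    ∃ d : Localization.AtPrime p,
      algebraMap R (Localization.AtPrime p) a = d * algebraMap R (Localization.AtPrime p) b := by
  have hinj : Function.Injective (algebraMap (Localization.AtPrime p)
      (FractionRing (Localization.AtPrime p))) := IsFractionRing.injective _ _
  have hb' : algebraMap R (FractionRing (Localization.AtPrime p)) b ≠ 0 := by
    rw [IsScalarTower.algebraMap_apply R (Localization.AtPrime p)
      (FractionRing (Localization.AtPrime p)), Ne, map_eq_zero_iff _ hinj]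
    exact hb
  have h1 : algebraMap R (FractionRing (Localization.AtPrime p)) b *
      (algebraMap R (FractionRing (Localization.AtPrime p)) a /
        algebraMap R (FractionRing (Localization.AtPrime p)) b) =
      algebraMap R (FractionRing (Localization.AtPrime p)) a := by
    field_simp
  have h2 : eval₂ (algebraMap R (FractionRing (Localization.AtPrime p)))
      (algebraMap R (FractionRing (Localization.AtPrime p)) a /
        algebraMap R (FractionRing (Localization.AtPrime p)) b) P = 0 := by
    have h3 := scaleRoots_eval₂_mul (p := P) (algebraMap R (FractionRing (Localization.AtPrime p)))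
      (algebraMap R (FractionRing (Localization.AtPrime p)) a /
        algebraMap R (FractionRing (Localization.AtPrime p)) b) b
    rw [h1, Polynomial.eval₂_at_apply, IsScalarTower.algebraMap_apply R (Localization.AtPrime p)
      (FractionRing (Localization.AtPrime p)), h0, map_zero] at h3
    exact (mul_eq_zero.mp h3.symm).resolve_left (pow_ne_zero _ hb')
  have h4 : IsIntegral R (algebraMap R (FractionRing (Localization.AtPrime p)) a /
      algebraMap R (FractionRing (Localization.AtPrime p)) b) := ⟨P, hP, h2⟩
  have h5 : IsIntegral (Localization.AtPrime p)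
      (algebraMap R (FractionRing (Localization.AtPrime p)) a /
        algebraMap R (FractionRing (Localization.AtPrime p)) b) := h4.tower_top
  obtain ⟨d, hd⟩ := (isIntegrallyClosed_iff (FractionRing (Localization.AtPrime p))).mp
    inferInstance h5
  refine ⟨d, hinj ?_⟩
  rw [map_mul, hd, ← IsScalarTower.algebraMap_apply, ← IsScalarTower.algebraMap_apply]
  field_simp

end Crit

section Limit

variable {R : Type u} [CommRing R] {ι : Type*} [Nonempty ι]
  (S : ι → Type u) [∀ i, CommRing (S i)] (f : ∀ i, S i →+* R)

include S in
theorem exists_forall_mem_range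
    (hdir : ∀ i j, ∃ l, (f i).range ≤ (f l).range ∧ (f j).range ≤ (f l).range)
    (hsurj : ∀ x, ∃ i, x ∈ (f i).range) (s : Finset R) :
    ∃ i, ∀ x ∈ s, x ∈ (f i).range := by
  classical
  induction s using Finset.induction_on with
  | empty => exact ⟨Classical.arbitrary ι, by simp⟩
  | insert a s _ ih =>
    obtain ⟨i, hi⟩ := ih
    obtain ⟨j, hj⟩ := hsurj a
    obtain ⟨l, hil, hjl⟩ := hdir i j
    refine ⟨l, fun x hx => ?_⟩
    rcases Finset.mem_insert.mp hx with rfl | hx
    · exact hjl hj
    · exact hil (hi x hx)

theorem isNormalRing_of_directed_union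
    (hinj : ∀ i, Function.Injective (f i))
    (hdir : ∀ i j, ∃ l, (f i).range ≤ (f l).range ∧ (f j).range ≤ (f l).range)
    (hsurj : ∀ x, ∃ i, x ∈ (f i).range)
    (hS : ∀ i, EGA4.IsNormalRing (S i)) : EGA4.IsNormalRing R := by
  classical
  intro p _
  have hloc : ∀ (i : ι) (x' : S i),
      algebraMap (S i) (Localization.AtPrime (p.comap (f i))) x' = 0 →
      algebraMap R (Localization.AtPrime p) (f i x') = 0 := by
    intro i x' h
    rw [← Localization.localRingHom_to_map (p.comap (f i)) p (f i) rfl, h, map_zero]
  have hzero : ∀ (i : ι) (x' u' : S i), f i u' ∉ p → u' * x' = 0 →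
      algebraMap (S i) (Localization.AtPrime (p.comap (f i))) x' = 0 := by
    intro i x' u' hu h
    rw [IsLocalization.map_eq_zero_iff (p.comap (f i)).primeCompl]
    exact ⟨⟨u', hu⟩, h⟩
  have hdom : IsDomain (Localization.AtPrime p) := by
    have : NoZeroDivisors (Localization.AtPrime p) := by
      refine ⟨fun {A B} hAB => ?_⟩
      obtain ⟨x, s, rfl⟩ := IsLocalization.exists_mk'_eq p.primeCompl A
      obtain ⟨y, t, rfl⟩ := IsLocalization.exists_mk'_eq p.primeCompl B
      rw [← IsLocalization.mk'_mul, IsLocalization.mk'_eq_zero_iff] at hAB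
      obtain ⟨u, hu⟩ := hAB
      obtain ⟨i, hi⟩ := exists_forall_mem_range S f hdir hsurj {x, y, (u : R)}
      obtain ⟨x', rfl⟩ := hi x (by simp)
      obtain ⟨y', rfl⟩ := hi y (by simp)
      obtain ⟨u', hu'⟩ := hi (u : R) (by simp)
      have h1 : u' * (x' * y') = 0 := by
        apply hinj i
        rw [map_mul, map_mul, hu', map_zero]
        exact hu
      have hup : f i u' ∉ p := by rw [hu']; exact u.2
      have h2 := hzero i (x' * y') u' hup h1
      obtain ⟨_, _⟩ := hS i (p.comap (f i))
      rw [map_mul] at h2
      rcases mul_eq_zero.mp h2 with h3 | h3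
      · left
        rw [IsLocalization.mk'_eq_zero_iff]
        have := hloc i x' h3
        rw [IsLocalization.map_eq_zero_iff p.primeCompl] at this
        exact this
      · right
        rw [IsLocalization.mk'_eq_zero_iff]
        have := hloc i y' h3
        rw [IsLocalization.map_eq_zero_iff p.primeCompl] at this
        exact this
    exact NoZeroDivisors.to_isDomain _
  refine ⟨hdom, ?_⟩
  apply isIntegrallyClosed_atPrime_of_crit
  intro a b P hP hb h0
  rw [IsLocalization.map_eq_zero_iff p.primeCompl] at h0
  obtain ⟨u, hu⟩ := h0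
  obtain ⟨i, hi⟩ := exists_forall_mem_range S f hdir hsurj
    (insert a (insert b (insert (u : R) P.coeffs)))
  obtain ⟨a', rfl⟩ := hi a (by simp)
  obtain ⟨b', rfl⟩ := hi b (by simp)
  obtain ⟨u', hu'⟩ := hi (u : R) (by simp)
  have hPl : P ∈ Polynomial.lifts (f i) := by
    rw [Polynomial.lifts_iff_coeffs_subset_range]
    intro c hc
    exact hi c (by simp [Finset.mem_coe.mp hc])
  obtain ⟨P', rfl, -, hP'⟩ := Polynomial.lifts_and_natDegree_eq_and_monic hPl hP
  obtain ⟨_, _⟩ := hS i (p.comap (f i))
  have hRnt : Nontrivial R := ⟨⟨0, 1, fun h => (Ideal.ne_top_iff_one p).mp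
    (Ideal.IsPrime.ne_top inferInstance) (h ▸ p.zero_mem)⟩⟩
  have h1 : ((P'.map (f i)).scaleRoots (f i b')).eval (f i a') =
      f i ((P'.scaleRoots b').eval a') := by
    rw [← Polynomial.map_scaleRoots P' b' (f i) (by rw [hP'.leadingCoeff, map_one]; exact one_ne_zero),
      Polynomial.eval_map, Polynomial.eval₂_at_apply]
  have h2 : u' * (P'.scaleRoots b').eval a' = 0 := by
    apply hinj i
    rw [map_mul, hu', map_zero, ← h1]
    exact hu
  have hup : f i u' ∉ p := by rw [hu']; exact u.2
  have h3 := hzero i _ u' hup h2
  have hb' : algebraMap (S i) (Localization.AtPrime (p.comap (f i))) b' ≠ 0 :=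
    fun h => hb (hloc i b' h)
  obtain ⟨d, hd⟩ := crit_of_isIntegrallyClosed_atPrime (p.comap (f i)) a' b' P' hP' hb' h3
  refine ⟨Localization.localRingHom (p.comap (f i)) p (f i) rfl d, ?_⟩
  rw [← Localization.localRingHom_to_map (p.comap (f i)) p (f i) rfl,
    ← Localization.localRingHom_to_map (p.comap (f i)) p (f i) rfl, hd, map_mul]

end Limit

section A

variable (k K K' T : Type u) [Field k] [Field K] [Field K'] [Algebra k K] [Algebra K K']
  [Algebra k K'] [IsScalarTower k K K'] [CommRing T] [Algebra k T]

theorem tensorFieldMap_injective : Function.Injective (tensorFieldMap k K K' T) := by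
  have h1 : (tensorFieldMap k K K' T : K ⊗[k] T → K' ⊗[k] T) =
      TensorProduct.map (IsScalarTower.toAlgHom k K K').toLinearMap (LinearMap.id) := by
    ext x
    induction x using TensorProduct.induction_on with
    | zero => simp
    | tmul c t => simp [tensorFieldMap]
    | add x y hx hy => simp only [map_add, hx, hy]
  rw [h1]
  exact TensorProduct.map_injective_of_flat_flat _ _ (algebraMap K K').injective
    Function.injective_id

end A

section B

variable (k k' A : Type u) [Field k] [CommRing A] [Algebra k A] [Field k'] [Algebra k k']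

open IntermediateField in
theorem isNormalRing_tensor_of_forall_fg' 
    (h : ∀ E : Finset k', EGA4.IsNormalRing (adjoin k (E : Set k') ⊗[k] A)) :
    EGA4.IsNormalRing (k' ⊗[k] A) := by
  classical
  refine isNormalRing_of_directed_union (ι := Finset k')
    (fun E => adjoin k (E : Set k') ⊗[k] A)
    (fun E => (tensorFieldMap k (adjoin k (E : Set k')) k' A).toRingHom)
    (fun E => tensorFieldMap_injective k _ k' A) ?_ ?_ h
  · intro E₁ E₂
    refine ⟨E₁ ∪ E₂, ?_, ?_⟩
    · intro x hx
      refine range_tensorFieldMap_mono k k' A (adjoin.mono k _ _ ?_) hx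
      rw [Finset.coe_union]; exact Set.subset_union_left
    · intro x hx
      refine range_tensorFieldMap_mono k k' A (adjoin.mono k _ _ ?_) hx
      rw [Finset.coe_union]; exact Set.subset_union_right
  · intro x
    obtain ⟨E, hE⟩ := exists_finset_mem_range_tensorFieldMap k k' A x
    exact ⟨E, hE⟩

open IntermediateField in
theorem isNormalRing_tensor_of_isGeometricallyReduced_any 
    [Algebra.IsGeometricallyReduced k k'] (hA : EGA4.IsNormalRing A) :
    EGA4.IsNormalRing (k' ⊗[k] A) := by
  apply isNormalRing_tensor_of_forall_fg'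
  intro E
  have h1 : Algebra.IsGeometricallyReduced k (adjoin k (E : Set k')) :=
    Algebra.IsGeometricallyReduced.of_injective (IsScalarTower.toAlgHom k (adjoin k (E : Set k')) k')
      (algebraMap (adjoin k (E : Set k')) k').injective
  have h2 : Algebra.EssFiniteType k (adjoin k (E : Set k')) :=
    IntermediateField.essFiniteType_iff.mpr ⟨E, rfl⟩
  exact isNormalRing_tensor_of_sepGen k _ A (sepGen_of_isGeometricallyReduced k _) hA

end B

end Groth.Agent.Lib.Helper56
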