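import Groth.Agent.Lib.Helper56.HomBaseChange2
import Mathlib.RingTheory.Nilpotent.GeometricallyReduced

set_option autoImplicit false
universe u
namespace Groth.Agent.Lib.Helper56
open TensorProduct

section SG

variable (k K : Type u) [Field k] [Field K] [Algebra k K]

theorem linearIndepOn_pow_of_isGeometricallyReduced [Algebra.IsGeometricallyReduced k K]
    (p : ℕ) [hp : Fact p.Prime] [CharP k p] (s : Finset K)
    (hs : LinearIndepOn k _root_.id (s : Set K)) : LinearIndepOn k (· ^ p) (s : Set K) := by
  have hred : IsReduced (AlgebraicClosure k ⊗[k] K) :=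
    (Algebra.isGeometricallyReduced_field_iff k K).mp inferInstance
  have hexp : ExpChar k p := .prime hp.out
  have hexp' : ExpChar (AlgebraicClosure k ⊗[k] K) p :=
    expChar_of_injective_algebraMap (algebraMap k (AlgebraicClosure k ⊗[k] K)).injective p
  have hli : LinearIndependent (AlgebraicClosure k)
      (fun i : (s : Set K) => (1 : AlgebraicClosure k) ⊗ₜ[k] (i : K)) :=
    Module.Flat.linearIndependent_one_tmul hs
  unfold LinearIndepOn
  rw [Fintype.linearIndependent_iff]
  intro g hg
  have hd : ∀ i : (s : Set K), ∃ d : AlgebraicClosure k,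
      d ^ p = algebraMap k (AlgebraicClosure k) (g i) := fun i =>
    IsAlgClosed.exists_pow_nat_eq _ hp.out.pos
  choose d hd using hd
  have hz : (∑ i, d i ⊗ₜ[k] (i : K)) ^ p = 0 := by
    rw [sum_pow_char]
    have : ∀ i : (s : Set K), (d i ⊗ₜ[k] (i : K)) ^ p =
        (1 : AlgebraicClosure k) ⊗ₜ[k] (g i • (i : K) ^ p) := by
      intro i
      rw [Algebra.TensorProduct.tmul_pow, hd, Algebra.algebraMap_eq_smul_one,
        TensorProduct.smul_tmul]
    simp_rw [this]
    rw [← TensorProduct.tmul_sum, hg, TensorProduct.tmul_zero]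
  have hz0 : ∑ i, d i ⊗ₜ[k] (i : K) = 0 := IsReduced.eq_zero _ ⟨p, hz⟩
  have hz1 : ∑ i, d i • ((1 : AlgebraicClosure k) ⊗ₜ[k] (i : K)) = 0 := by
    rw [← hz0]
    refine Finset.sum_congr rfl (fun i _ => ?_)
    rw [TensorProduct.smul_tmul', smul_eq_mul, mul_one]
  have hd0 := Fintype.linearIndependent_iff.mp hli d hz1
  intro i
  have := hd i
  rw [hd0 i, zero_pow hp.out.ne_zero] at this
  exact (map_eq_zero_iff _ (algebraMap k (AlgebraicClosure k)).injective).mp this.symm

theorem exists_isTranscendenceBasis_and_isSeparable_of_isGeometricallyReduced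
    [Algebra.EssFiniteType k K] [Algebra.IsGeometricallyReduced k K] :
    ∃ s : Finset K, IsTranscendenceBasis k ((↑) : s → K) ∧
      Algebra.IsSeparable (IntermediateField.adjoin k (s : Set K)) K := by
  obtain _ | ⟨p, hp, hpk⟩ := CharP.exists' k
  · exact exists_isTranscendenceBasis_and_isSeparable_of_perfectField k K
  · exact exists_isTranscendenceBasis_and_isSeparable_of_linearIndepOn_pow_of_essFiniteType p
      hp.out (fun s hs => linearIndepOn_pow_of_isGeometricallyReduced k K p s hs)

theorem univRegular_of_isGeometricallyReduced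
    [Algebra.EssFiniteType k K] [Algebra.IsGeometricallyReduced k K] : UnivRegular k K := by
  obtain ⟨s, hs, H⟩ := exists_isTranscendenceBasis_and_isSeparable_of_isGeometricallyReduced k K
  have key : ∀ X Y : Set K, X = Y → Algebra.IsSeparable (IntermediateField.adjoin k X) K →
      Algebra.IsSeparable (IntermediateField.adjoin k Y) K := by
    intro X Y h hX; subst h; exact hX
  have H' : Algebra.IsSeparable (IntermediateField.adjoin k (Set.range ((↑) : s → K))) K :=
    key _ _ Subtype.range_coe.symm H
  have hess : Algebra.EssFiniteType (IntermediateField.adjoin k (Set.range ((↑) : s → K))) K :=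
    Algebra.EssFiniteType.of_comp k _ K
  have hfin : Module.Finite (IntermediateField.adjoin k (Set.range ((↑) : s → K))) K :=
    Algebra.finite_of_essFiniteType_of_isAlgebraic
  have h1 : UnivRegular k (IntermediateField.adjoin k (Set.range ((↑) : s → K))) :=
    (univRegular_fractionRing_mvPolynomial k s).of_algEquiv hs.1.aevalEquivField
  have hess' : Algebra.EssFiniteType (IntermediateField.adjoin k (Set.range ((↑) : s → K))) K :=
    inferInstance
  exact UnivRegular.trans k (IntermediateField.adjoin k (Set.range ((↑) : s → K))) K h1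
    (univRegular_of_finite_isSeparable _ K)

end SG

section SepAny

variable (k k' κ : Type u) [Field k] [Field k'] [Field κ] [Algebra k k'] [Algebra k κ]

open IntermediateField in
theorem isRegularRing_tensor_of_isGeometricallyReduced [Algebra.IsGeometricallyReduced k k']
    [IsNoetherianRing (k' ⊗[k] κ)] : IsRegularRing (k' ⊗[k] κ) := by
  apply isRegularRing_tensor_of_forall_fg
  intro E
  have h1 : Algebra.EssFiniteType k (adjoin k (E : Set k')) :=
    IntermediateField.essFiniteType_iff.mpr ⟨E, rfl⟩
  have h2 : Algebra.IsGeometricallyReduced k (adjoin k (E : Set k')) :=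
    Algebra.IsGeometricallyReduced.of_injective (adjoin k (E : Set k')).val
      (adjoin k (E : Set k')).val.injective
  have h3 : UnivRegular k (adjoin k (E : Set k')) := univRegular_of_isGeometricallyReduced k _
  have h4 := h3 κ
  exact IsRegularRing.of_ringEquiv (R := κ ⊗[k] adjoin k (E : Set k'))
    (Algebra.TensorProduct.comm k κ _).toRingEquiv

end SepAny

section FieldBC

variable (k S k' : Type u) [Field k] [CommRing S] [Algebra k S] [Field k'] [Algebra k k']
  [IsNoetherianRing (S ⊗[k] k')]

theorem isRegularRing_fibre_of_isGeometricallyReduced [Algebra.IsGeometricallyReduced k k']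
    (q : Ideal S) [q.IsPrime] : IsRegularRing (q.Fiber (S ⊗[k] k')) := by
  have hN := isNoetherianRing_fiber S (S ⊗[k] k') q
  have e := Algebra.TensorProduct.cancelBaseChange k S S q.ResidueField k'
  have hN' : IsNoetherianRing (k' ⊗[k] q.ResidueField) :=
    isNoetherianRing_of_ringEquiv (q.Fiber (S ⊗[k] k'))
      (e.toRingEquiv.trans (Algebra.TensorProduct.comm k q.ResidueField k').toRingEquiv)
  have h1 := isRegularRing_tensor_of_isGeometricallyReduced k k' q.ResidueField
  exact IsRegularRing.of_ringEquiv (R := k' ⊗[k] q.ResidueField)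
    ((Algebra.TensorProduct.comm k k' q.ResidueField).toRingEquiv.trans e.symm.toRingEquiv)

omit [IsNoetherianRing (S ⊗[k] k')] in
theorem isRegularLocalRing_comap_of_tensor [IsNoetherianRing S] (q' : Ideal (S ⊗[k] k'))
    [q'.IsPrime] (h : IsRegularLocalRing (Localization.AtPrime q')) :
    IsRegularLocalRing (Localization.AtPrime (q'.comap (algebraMap S (S ⊗[k] k')))) := by
  have hlo : q'.LiesOver (q'.comap (algebraMap S (S ⊗[k] k'))) := ⟨rfl⟩
  let _ := Localization.AtPrime.algebraOfLiesOver (q'.comap (algebraMap S (S ⊗[k] k'))) q'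
  have hflat : Module.Flat (Localization.AtPrime (q'.comap (algebraMap S (S ⊗[k] k'))))
      (Localization.AtPrime q') := inferInstance
  have hloc : IsLocalHom (algebraMap (Localization.AtPrime (q'.comap (algebraMap S (S ⊗[k] k'))))
      (Localization.AtPrime q')) :=
    Localization.isLocalHom_localRingHom _ q' (algebraMap S (S ⊗[k] k')) Ideal.LiesOver.over
  exact Groth.Agent.S0565.result _ (Localization.AtPrime q')

theorem isRegularLocalRing_tensor_of_comap [IsNoetherianRing S]
    [Algebra.IsGeometricallyReduced k k'] (q' : Ideal (S ⊗[k] k')) [q'.IsPrime]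
    (h : IsRegularLocalRing (Localization.AtPrime (q'.comap (algebraMap S (S ⊗[k] k'))))) :
    IsRegularLocalRing (Localization.AtPrime q') :=
  isRegularLocalRing_atPrime_of_fibre S (S ⊗[k] k') q' h
    (isRegularLocalRing_fibLocRing_of_fiber S (S ⊗[k] k') q'
      (isRegularRing_fibre_of_isGeometricallyReduced k S k' _))

theorem isNormal_tensor_of_comap [IsNoetherianRing S]
    [Algebra.IsGeometricallyReduced k k'] (q' : Ideal (S ⊗[k] k')) [q'.IsPrime]
    (h : IsDomain (Localization.AtPrime (q'.comap (algebraMap S (S ⊗[k] k')))) ∧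
      IsIntegrallyClosed (Localization.AtPrime (q'.comap (algebraMap S (S ⊗[k] k'))))) :
    IsDomain (Localization.AtPrime q') ∧ IsIntegrallyClosed (Localization.AtPrime q') := by
  obtain ⟨h1, h2⟩ := h
  refine Groth.Agent.S2611.result S (S ⊗[k] k') (fun r _ => ?_) q'
  refine normal_fibLocRing_of_fiber S (S ⊗[k] k') r ?_
  have := isRegularRing_fibre_of_isGeometricallyReduced k S k' (r.comap (algebraMap S (S ⊗[k] k')))
  exact isNormalRing_of_isRegularRing _

end FieldBC

end Groth.Agent.Lib.Helper56
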