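import Mathlib
import Groth.Agent.Lib.Helper56.CplLocalRegular
import Groth.Agent.Lib.Helper56.NormalComp
import Groth.Agent.Lib.Helper56.FiniteCpl
import Groth.Agent.Lib.Helper56.UnivReg
import Groth.Agent.Lib.Helper57.NormalRing
import Groth.Agent.Lib.Helper58.ExcellentLoc
import Groth.Agent.S5785

set_option autoImplicit false
set_option linter.style.haveILetI false
set_option linter.unusedSectionVars false

universe u

namespace Groth.Agent.Lib.Helper56.AdicAway

open TensorProduct

theorem isNormalRing_adicCompletion (B : Type u) [CommRing B] (hG : CAlg.IsGRing B)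
    (hB : EGA4.IsNormalRing B) (K : Ideal B) : EGA4.IsNormalRing (AdicCompletion K B) := by
  haveI : IsNoetherianRing B := hG.1
  have hNC : IsNoetherianRing (AdicCompletion K B) := Groth.Agent.S0543.result B K
  have h1 : CAlg.IsRegularHom B (AdicCompletion K B) :=
    Groth.Agent.Lib.Helper56.isRegularHom_adicCompletion B K hG
  have h2 : EGA4.IsNormalHom B (AdicCompletion K B) :=
    Groth.Agent.Lib.Helper56.isNormalHom_of_isRegularHom B (AdicCompletion K B) h1
  haveI : Module.Flat B (AdicCompletion K B) := h2.1
  exact Groth.Agent.Lib.Helper56.isNormalRing_of_flat_of_fibres B (AdicCompletion K B) hB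
    (fun p _ => Groth.Agent.Lib.Helper56.isNormalRing_of_isGeomNormal _ _ (h2.2 p))

theorem includeLeft_surjective (R S T : Type u) [CommRing R] [CommRing S] [CommRing T]
    [Algebra R S] [Algebra R T] (h : Function.Surjective (algebraMap R T)) :
    Function.Surjective (Algebra.TensorProduct.includeLeft : S →ₐ[R] S ⊗[R] T) := by
  intro x
  induction x using TensorProduct.induction_on with
  | zero => exact ⟨0, map_zero _⟩
  | tmul s t =>
    obtain ⟨r, rfl⟩ := h t
    refine ⟨r • s, ?_⟩
    rw [Algebra.TensorProduct.includeLeft_apply, Algebra.algebraMap_eq_smul_one,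
      TensorProduct.tmul_smul, TensorProduct.smul_tmul']
  | add x y hx hy =>
    obtain ⟨a, rfl⟩ := hx
    obtain ⟨b, rfl⟩ := hy
    exact ⟨a + b, map_add _ _ _⟩

theorem exists_regular_surjective_adicCompletion (P B : Type u) [CommRing P] [CommRing B]
    [IsRegularRing P] (ψ : P →+* B) (hψ : Function.Surjective ψ) (K : Ideal B) :
    ∃ (R' : Type u) (_ : CommRing R') (_ : IsRegularRing R') (χ : R' →+* AdicCompletion K B),
      Function.Surjective χ := by
  letI : Algebra P B := ψ.toAlgebra
  have halg : algebraMap P B = ψ := rfl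
  haveI : IsNoetherianRing P := inferInstance
  haveI : Module.Finite P B := Module.Finite.of_surjective (Algebra.linearMap P B) hψ
  let J : Ideal P := K.comap (algebraMap P B)
  have hJ : J.map (algebraMap P B) = K := Ideal.map_comap_of_surjective _ hψ K
  obtain ⟨e⟩ := Groth.Agent.Lib.Helper56.nonempty_finiteCplEquiv (A := P) (I := J) (C := B)
    (K := K) hJ.le 1 Nat.one_pos (by rw [pow_one, hJ])
  refine ⟨AdicCompletion J P, inferInstance, Groth.Agent.S5785.result P J,
    (e.symm : AdicCompletion J P ⊗[P] B →+* AdicCompletion K B).comp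
      (Algebra.TensorProduct.includeLeft : AdicCompletion J P →ₐ[P] AdicCompletion J P ⊗[P] B).toRingHom,
    ?_⟩
  exact e.symm.surjective.comp (includeLeft_surjective P (AdicCompletion J P) B hψ)

end Groth.Agent.Lib.Helper56.AdicAway
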