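import Mathlib
import Groth.Prelude.Def_GrLC
import Groth.Agent.Lib.Helper92.BassGrDefs

set_option autoImplicit false
set_option linter.style.haveILetI false
set_option linter.unusedSectionVars false
universe u
open CategoryTheory Abelian IsLocalRing

namespace Groth.Agent.Lib.Helper56.BassGrM1b

open DirectSum

section General

variable {R : Type u} [CommRing R] (𝒜 : ℤ → AddSubgroup R) [GradedRing 𝒜]
  {M : Type u} [AddCommGroup M] [Module R M] (ℳ : ℤ → AddSubgroup M)
  [DirectSum.Decomposition ℳ] [SetLike.GradedSMul 𝒜 ℳ]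

theorem decompose_smul_of_mem (r : R) {x : M} {d : ℤ} (hx : x ∈ ℳ d) (k : ℤ) :
    ((decompose ℳ (r • x) (k + d) : ℳ (k + d)) : M) =
      ((decompose 𝒜 r k : 𝒜 k) : R) • x := by
  classical
  induction r using DirectSum.Decomposition.inductionOn 𝒜 with
  | zero => simp
  | @homogeneous i m =>
    have hmem : (m : R) • x ∈ ℳ (i + d) := SetLike.GradedSMul.smul_mem m.2 hx
    by_cases h : k = i
    · subst h
      rw [decompose_of_mem_same ℳ hmem, decompose_of_mem_same 𝒜 m.2]
    · have h1 : i + d ≠ k + d := fun e => h (by omega)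
      rw [decompose_of_mem_ne ℳ hmem h1, decompose_of_mem_ne 𝒜 m.2 (Ne.symm h), zero_smul]
  | add m m' ih ih' =>
    rw [add_smul, decompose_add, DirectSum.add_apply, AddMemClass.coe_add, ih, ih', decompose_add,
      DirectSum.add_apply, AddMemClass.coe_add, add_smul]

theorem exists_component_notMem (q : Ideal R) (r : R) (hr : r ∉ q) :
    ∃ j : ℤ, ((decompose 𝒜 r j : 𝒜 j) : R) ∉ q := by
  classical
  by_contra hcon
  push Not at hcon
  apply hr
  rw [← sum_support_decompose 𝒜 r]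
  exact Ideal.sum_mem _ fun j _ => hcon j

variable (q : Ideal R) [hqp : q.IsPrime] [Module (R ⧸ q) M] [IsScalarTower R (R ⧸ q) M]

theorem mk_smul' (r : R) (x : M) : (Ideal.Quotient.mk q r) • x = r • x := by
  rw [← Ideal.Quotient.algebraMap_eq, algebraMap_smul]

include ℳ in
theorem exists_basis_general :
    ∃ (s : Type u) (ψ : (s →₀ R ⧸ q) →ₗ[R] M), Function.Injective ψ ∧
      ∀ x, ∃ h ∈ Groth.Agent.Lib.Helper92.BassGr.homCompl 𝒜 q,
        h • x ∈ LinearMap.range ψ := by
  classical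
  let ι := {x : M // ∃ d, x ∈ ℳ d}
  let v : ι → M := Subtype.val
  obtain ⟨s, hli, hmax⟩ := exists_maximal_linearIndepOn (R ⧸ q) v
  let w : s → M := fun i => v i.1
  let ψ0 : (s →₀ R ⧸ q) →ₗ[R ⧸ q] M := Finsupp.linearCombination (R ⧸ q) w
  let ψ : (s →₀ R ⧸ q) →ₗ[R] M := ψ0.restrictScalars R
  have hψ : ∀ f, ψ f = Finsupp.linearCombination (R ⧸ q) w f := fun _ => rfl
  have hψinj : Function.Injective ψ := hli
  have hrange : ∀ y, y ∈ LinearMap.range ψ ↔ y ∈ Submodule.span (R ⧸ q) (v '' s) := by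
    intro y
    have h1 : v '' s = Set.range w := Set.image_eq_range v s
    rw [h1, ← Finsupp.range_linearCombination]
    exact Iff.rfl
  have hC : ∀ (f : s →₀ R ⧸ q) (n : ℤ),
      ((decompose ℳ (ψ f) n : ℳ n) : M) ∈ LinearMap.range ψ := by
    intro f
    induction f using Finsupp.induction_linear with
    | zero =>
      intro n
      rw [map_zero, decompose_zero, DirectSum.zero_apply, ZeroMemClass.coe_zero]
      exact zero_mem _
    | add f g hf hg =>
      intro n
      rw [map_add, decompose_add, DirectSum.add_apply, AddMemClass.coe_add]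
      exact add_mem (hf n) (hg n)
    | single i a =>
      intro n
      obtain ⟨c, rfl⟩ := Ideal.Quotient.mk_surjective a
      obtain ⟨d, hd⟩ := i.1.2
      have h1 : ψ (Finsupp.single i (Ideal.Quotient.mk q c)) = c • w i := by
        rw [hψ, Finsupp.linearCombination_single, mk_smul']
      obtain ⟨k, rfl⟩ : ∃ k, n = k + d := ⟨n - d, by ring⟩
      rw [h1, decompose_smul_of_mem 𝒜 ℳ c hd k]
      refine ⟨Finsupp.single i (Ideal.Quotient.mk q ((decompose 𝒜 c k : 𝒜 k) : R)), ?_⟩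
      rw [hψ, Finsupp.linearCombination_single, mk_smul']
  have hK : ∀ (x : M) (d : ℤ), x ∈ ℳ d →
      ∃ h ∈ Groth.Agent.Lib.Helper92.BassGr.homCompl 𝒜 q, h • x ∈ LinearMap.range ψ := by
    intro x d hx
    by_cases hxs : (⟨x, d, hx⟩ : ι) ∈ s
    · refine ⟨1, Submonoid.one_mem _, ⟨Finsupp.single ⟨_, hxs⟩ 1, ?_⟩⟩
      rw [one_smul, hψ, Finsupp.linearCombination_single, one_smul]
    · obtain ⟨a, ha0, ha⟩ := hmax ⟨x, d, hx⟩ hxs
      obtain ⟨r, rfl⟩ := Ideal.Quotient.mk_surjective a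
      have hrq : r ∉ q := fun h => ha0 (Ideal.Quotient.eq_zero_iff_mem.2 h)
      obtain ⟨j, hj⟩ := exists_component_notMem 𝒜 q r hrq
      have ha' : r • x ∈ LinearMap.range ψ := by
        rw [hrange, ← mk_smul' q]
        exact ha
      obtain ⟨f, hf⟩ := ha'
      refine ⟨((decompose 𝒜 r j : 𝒜 j) : R), ⟨⟨j, (decompose 𝒜 r j).2⟩, hj⟩, ?_⟩
      rw [← decompose_smul_of_mem 𝒜 ℳ r hx j, ← hf]
      exact hC f (j + d)
  refine ⟨s, ψ, hψinj, fun x => ?_⟩
  have hsum : ∀ (F : Finset ℤ), ∃ h ∈ Groth.Agent.Lib.Helper92.BassGr.homCompl 𝒜 q,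
      h • (∑ k ∈ F, ((decompose ℳ x k : ℳ k) : M)) ∈ LinearMap.range ψ := by
    intro F
    induction F using Finset.induction_on with
    | empty =>
      refine ⟨1, Submonoid.one_mem _, ?_⟩
      rw [Finset.sum_empty, smul_zero]
      exact zero_mem _
    | insert k F hk ih =>
      obtain ⟨h2, hh2, hr2⟩ := ih
      obtain ⟨h1, hh1, hr1⟩ := hK _ k (decompose ℳ x k).2
      refine ⟨h1 * h2, Submonoid.mul_mem _ hh1 hh2, ?_⟩
      rw [Finset.sum_insert hk, smul_add]
      refine add_mem ?_ ?_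
      · rw [mul_comm, mul_smul]
        exact Submodule.smul_mem _ _ hr1
      · rw [mul_smul]
        exact Submodule.smul_mem _ _ hr2
  have := hsum (decompose ℳ x).support
  rwa [sum_support_decompose] at this

end General

theorem gmod_hasBasis {R : Type u} [CommRing R] (𝒜 : ℤ → AddSubgroup R) [GradedRing 𝒜]
    (q : HomogeneousIdeal 𝒜) [q.toIdeal.IsPrime] (G : GrLC.GMod.{u} 𝒜)
    (hG : ∀ r ∈ q.toIdeal, ∀ x : G.carrier, r • x = 0) :
    ∃ (s : Type u) (ψ : (s →₀ R ⧸ q.toIdeal) →ₗ[R] G.carrier), Function.Injective ψ ∧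
      ∀ x, ∃ h ∈ Groth.Agent.Lib.Helper92.BassGr.homCompl 𝒜 q.toIdeal,
        h • x ∈ LinearMap.range ψ := by
  have hT : Module.IsTorsionBySet R G.carrier (q.toIdeal : Set R) := fun x a => hG a.1 a.2 x
  letI : Module (R ⧸ q.toIdeal) G.carrier := hT.module
  haveI : IsScalarTower R (R ⧸ q.toIdeal) G.carrier := hT.isScalarTower
  exact exists_basis_general 𝒜 G.gr q.toIdeal

end Groth.Agent.Lib.Helper56.BassGrM1b
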