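import Mathlib
import Groth.Agent.Lib.Helper56.BrDim2

set_option autoImplicit false
set_option linter.style.haveILetI false
set_option linter.unusedSectionVars false

namespace Groth.Agent.Lib.Helper56.BrDim

open IsLocalRing

universe u

section Core

variable {E F : Type u} [CommRing E] [IsDomain E] [HenselianLocalRing E] [IsNoetherianRing E]
  [Ring.KrullDimLE 1 E] [CommRing F] [IsLocalRing F] [IsNoetherianRing F] [Algebra E F]
  [Module.Flat E F] [IsLocalHom (algebraMap E F)]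

theorem exists_idem_like (tF : F)
    (ha : ∀ P : Ideal F, P.IsPrime → tF ∉ P → P ∈ minimalPrimes F)
    (Q₁ Q₂ : Ideal F) (h₁ : Q₁ ∈ minimalPrimes F) (h₂ : Q₂ ∈ minimalPrimes F) (hne : Q₁ ≠ Q₂) :
    ∃ (x : F) (N : ℕ), x ^ 2 = tF ^ N * x ∧ x ∈ Q₁ ∧ tF ^ N - x ∈ Q₂ := by
  haveI : Q₁.IsPrime := h₁.1.1
  haveI : Q₂.IsPrime := h₂.1.1
  have hfin : (minimalPrimes F).Finite := minimalPrimes.finite_of_isNoetherianRing F
  set I₂ : Ideal F := (hfin.toFinset.erase Q₁).inf id with hI₂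
  have hI₂Q₂ : I₂ ≤ Q₂ := by
    have : Q₂ ∈ hfin.toFinset.erase Q₁ := by
      rw [Finset.mem_erase, Set.Finite.mem_toFinset]
      exact ⟨Ne.symm hne, h₂⟩
    exact Finset.inf_le (f := id) this
  have hQI : ∀ z ∈ Q₁, z ∈ I₂ → IsNilpotent z := by
    intro z hz1 hz2
    rw [← mem_nilradical, nilradical_eq_sInf, Submodule.mem_sInf]
    intro P hP
    haveI : Ideal.IsPrime P := hP
    obtain ⟨Q, hQ, hQP⟩ := Ideal.exists_minimalPrimes_le (I := ⊥) (J := P) bot_le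
    by_cases hQQ : Q = Q₁
    · exact hQP (hQQ ▸ hz1)
    · have : Q ∈ hfin.toFinset.erase Q₁ := by
        rw [Finset.mem_erase, Set.Finite.mem_toFinset]
        exact ⟨hQQ, hQ⟩
      exact hQP (Finset.inf_le (f := id) this hz2)
  have htrad : tF ∈ (Q₁ ⊔ I₂).radical := by
    rw [Ideal.radical_eq_sInf, Submodule.mem_sInf]
    rintro P ⟨hle, hP⟩
    by_contra htP
    have hPmin := ha P hP htP
    have hPQ₁ : P ≤ Q₁ := hPmin.2 ⟨inferInstance, bot_le⟩ (le_sup_left.trans hle)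
    obtain ⟨Q, hQ, hQP⟩ := (Ideal.IsPrime.inf_le' hP).mp (le_sup_right.trans hle)
    rw [Finset.mem_erase, Set.Finite.mem_toFinset] at hQ
    have hPQ : P ≤ Q := hPmin.2 ⟨hQ.2.1.1, bot_le⟩ hQP
    have e1 : Q = P := le_antisymm hQP hPQ
    have e2 : Q₁ = P := le_antisymm (le_sup_left.trans hle) hPQ₁
    exact hQ.1 (e1.trans e2.symm)
  obtain ⟨n, hn⟩ := htrad
  obtain ⟨a, haQ, b, hbI, hab⟩ := Submodule.mem_sup.mp hn
  obtain ⟨k, hk⟩ := hQI (a * b) (Ideal.mul_mem_right _ _ haQ) (Ideal.mul_mem_left _ _ hbI)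
  have hk' : (a * b) ^ (k + 1) = 0 := by rw [pow_succ, hk, zero_mul]
  have hmem : (a + b) ^ (2 * (k + 1)) ∈ Ideal.span ({a ^ (k + 1), b ^ (k + 1)} : Set F) :=
    Ideal.add_pow_mem_of_pow_mem_of_le (m := k + 1) (n := k + 1) _
      (Ideal.subset_span (by simp)) (Ideal.subset_span (by simp)) (by omega)
  obtain ⟨u, v, huv⟩ := Ideal.mem_span_pair.mp hmem
  refine ⟨u * a ^ (k + 1), n * (2 * (k + 1)), ?_, ?_, ?_⟩
  · have e1 : tF ^ (n * (2 * (k + 1))) = u * a ^ (k + 1) + v * b ^ (k + 1) := by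
      rw [pow_mul, ← hab, huv]
    rw [e1]
    have : (u * a ^ (k + 1) + v * b ^ (k + 1)) * (u * a ^ (k + 1)) =
        (u * a ^ (k + 1)) ^ 2 + u * v * (a * b) ^ (k + 1) := by ring
    rw [this, hk', mul_zero, add_zero]
  · exact Ideal.mul_mem_left _ _ (Ideal.pow_mem_of_mem _ haQ _ (Nat.succ_pos k))
  · have e1 : tF ^ (n * (2 * (k + 1))) = u * a ^ (k + 1) + v * b ^ (k + 1) := by
      rw [pow_mul, ← hab, huv]
    rw [e1, add_sub_cancel_left]
    exact hI₂Q₂ (Ideal.mul_mem_left _ _ (Ideal.pow_mem_of_mem _ hbI _ (Nat.succ_pos k)))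

end Core

end Groth.Agent.Lib.Helper56.BrDim
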