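import Mathlib
import Groth.Agent.Lib.Helper56.BrDim3

set_option autoImplicit false
set_option linter.style.haveILetI false
set_option linter.unusedSectionVars false

namespace Groth.Agent.Lib.Helper56.BrDim

open IsLocalRing

universe u

section Core

variable {E F : Type u} [CommRing E] [IsDomain E] [HenselianLocalRing E] [IsNoetherianRing E]
  [Ring.KrullDimLE 1 E] [CommRing F] [IsLocalRing F] [IsNoetherianRing F] [Algebra E F]
  [Module.Flat E F] [IsLocalHom (algebraMap E F)]

theorem eq_of_mem_minimalPrimes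
    (hm : (maximalIdeal E).map (algebraMap E F) = maximalIdeal F)
    (hres : ∀ x : F, ∃ y : E, x - algebraMap E F y ∈ maximalIdeal F)
    (Q₁ Q₂ : Ideal F) (h₁ : Q₁ ∈ minimalPrimes F) (h₂ : Q₂ ∈ minimalPrimes F) : Q₁ = Q₂ := by
  by_contra hne
  haveI : Q₁.IsPrime := h₁.1.1
  haveI : Q₂.IsPrime := h₂.1.1
  haveI : Module.FaithfullyFlat E F := Module.FaithfullyFlat.of_flat_of_isLocalHom
  by_cases hbot : maximalIdeal E = ⊥
  · have hF : maximalIdeal F = ⊥ := by rw [← hm, hbot, Ideal.map_bot]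
    have e1 : Q₁ = ⊥ := le_bot_iff.mp (hF ▸ IsLocalRing.le_maximalIdeal (Ideal.IsPrime.ne_top ‹_›))
    have e2 : Q₂ = ⊥ := le_bot_iff.mp (hF ▸ IsLocalRing.le_maximalIdeal (Ideal.IsPrime.ne_top ‹_›))
    exact hne (e1.trans e2.symm)
  obtain ⟨t, htm, ht0⟩ : ∃ t ∈ maximalIdeal E, t ≠ 0 := by
    by_contra hcon
    push Not at hcon
    exact hbot (le_bot_iff.mp fun x hx => (Ideal.mem_bot).mpr (hcon x hx))
  obtain ⟨c, hc⟩ := exists_pow_le_span t ht0
  set tF := algebraMap E F t with htF
  have htFm : tF ∈ maximalIdeal F := by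
    rw [← hm]
    exact Ideal.mem_map_of_mem _ htm
  have hreg : IsSMulRegular F tF := by
    have h0 : IsSMulRegular E t := by
      intro a b hab
      simp only [smul_eq_mul] at hab
      exact mul_left_cancel₀ ht0 hab
    exact h0.of_flat
  have hb : ∀ Q ∈ minimalPrimes F, tF ∉ Q := by
    intro Q hQ htQ
    have h1 := Groth.Agent.Lib.Helper87.PunctConn.comap_mem_minimalPrimes_of_flat (E := E) Q hQ
    rw [IsDomain.minimalPrimes_eq_singleton_bot, Set.mem_singleton_iff] at h1
    have : t ∈ Q.comap (algebraMap E F) := htQ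
    rw [h1] at this
    exact ht0 ((Ideal.mem_bot).mp this)
  have hmF : maximalIdeal F ∈ (Ideal.span {tF}).minimalPrimes := by
    refine ⟨⟨inferInstance, (Ideal.span_singleton_le_iff_mem _).mpr htFm⟩, ?_⟩
    rintro P ⟨hP, hPt⟩ _
    have h1 : maximalIdeal F ^ c ≤ P := by
      rw [← hm, ← Ideal.map_pow]
      refine le_trans (Ideal.map_mono hc) ?_
      rw [Ideal.map_span, Set.image_singleton]
      exact hPt
    exact Ideal.IsPrime.le_of_pow_le h1
  have hht : (maximalIdeal F).height ≤ 1 :=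
    Ideal.height_le_one_of_isPrincipal_of_mem_minimalPrimes _ _ hmF
  have ha : ∀ P : Ideal F, P.IsPrime → tF ∉ P → P ∈ minimalPrimes F := by
    intro P hP htP
    haveI := hP
    have hlt : P < maximalIdeal F :=
      lt_of_le_of_ne (le_maximalIdeal hP.ne_top) (by rintro rfl; exact htP htFm)
    have h2 := Ideal.height_strict_mono_of_isPrime hlt
    have h0 : P.height = 0 := Order.lt_one_iff.mp (lt_of_lt_of_le h2 hht)
    exact Ideal.height_eq_zero_iff.mp h0
  obtain ⟨x, N, hx2, hxQ₁, hxQ₂⟩ := exists_idem_like tF ha Q₁ Q₂ h₁ h₂ hne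
  obtain ⟨y, hy⟩ := exists_sub_mem_map_pow hm hres (c * (3 * N + 1)) x
  have hle : (maximalIdeal E ^ (c * (3 * N + 1))).map (algebraMap E F) ≤
      Ideal.span {tF ^ (3 * N + 1)} := by
    have : maximalIdeal E ^ (c * (3 * N + 1)) ≤ Ideal.span {t ^ (3 * N + 1)} := by
      rw [pow_mul, ← Ideal.span_singleton_pow]
      exact Ideal.pow_right_mono hc _
    refine le_trans (Ideal.map_mono this) ?_
    rw [Ideal.map_span, Set.image_singleton, map_pow]
  obtain ⟨δ', hδ'⟩ := Ideal.mem_span_singleton'.mp (hle hy)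
  have hxy : x = algebraMap E F y + tF ^ (3 * N + 1) * δ' := by
    rw [mul_comm, hδ']
    ring
  have hfy : algebraMap E F (y ^ 2 - t ^ N * y) ∈
      (Ideal.span {t ^ (3 * N + 1)}).map (algebraMap E F) := by
    rw [Ideal.map_span, Set.image_singleton, map_pow, Ideal.mem_span_singleton']
    refine ⟨-(δ' * (2 * algebraMap E F y + tF ^ (3 * N + 1) * δ' - tF ^ N)), ?_⟩
    have e0 : x ^ 2 - tF ^ N * x = 0 := by rw [hx2, sub_self]
    rw [hxy] at e0
    rw [map_sub, map_mul, map_pow, map_pow, ← htF]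
    linear_combination (-1 : F) * e0
  have hy2 : y ^ 2 - t ^ N * y ∈ Ideal.span {t ^ (3 * N + 1)} := by
    rw [← Ideal.comap_map_eq_self_of_faithfullyFlat (B := F) (Ideal.span {t ^ (3 * N + 1)})]
    exact hfy
  obtain ⟨e, he⟩ := Ideal.mem_span_singleton'.mp hy2
  obtain ⟨y', g, hy', hyy'⟩ := hensel_step t htm N y e (by rw [← he, mul_comm])
  rcases hy' with rfl | rfl
  · have hx0 : x = 0 := by
      refine eq_zero_of_sq tF htFm hreg N x (algebraMap E F g + tF ^ (2 * N) * δ') hx2 ?_
      have : y = t ^ (N + 1) * g := by rw [← hyy', sub_zero]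
      rw [hxy, this, map_mul, map_pow, ← htF]
      ring
    rw [hx0, sub_zero] at hxQ₂
    exact hb Q₂ h₂ (Ideal.IsPrime.mem_of_pow_mem inferInstance _ hxQ₂)
  · have hw0 : tF ^ N - x = 0 := by
      refine eq_zero_of_sq tF htFm hreg N (tF ^ N - x)
        (-(algebraMap E F g) - tF ^ (2 * N) * δ') ?_ ?_
      · linear_combination hx2
      · have h3 : algebraMap E F y - tF ^ N = tF ^ (N + 1) * algebraMap E F g := by
          rw [htF, ← map_pow, ← map_pow, ← map_sub, hyy', map_mul]
        rw [hxy]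
        linear_combination (-1 : F) * h3
    have hx1 : x = tF ^ N := (sub_eq_zero.mp hw0).symm
    rw [hx1] at hxQ₁
    exact hb Q₁ h₁ (Ideal.IsPrime.mem_of_pow_mem inferInstance _ hxQ₁)

end Core

end Groth.Agent.Lib.Helper56.BrDim
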