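import Mathlib
import Groth.Agent.Lib.Helper56.BrDim4
import Groth.Agent.Lib.Helper56.QuotFlat
import Groth.Agent.Lib.Helper69.HensFinite

set_option autoImplicit false
set_option linter.style.haveILetI false
set_option linter.unusedSectionVars false

namespace Groth.Agent.Lib.Helper56.BrDim

open IsLocalRing

universe u

section Count

variable {H G : Type u} [CommRing H] [HenselianLocalRing H] [IsNoetherianRing H]
  [CommRing G] [IsLocalRing G] [IsNoetherianRing G] [Algebra H G]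
  [Module.Flat H G] [IsLocalHom (algebraMap H G)]

theorem eq_of_comap_eq (hdim : ringKrullDim H ≤ 1)
    (hm : (maximalIdeal H).map (algebraMap H G) = maximalIdeal G)
    (hres : ∀ x : G, ∃ y : H, x - algebraMap H G y ∈ maximalIdeal G)
    (Q₁ Q₂ : Ideal G) (h₁ : Q₁ ∈ minimalPrimes G) (h₂ : Q₂ ∈ minimalPrimes G)
    (h : Q₁.comap (algebraMap H G) = Q₂.comap (algebraMap H G)) : Q₁ = Q₂ := by
  haveI : Q₁.IsPrime := h₁.1.1
  haveI : Q₂.IsPrime := h₂.1.1
  obtain ⟨p, hp⟩ : ∃ p : Ideal H, p = Q₁.comap (algebraMap H G) := ⟨_, rfl⟩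
  haveI : p.IsPrime := hp ▸ Ideal.comap_isPrime _ _
  have hle₁ : p.map (algebraMap H G) ≤ Q₁ := Ideal.map_le_iff_le_comap.mpr hp.le
  have hle₂ : p.map (algebraMap H G) ≤ Q₂ := Ideal.map_le_iff_le_comap.mpr (hp.le.trans h.le)
  have hpGne : p.map (algebraMap H G) ≠ ⊤ := fun htop =>
    (Ideal.IsPrime.ne_top ‹Q₁.IsPrime›) (top_le_iff.mp (htop ▸ hle₁))
  haveI : Nontrivial (G ⧸ p.map (algebraMap H G)) := Ideal.Quotient.nontrivial_iff.mpr hpGne
  haveI : IsLocalRing (G ⧸ p.map (algebraMap H G)) :=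
    IsLocalRing.of_surjective' (Ideal.Quotient.mk _) Ideal.Quotient.mk_surjective
  haveI : Nontrivial (H ⧸ p) := Ideal.Quotient.nontrivial_iff.mpr (Ideal.IsPrime.ne_top ‹_›)
  haveI : IsLocalRing (H ⧸ p) :=
    IsLocalRing.of_surjective' (Ideal.Quotient.mk _) Ideal.Quotient.mk_surjective
  haveI : Algebra.IsIntegral H (H ⧸ p) :=
    Algebra.IsIntegral.of_surjective (Ideal.Quotient.mkₐ H p) (Ideal.Quotient.mkₐ_surjective H p)
  haveI : HenselianLocalRing (H ⧸ p) :=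
    Groth.Agent.Lib.Helper69.HensFinite.henselianLocalRing_of_isIntegral H (H ⧸ p)
  haveI : Ring.KrullDimLE 1 (H ⧸ p) := by
    rw [Ring.krullDimLE_iff]
    exact (ringKrullDim_quotient_le p).trans hdim
  haveI : Module.Flat (H ⧸ p) (G ⧸ p.map (algebraMap H G)) := flat_quotient_map H G p
  haveI : IsLocalHom (algebraMap (H ⧸ p) (G ⧸ p.map (algebraMap H G))) :=
    isLocalHom_quotient_map H G p
  have hm' : (maximalIdeal (H ⧸ p)).map (algebraMap (H ⧸ p) (G ⧸ p.map (algebraMap H G))) =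
      maximalIdeal (G ⧸ p.map (algebraMap H G)) := by
    rw [map_maximalIdeal_quotient_eq, hm, map_quotientMk_maximalIdeal]
  have hres' : ∀ x : G ⧸ p.map (algebraMap H G), ∃ y : H ⧸ p,
      x - algebraMap (H ⧸ p) (G ⧸ p.map (algebraMap H G)) y ∈
        maximalIdeal (G ⧸ p.map (algebraMap H G)) := by
    intro x
    obtain ⟨x, rfl⟩ := Ideal.Quotient.mk_surjective x
    obtain ⟨y, hy⟩ := hres x
    refine ⟨Ideal.Quotient.mk p y, ?_⟩
    have e : algebraMap (H ⧸ p) (G ⧸ p.map (algebraMap H G)) (Ideal.Quotient.mk p y) =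
        Ideal.Quotient.mk (p.map (algebraMap H G)) (algebraMap H G y) := rfl
    rw [e, ← map_sub, ← map_quotientMk_maximalIdeal]
    exact Ideal.mem_map_of_mem _ hy
  have hQ₁ : Q₁ ∈ (p.map (algebraMap H G)).minimalPrimes :=
    ⟨⟨inferInstance, hle₁⟩, fun P hP hPQ => h₁.2 ⟨hP.1, bot_le⟩ hPQ⟩
  have hQ₂ : Q₂ ∈ (p.map (algebraMap H G)).minimalPrimes :=
    ⟨⟨inferInstance, hle₂⟩, fun P hP hPQ => h₂.2 ⟨hP.1, bot_le⟩ hPQ⟩
  rw [Ideal.minimalPrimes_eq_comap] at hQ₁ hQ₂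
  obtain ⟨Q₁', hQ₁', e₁⟩ := hQ₁
  obtain ⟨Q₂', hQ₂', e₂⟩ := hQ₂
  rw [← e₁, ← e₂, eq_of_mem_minimalPrimes hm' hres' Q₁' Q₂' hQ₁' hQ₂']

theorem encard_minimalPrimes_le (hdim : ringKrullDim H ≤ 1)
    (hm : (maximalIdeal H).map (algebraMap H G) = maximalIdeal G)
    (hres : ∀ x : G, ∃ y : H, x - algebraMap H G y ∈ maximalIdeal G) :
    (minimalPrimes G).encard ≤ (minimalPrimes H).encard := by
  let F : minimalPrimes G → minimalPrimes H := fun Q =>
    ⟨Q.1.comap (algebraMap H G),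
      Groth.Agent.Lib.Helper87.PunctConn.comap_mem_minimalPrimes_of_flat Q.1 Q.2⟩
  have hinj : Function.Injective F := by
    intro Q Q' hQQ
    apply Subtype.ext
    exact eq_of_comap_eq hdim hm hres Q.1 Q'.1 Q.2 Q'.2 (congrArg Subtype.val hQQ)
  exact Function.Embedding.encard_le ⟨F, hinj⟩

end Count

end Groth.Agent.Lib.Helper56.BrDim
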