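import Mathlib

set_option autoImplicit false
set_option linter.style.haveILetI false
set_option linter.unusedSectionVars false

namespace Groth.Agent.Lib.Helper56.BrDim

open IsLocalRing

universe u

theorem residueField_map_surjective_of_isSepClosure {A B S T : Type u}
    [CommRing A] [IsLocalRing A] [CommRing B] [IsLocalRing B]
    [Algebra A B] [IsLocalHom (algebraMap A B)]
    [CommRing S] [IsLocalRing S] [Algebra A S] [IsLocalHom (algebraMap A S)]
    [CommRing T] [IsLocalRing T] [Algebra B T] [IsLocalHom (algebraMap B T)]
    (hS : IsSepClosure (ResidueField A) (ResidueField S))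
    (hT : IsSepClosure (ResidueField B) (ResidueField T))
    (hAB : Function.Surjective (algebraMap (ResidueField A) (ResidueField B)))
    (φ : S →+* T) [IsLocalHom φ]
    (hφ : φ.comp (algebraMap A S) = (algebraMap B T).comp (algebraMap A B)) :
    Function.Surjective (ResidueField.map φ) := by
  letI : Algebra (ResidueField A) (ResidueField T) :=
    ((algebraMap (ResidueField B) (ResidueField T)).comp
      (algebraMap (ResidueField A) (ResidueField B))).toAlgebra
  haveI : IsScalarTower (ResidueField A) (ResidueField B) (ResidueField T) :=
    IsScalarTower.of_algebraMap_eq' rfl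
  letI : Algebra (ResidueField S) (ResidueField T) := (ResidueField.map φ).toAlgebra
  haveI : IsScalarTower (ResidueField A) (ResidueField S) (ResidueField T) :=
    IsScalarTower.of_algebraMap_eq (fun x => by
      obtain ⟨r, rfl⟩ := residue_surjective x
      show algebraMap (ResidueField B) (ResidueField T)
          (algebraMap (ResidueField A) (ResidueField B) (residue A r)) =
        ResidueField.map φ (algebraMap (ResidueField A) (ResidueField S) (residue A r))
      have e1 : algebraMap (ResidueField A) (ResidueField B) (residue A r) =
          residue B (algebraMap A B r) := rfl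
      have e2 : algebraMap (ResidueField A) (ResidueField S) (residue A r) =
          residue S (algebraMap A S r) := rfl
      have e3 : algebraMap (ResidueField B) (ResidueField T) (residue B (algebraMap A B r)) =
          residue T (algebraMap B T (algebraMap A B r)) := rfl
      rw [e1, e2, e3, ResidueField.map_residue]
      congr 1
      exact (RingHom.congr_fun hφ r).symm)
  haveI : Algebra.IsSeparable (ResidueField A) (ResidueField B) :=
    ⟨fun y => by
      obtain ⟨x, rfl⟩ := hAB y
      exact isSeparable_algebraMap x⟩
  haveI : Algebra.IsSeparable (ResidueField B) (ResidueField T) := hT.separable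
  haveI : Algebra.IsSeparable (ResidueField A) (ResidueField T) :=
    Algebra.IsSeparable.trans (ResidueField A) (ResidueField B) (ResidueField T)
  haveI : Algebra.IsSeparable (ResidueField S) (ResidueField T) :=
    Algebra.isSeparable_tower_top_of_isSeparable (ResidueField A) (ResidueField S)
      (ResidueField T)
  haveI : IsSepClosed (ResidueField S) := hS.sep_closed
  exact IsSepClosed.algebraMap_surjective (ResidueField S) (ResidueField T)

theorem exists_sub_mem_of_residue_surjective {S T : Type u} [CommRing S] [IsLocalRing S]
    [CommRing T] [IsLocalRing T] (φ : S →+* T) [IsLocalHom φ]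
    (h : Function.Surjective (ResidueField.map φ)) (x : T) :
    ∃ y : S, x - φ y ∈ maximalIdeal T := by
  obtain ⟨z, hz⟩ := h (residue T x)
  obtain ⟨y, rfl⟩ := residue_surjective z
  refine ⟨y, ?_⟩
  rw [← residue_eq_zero_iff, map_sub, ← hz, ResidueField.map_residue, sub_self]

end Groth.Agent.Lib.Helper56.BrDim
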