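import Mathlib
import Groth.Prelude.Def_EGA4b
import Groth.Agent.Lib.Helper52.NormalTotal

set_option autoImplicit false
set_option linter.style.haveILetI false
set_option linter.unusedSectionVars false

namespace Groth.Agent.Lib.Helper56.DeltaFrac

open TensorProduct

universe u

theorem injective_of_isLocalization {R L F : Type*} [CommRing R] [CommRing L] [CommRing F]
    [Algebra R L] [Algebra R F] (S : Submonoid R) [IsLocalization S L] (ψ : L →ₐ[R] F)
    (hinj : Function.Injective (algebraMap R F)) : Function.Injective ψ := by
  rw [injective_iff_map_eq_zero]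
  intro x hx
  obtain ⟨b, s, rfl⟩ := IsLocalization.exists_mk'_eq S x
  have h1 : ψ (IsLocalization.mk' L b s) * algebraMap R F s = algebraMap R F b := by
    rw [← ψ.commutes (s : R), ← map_mul, IsLocalization.mk'_spec, ψ.commutes]
  rw [hx, zero_mul] at h1
  have hb : b = 0 := hinj (by rw [← h1, map_zero])
  rw [hb, IsLocalization.mk'_zero]

theorem isUnit_of_mem_nonZeroDivisors_fractionRing {R F : Type*} [CommRing R] [CommRing F]
    [Algebra R F] [IsFractionRing R F] (x : F) (hx : x ∈ nonZeroDivisors F) : IsUnit x := by
  obtain ⟨b, t, rfl⟩ := IsLocalization.exists_mk'_eq (nonZeroDivisors R) x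
  have hb : b ∈ nonZeroDivisors R := by
    rw [mem_nonZeroDivisors_iff_right]
    intro c hc
    have h1 : algebraMap R F c * IsLocalization.mk' F b t = 0 := by
      rw [IsLocalization.mul_mk'_eq_mk'_of_mul, hc, IsLocalization.mk'_zero]
    have h2 := (mem_nonZeroDivisors_iff_right.mp hx) _ h1
    exact IsLocalization.injective F (le_refl _) (by rw [h2, map_zero])
  have h3 : IsLocalization.mk' F b t * algebraMap R F t = algebraMap R F b :=
    IsLocalization.mk'_spec _ _ _
  have h4 : IsUnit (algebraMap R F b) := IsLocalization.map_units F (⟨b, hb⟩ : nonZeroDivisors R)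
  rw [← h3] at h4
  exact (IsUnit.mul_iff.mp h4).1

theorem isFractionRing_of_tower {R S F : Type*} [CommRing R] [CommRing S] [CommRing F]
    [Algebra R S] [Algebra R F] [Algebra S F] [IsScalarTower R S F] [IsFractionRing R F]
    (hinj : Function.Injective (algebraMap S F)) : IsFractionRing S F := by
  have hRS : Function.Injective (algebraMap R S) := by
    intro a b hab
    have := congrArg (algebraMap S F) hab
    rw [← IsScalarTower.algebraMap_apply, ← IsScalarTower.algebraMap_apply] at this
    exact IsLocalization.injective F (le_refl _) this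
  refine ⟨?_, ?_, ?_⟩
  · rintro ⟨c, hc⟩
    apply isUnit_of_mem_nonZeroDivisors_fractionRing (R := R)
    rw [mem_nonZeroDivisors_iff_right]
    intro f hf
    obtain ⟨b, t, rfl⟩ := IsLocalization.exists_mk'_eq (nonZeroDivisors R) f
    have h1 : algebraMap R F b * algebraMap S F c = 0 := by
      have h3 : IsLocalization.mk' F b t * algebraMap R F t = algebraMap R F b :=
        IsLocalization.mk'_spec _ _ _
      rw [← h3, mul_right_comm, hf, zero_mul]
    rw [IsScalarTower.algebraMap_apply R S F, ← map_mul] at h1
    have h2 : algebraMap R S b * c = 0 := hinj (by rw [h1, map_zero])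
    have h3 := (mem_nonZeroDivisors_iff_right.mp hc) _ h2
    have hb : b = 0 := hRS (by rw [h3, map_zero])
    rw [hb, IsLocalization.mk'_zero]
  · intro z
    obtain ⟨b, t, rfl⟩ := IsLocalization.exists_mk'_eq (nonZeroDivisors R) z
    have ht : algebraMap R S t ∈ nonZeroDivisors S := by
      rw [mem_nonZeroDivisors_iff_right]
      intro c hc
      have h1 := congrArg (algebraMap S F) hc
      rw [map_mul, map_zero, ← IsScalarTower.algebraMap_apply] at h1
      have hunit : IsUnit (algebraMap R F t) := IsLocalization.map_units F t
      exact hinj (by rw [hunit.mul_left_eq_zero.mp h1, map_zero])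
    refine ⟨(algebraMap R S b, ⟨algebraMap R S t, ht⟩), ?_⟩
    simp only
    rw [← IsScalarTower.algebraMap_apply, ← IsScalarTower.algebraMap_apply]
    exact IsLocalization.mk'_spec _ _ _
  · intro x y hxy
    exact ⟨1, by rw [hinj hxy]⟩

section Maps

variable (A B : Type u) [CommRing A] [CommRing B] [Algebra A B] [Module.Flat A B]

theorem algebraMap_mem_nonZeroDivisors (s : A) (hs : s ∈ nonZeroDivisors A) :
    algebraMap A B s ∈ nonZeroDivisors B := by
  have h1 : IsSMulRegular B s := Module.Flat.isSMulRegular_of_nonZeroDivisors hs
  rw [mem_nonZeroDivisors_iff_right]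
  intro b hb
  apply h1
  show s • b = s • (0 : B)
  rw [smul_zero, Algebra.smul_def, mul_comm]
  exact hb

noncomputable def rho : FractionRing A →ₐ[A] FractionRing B :=
  IsLocalization.liftAlgHom (M := nonZeroDivisors A) (f := Algebra.ofId A (FractionRing B))
    (fun y => by
      have h1 : IsUnit (algebraMap B (FractionRing B) (algebraMap A B y)) :=
        IsLocalization.map_units (FractionRing B)
          (⟨algebraMap A B y, algebraMap_mem_nonZeroDivisors A B y y.2⟩ : nonZeroDivisors B)
      rw [← IsScalarTower.algebraMap_apply] at h1
      exact h1)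

noncomputable def psiK : B ⊗[A] FractionRing A →ₐ[B] FractionRing B :=
  Algebra.TensorProduct.lift (Algebra.ofId B (FractionRing B)) (rho A B)
    (fun _ _ => Commute.all _ _)

theorem psiK_injective : Function.Injective (psiK A B) :=
  injective_of_isLocalization (Algebra.algebraMapSubmonoid B (nonZeroDivisors A)) (psiK A B)
    (IsLocalization.injective (FractionRing B) (le_refl _))

noncomputable def psi :
    B ⊗[A] integralClosure A (FractionRing A) →ₐ[B] FractionRing B :=
  (psiK A B).comp (Algebra.TensorProduct.map (AlgHom.id B B)
    (integralClosure A (FractionRing A)).val)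

theorem psi_injective : Function.Injective (psi A B) := by
  have h1 : Function.Injective (Algebra.TensorProduct.map (AlgHom.id B B)
      (integralClosure A (FractionRing A)).val) :=
    Module.Flat.lTensor_preserves_injective_linearMap (M := B)
      (integralClosure A (FractionRing A)).val.toLinearMap Subtype.val_injective
  exact (psiK_injective A B).comp h1

end Maps

end Groth.Agent.Lib.Helper56.DeltaFrac
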