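import Mathlib
import Groth.Prelude.Def_EGA4b
import Groth.Agent.Lib.Helper52.NormalTotal
import Groth.Agent.Lib.Helper56.DeltaFrac
import Groth.Agent.Lib.Helper56.NormalReduced

set_option autoImplicit false
set_option linter.style.haveILetI false
set_option linter.unusedSectionVars false

namespace Groth.Agent.Lib.Helper56.DeltaFrac

open TensorProduct

universe u

variable (A B : Type u) [CommRing A] [CommRing B] [Algebra A B] [Module.Flat A B]

theorem integralClosure_eq_range
    [IsNoetherianRing (B ⊗[A] integralClosure A (FractionRing A))]
    (hC : EGA4.IsNormalRing (B ⊗[A] integralClosure A (FractionRing A))) :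
    integralClosure B (FractionRing B) = (psi A B).range := by
  letI : Algebra (B ⊗[A] integralClosure A (FractionRing A)) (FractionRing B) :=
    (psi A B).toRingHom.toAlgebra
  haveI : IsScalarTower B (B ⊗[A] integralClosure A (FractionRing A)) (FractionRing B) :=
    IsScalarTower.of_algebraMap_eq (fun b => ((psi A B).commutes b).symm)
  haveI : IsFractionRing (B ⊗[A] integralClosure A (FractionRing A)) (FractionRing B) :=
    isFractionRing_of_tower (R := B) (psi_injective A B)
  haveI hred : IsReduced (B ⊗[A] integralClosure A (FractionRing A)) :=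
    Groth.Agent.Lib.Helper56.isReduced_of_isNormalRing _ hC
  have hfin : (minimalPrimes (B ⊗[A] integralClosure A (FractionRing A))).Finite :=
    minimalPrimes.finite_of_isNoetherianRing _
  have hic : IsIntegrallyClosedIn (B ⊗[A] integralClosure A (FractionRing A))
      (FractionRing (B ⊗[A] integralClosure A (FractionRing A))) :=
    (Groth.Agent.Lib.Helper52.NormalTotal.main hfin).mp hC
  have hic' : IsIntegrallyClosedIn (B ⊗[A] integralClosure A (FractionRing A))
      (FractionRing B) :=
    (isIntegrallyClosed_iff_isIntegrallyClosedIn (FractionRing B)).mp hic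
  haveI : Algebra.IsIntegral A (integralClosure A (FractionRing A)) := inferInstance
  apply le_antisymm
  · intro x hx
    have hx' : IsIntegral (B ⊗[A] integralClosure A (FractionRing A)) x :=
      IsIntegral.tower_top (R := B) hx
    obtain ⟨c, hc⟩ := (isIntegrallyClosedIn_iff.mp hic').2 hx'
    exact ⟨c, hc⟩
  · rintro _ ⟨c, rfl⟩
    exact (Algebra.IsIntegral.isIntegral (R := B) c).map (psi A B)

theorem nonempty_algEquiv
    [IsNoetherianRing (B ⊗[A] integralClosure A (FractionRing A))]
    (hC : EGA4.IsNormalRing (B ⊗[A] integralClosure A (FractionRing A))) :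
    Nonempty ((B ⊗[A] integralClosure A (FractionRing A)) ≃ₐ[B]
      integralClosure B (FractionRing B)) := by
  have h := integralClosure_eq_range A B hC
  exact ⟨(AlgEquiv.ofInjective (psi A B) (psi_injective A B)).trans
    (Subalgebra.equivOfEq _ _ h.symm)⟩

end Groth.Agent.Lib.Helper56.DeltaFrac
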