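import Mathlib
import Groth.Prelude.Def_Curv2
import Groth.Agent.Lib.Helper63.MatlisBC

set_option autoImplicit false
set_option linter.style.haveILetI false
set_option linter.unusedSectionVars false

namespace Groth.Agent.Lib.Helper56.DeltaLen

open TensorProduct IsLocalRing

universe u

section Ker

variable (A B : Type u) [CommRing A] [CommRing B] [Algebra A B]
  (A' : Type u) [CommRing A'] [Algebra A A']

theorem ker_baseChange_mkQ :
    LinearMap.ker (LinearMap.baseChange B
        (LinearMap.range (Algebra.linearMap A A')).mkQ) =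
      LinearMap.range (Algebra.linearMap B (B ⊗[A] A')) := by
  have hex : Function.Exact (Algebra.linearMap A A')
      (LinearMap.range (Algebra.linearMap A A')).mkQ := by
    rw [LinearMap.exact_iff, Submodule.ker_mkQ]
  have hsurj : Function.Surjective (LinearMap.range (Algebra.linearMap A A')).mkQ :=
    Submodule.mkQ_surjective _
  have hex2 := lTensor_exact B hex hsurj
  ext x
  rw [LinearMap.mem_ker, LinearMap.mem_range]
  have h1 : (LinearMap.baseChange B (LinearMap.range (Algebra.linearMap A A')).mkQ) x =
      (LinearMap.lTensor B (LinearMap.range (Algebra.linearMap A A')).mkQ) x := by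
    rw [← LinearMap.baseChange_eq_ltensor]
  rw [h1, hex2 x]
  constructor
  · rintro ⟨y, rfl⟩
    refine ⟨TensorProduct.rid A B y, ?_⟩
    have h2 : y = (TensorProduct.rid A B y) ⊗ₜ[A] (1 : A) := by
      rw [← TensorProduct.rid_symm_apply, LinearEquiv.symm_apply_apply]
    rw [h2, LinearMap.lTensor_tmul, ← h2, Algebra.linearMap_apply, Algebra.linearMap_apply,
      map_one, Algebra.TensorProduct.algebraMap_apply, Algebra.algebraMap_self, RingHom.id_apply]
  · rintro ⟨b, rfl⟩
    refine ⟨b ⊗ₜ[A] (1 : A), ?_⟩
    rw [LinearMap.lTensor_tmul, Algebra.linearMap_apply, Algebra.linearMap_apply,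
      map_one, Algebra.TensorProduct.algebraMap_apply, Algebra.algebraMap_self, RingHom.id_apply]

noncomputable def quotEquiv :
    ((B ⊗[A] A') ⧸ LinearMap.range (Algebra.linearMap B (B ⊗[A] A'))) ≃ₗ[B]
      B ⊗[A] (A' ⧸ LinearMap.range (Algebra.linearMap A A')) :=
  (Submodule.quotEquivOfEq _ _ (ker_baseChange_mkQ A B A').symm).trans
    (LinearMap.quotKerEquivOfSurjective
      (LinearMap.baseChange B (LinearMap.range (Algebra.linearMap A A')).mkQ)
      (by
        have h := LinearMap.lTensor_surjective B
          (Submodule.mkQ_surjective (LinearMap.range (Algebra.linearMap A A')))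
        intro y
        obtain ⟨x, hx⟩ := h y
        exact ⟨x, hx⟩))

end Ker

section Alg

variable {B : Type u} [CommRing B] {C C' : Type u} [CommRing C] [CommRing C'] [Algebra B C]
  [Algebra B C']

noncomputable def quotAlgEquiv (e : C ≃ₐ[B] C') :
    (C ⧸ LinearMap.range (Algebra.linearMap B C)) ≃ₗ[B]
      (C' ⧸ LinearMap.range (Algebra.linearMap B C')) :=
  Submodule.Quotient.equiv _ _ e.toLinearEquiv (by
    have h1 : (e.toLinearEquiv : C →ₗ[B] C').comp (Algebra.linearMap B C) =
        Algebra.linearMap B C' := by
      ext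
      simp
    rw [← h1, LinearMap.range_comp])

end Alg

theorem deltaInv_eq (A B : Type u) [CommRing A] [IsLocalRing A] [IsNoetherianRing A]
    [CommRing B] [IsLocalRing B] [IsNoetherianRing B] [Algebra A B]
    [IsLocalHom (algebraMap A B)] [Module.Flat A B]
    (hm : (maximalIdeal A).map (algebraMap A B) = maximalIdeal B)
    (e : (B ⊗[A] integralClosure A (FractionRing A)) ≃ₐ[B]
      integralClosure B (FractionRing B)) :
    Curv2.deltaInv B = Curv2.deltaInv A := by
  unfold Curv2.deltaInv
  rw [← Groth.Agent.Lib.Helper63.MatlisBC.length_tensor hm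
    (↥(integralClosure A (FractionRing A)) ⧸
      LinearMap.range (Algebra.linearMap A ↥(integralClosure A (FractionRing A))))]
  exact ((quotAlgEquiv e).symm.trans
    (quotEquiv A B ↥(integralClosure A (FractionRing A)))).length_eq

end Groth.Agent.Lib.Helper56.DeltaLen
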