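import Mathlib
import Groth.Prelude.Def_EGA4b
import Groth.Agent.Lib.Helper52.NormCountB
import Groth.Agent.Lib.Helper52.FlatDVR
import Groth.Agent.Lib.Helper51.GeomNormal

set_option autoImplicit false
set_option linter.style.haveILetI false
set_option linter.unusedSectionVars false

namespace Groth.Agent.Lib.Helper56.DeltaNormal

open TensorProduct IsLocalRing

universe u

variable (A : Type u) [CommRing A] [IsNoetherianRing A] [IsLocalRing A] [IsReduced A]
  [Module.Finite A (integralClosure A (FractionRing A))]
  (B : Type u) [CommRing B] [IsLocalRing B] [IsNoetherianRing B] [Algebra A B]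
  [IsLocalHom (algebraMap A B)] [Module.Flat A B]

attribute [local instance] Algebra.TensorProduct.rightAlgebra

theorem isNormalRing_tensor (hdim : ringKrullDim A = 1)
    (hm : (maximalIdeal A).map (algebraMap A B) = maximalIdeal B)
    (hR : ∀ (M : Ideal (integralClosure A (FractionRing A))) [M.IsMaximal],
      IsReduced (B ⊗[A] (integralClosure A (FractionRing A) ⧸ M))) :
    EGA4.IsNormalRing (B ⊗[A] integralClosure A (FractionRing A)) := by
  haveI : IsNoetherianRing (B ⊗[A] integralClosure A (FractionRing A)) :=
    IsNoetherianRing.of_finite B _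
  haveI : Module.Flat (integralClosure A (FractionRing A))
      (B ⊗[A] integralClosure A (FractionRing A)) :=
    Module.Flat.of_linearEquiv
      (Algebra.TensorProduct.commRight A (integralClosure A (FractionRing A)) B).symm.toLinearEquiv
  haveI : Algebra.IsIntegral A (integralClosure A (FractionRing A)) := inferInstance
  apply Groth.Agent.Lib.Helper51.isNormalRing_of_forall_maximal
  intro N hN
  have hNB : N.comap (algebraMap B (B ⊗[A] integralClosure A (FractionRing A))) =
      maximalIdeal B :=
    eq_maximalIdeal (Ideal.isMaximal_comap_of_isIntegral_of_isMaximal N)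
  set M := N.comap (algebraMap (integralClosure A (FractionRing A))
    (B ⊗[A] integralClosure A (FractionRing A))) with hMdef
  have hMprime : M.IsPrime := Ideal.comap_isPrime _ N
  have hMA : M.comap (algebraMap A (integralClosure A (FractionRing A))) = maximalIdeal A := by
    rw [hMdef, Ideal.comap_comap, ← IsScalarTower.algebraMap_eq A
      (integralClosure A (FractionRing A)) (B ⊗[A] integralClosure A (FractionRing A)),
      IsScalarTower.algebraMap_eq A B (B ⊗[A] integralClosure A (FractionRing A)),
      ← Ideal.comap_comap, hNB]
    exact ((local_hom_TFAE (algebraMap A B)).out 0 4 rfl rfl).mp inferInstance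
  have hMmax : M.IsMaximal :=
    Ideal.isMaximal_of_isIntegral_of_isMaximal_comap M (by rw [hMA]; infer_instance)
  obtain ⟨hdomM, hdvrM⟩ := Groth.Agent.Lib.Helper52.NormCountB.isDVR_localization A hdim M
  set P := M.map (algebraMap (integralClosure A (FractionRing A))
    (B ⊗[A] integralClosure A (FractionRing A))) with hPdef
  have hp : IsReduced ((B ⊗[A] integralClosure A (FractionRing A)) ⧸ P) := by
    have e : B ⊗[A] (integralClosure A (FractionRing A) ⧸ M) ≃ₐ[B]
        (B ⊗[A] integralClosure A (FractionRing A)) ⧸ P :=
      Algebra.TensorProduct.tensorQuotientEquiv (R := A) B (integralClosure A (FractionRing A)) B M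
    haveI := hR M
    exact isReduced_of_injective e.symm.toRingEquiv.toRingHom e.symm.injective
  have hPN : P ≤ N := Ideal.map_comap_le
  have hmin : N ∈ P.minimalPrimes := by
    refine ⟨⟨hN.isPrime, hPN⟩, ?_⟩
    rintro Q ⟨hQprime, hPQ⟩ hQN
    have hmAQ : maximalIdeal A ≤
        Q.comap (algebraMap A (B ⊗[A] integralClosure A (FractionRing A))) := by
      intro a ha
      rw [Ideal.mem_comap, IsScalarTower.algebraMap_apply A (integralClosure A (FractionRing A))
        (B ⊗[A] integralClosure A (FractionRing A))]
      apply hPQ
      apply Ideal.mem_map_of_mem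
      rw [← hMA] at ha
      exact ha
    have hQB : Q.comap (algebraMap B (B ⊗[A] integralClosure A (FractionRing A))) =
        maximalIdeal B := by
      apply le_antisymm (le_maximalIdeal (Ideal.comap_ne_top _ hQprime.ne_top))
      rw [← hm, Ideal.map_le_iff_le_comap, Ideal.comap_comap, ← IsScalarTower.algebraMap_eq]
      exact hmAQ
    have hQmax : Q.IsMaximal :=
      Ideal.isMaximal_of_isIntegral_of_isMaximal_comap Q (by rw [hQB]; infer_instance)
    exact (hQmax.eq_of_le hN.ne_top hQN).ge
  have hass : N ∈ associatedPrimes (B ⊗[A] integralClosure A (FractionRing A))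
      ((B ⊗[A] integralClosure A (FractionRing A)) ⧸ P) := by
    apply Module.associatedPrimes.minimalPrimes_annihilator_subset_associatedPrimes
    rw [Ideal.annihilator_quotient]
    exact hmin
  haveI := hN.isPrime
  obtain ⟨hd, hdvr⟩ := Groth.Agent.Lib.Helper52.FlatDVR.main M hp N hass
  exact ⟨hd, inferInstance⟩

end Groth.Agent.Lib.Helper56.DeltaNormal
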