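import Mathlib
import Groth.Agent.Lib.Helper56.GeomReduced

set_option autoImplicit false
set_option linter.style.haveILetI false
set_option linter.unusedSectionVars false

namespace Groth.Agent.Lib.Helper56.DeltaRes

open TensorProduct IsLocalRing

universe u

variable (A B : Type u) [CommRing A] [IsLocalRing A] [CommRing B] [IsLocalRing B] [Algebra A B]
  [IsLocalHom (algebraMap A B)]

noncomputable def resHom : ResidueField A ⊗[A] B →ₐ[ResidueField A] ResidueField B :=
  Algebra.TensorProduct.lift (Algebra.ofId (ResidueField A) (ResidueField B))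
    (IsScalarTower.toAlgHom A B (ResidueField B)) (fun _ _ => Commute.all _ _)

theorem resHom_bijective (hm : (maximalIdeal A).map (algebraMap A B) = maximalIdeal B) :
    Function.Bijective (resHom A B) := by
  let q : (B ⧸ (maximalIdeal A).map (algebraMap A B)) ≃ₐ[A ⧸ maximalIdeal A]
      (A ⧸ maximalIdeal A) ⊗[A] B :=
    Algebra.TensorProduct.quotIdealMapEquivQuotTensor B (maximalIdeal A)
  let r : (B ⧸ (maximalIdeal A).map (algebraMap A B)) ≃+* (B ⧸ maximalIdeal B) :=
    Ideal.quotEquivOfEq hm
  have hcomp : ∀ x, resHom A B (q x) = r x := by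
    intro x
    obtain ⟨b, rfl⟩ := Ideal.Quotient.mk_surjective x
    have h1 : q (Ideal.Quotient.mk _ b) = (1 : A ⧸ maximalIdeal A) ⊗ₜ[A] b :=
      Algebra.TensorProduct.quotIdealMapEquivQuotTensor_mk B (maximalIdeal A) b
    rw [h1]
    show resHom A B ((1 : ResidueField A) ⊗ₜ[A] b) = _
    rw [resHom, Algebra.TensorProduct.lift_tmul, map_one, one_mul]
    rfl
  constructor
  · intro y y' hyy'
    obtain ⟨x, rfl⟩ := q.surjective y
    obtain ⟨x', rfl⟩ := q.surjective y'
    rw [hcomp, hcomp] at hyy'
    rw [r.injective hyy']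
  · intro z
    obtain ⟨x, rfl⟩ := r.surjective z
    exact ⟨q x, hcomp x⟩

theorem isReduced_tensor_of_residue_separable
    (hm : (maximalIdeal A).map (algebraMap A B) = maximalIdeal B)
    [Algebra.IsSeparable (ResidueField A) (ResidueField B)]
    (E : Type u) [Field E] [Algebra A E] [Algebra (ResidueField A) E]
    [IsScalarTower A (ResidueField A) E] :
    IsReduced (B ⊗[A] E) := by
  let e₂ : ResidueField A ⊗[A] B ≃ₐ[ResidueField A] ResidueField B :=
    AlgEquiv.ofBijective (resHom A B) (resHom_bijective A B hm)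
  let e₁ : E ⊗[ResidueField A] (ResidueField A ⊗[A] B) ≃ₐ[ResidueField A] E ⊗[A] B :=
    Algebra.TensorProduct.cancelBaseChange A (ResidueField A) (ResidueField A) E B
  let e₃ : E ⊗[ResidueField A] (ResidueField A ⊗[A] B) ≃ₐ[ResidueField A]
      E ⊗[ResidueField A] ResidueField B :=
    Algebra.TensorProduct.congr AlgEquiv.refl e₂
  haveI h1 : IsReduced (E ⊗[ResidueField A] ResidueField B) :=
    Groth.Agent.Lib.Helper56.isReduced_tensor_of_isSeparable
  haveI h2 : IsReduced (E ⊗[A] B) :=
    isReduced_of_injective (e₁.symm.trans e₃).toRingEquiv.toRingHom (e₁.symm.trans e₃).injective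
  exact isReduced_of_injective (Algebra.TensorProduct.comm A B E).toRingEquiv.toRingHom
    (Algebra.TensorProduct.comm A B E).injective

theorem isSeparable_of_bijective
    (h : Function.Bijective (ResidueField.map (algebraMap A B))) :
    Algebra.IsSeparable (ResidueField A) (ResidueField B) := by
  refine ⟨fun x => ?_⟩
  obtain ⟨y, rfl⟩ := h.2 x
  exact isSeparable_algebraMap (F := ResidueField A) (K := ResidueField B) y

end Groth.Agent.Lib.Helper56.DeltaRes
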