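import Mathlib
import Groth.Prelude.Def_Curv2
import Groth.Prelude.Def_Found
import Groth.Prelude.Def_Hensel
import Groth.Agent.Lib.Helper56.DeltaFrac2
import Groth.Agent.Lib.Helper56.DeltaLen
import Groth.Agent.Lib.Helper56.DeltaNormal
import Groth.Agent.Lib.Helper56.DeltaRes
import Groth.Agent.Lib.Helper38.AnUnram
import Groth.Agent.Lib.Helper52.NormCount
import Groth.Agent.Lib.Helper87.HensNoeth
import Groth.Agent.Lib.Helper87.HensNoethStrict
import Groth.Agent.Lib.Helper87.HensProps
import Groth.Agent.Lib.Helper87.HensStrictProps

set_option autoImplicit false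
set_option linter.style.haveILetI false
set_option linter.unusedSectionVars false

namespace Groth.Agent.Lib.Helper56.DeltaMain

open TensorProduct IsLocalRing

universe u

theorem finite_integralClosure (A : Type u) [CommRing A] [IsReduced A]
    (hN : CAlg.IsNagata A) :
    Module.Finite A (integralClosure A (FractionRing A)) := by
  haveI : IsNoetherianRing A := hN.1
  exact Groth.Agent.Lib.Helper38.AnUnram.finite_integralClosure_of_reduced_finite A
    (FractionRing A) (FractionRing A) hN.2

theorem deltaInv_eq_of_residue_separable
    (A : Type u) [CommRing A] [IsLocalRing A] [IsReduced A] (hN : CAlg.IsNagata A)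
    (hdim : ringKrullDim A = 1)
    (B : Type u) [CommRing B] [IsLocalRing B] [IsNoetherianRing B] [Algebra A B]
    [IsLocalHom (algebraMap A B)] [Module.Flat A B]
    (hm : (maximalIdeal A).map (algebraMap A B) = maximalIdeal B)
    [Algebra.IsSeparable (ResidueField A) (ResidueField B)] :
    Curv2.deltaInv B = Curv2.deltaInv A := by
  haveI : IsNoetherianRing A := hN.1
  haveI hfin : Module.Finite A (integralClosure A (FractionRing A)) := finite_integralClosure A hN
  have hR : ∀ (M : Ideal (integralClosure A (FractionRing A))) [M.IsMaximal],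
      IsReduced (B ⊗[A] (integralClosure A (FractionRing A) ⧸ M)) := by
    intro M hM
    haveI : M.LiesOver (maximalIdeal A) :=
      ⟨(Groth.Agent.Lib.Helper52.NormCountB.comap_isMaximal A M).symm⟩
    letI : Field (integralClosure A (FractionRing A) ⧸ M) := Ideal.Quotient.field M
    letI : Algebra (ResidueField A) (integralClosure A (FractionRing A) ⧸ M) :=
      Ideal.Quotient.algebraOfLiesOver M (maximalIdeal A)
    haveI : IsScalarTower A (ResidueField A) (integralClosure A (FractionRing A) ⧸ M) :=
      Ideal.Quotient.isScalarTower_of_liesOver A M (maximalIdeal A)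
    exact Groth.Agent.Lib.Helper56.DeltaRes.isReduced_tensor_of_residue_separable A B hm
      (integralClosure A (FractionRing A) ⧸ M)
  have hC := Groth.Agent.Lib.Helper56.DeltaNormal.isNormalRing_tensor A B hdim hm hR
  haveI : IsNoetherianRing (B ⊗[A] integralClosure A (FractionRing A)) :=
    IsNoetherianRing.of_finite B _
  obtain ⟨e⟩ := Groth.Agent.Lib.Helper56.DeltaFrac.nonempty_algEquiv A B hC
  exact Groth.Agent.Lib.Helper56.DeltaLen.deltaInv_eq A B hm e

open Groth.Agent.Lib.Helper87.Hens

theorem deltaInv_henselization
    (A : Type u) [CommRing A] [IsLocalRing A] [IsReduced A] (hN : CAlg.IsNagata A)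
    (hdim : ringKrullDim A = 1)
    (B : Type u) [CommRing B] [IsLocalRing B] [Algebra A B]
    [IsLocalHom (algebraMap A B)] (hB : Hensel.IsHenselization A B) :
    Curv2.deltaInv B = Curv2.deltaInv A := by
  haveI : IsNoetherianRing A := hN.1
  haveI : IsNoetherianRing B := by
    obtain ⟨e⟩ := nonempty_algEquiv_Hh A B
    haveI : IsNoetherianRing (Hh A) := Hh.isNoetherianRing A
    exact isNoetherianRing_of_ringEquiv (Hh A) e.symm.toRingEquiv
  haveI : Module.Flat A B := flat_of_isHenselization A B
  haveI : Algebra.IsSeparable (ResidueField A) (ResidueField B) :=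
    Groth.Agent.Lib.Helper56.DeltaRes.isSeparable_of_bijective A B
      (residueField_map_bijective_of_isHenselization A B)
  exact deltaInv_eq_of_residue_separable A hN hdim B (map_maximalIdeal_of_isHenselization A B)

theorem deltaInv_strictHenselization
    (A : Type u) [CommRing A] [IsLocalRing A] [IsReduced A] (hN : CAlg.IsNagata A)
    (hdim : ringKrullDim A = 1)
    (B : Type u) [CommRing B] [IsLocalRing B] [Algebra A B]
    [IsLocalHom (algebraMap A B)] (hB : Hensel.IsStrictHenselization A B) :
    Curv2.deltaInv B = Curv2.deltaInv A := by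
  haveI : IsNoetherianRing A := hN.1
  haveI : IsNoetherianRing B := by
    obtain ⟨e⟩ := nonempty_algEquiv_Hsh A B
    haveI : IsNoetherianRing (Hsh A) := H.isNoetherianRing
    exact isNoetherianRing_of_ringEquiv (Hsh A) e.symm.toRingEquiv
  haveI : Module.Flat A B := flat_of_isStrictHenselization A B
  haveI : Algebra.IsSeparable (ResidueField A) (ResidueField B) :=
    (Hensel.IsStrictHenselization.isSepClosure (R := A) (S := B)).separable
  exact deltaInv_eq_of_residue_separable A hN hdim B
    (map_maximalIdeal_of_isStrictHenselization A B)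

theorem deltaInv_completion
    (A : Type u) [CommRing A] [IsLocalRing A] [IsReduced A] (hN : CAlg.IsNagata A)
    (hdim : ringKrullDim A = 1) :
    Curv2.deltaInv (AdicCompletion (maximalIdeal A) A) = Curv2.deltaInv A := by
  haveI : IsNoetherianRing A := hN.1
  haveI : IsNoetherianRing (AdicCompletion (maximalIdeal A) A) :=
    Groth.Agent.S0543.result A _
  have hbij : Function.Bijective
      (ResidueField.map (algebraMap A (AdicCompletion (maximalIdeal A) A))) := by
    refine ⟨(ResidueField.map _).injective, ?_⟩
    intro y
    obtain ⟨x, rfl⟩ := residue_surjective y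
    obtain ⟨r, hr⟩ := Groth.Agent.Lib.Helper52.NormCount.exists_sub_mem_maximalIdeal A x
    refine ⟨residue A r, ?_⟩
    rw [ResidueField.map_residue, eq_comm, ← sub_eq_zero, ← map_sub, residue_eq_zero_iff]
    exact hr
  haveI : Algebra.IsSeparable (ResidueField A)
      (ResidueField (AdicCompletion (maximalIdeal A) A)) :=
    Groth.Agent.Lib.Helper56.DeltaRes.isSeparable_of_bijective A _ hbij
  exact deltaInv_eq_of_residue_separable A hN hdim (AdicCompletion (maximalIdeal A) A)
    AdicCompletion.maximalIdeal_eq_map.symm

end Groth.Agent.Lib.Helper56.DeltaMain
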