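import Mathlib

set_option autoImplicit false
set_option linter.style.haveILetI false
set_option linter.unusedSectionVars false

namespace Groth.Agent.Lib.Helper56.CharCount

universe u

variable (K : Type u) [Field K] (R : Type u) [CommRing R] [Algebra K R] [Module.Finite K R]
  (Ω : Type u) [Field Ω] [Algebra K Ω]

theorem eq_zero_of_forall_algHom_eq_zero
    (h : Nat.card (R →ₐ[K] Ω) = Module.finrank K R) (x : R)
    (hx : ∀ φ : R →ₐ[K] Ω, φ x = 0) : x = 0 := by
  let J : Ideal R := ⨅ φ : R →ₐ[K] Ω, RingHom.ker φ.toRingHom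
  have hJ : ∀ a ∈ J, ∀ φ : R →ₐ[K] Ω, φ a = 0 := by
    intro a ha φ
    have := (Ideal.mem_iInf.mp ha) φ
    exact this
  let Ψ : (R →ₐ[K] Ω) → (R ⧸ J →ₐ[K] Ω) := fun φ =>
    Ideal.Quotient.liftₐ J φ (fun a ha => hJ a ha φ)
  have hΨ : Function.Injective Ψ := by
    intro φ φ' hφ
    ext a
    have := congrArg (fun f : R ⧸ J →ₐ[K] Ω => f (Ideal.Quotient.mk J a)) hφ
    simpa [Ψ] using this
  have h1 : Nat.card (R →ₐ[K] Ω) ≤ Nat.card (R ⧸ J →ₐ[K] Ω) :=
    Nat.card_le_card_of_injective Ψ hΨ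
  have h2 : Nat.card (R ⧸ J →ₐ[K] Ω) ≤ Module.finrank K (R ⧸ J) :=
    card_algHom_le_finrank K (R ⧸ J) Ω
  have h3 : Module.finrank K (R ⧸ J.restrictScalars K) + Module.finrank K (J.restrictScalars K) =
      Module.finrank K R := Submodule.finrank_quotient_add_finrank (J.restrictScalars K)
  have h4 : Module.finrank K (R ⧸ J.restrictScalars K) = Module.finrank K (R ⧸ J) :=
    (Submodule.Quotient.restrictScalarsEquiv K J).finrank_eq
  have h5 : Module.finrank K (J.restrictScalars K) = 0 := by omega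
  have h6 : J.restrictScalars K = ⊥ := Submodule.finrank_eq_zero.mp h5
  have hxJ : x ∈ J.restrictScalars K := by
    rw [Submodule.restrictScalars_mem]
    exact Ideal.mem_iInf.mpr (fun φ => hx φ)
  rw [h6] at hxJ
  exact hxJ

theorem exists_algebraMap_eq [IsSepClosed K]
    (h : Nat.card (R →ₐ[K] Ω) = Module.finrank K R) (φ₀ : R →ₐ[K] Ω) (x : R) :
    ∃ c : K, φ₀ x = algebraMap K Ω c := by
  by_contra hcon
  haveI : IsArtinianRing R := IsArtinianRing.of_finite K R
  let R₀ : Subalgebra K R := Subalgebra.comap φ₀ ⊥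
  have hxR₀ : x ∉ R₀ := by
    intro hx
    have : φ₀ x ∈ (⊥ : Subalgebra K Ω) := hx
    rw [Algebra.mem_bot] at this
    obtain ⟨c, hc⟩ := this
    exact hcon ⟨c, hc.symm⟩
  have hker : ∀ y : R, φ₀ y = 0 → y ∈ R₀ := by
    intro y hy
    show φ₀ y ∈ (⊥ : Subalgebra K Ω)
    rw [hy]
    exact Subalgebra.zero_mem _
  have hlt : Module.finrank K R₀ < Module.finrank K R := by
    have hne : Subalgebra.toSubmodule R₀ ≠ ⊤ := by
      intro htop
      apply hxR₀
      have : x ∈ Subalgebra.toSubmodule R₀ := by rw [htop]; trivial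
      exact this
    exact Submodule.finrank_lt hne
  let res : (R →ₐ[K] Ω) → (R₀ →ₐ[K] Ω) := fun φ => φ.comp R₀.val
  have hmaxker : (RingHom.ker φ₀.toRingHom).IsMaximal := by
    haveI : (RingHom.ker φ₀.toRingHom).IsPrime := RingHom.ker_isPrime _
    exact IsArtinianRing.isMaximal_of_isPrime _
  have hres : Function.Injective res := by
    intro φ φ' hφ
    have hagree : ∀ y : R, y ∈ R₀ → φ y = φ' y := by
      intro y hy
      exact congrArg (fun f : R₀ →ₐ[K] Ω => f ⟨y, hy⟩) hφ
    by_cases hA : ∃ y : R, φ₀ y = 0 ∧ φ y ≠ 0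
    · obtain ⟨y, hy0, hy⟩ := hA
      ext z
      have h1 : φ (z * y) = φ' (z * y) := hagree _ (hker _ (by rw [map_mul, hy0, mul_zero]))
      have h2 : φ y = φ' y := hagree _ (hker _ hy0)
      rw [map_mul, map_mul, ← h2] at h1
      exact mul_right_cancel₀ hy h1
    · by_cases hA' : ∃ y : R, φ₀ y = 0 ∧ φ' y ≠ 0
      · obtain ⟨y, hy0, hy⟩ := hA'
        ext z
        have h1 : φ (z * y) = φ' (z * y) := hagree _ (hker _ (by rw [map_mul, hy0, mul_zero]))
        have h2 : φ y = φ' y := hagree _ (hker _ hy0)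
        rw [map_mul, map_mul, h2] at h1
        exact mul_right_cancel₀ hy h1
      · push Not at hA hA'
        letI : Field (R ⧸ RingHom.ker φ₀.toRingHom) := Ideal.Quotient.field _
        haveI : Algebra.IsAlgebraic K (R ⧸ RingHom.ker φ₀.toRingHom) :=
          Algebra.IsAlgebraic.of_finite K _
        let ψ : R ⧸ RingHom.ker φ₀.toRingHom →+* Ω :=
          Ideal.Quotient.lift _ φ.toRingHom (fun a ha => hA a ha)
        let ψ' : R ⧸ RingHom.ker φ₀.toRingHom →+* Ω :=
          Ideal.Quotient.lift _ φ'.toRingHom (fun a ha => hA' a ha)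
        have hψ : ψ.comp (algebraMap K (R ⧸ RingHom.ker φ₀.toRingHom)) =
            ψ'.comp (algebraMap K (R ⧸ RingHom.ker φ₀.toRingHom)) := by
          ext c
          show φ (algebraMap K R c) = φ' (algebraMap K R c)
          rw [φ.commutes, φ'.commutes]
        have hψ' : ψ = ψ' :=
          IsPurelyInseparable.injective_comp_algebraMap K (R ⧸ RingHom.ker φ₀.toRingHom) Ω hψ
        ext z
        exact congrArg (fun f : R ⧸ RingHom.ker φ₀.toRingHom →+* Ω =>
          f (Ideal.Quotient.mk _ z)) hψ'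
  have h1 : Nat.card (R →ₐ[K] Ω) ≤ Nat.card (R₀ →ₐ[K] Ω) :=
    Nat.card_le_card_of_injective res hres
  have h2 : Nat.card (R₀ →ₐ[K] Ω) ≤ Module.finrank K R₀ := card_algHom_le_finrank K R₀ Ω
  omega

end Groth.Agent.Lib.Helper56.CharCount
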