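import Mathlib
import Groth.Agent.S14002
import Groth.Agent.S0543
import Groth.Agent.S3869
import Groth.Prelude.Def_FSch3

set_option autoImplicit false
set_option linter.style.haveILetI false
universe u

open TensorProduct

namespace Groth.Agent.Lib.Helper56.ComplFlatOld

section LemmaT

variable {B' R M : Type u} [CommRing B'] [CommRing R] [Algebra B' R] [AddCommGroup M]
  [Module B' M] [Module R M] [IsScalarTower B' R M]

theorem tmul_smul_eq_zero_of_mem (𝔟 : Ideal B') (𝔞 : Ideal R)
    (h𝔞 : 𝔟.map (algebraMap B' R) = 𝔞) (c : R) (hc : c ∈ 𝔞) (x : R ⧸ 𝔞) (m : M) :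
    x ⊗ₜ[B'] (c • m) = 0 := by
  rw [← h𝔞] at hc
  revert m
  refine Submodule.span_induction (p := fun c _ => ∀ m : M, x ⊗ₜ[B'] (c • m) = 0)
    ?_ ?_ ?_ ?_ hc
  · rintro _ ⟨β, hβ, rfl⟩ m
    rw [algebraMap_smul, ← TensorProduct.smul_tmul]
    have : β • x = 0 := by
      obtain ⟨y, rfl⟩ := Ideal.Quotient.mk_surjective x
      show Ideal.Quotient.mk 𝔞 (β • y) = 0
      rw [Algebra.smul_def, Ideal.Quotient.eq_zero_iff_mem, ← h𝔞]
      exact Ideal.mul_mem_right _ _ (Ideal.mem_map_of_mem _ hβ)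
    rw [this, zero_tmul]
  · intro m; rw [zero_smul, tmul_zero]
  · intro c1 c2 _ _ h1 h2 m
    rw [add_smul, tmul_add, h1, h2, add_zero]
  · intro s c1 _ h1 m
    rw [smul_eq_mul, mul_comm, mul_smul]
    exact h1 _

/-- compatibility of scalars in `(R ⧸ 𝔞) ⊗[B'] M` when `B' → R ⧸ 𝔞` is surjective and `𝔞 = 𝔟 R`. -/
theorem compatibleSMul_of_surjective (𝔟 : Ideal B') (𝔞 : Ideal R)
    (h𝔞 : 𝔟.map (algebraMap B' R) = 𝔞)
    (hsurj : Function.Surjective (fun b : B' => Ideal.Quotient.mk 𝔞 (algebraMap B' R b))) :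
    TensorProduct.CompatibleSMul B' R (R ⧸ 𝔞) M := by
  constructor
  intro r x m
  obtain ⟨b, hb⟩ := hsurj (Ideal.Quotient.mk 𝔞 r)
  have hb' : r - algebraMap B' R b ∈ 𝔞 := by
    rw [← Ideal.Quotient.eq]; exact hb.symm
  have h1 : r • x = b • x := by
    obtain ⟨y, rfl⟩ := Ideal.Quotient.mk_surjective x
    show Ideal.Quotient.mk 𝔞 (r • y) = Ideal.Quotient.mk 𝔞 (b • y)
    rw [smul_eq_mul, Algebra.smul_def, Ideal.Quotient.eq, ← sub_mul]
    exact Ideal.mul_mem_right _ _ hb'
  have h2 : x ⊗ₜ[B'] (r • m) = x ⊗ₜ[B'] (b • m) := by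
    have := tmul_smul_eq_zero_of_mem 𝔟 𝔞 h𝔞 _ hb' x m
    rw [sub_smul, tmul_sub, sub_eq_zero, algebraMap_smul] at this
    exact this
  rw [h1, h2, TensorProduct.smul_tmul]

end LemmaT

end Groth.Agent.Lib.Helper56.ComplFlatOld

namespace Groth.Agent.Lib.Helper56.ComplFlatOld

section LemmaT2

variable {B' R M : Type u} [CommRing B'] [CommRing R] [Algebra B' R] [AddCommGroup M]
  [Module B' M] [Module R M] [IsScalarTower B' R M]

/-- **Lemma T**: if `𝔞 = 𝔟 R` and `B' → R ⧸ 𝔞` is surjective, flatness of `M / 𝔟 M` over `B' / 𝔟`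
gives flatness of `M / 𝔞 M` over `R / 𝔞` (in tensor form). -/
theorem flat_quotient_tensor (𝔟 : Ideal B') (𝔞 : Ideal R)
    (h𝔞 : 𝔟.map (algebraMap B' R) = 𝔞)
    (hsurj : Function.Surjective (fun b : B' => Ideal.Quotient.mk 𝔞 (algebraMap B' R b)))
    (hflat : Module.Flat (B' ⧸ 𝔟) ((B' ⧸ 𝔟) ⊗[B'] M)) :
    Module.Flat (R ⧸ 𝔞) ((R ⧸ 𝔞) ⊗[R] M) := by
  have hle : 𝔟 ≤ 𝔞.comap (algebraMap B' R) := by
    rw [← Ideal.map_le_iff_le_comap, h𝔞]
  letI alg : Algebra (B' ⧸ 𝔟) (R ⧸ 𝔞) := (Ideal.quotientMap 𝔞 (algebraMap B' R) hle).toAlgebra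
  haveI tower : IsScalarTower B' (B' ⧸ 𝔟) (R ⧸ 𝔞) := IsScalarTower.of_algebraMap_eq (fun b => by
    show algebraMap B' (R ⧸ 𝔞) b = Ideal.quotientMap 𝔞 (algebraMap B' R) hle (Ideal.Quotient.mk 𝔟 b)
    rw [Ideal.quotientMap_mk]
    rfl)
  haveI := compatibleSMul_of_surjective (M := M) 𝔟 𝔞 h𝔞 hsurj
  have F1 : Module.Flat (R ⧸ 𝔞) ((R ⧸ 𝔞) ⊗[B' ⧸ 𝔟] ((B' ⧸ 𝔟) ⊗[B'] M)) := inferInstance
  let e1 : (R ⧸ 𝔞) ⊗[B' ⧸ 𝔟] ((B' ⧸ 𝔟) ⊗[B'] M) ≃ₗ[R ⧸ 𝔞] (R ⧸ 𝔞) ⊗[B'] M :=
    TensorProduct.AlgebraTensorModule.cancelBaseChange B' (B' ⧸ 𝔟) (R ⧸ 𝔞) (R ⧸ 𝔞) M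
  let e2 : (R ⧸ 𝔞) ⊗[B'] M ≃ₗ[R ⧸ 𝔞] (R ⧸ 𝔞) ⊗[R] M :=
    TensorProduct.equivOfCompatibleSMul R B' (R ⧸ 𝔞) (R ⧸ 𝔞) M
  exact Module.Flat.of_linearEquiv (e1.trans e2).symm

end LemmaT2

end Groth.Agent.Lib.Helper56.ComplFlatOld

namespace Groth.Agent.Lib.Helper56.ComplFlatOld

section F

variable {B' B : Type u} [CommRing B'] [CommRing B]
  (I' : Ideal B') (I : Ideal B) (φ : B' →+* B)

theorem complMap_algebraMap (h : I'.map φ ≤ I) (b : B') :
    FSch.complMap I' I φ h (algebraMap B' (AdicCompletion I' B') b) =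
      algebraMap B (AdicCompletion I B) (φ b) := by
  apply AdicCompletion.ext_evalₐ
  intro n
  rw [Groth.Agent.S3869.evalₐ_complMap]
  rw [AdicCompletion.algebraMap_apply, AdicCompletion.algebraMap_apply,
    AdicCompletion.evalₐ_of, AdicCompletion.evalₐ_of]
  simp

theorem mem_map_pow_of_evalₐ_eq_zero (hfg : I'.FG) (n : ℕ) (x : AdicCompletion I' B')
    (hx : AdicCompletion.evalₐ I' n x = 0) :
    x ∈ (I' ^ n).map (algebraMap B' (AdicCompletion I' B')) := by
  have h1 : AdicCompletion.eval I' B' n x = 0 := by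
    rw [← AdicCompletion.factor_evalₐ_eq_eval I' x (by simp), hx, map_zero]
  have h2 : x ∈ (I' ^ n • ⊤ : Submodule B' (AdicCompletion I' B')) := by
    rw [AdicCompletion.pow_smul_top_eq_ker_eval hfg]
    exact h1
  rw [Ideal.smul_top_eq_map] at h2
  exact h2

theorem surjective_mk_algebraMap (hfg : I'.FG) (n : ℕ) :
    Function.Surjective (fun b : B' =>
      Ideal.Quotient.mk ((I'.map (algebraMap B' (AdicCompletion I' B'))) ^ n)
        (algebraMap B' (AdicCompletion I' B') b)) := by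
  intro y
  obtain ⟨r, rfl⟩ := Ideal.Quotient.mk_surjective y
  obtain ⟨b, hb⟩ := Ideal.Quotient.mk_surjective (AdicCompletion.evalₐ I' n r)
  refine ⟨b, ?_⟩
  show Ideal.Quotient.mk _ _ = Ideal.Quotient.mk _ _
  rw [Ideal.Quotient.eq, ← Ideal.map_pow]
  apply mem_map_pow_of_evalₐ_eq_zero I' hfg
  rw [map_sub, AdicCompletion.algebraMap_apply, AdicCompletion.evalₐ_of, Algebra.algebraMap_self,
    RingHom.id_apply, hb, sub_self]

/-- **Theorem F**: the completion of a flat map of Noetherian rings `φ : B' → B` with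
`I = I' B` is flat. -/
theorem flat_complMap [IsNoetherianRing B'] [IsNoetherianRing B]
    (hφ : φ.Flat) (hI : I'.map φ = I) (h : I'.map φ ≤ I) :
    (FSch.complMap I' I φ h).Flat := by
  show (letI := (FSch.complMap I' I φ h).toAlgebra;
    Module.Flat (AdicCompletion I' B') (AdicCompletion I B))
  letI algRS : Algebra (AdicCompletion I' B') (AdicCompletion I B) :=
    (FSch.complMap I' I φ h).toAlgebra
  letI algB'B : Algebra B' B := φ.toAlgebra
  letI algB'S : Algebra B' (AdicCompletion I B) :=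
    ((algebraMap B (AdicCompletion I B)).comp φ).toAlgebra
  haveI t1 : IsScalarTower B' B (AdicCompletion I B) :=
    IsScalarTower.of_algebraMap_eq (fun b => rfl)
  haveI t2 : IsScalarTower B' (AdicCompletion I' B') (AdicCompletion I B) :=
    IsScalarTower.of_algebraMap_eq (fun b => (complMap_algebraMap I' I φ h b).symm)
  haveI : IsNoetherianRing (AdicCompletion I' B') := Groth.Agent.S0543.result B' I'
  haveI : IsNoetherianRing (AdicCompletion I B) := Groth.Agent.S0543.result B I
  haveI : Module.Flat B' B := hφ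
  haveI : Module.Flat B' (AdicCompletion I B) := Module.Flat.trans B' B (AdicCompletion I B)
  have hfg' : I'.FG := IsNoetherian.noetherian I'
  have hfg : I.FG := IsNoetherian.noetherian I
  have h𝔞S : (I'.map (algebraMap B' (AdicCompletion I' B'))).map
      (algebraMap (AdicCompletion I' B') (AdicCompletion I B)) =
      I.map (algebraMap B (AdicCompletion I B)) := by
    have e : (algebraMap (AdicCompletion I' B') (AdicCompletion I B)).comp
        (algebraMap B' (AdicCompletion I' B')) = (algebraMap B (AdicCompletion I B)).comp φ := by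
      refine RingHom.ext (fun b => ?_)
      exact complMap_algebraMap I' I φ h b
    rw [Ideal.map_map, e, ← Ideal.map_map, hI]
  haveI : IsAdicComplete ((I'.map (algebraMap B' (AdicCompletion I' B'))).map
      (algebraMap (AdicCompletion I' B') (AdicCompletion I B))) (AdicCompletion I B) := by
    rw [h𝔞S]
    exact AdicCompletion.isAdicComplete_self I hfg
  rw [Groth.Agent.S14002.result (AdicCompletion I' B') (AdicCompletion I B)
    (I'.map (algebraMap B' (AdicCompletion I' B')))]
  intro n hn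
  exact flat_quotient_tensor (B' := B') (R := AdicCompletion I' B') (M := AdicCompletion I B)
    (I' ^ n) ((I'.map (algebraMap B' (AdicCompletion I' B'))) ^ n) (Ideal.map_pow _ _ _)
    (surjective_mk_algebraMap I' hfg' n) inferInstance

end F

end Groth.Agent.Lib.Helper56.ComplFlatOld

namespace Groth.Agent.Lib.Helper56.ComplFlatOld

section directed

/-- flatness over a subring that is a directed union of images of rings over which `C` is flat -/
theorem flat_of_directed_ranges {C : Type u} [CommRing C] (D : Subring C) {ι : Type*}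
    (R : ι → Type u) [∀ i, CommRing (R i)] (ρ : ∀ i, R i →+* C)
    (hflat : ∀ i, (ρ i).Flat) (hle : ∀ i, (ρ i).range ≤ D)
    (hfin : ∀ (l : ℕ) (d : Fin l → D), ∃ i, ∀ k, (d k : C) ∈ (ρ i).range) :
    Module.Flat D C := by
  rw [Module.Flat.iff_forall_isTrivialRelation]
  intro l d c hrel
  obtain ⟨i, hi⟩ := hfin l d
  choose δ hδ using hi
  letI := (ρ i).toAlgebra
  haveI : Module.Flat (R i) C := hflat i
  have hrel' : ∑ k, δ k • c k = 0 := by
    rw [← hrel]
    refine Finset.sum_congr rfl (fun k _ => ?_)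
    show ρ i (δ k) * c k = (d k : C) * c k
    rw [hδ]
  obtain ⟨m, a, y, hy, ha⟩ := Module.Flat.isTrivialRelation_of_sum_smul_eq_zero (R := R i) (M := C) (f := δ) (x := c) hrel'
  refine ⟨m, fun k j => ⟨ρ i (a k j), hle i ⟨_, rfl⟩⟩, y, ?_, ?_⟩
  · intro k
    rw [hy k]
    rfl
  · intro j
    apply Subtype.ext
    have := congrArg (ρ i) (ha j)
    rw [map_sum, map_zero] at this
    rw [Subring.coe_zero, ← this]
    push_cast
    refine Finset.sum_congr rfl (fun k _ => ?_)
    rw [map_mul, hδ]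

end directed

end Groth.Agent.Lib.Helper56.ComplFlatOld

namespace Groth.Agent.Lib.Helper56.ComplFlatOld

section stalk

variable (A : Type u) [CommRing A] (J : Ideal A) (𝔭 : Ideal A) [𝔭.IsPrime]

theorem flat_complMap_localization [IsNoetherianRing A] (S' S : Submonoid A) (hS : S' ≤ S)
    (g : Localization S' →+* Localization S)
    (hg : g.comp (algebraMap A (Localization S')) = algebraMap A (Localization S))
    (hJ : (J.map (algebraMap A (Localization S'))).map g ≤ J.map (algebraMap A (Localization S))) :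
    (FSch.complMap (J.map (algebraMap A (Localization S'))) (J.map (algebraMap A (Localization S)))
      g hJ).Flat := by
  haveI : IsNoetherianRing (Localization S') :=
    IsLocalization.isNoetherianRing S' (Localization S') inferInstance
  haveI : IsNoetherianRing (Localization S) :=
    IsLocalization.isNoetherianRing S (Localization S) inferInstance
  refine flat_complMap _ _ g ?_ ?_ hJ
  · show (letI := g.toAlgebra; Module.Flat (Localization S') (Localization S))
    letI := g.toAlgebra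
    haveI : IsScalarTower A (Localization S') (Localization S) :=
      IsScalarTower.of_algebraMap_eq (fun a => (RingHom.congr_fun hg a).symm)
    haveI : IsLocalization (S.map (algebraMap A (Localization S'))) (Localization S) :=
      IsLocalization.isLocalization_of_submonoid_le (Localization S') (Localization S) S' S hS
    exact IsLocalization.flat (Localization S) (S.map (algebraMap A (Localization S')))
  · rw [Ideal.map_map, hg]

theorem awayToAtPrime_comp (f : A) (hf : f ∉ 𝔭) :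
    (FSch.awayToAtPrime A 𝔭 f hf).comp (algebraMap A (Localization.Away f)) =
      algebraMap A (Localization.AtPrime 𝔭) := by
  ext a
  simp [FSch.awayToAtPrime]

theorem flat_cAwayToAtPrime [IsNoetherianRing A] (f : A) (hf : f ∉ 𝔭) :
    (FSch.cAwayToAtPrime A J 𝔭 f hf).Flat := by
  have hS : Submonoid.powers f ≤ 𝔭.primeCompl := by
    rw [Submonoid.powers_le]
    exact hf
  exact flat_complMap_localization A J (Submonoid.powers f) 𝔭.primeCompl hS
    (FSch.awayToAtPrime A 𝔭 f hf) (awayToAtPrime_comp A 𝔭 f hf)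
    (FSch.map_awayToAtPrime_le A J 𝔭 f hf)

theorem exists_common (l : ℕ) (d : Fin l → FSch.stalkSubring A J 𝔭) :
    ∃ f : {f : A // f ∉ 𝔭}, ∀ k, (d k : FSch.cAtPrime A J 𝔭) ∈
      (FSch.cAwayToAtPrime A J 𝔭 f.1 f.2).range := by
  have h : ∀ k, ∃ f : {f : A // f ∉ 𝔭}, (d k : FSch.cAtPrime A J 𝔭) ∈
      (FSch.cAwayToAtPrime A J 𝔭 f.1 f.2).range := by
    intro k
    obtain ⟨f, hf, y, hy⟩ := (Groth.Agent.S3869.mem_stalkSubring_iff A J 𝔭 _).mp (d k).2
    exact ⟨⟨f, hf⟩, y, hy⟩
  choose fk hfk using h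
  classical
  have : Nonempty {f : A // f ∉ 𝔭} :=
    ⟨⟨1, fun h => (‹𝔭.IsPrime›.ne_top ((Ideal.eq_top_iff_one _).mpr h))⟩⟩
  obtain ⟨z, hz⟩ := (Groth.Agent.S3869.directed A J 𝔭).finset_le (Finset.univ.image fk)
  exact ⟨z, fun k => hz (fk k) (Finset.mem_image_of_mem _ (Finset.mem_univ k)) (hfk k)⟩

theorem flat_stalkSubring [IsNoetherianRing A] :
    Module.Flat (FSch.stalkSubring A J 𝔭) (FSch.cAtPrime A J 𝔭) := by
  refine flat_of_directed_ranges (FSch.stalkSubring A J 𝔭) (ι := {f : A // f ∉ 𝔭})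
    (fun f => FSch.cAway A J f.1) (fun f => FSch.cAwayToAtPrime A J 𝔭 f.1 f.2)
    (fun f => flat_cAwayToAtPrime A J 𝔭 f.1 f.2) ?_ (exists_common A J 𝔭)
  intro f
  exact le_iSup (fun f : {f : A // f ∉ 𝔭} => (FSch.cAwayToAtPrime A J 𝔭 f.1 f.2).range) f

theorem faithfullyFlat_stalkSubring [IsNoetherianRing A] (hJ : J ≤ 𝔭) :
    Module.FaithfullyFlat (FSch.stalkSubring A J 𝔭) (FSch.cAtPrime A J 𝔭) := by
  obtain ⟨hD, hloc⟩ := Groth.Agent.S3869.main A J 𝔭 hJ
  haveI := Groth.Agent.S3869.isLocalRing_cAtPrime A J 𝔭 hJ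
  haveI := flat_stalkSubring A J 𝔭
  haveI : IsLocalHom (algebraMap (FSch.stalkSubring A J 𝔭) (FSch.cAtPrime A J 𝔭)) := hloc
  exact Module.FaithfullyFlat.of_flat_of_isLocalHom

end stalk

end Groth.Agent.Lib.Helper56.ComplFlatOld

namespace Groth.Agent.Lib.Helper56.ComplFlatOld

section desc

variable (R S T : Type u) [CommRing R] [CommRing S] [CommRing T] [Algebra R S] [Algebra S T]
  [Algebra R T] [IsScalarTower R S T]

/-- flatness descends along a faithfully flat map on the right: if `T` is flat over `R` and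
faithfully flat over `S`, then `S` is flat over `R`. -/
theorem flat_of_faithfullyFlat_of_flat [Module.FaithfullyFlat S T] [Module.Flat R T] :
    Module.Flat R S := by
  rw [Module.Flat.iff_lTensor_preserves_injective_linearMap]
  intro N N' _ _ _ _ f hf
  have h1 : Function.Injective (f.lTensor T) :=
    Module.Flat.lTensor_preserves_injective_linearMap f hf
  rw [← LinearMap.baseChange_eq_ltensor (A := S)]
  rw [← Module.FaithfullyFlat.lTensor_injective_iff_injective S T]
  have hcomm : ∀ x : T ⊗[S] (S ⊗[R] N),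
      (TensorProduct.AlgebraTensorModule.cancelBaseChange R S T T N')
        ((f.baseChange S).lTensor T x) =
      f.lTensor T ((TensorProduct.AlgebraTensorModule.cancelBaseChange R S T T N) x) := by
    intro x
    induction x using TensorProduct.induction_on with
    | zero => simp
    | add x y hx hy => simp only [map_add, hx, hy]
    | tmul t y =>
      induction y using TensorProduct.induction_on with
      | zero => simp
      | add y z hy hz => simp only [tmul_add, map_add, hy, hz]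
      | tmul s n => simp
  intro x y hxy
  apply (TensorProduct.AlgebraTensorModule.cancelBaseChange R S T T N).injective
  apply h1
  rw [← hcomm, ← hcomm, hxy]

end desc

end Groth.Agent.Lib.Helper56.ComplFlatOld
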