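import Groth.Agent.Lib.Helper56.CplFlat

set_option autoImplicit false
universe u

namespace Groth.Agent.Lib.Helper56

open IsLocalRing EGA4 TensorProduct Groth.Agent.Lib.Helper56.ComplFlatOld

section CplQuot

variable (A : Type u) [CommRing A] [IsNoetherianRing A] [IsLocalRing A] (I : Ideal A)
  [Nontrivial (A ⧸ I)]

instance isLocalHom_algebraMap_quotient : IsLocalHom (algebraMap A (A ⧸ I)) :=
  IsLocalHom.of_surjective (Ideal.Quotient.mk I) Ideal.Quotient.mk_surjective

omit [IsNoetherianRing A] in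
theorem map_maximalIdeal_quotient :
    (maximalIdeal A).map (algebraMap A (A ⧸ I)) = maximalIdeal (A ⧸ I) := by
  rcases Ideal.map_eq_top_or_isMaximal_of_surjective (algebraMap A (A ⧸ I))
    Ideal.Quotient.mk_surjective (maximalIdeal.isMaximal A) with h | h
  · exfalso
    have := map_maximalIdeal_le_of_isLocalHom A (A ⧸ I)
    rw [h] at this
    exact (maximalIdeal.isMaximal (A ⧸ I)).ne_top (top_le_iff.mp this)
  · exact IsLocalRing.eq_maximalIdeal h

theorem map_cplMap_maximalIdeal :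
    (maximalIdeal (Cpl A)).map (cplMap A (A ⧸ I)) =
      (maximalIdeal (A ⧸ I)).map (algebraMap (A ⧸ I) (Cpl (A ⧸ I))) := by
  have e : (cplMap A (A ⧸ I)).comp (algebraMap A (Cpl A)) =
      (algebraMap (A ⧸ I) (Cpl (A ⧸ I))).comp (algebraMap A (A ⧸ I)) :=
    RingHom.ext (fun a => cplMap_algebraMap A (A ⧸ I) a)
  rw [AdicCompletion.maximalIdeal_eq_map, Ideal.map_map, e, ← Ideal.map_map,
    map_maximalIdeal_quotient]

theorem cplMap_quot_surjective : Function.Surjective (cplMap A (A ⧸ I)) := by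
  have : IsNoetherianRing (Cpl (A ⧸ I)) := Groth.Agent.S0543.result _ _
  have hH : IsHausdorff ((maximalIdeal (Cpl A)).map (cplMap A (A ⧸ I))) (Cpl (A ⧸ I)) := by
    apply IsHausdorff.of_le_jacobson
    rw [map_cplMap_maximalIdeal, ← AdicCompletion.maximalIdeal_eq_map]
    exact maximalIdeal_le_jacobson _
  apply surjective_of_mk_map_comp_surjective (I := maximalIdeal (Cpl A)) (cplMap A (A ⧸ I))
  intro y
  have key : ∀ y' : Cpl (A ⧸ I) ⧸ (maximalIdeal (A ⧸ I)).map (algebraMap (A ⧸ I) (Cpl (A ⧸ I))),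
      ∃ b : A ⧸ I, Ideal.Quotient.mk _ (algebraMap (A ⧸ I) (Cpl (A ⧸ I)) b) = y' := by
    intro y'
    have h1 := surjective_mk_algebraMap (maximalIdeal (A ⧸ I))
      (IsNoetherian.noetherian _) 1
    rw [pow_one] at h1
    exact h1 y'
  have key' : ∀ y' : Cpl (A ⧸ I) ⧸ (maximalIdeal (Cpl A)).map (cplMap A (A ⧸ I)),
      ∃ b : A ⧸ I, Ideal.Quotient.mk _ (algebraMap (A ⧸ I) (Cpl (A ⧸ I)) b) = y' := by
    rw [map_cplMap_maximalIdeal]
    exact key
  obtain ⟨b, hb⟩ := key' y
  obtain ⟨a, rfl⟩ := Ideal.Quotient.mk_surjective b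
  refine ⟨algebraMap A (Cpl A) a, ?_⟩
  rw [RingHom.comp_apply, cplMap_algebraMap]
  exact hb

theorem ker_cplMap_quot :
    RingHom.ker (cplMap A (A ⧸ I)) = I.map (algebraMap A (Cpl A)) := by
  have hN : IsNoetherianRing (Cpl A) := Groth.Agent.S0543.result _ _
  apply le_antisymm
  · intro x hx
    rw [RingHom.mem_ker] at hx
    have hH : IsHausdorff (maximalIdeal (Cpl A)) (Cpl A ⧸ I.map (algebraMap A (Cpl A))) :=
      inferInstance
    rw [← Ideal.Quotient.eq_zero_iff_mem]
    apply hH.haus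
    intro n
    rw [SModEq.zero]
    have hfg : (maximalIdeal A).FG := IsNoetherian.noetherian _
    obtain ⟨a, ha⟩ := Ideal.Quotient.mk_surjective (AdicCompletion.evalₐ (maximalIdeal A) n x)
    have h1 : x - algebraMap A (Cpl A) a ∈
        ((maximalIdeal A) ^ n).map (algebraMap A (Cpl A)) := by
      apply mem_map_pow_of_evalₐ_eq_zero _ hfg
      rw [map_sub, AdicCompletion.algebraMap_apply, AdicCompletion.evalₐ_of,
        Algebra.algebraMap_self, RingHom.id_apply, ha, sub_self]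
    have h2 : Ideal.Quotient.mk I a ∈ (maximalIdeal (A ⧸ I)) ^ n := by
      have h3 := Groth.Agent.S3869.evalₐ_complMap (maximalIdeal A) (maximalIdeal (A ⧸ I))
        (algebraMap A (A ⧸ I)) (map_maximalIdeal_le_of_isLocalHom A (A ⧸ I)) n x
      change AdicCompletion.evalₐ _ n (cplMap A (A ⧸ I) x) = _ at h3
      rw [hx, map_zero, ← ha, Ideal.quotientMap_mk] at h3
      exact Ideal.Quotient.eq_zero_iff_mem.mp h3.symm
    rw [← map_maximalIdeal_quotient, ← Ideal.map_pow] at h2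
    obtain ⟨b, hb, hab⟩ := (Ideal.mem_map_iff_of_surjective (algebraMap A (A ⧸ I))
      Ideal.Quotient.mk_surjective).mp h2
    have hab' : a - b ∈ I := by
      rw [← Ideal.Quotient.eq]
      exact hab.symm
    have hx' : x = (x - algebraMap A (Cpl A) a) + algebraMap A (Cpl A) (a - b) +
        algebraMap A (Cpl A) b := by
      rw [map_sub]; ring
    have hmap : ((maximalIdeal A) ^ n).map (algebraMap A (Cpl A)) = (maximalIdeal (Cpl A)) ^ n := by
      rw [Ideal.map_pow, ← AdicCompletion.maximalIdeal_eq_map]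
    have hmem : ∀ z ∈ (maximalIdeal (Cpl A)) ^ n,
        Ideal.Quotient.mk (I.map (algebraMap A (Cpl A))) z ∈
          ((maximalIdeal (Cpl A)) ^ n • ⊤ :
            Submodule (Cpl A) (Cpl A ⧸ I.map (algebraMap A (Cpl A)))) := by
      intro z hz
      have : Ideal.Quotient.mk (I.map (algebraMap A (Cpl A))) z =
          z • (1 : Cpl A ⧸ I.map (algebraMap A (Cpl A))) := by
        rw [Algebra.smul_def, mul_one]; rfl
      rw [this]
      exact Submodule.smul_mem_smul hz trivial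
    rw [hx', map_add, map_add]
    refine add_mem (add_mem (hmem _ (hmap ▸ h1)) ?_) (hmem _ (hmap ▸ Ideal.mem_map_of_mem _ hb))
    rw [Ideal.Quotient.eq_zero_iff_mem.mpr (Ideal.mem_map_of_mem _ hab')]
    exact zero_mem _
  · rw [Ideal.map_le_iff_le_comap]
    intro a ha
    rw [Ideal.mem_comap, RingHom.mem_ker, cplMap_algebraMap]
    have : algebraMap A (A ⧸ I) a = 0 := Ideal.Quotient.eq_zero_iff_mem.mpr ha
    rw [this, map_zero]

attribute [local instance] Algebra.TensorProduct.rightAlgebra in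
theorem isPushout_cpl_quot :
    letI := cplAlgebra A (A ⧸ I)
    haveI := isScalarTower_cpl A (A ⧸ I)
    haveI := isScalarTower_cpl_base A (A ⧸ I)
    Algebra.IsPushout A (Cpl A) (A ⧸ I) (Cpl (A ⧸ I)) := by
  let _ := cplAlgebra A (A ⧸ I)
  have := isScalarTower_cpl A (A ⧸ I)
  have := isScalarTower_cpl_base A (A ⧸ I)
  let f : Cpl A →ₐ[Cpl A] Cpl (A ⧸ I) := Algebra.ofId _ _
  have hf : Function.Surjective f := cplMap_quot_surjective A I
  have hker : RingHom.ker f = I.map (algebraMap A (Cpl A)) := ker_cplMap_quot A I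
  let e1 : (Cpl A ⧸ I.map (algebraMap A (Cpl A))) ≃ₐ[Cpl A] Cpl (A ⧸ I) :=
    (Ideal.quotientEquivAlgOfEq (Cpl A) hker.symm).trans
      (Ideal.quotientKerAlgEquivOfSurjective hf)
  let e : (Cpl A ⊗[A] (A ⧸ I)) ≃ₐ[Cpl A] Cpl (A ⧸ I) :=
    (Algebra.TensorProduct.quotIdealMapEquivTensorQuot (Cpl A) I).symm.trans e1
  refine Algebra.IsPushout.of_equiv (R := A) (R' := Cpl A) (S := A ⧸ I)
    (S' := Cpl A ⊗[A] (A ⧸ I)) e ?_
  refine RingHom.ext (fun x => ?_)
  obtain ⟨a, rfl⟩ := Ideal.Quotient.mk_surjective x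
  have h1 : algebraMap (A ⧸ I) (Cpl A ⊗[A] (A ⧸ I)) (Ideal.Quotient.mk I a) =
      algebraMap (Cpl A) (Cpl A ⊗[A] (A ⧸ I)) (algebraMap A (Cpl A) a) :=
    (IsScalarTower.algebraMap_apply A (A ⧸ I) _ a).symm.trans
      (IsScalarTower.algebraMap_apply A (Cpl A) _ a)
  rw [RingHom.comp_apply, h1]
  exact (e.commutes (algebraMap A (Cpl A) a)).trans (cplMap_algebraMap A (A ⧸ I) a)

end CplQuot

end Groth.Agent.Lib.Helper56
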