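import Mathlib
import Groth.Prelude.Def_Curv2
import Groth.Agent.Lib.Helper56.DeltaFrac2
import Groth.Agent.Lib.Helper56.DeltaLen
import Groth.Agent.Lib.Helper56.DeltaNormal
import Groth.Agent.Lib.Helper90.FlatDim1

set_option autoImplicit false
set_option linter.style.haveILetI false
set_option linter.unusedSectionVars false

namespace Groth.Agent.Lib.Helper56.DeltaBC

open TensorProduct IsLocalRing

universe u

section L1

variable (k K A : Type u) [Field k] [Field K] [Algebra k K] [CommRing A] [Algebra k A]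
  (B : Type u) [CommRing B] [Algebra (A ⊗[k] K) B] [Algebra A B] [IsScalarTower A (A ⊗[k] K) B]
  (M : Submonoid (A ⊗[k] K)) [IsLocalization M B]
  (N : Type u) [CommRing N] [Algebra A N] [Algebra k N] [IsScalarTower k A N]

include M in
theorem isReduced_tensor_of_isReduced [IsReduced (N ⊗[k] K)] : IsReduced (B ⊗[A] N) := by
  let e1 : B ⊗[A ⊗[k] K] ((A ⊗[k] K) ⊗[A] N) ≃ₐ[A ⊗[k] K] B ⊗[A] N :=
    Algebra.TensorProduct.cancelBaseChange A (A ⊗[k] K) (A ⊗[k] K) B N
  let e2 : N ⊗[A] (A ⊗[k] K) ≃ₐ[A] N ⊗[k] K :=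
    Algebra.TensorProduct.cancelBaseChange k A A N K
  let e3 : (A ⊗[k] K) ⊗[A] N ≃ₐ[A] N ⊗[A] (A ⊗[k] K) := Algebra.TensorProduct.comm A _ _
  haveI : IsReduced ((A ⊗[k] K) ⊗[A] N) :=
    isReduced_of_injective (e3.trans e2) (e3.trans e2).injective
  haveI : IsLocalization (Algebra.algebraMapSubmonoid ((A ⊗[k] K) ⊗[A] N) M)
      (((A ⊗[k] K) ⊗[A] N) ⊗[A ⊗[k] K] B) := IsLocalization.tensor B M
  haveI : IsReduced (((A ⊗[k] K) ⊗[A] N) ⊗[A ⊗[k] K] B) :=
    isReduced_localizationPreserves (Algebra.algebraMapSubmonoid ((A ⊗[k] K) ⊗[A] N) M)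
      (((A ⊗[k] K) ⊗[A] N) ⊗[A ⊗[k] K] B) inferInstance
  let e4 : B ⊗[A ⊗[k] K] ((A ⊗[k] K) ⊗[A] N) ≃ₐ[A ⊗[k] K]
      ((A ⊗[k] K) ⊗[A] N) ⊗[A ⊗[k] K] B := Algebra.TensorProduct.comm (A ⊗[k] K) _ _
  exact isReduced_of_injective (e1.symm.trans e4) (e1.symm.trans e4).injective

end L1

section Main

variable (k K A : Type u) [Field k] [Field K] [Algebra k K] [CommRing A] [IsLocalRing A]
  [Algebra k A] [IsNoetherianRing A] [IsReduced A]
  [Module.Finite A (integralClosure A (FractionRing A))]
  (P : Ideal (A ⊗[k] K)) [P.IsPrime] [IsNoetherianRing (A ⊗[k] K)]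
  (B : Type u) [CommRing B] [IsLocalRing B] [Algebra (A ⊗[k] K) B] [Algebra A B]
  [IsScalarTower A (A ⊗[k] K) B] [IsLocalization.AtPrime B P]

include P in
theorem isLocalHom_atPrime
    (hP : P.comap (Algebra.TensorProduct.includeLeftRingHom) = maximalIdeal A) :
    IsLocalHom (algebraMap A B) := by
  constructor
  intro a ha
  by_contra hnu
  have ham : a ∈ maximalIdeal A := (mem_maximalIdeal a).mpr hnu
  rw [← hP] at ham
  have h1 : algebraMap (A ⊗[k] K) B (a ⊗ₜ[k] (1 : K)) ∈ maximalIdeal B := by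
    rw [← IsLocalization.AtPrime.map_eq_maximalIdeal P B]
    exact Ideal.mem_map_of_mem _ ham
  have h2 : algebraMap A B a = algebraMap (A ⊗[k] K) B (a ⊗ₜ[k] (1 : K)) := by
    rw [IsScalarTower.algebraMap_apply A (A ⊗[k] K) B]
    rfl
  rw [h2] at ha
  exact (mem_maximalIdeal _).mp h1 ha

theorem isReduced_residue_tensor
    (H : ∀ (M : Ideal (integralClosure A (FractionRing A))) [M.IsMaximal],
      IsReduced ((integralClosure A (FractionRing A) ⧸ M) ⊗[k] K)) :
    IsReduced (ResidueField A ⊗[k] K) := by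
  obtain ⟨M, hM⟩ := Ideal.exists_maximal (integralClosure A (FractionRing A))
  haveI := hM
  haveI := H M
  have hcomap : M.comap (algebraMap A (integralClosure A (FractionRing A))) = maximalIdeal A :=
    IsLocalRing.eq_maximalIdeal (Ideal.isMaximal_comap_of_isIntegral_of_isMaximal M)
  let g : ResidueField A →ₐ[k] (integralClosure A (FractionRing A) ⧸ M) :=
    { Ideal.quotientMap M (algebraMap A (integralClosure A (FractionRing A))) hcomap.ge with
      commutes' := fun c => by
        show Ideal.quotientMap M (algebraMap A (integralClosure A (FractionRing A))) hcomap.ge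
          (Ideal.Quotient.mk _ (algebraMap k A c)) = _
        rw [Ideal.quotientMap_mk]
        rfl }
  have hg : Function.Injective g := fun x y h => g.toRingHom.injective h
  have hinj : Function.Injective (Algebra.TensorProduct.map g (AlgHom.id k K)) := by
    have : (Algebra.TensorProduct.map g (AlgHom.id k K) : _ → _) =
        (LinearMap.rTensor K g.toLinearMap) := by
      ext x
      rfl
    rw [this]
    exact Module.Flat.rTensor_preserves_injective_linearMap _ hg
  exact isReduced_of_injective _ hinj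

theorem eq_zero_of_one_eq_one_add (d : WithBot ℕ∞) (hnn : 0 ≤ d) (hd : (1 : WithBot ℕ∞) = 1 + d) :
    d = 0 := by
  induction d using WithBot.recBotCoe with
  | bot => exact absurd hnn (by simp)
  | coe d =>
    induction d using ENat.recTopCoe with
    | top =>
      exfalso
      have h1 : ((1 : ℕ∞) : WithBot ℕ∞) = ((1 + ⊤ : ℕ∞) : WithBot ℕ∞) := by
        rw [WithBot.coe_add]
        exact hd
      have h2 : (1 : ℕ∞) = 1 + ⊤ := WithBot.coe_injective h1
      simp at h2
    | coe n =>
      have h1 : ((1 : ℕ∞) : WithBot ℕ∞) = ((1 + (n : ℕ∞) : ℕ∞) : WithBot ℕ∞) := by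
        rw [WithBot.coe_add]
        exact hd
      have h2 : (1 : ℕ∞) = 1 + (n : ℕ∞) := WithBot.coe_injective h1
      have h3 : ((1 : ℕ) : ℕ∞) = ((1 + n : ℕ) : ℕ∞) := by
        push_cast
        exact h2
      have h4 : (1 : ℕ) = 1 + n := by exact_mod_cast h3
      have h5 : n = 0 := by omega
      rw [h5]
      rfl

include P in
theorem map_maximalIdeal_atPrime
    (hP : P.comap (Algebra.TensorProduct.includeLeftRingHom) = maximalIdeal A)
    (hdim : ringKrullDim A = 1) (hdimB : ringKrullDim B = 1)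
    (H : ∀ (M : Ideal (integralClosure A (FractionRing A))) [M.IsMaximal],
      IsReduced ((integralClosure A (FractionRing A) ⧸ M) ⊗[k] K)) :
    (maximalIdeal A).map (algebraMap A B) = maximalIdeal B := by
  haveI := isLocalHom_atPrime k K A P B hP
  haveI : Module.Flat (A ⊗[k] K) B := IsLocalization.flat B P.primeCompl
  haveI : Module.Flat A B := Module.Flat.trans A (A ⊗[k] K) B
  haveI : IsNoetherianRing B := IsLocalization.isNoetherianRing P.primeCompl B inferInstance
  set J := (maximalIdeal A).map (algebraMap A B) with hJ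
  have hJne : J ≠ ⊤ := Groth.Agent.Lib.Helper90.FlatDim.map_ne_top _
    (maximalIdeal.isMaximal A).ne_top
  haveI : Nontrivial (B ⧸ J) := Ideal.Quotient.nontrivial_iff.mpr hJne
  haveI : IsLocalRing (B ⧸ J) :=
    IsLocalRing.of_surjective' (Ideal.Quotient.mk _) Ideal.Quotient.mk_surjective
  have hd := Groth.Agent.Lib.Helper90.FlatDim.ringKrullDim_eq_add_of_flat (R := A) (S := B)
  rw [hdim, hdimB, ← hJ] at hd
  have hd0 : ringKrullDim (B ⧸ J) = 0 :=
    eq_zero_of_one_eq_one_add _ ringKrullDim_nonneg_of_nontrivial hd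
  haveI : Ring.KrullDimLE 0 (B ⧸ J) := by
    rw [Ring.krullDimLE_iff, hd0]
    rfl
  haveI := isReduced_residue_tensor k K A H
  haveI h1 : IsReduced (B ⊗[A] ResidueField A) :=
    isReduced_tensor_of_isReduced k K A B P.primeCompl (ResidueField A)
  haveI : IsReduced (B ⊗[A] (A ⧸ maximalIdeal A)) := h1
  let e : (B ⧸ J) ≃ₐ[B] B ⊗[A] (A ⧸ maximalIdeal A) :=
    Algebra.TensorProduct.quotIdealMapEquivTensorQuot B (maximalIdeal A)
  haveI : IsReduced (B ⧸ J) := isReduced_of_injective e e.injective
  have hfield : IsField (B ⧸ J) := Ring.KrullDimLE.isField_of_isReduced (R := B ⧸ J)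
  have hmax : J.IsMaximal := Ideal.Quotient.maximal_of_isField J hfield
  exact IsLocalRing.eq_maximalIdeal hmax

include P in
theorem deltaInv_atPrime
    (hP : P.comap (Algebra.TensorProduct.includeLeftRingHom) = maximalIdeal A)
    (hdim : ringKrullDim A = 1) (hdimB : ringKrullDim B = 1)
    (H : ∀ (M : Ideal (integralClosure A (FractionRing A))) [M.IsMaximal],
      IsReduced ((integralClosure A (FractionRing A) ⧸ M) ⊗[k] K)) :
    Curv2.deltaInv B = Curv2.deltaInv A := by
  haveI := isLocalHom_atPrime k K A P B hP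
  haveI : Module.Flat (A ⊗[k] K) B := IsLocalization.flat B P.primeCompl
  haveI : Module.Flat A B := Module.Flat.trans A (A ⊗[k] K) B
  haveI : IsNoetherianRing B := IsLocalization.isNoetherianRing P.primeCompl B inferInstance
  have hm := map_maximalIdeal_atPrime k K A P B hP hdim hdimB H
  have hR : ∀ (M : Ideal (integralClosure A (FractionRing A))) [M.IsMaximal],
      IsReduced (B ⊗[A] (integralClosure A (FractionRing A) ⧸ M)) := by
    intro M hM
    haveI := H M
    exact isReduced_tensor_of_isReduced k K A B P.primeCompl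
      (integralClosure A (FractionRing A) ⧸ M)
  have hC := Groth.Agent.Lib.Helper56.DeltaNormal.isNormalRing_tensor A B hdim hm hR
  haveI : IsNoetherianRing (B ⊗[A] integralClosure A (FractionRing A)) :=
    IsNoetherianRing.of_finite B _
  obtain ⟨e⟩ := Groth.Agent.Lib.Helper56.DeltaFrac.nonempty_algEquiv A B hC
  exact Groth.Agent.Lib.Helper56.DeltaLen.deltaInv_eq A B hm e

end Main

end Groth.Agent.Lib.Helper56.DeltaBC
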