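import Mathlib
import Groth.Prelude.Def_Curv2
import Groth.Agent.Lib.Helper56.DeltaFrac
import Groth.Agent.Lib.Helper56.DeltaLen

set_option autoImplicit false
set_option linter.style.haveILetI false
set_option linter.unusedSectionVars false

namespace Groth.Agent.Lib.Helper56.DeltaFlat

open TensorProduct IsLocalRing

universe u

section Maps

variable (A B : Type u) [CommRing A] [CommRing B] [Algebra A B] [Module.Flat A B]

theorem psi_mem (z : B ⊗[A] integralClosure A (FractionRing A)) :
    DeltaFrac.psi A B z ∈ integralClosure B (FractionRing B) := by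
  have h : IsIntegral B z := Algebra.IsIntegral.isIntegral z
  exact h.map (DeltaFrac.psi A B)

noncomputable def psi' : B ⊗[A] integralClosure A (FractionRing A) →ₐ[B]
    integralClosure B (FractionRing B) :=
  (DeltaFrac.psi A B).codRestrict (integralClosure B (FractionRing B)) (psi_mem A B)

theorem psi'_injective : Function.Injective (psi' A B) := by
  intro x y hxy
  apply DeltaFrac.psi_injective A B
  exact congrArg Subtype.val hxy

theorem range_le_comap :
    LinearMap.range (Algebra.linearMap B (B ⊗[A] integralClosure A (FractionRing A))) ≤
      (LinearMap.range (Algebra.linearMap B (integralClosure B (FractionRing B)))).comap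
        (psi' A B).toLinearMap := by
  rintro _ ⟨b, rfl⟩
  refine ⟨b, ?_⟩
  simp only [Algebra.linearMap_apply, AlgHom.toLinearMap_apply, AlgHom.commutes]

noncomputable def quotMap :
    ((B ⊗[A] integralClosure A (FractionRing A)) ⧸
      LinearMap.range (Algebra.linearMap B (B ⊗[A] integralClosure A (FractionRing A)))) →ₗ[B]
    (integralClosure B (FractionRing B) ⧸
      LinearMap.range (Algebra.linearMap B (integralClosure B (FractionRing B)))) :=
  Submodule.mapQ _ _ (psi' A B).toLinearMap (range_le_comap A B)

theorem quotMap_injective : Function.Injective (quotMap A B) := by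
  rw [← LinearMap.ker_eq_bot, LinearMap.ker_eq_bot']
  intro x hx
  obtain ⟨z, rfl⟩ := Submodule.Quotient.mk_surjective _ x
  have h1 : (psi' A B) z ∈
      LinearMap.range (Algebra.linearMap B (integralClosure B (FractionRing B))) := by
    have : quotMap A B (Submodule.Quotient.mk z) = Submodule.Quotient.mk ((psi' A B) z) := rfl
    rw [this, Submodule.Quotient.mk_eq_zero] at hx
    exact hx
  obtain ⟨b, hb⟩ := h1
  rw [Submodule.Quotient.mk_eq_zero]
  refine ⟨b, ?_⟩
  apply psi'_injective A B
  rw [← hb]
  simp only [Algebra.linearMap_apply, AlgHom.commutes]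

end Maps

theorem deltaInv_le_of_flat (A B : Type u) [CommRing A] [IsLocalRing A] [CommRing B]
    [IsLocalRing B] [Algebra A B] [IsLocalHom (algebraMap A B)] [Module.Flat A B] :
    Curv2.deltaInv A ≤ Curv2.deltaInv B := by
  unfold Curv2.deltaInv
  have h1 := IsLocalRing.length_baseChange A B
    (↥(integralClosure A (FractionRing A)) ⧸
      LinearMap.range (Algebra.linearMap A ↥(integralClosure A (FractionRing A))))
  have h2 : Module.length B (B ⧸ (maximalIdeal A).map (algebraMap A B)) ≠ 0 := by
    simpa [← pos_iff_ne_zero, Module.length_pos_iff] using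
      (IsLocalRing.map_maximalIdeal_lt_top (algebraMap A B)).ne
  have h3 : Module.length A (↥(integralClosure A (FractionRing A)) ⧸
      LinearMap.range (Algebra.linearMap A ↥(integralClosure A (FractionRing A)))) ≤
      Module.length B (B ⊗[A] (↥(integralClosure A (FractionRing A)) ⧸
        LinearMap.range (Algebra.linearMap A ↥(integralClosure A (FractionRing A))))) := by
    rw [h1]
    exact le_mul_of_one_le_right zero_le (Order.one_le_iff_ne_zero.mpr h2)
  refine h3.trans ?_
  rw [← (DeltaLen.quotEquiv A B ↥(integralClosure A (FractionRing A))).length_eq]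
  exact Module.length_le_of_injective (quotMap A B) (quotMap_injective A B)

end Groth.Agent.Lib.Helper56.DeltaFlat
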