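import Mathlib

set_option autoImplicit false
set_option linter.style.haveILetI false
set_option linter.unusedSectionVars false

namespace Groth.Agent.Lib.Helper56.NormLoc

open IsLocalRing

universe u

variable (R : Type u) [CommRing R] [IsDomain R] (p : Ideal R) [p.IsPrime]
  (A : Type u) [CommRing A] [IsDomain A] [Algebra R A] [IsLocalization.AtPrime A p]

local notation "R1" => integralClosure R (FractionRing R)
local notation "A1" => integralClosure A (FractionRing A)

include p in
theorem isFractionRing_frac : IsFractionRing R (FractionRing A) := by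
  have h := IsLocalization.localization_localization_isLocalization_of_has_all_units (R := R)
    p.primeCompl (nonZeroDivisors A) (FractionRing A) (fun x hx => hx.mem_nonZeroDivisors)
  have heq : (nonZeroDivisors A).comap (algebraMap R A) = nonZeroDivisors R := by
    ext r
    simp only [Submonoid.mem_comap, mem_nonZeroDivisors_iff_ne_zero]
    rw [Ne, Ne, map_eq_zero_iff _ (IsLocalization.injective A p.primeCompl_le_nonZeroDivisors)]
  rw [heq] at h
  exact h

noncomputable def eps : FractionRing R ≃ₐ[R] FractionRing A :=
  haveI := isFractionRing_frac R p A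
  FractionRing.algEquiv R (FractionRing A)

noncomputable def iota : R1 →+* A1 where
  toFun x := ⟨eps R p A x.1, by
    have h1 : IsIntegral R (eps R p A x.1) :=
      IsIntegral.map (eps R p A : FractionRing R →ₐ[R] FractionRing A) x.2
    exact h1.tower_top⟩
  map_one' := Subtype.ext (map_one _)
  map_mul' x y := Subtype.ext (map_mul _ _ _)
  map_zero' := Subtype.ext (map_zero _)
  map_add' x y := Subtype.ext (map_add _ _ _)

theorem iota_algebraMap (r : R) :
    iota R p A (algebraMap R R1 r) = algebraMap A A1 (algebraMap R A r) := by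
  apply Subtype.ext
  show eps R p A (algebraMap R (FractionRing R) r) = algebraMap A (FractionRing A) (algebraMap R A r)
  rw [AlgEquiv.commutes, ← IsScalarTower.algebraMap_apply]

theorem exists_iota_eq (a : A1) :
    ∃ (s : R) (y : R1), s ∉ p ∧ iota R p A y = algebraMap A A1 (algebraMap R A s) * a := by
  obtain ⟨⟨s, hs⟩, hint⟩ := IsIntegral.exists_multiple_integral_of_isLocalization
    (R := R) p.primeCompl (Rₘ := A) (S := FractionRing A) a.1 a.2
  have hint' : IsIntegral R ((eps R p A).symm (s • a.1)) :=
    IsIntegral.map ((eps R p A).symm : FractionRing A →ₐ[R] FractionRing R) hint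
  refine ⟨s, ⟨(eps R p A).symm (s • a.1), hint'⟩, hs, ?_⟩
  apply Subtype.ext
  show eps R p A ((eps R p A).symm (s • a.1)) = algebraMap A (FractionRing A) (algebraMap R A s) * a.1
  rw [AlgEquiv.apply_symm_apply, Algebra.smul_def, IsScalarTower.algebraMap_apply R A]

theorem isUnit_algebraMap (s : R) (hs : s ∉ p) : IsUnit (algebraMap R A s) :=
  IsLocalization.map_units A (⟨s, hs⟩ : p.primeCompl)

include p in
theorem finite_of_finite [Module.Finite R R1] : Module.Finite A A1 := by
  classical
  obtain ⟨S, hS⟩ := (Module.Finite.fg_top : (⊤ : Submodule R R1).FG)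
  refine ⟨⟨S.image (iota R p A), ?_⟩⟩
  rw [eq_top_iff]
  have key : ∀ y : R1, iota R p A y ∈
      Submodule.span A ((S.image (iota R p A) : Finset A1) : Set A1) := by
    intro y
    have hy' : y ∈ Submodule.span R (S : Set R1) := by rw [hS]; trivial
    induction hy' using Submodule.span_induction with
    | mem x hx => exact Submodule.subset_span (Finset.mem_coe.mpr (Finset.mem_image_of_mem _ hx))
    | zero => rw [map_zero]; exact Submodule.zero_mem _
    | add x y _ _ hx hy => rw [map_add]; exact Submodule.add_mem _ hx hy
    | smul r x _ hx =>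
      rw [Algebra.smul_def, map_mul, iota_algebraMap, ← Algebra.smul_def]
      exact Submodule.smul_mem _ _ hx
  rintro a -
  obtain ⟨s, y, hs, hy⟩ := exists_iota_eq R p A a
  obtain ⟨u, hu⟩ := isUnit_algebraMap R p A s hs
  have ha : a = (↑u⁻¹ : A) • iota R p A y := by
    rw [hy, Algebra.smul_def, ← mul_assoc, ← map_mul, ← hu, Units.inv_mul, map_one, one_mul]
  rw [ha]
  exact Submodule.smul_mem _ _ (key y)

section Res

variable (M : Ideal (integralClosure A (FractionRing A))) [hM : M.IsMaximal]

theorem comap_iota_isPrime : (M.comap (iota R p A)).IsPrime := Ideal.comap_isPrime _ _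

theorem comap_comap_eq :
    (M.comap (iota R p A)).comap (algebraMap R R1) = p := by
  have h1 : (M.comap (algebraMap A A1)).IsMaximal :=
    Ideal.isMaximal_comap_of_isIntegral_of_isMaximal M
  haveI : IsLocalRing A := IsLocalization.AtPrime.isLocalRing A p
  have h2 : M.comap (algebraMap A A1) = maximalIdeal A := IsLocalRing.eq_maximalIdeal h1
  have h3 : (iota R p A).comp (algebraMap R R1) = (algebraMap A A1).comp (algebraMap R A) := by
    ext r
    exact congrArg Subtype.val (iota_algebraMap R p A r)
  rw [Ideal.comap_comap, h3, ← Ideal.comap_comap, h2]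
  exact IsLocalization.AtPrime.comap_maximalIdeal A p

noncomputable instance : Field (A1 ⧸ M) := Ideal.Quotient.field M

noncomputable def jRes :
    haveI := comap_iota_isPrime R p A M
    (M.comap (iota R p A)).ResidueField →+* A1 ⧸ M :=
  haveI := comap_iota_isPrime R p A M
  Ideal.ResidueField.lift (M.comap (iota R p A)) ((Ideal.Quotient.mk M).comp (iota R p A))
    (fun x hx => by
      rw [RingHom.mem_ker, RingHom.comp_apply, Ideal.Quotient.eq_zero_iff_mem]
      exact hx)
    (fun x hx => by
      show IsUnit (((Ideal.Quotient.mk M).comp (iota R p A)) x)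
      rw [isUnit_iff_ne_zero, RingHom.comp_apply, Ne, Ideal.Quotient.eq_zero_iff_mem]
      exact hx)

theorem jRes_algebraMap (y : R1) :
    haveI := comap_iota_isPrime R p A M
    jRes R p A M (algebraMap R1 (M.comap (iota R p A)).ResidueField y) =
      Ideal.Quotient.mk M (iota R p A y) := by
  haveI := comap_iota_isPrime R p A M
  exact Ideal.ResidueField.lift_algebraMap _ _ _ _ y

theorem jRes_bijective :
    haveI := comap_iota_isPrime R p A M
    Function.Bijective (jRes R p A M) := by
  haveI := comap_iota_isPrime R p A M
  refine ⟨(jRes R p A M).injective, ?_⟩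
  intro z
  obtain ⟨a, rfl⟩ := Ideal.Quotient.mk_surjective z
  obtain ⟨s, y, hs, hy⟩ := exists_iota_eq R p A a
  have hsQ : algebraMap R R1 s ∉ M.comap (iota R p A) := by
    intro h
    have : s ∈ (M.comap (iota R p A)).comap (algebraMap R R1) := h
    rw [comap_comap_eq] at this
    exact hs this
  have hne : algebraMap R1 (M.comap (iota R p A)).ResidueField (algebraMap R R1 s) ≠ 0 := by
    rw [Ne, Ideal.algebraMap_residueField_eq_zero]
    exact hsQ
  refine ⟨algebraMap R1 _ y / algebraMap R1 _ (algebraMap R R1 s), ?_⟩
  have hne' : jRes R p A M (algebraMap R1 _ (algebraMap R R1 s)) ≠ 0 := by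
    rw [Ne, map_eq_zero_iff _ (jRes R p A M).injective]
    exact hne
  rw [map_div₀, div_eq_iff hne', jRes_algebraMap, jRes_algebraMap, hy, map_mul, iota_algebraMap,
    mul_comm]

theorem exists_residue_hom :
    ∃ (Q : Ideal R1) (_ : Q.IsPrime), Q.comap (algebraMap R R1) = p ∧
      ∃ J : A1 ⧸ M →+* Q.ResidueField, ∀ r : R,
        J (Ideal.Quotient.mk M (algebraMap A A1 (algebraMap R A r))) =
          algebraMap R1 Q.ResidueField (algebraMap R R1 r) := by
  haveI := comap_iota_isPrime R p A M
  refine ⟨M.comap (iota R p A), inferInstance, comap_comap_eq R p A M,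
    ((RingEquiv.ofBijective (jRes R p A M) (jRes_bijective R p A M)).symm : _ →+* _), ?_⟩
  intro r
  show (RingEquiv.ofBijective (jRes R p A M) (jRes_bijective R p A M)).symm _ = _
  rw [RingEquiv.symm_apply_eq]
  show _ = jRes R p A M _
  rw [jRes_algebraMap, iota_algebraMap]

end Res

end Groth.Agent.Lib.Helper56.NormLoc
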