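import Mathlib
import Groth.Prelude.Def_Curv2
import Groth.Agent.Lib.Helper56.DeltaBC
import Groth.Agent.Lib.Helper56.NormLoc
import Groth.Agent.Lib.Helper56.DeltaFlat
import Groth.Agent.Lib.Helper38.FieldN2

set_option autoImplicit false
set_option linter.style.haveILetI false
set_option linter.unusedSectionVars false

namespace Groth.Agent.Lib.Helper56.DeltaChart

open TensorProduct IsLocalRing

universe u

theorem deltaInv_le_of_ringEquiv {R S : Type u} [CommRing R] [CommRing S] [IsLocalRing R]
    [IsLocalRing S] (e : R ≃+* S) : Curv2.deltaInv R ≤ Curv2.deltaInv S := by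
  letI := e.toRingHom.toAlgebra
  haveI : IsLocalHom (algebraMap R S) := by
    constructor
    intro a ha
    have h1 : IsUnit (e a) := ha
    have h2 := h1.map e.symm
    rwa [RingEquiv.symm_apply_apply] at h2
  haveI : Module.Flat R S := by
    have h : (algebraMap R S).Flat := RingHom.Flat.of_bijective e.bijective
    exact h
  exact Groth.Agent.Lib.Helper56.DeltaFlat.deltaInv_le_of_flat R S

theorem deltaInv_eq_of_ringEquiv {R S : Type u} [CommRing R] [CommRing S] [IsLocalRing R]
    [IsLocalRing S] (e : R ≃+* S) : Curv2.deltaInv R = Curv2.deltaInv S :=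
  le_antisymm (deltaInv_le_of_ringEquiv e) (deltaInv_le_of_ringEquiv e.symm)

theorem isReduced_tensor_of_injective (k K N L : Type u) [Field k] [Field K] [Algebra k K]
    [CommRing N] [Algebra k N] [CommRing L] [Algebra k L] (g : N →+* L)
    (hg : Function.Injective g) (hc : ∀ c : k, g (algebraMap k N c) = algebraMap k L c)
    [IsReduced (L ⊗[k] K)] : IsReduced (N ⊗[k] K) := by
  let g' : N →ₐ[k] L := { g with commutes' := hc }
  have hg' : Function.Injective g' := hg
  have hinj : Function.Injective (Algebra.TensorProduct.map g' (AlgHom.id k K)) := by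
    have : (Algebra.TensorProduct.map g' (AlgHom.id k K) : _ → _) =
        (LinearMap.rTensor K g'.toLinearMap) := by
      ext x
      rfl
    rw [this]
    exact Module.Flat.rTensor_preserves_injective_linearMap _ hg'
  exact isReduced_of_injective _ hinj

section Chart

variable (k K R : Type u) [Field k] [Field K] [Algebra k K] [CommRing R] [IsDomain R]
  [Algebra k R] [Algebra.FiniteType k R] (p : Ideal R) [p.IsPrime]
  (A : Type u) [CommRing A] [IsDomain A] [Algebra R A] [IsLocalization.AtPrime A p]
  [Algebra k A] [IsScalarTower k R A] [IsLocalRing A]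
  (q : Ideal (A ⊗[k] K)) [q.IsPrime]

include k p in
theorem isNoetherianRing_loc : IsNoetherianRing A := by
  haveI : IsNoetherianRing R := Algebra.FiniteType.isNoetherianRing k R
  exact IsLocalization.isNoetherianRing p.primeCompl A inferInstance

include p in
theorem essFiniteType_loc : Algebra.EssFiniteType k A := by
  haveI : Algebra.EssFiniteType R A := Algebra.EssFiniteType.of_isLocalization A p.primeCompl
  exact Algebra.EssFiniteType.comp k R A

include p in
theorem isNoetherianRing_tensor : IsNoetherianRing (A ⊗[k] K) := by
  haveI := essFiniteType_loc k R p A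
  haveI : Algebra.EssFiniteType K (K ⊗[k] A) := inferInstance
  haveI : IsNoetherianRing (K ⊗[k] A) := Algebra.EssFiniteType.isNoetherianRing K _
  exact isNoetherianRing_of_ringEquiv _ (Algebra.TensorProduct.comm k K A).toRingEquiv

theorem deltaInv_chart
    (hq : q.comap (Algebra.TensorProduct.includeLeftRingHom) = maximalIdeal A)
    (hdim : ringKrullDim A = 1) (hdimB : ringKrullDim (Localization.AtPrime q) = 1)
    (H : ∀ (Q : Ideal (integralClosure R (FractionRing R))), Q.IsPrime →
      Q.comap (algebraMap R (integralClosure R (FractionRing R))) = p →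
      ∃ (L : Type u) (_ : Field L) (_ : Algebra k L)
        (Φ : integralClosure R (FractionRing R) →+* L), RingHom.ker Φ = Q ∧
        (∀ c : k, Φ (algebraMap R (integralClosure R (FractionRing R)) (algebraMap k R c)) =
          algebraMap k L c) ∧ IsReduced (L ⊗[k] K)) :
    Curv2.deltaInv (Localization.AtPrime q) = Curv2.deltaInv A := by
  haveI := isNoetherianRing_loc k R p A
  haveI := isNoetherianRing_tensor k K R p A
  haveI : Module.Finite R (integralClosure R (FractionRing R)) :=
    Groth.Agent.Lib.Helper38.FieldN2.isN2_of_finiteType k R (FractionRing R) inferInstance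
  haveI : Module.Finite A (integralClosure A (FractionRing A)) :=
    Groth.Agent.Lib.Helper56.NormLoc.finite_of_finite R p A
  refine Groth.Agent.Lib.Helper56.DeltaBC.deltaInv_atPrime k K A q (Localization.AtPrime q) hq
    hdim hdimB ?_
  intro M hM
  obtain ⟨Q, hQ, hQp, J, hJ⟩ := Groth.Agent.Lib.Helper56.NormLoc.exists_residue_hom R p A M
  obtain ⟨L, _, _, Φ, hker, hΦ, hred⟩ := H Q hQ hQp
  let Φ' : Q.ResidueField →+* L := Ideal.ResidueField.lift Q Φ (le_of_eq hker.symm)
    (fun x hx => by
      show IsUnit (Φ x)
      rw [isUnit_iff_ne_zero]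
      intro h0
      apply hx
      rw [← hker]
      exact h0)
  letI : Field (integralClosure A (FractionRing A) ⧸ M) := Ideal.Quotient.field M
  refine isReduced_tensor_of_injective k K _ L (Φ'.comp J) (Φ'.comp J).injective ?_
  intro c
  have h1 : algebraMap k (integralClosure A (FractionRing A) ⧸ M) c =
      Ideal.Quotient.mk M (algebraMap A (integralClosure A (FractionRing A))
        (algebraMap R A (algebraMap k R c))) := by
    rw [← IsScalarTower.algebraMap_apply k R A]
    rfl
  rw [h1, RingHom.comp_apply, hJ]
  rw [Ideal.ResidueField.lift_algebraMap]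
  exact hΦ c

end Chart

end Groth.Agent.Lib.Helper56.DeltaChart
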