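import Mathlib
import Groth.Prelude.Def_Curv2
import Groth.Agent.Lib.Helper56.DeltaChart
import Groth.Agent.Lib.Helper69.BranchNormScheme
import Groth.Agent.Lib.Helper51.CMBaseChange
import Groth.Agent.Lib.Helper51.SmoothStalk
import Groth.Agent.Lib.Helper41.CurveNorm

set_option autoImplicit false
set_option linter.style.haveILetI false
set_option linter.unusedSectionVars false

namespace Groth.Agent.Lib.Helper56.DeltaBCSch

open CategoryTheory CategoryTheory.Limits AlgebraicGeometry TensorProduct IsLocalRing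
open Groth.Agent.Lib.Helper69.BranchNormScheme Groth.Agent.Lib.Helper69.BranchNorm

universe u

section Tower

variable (k : Type u) [Field k] (X : Scheme.{u}) [X.Over (Spec (CommRingCat.of k))]

theorem germ_appLE_eq {U : X.Opens} (x : X) (hxU : x ∈ U) (s : Γ(Spec (CommRingCat.of k), ⊤)) :
    (X.presheaf.germ U x hxU).hom
      (((X ↘ (Spec (CommRingCat.of k))).appLE ⊤ U le_top).hom s) =
    (X.presheaf.germ ⊤ x trivial).hom ((X ↘ (Spec (CommRingCat.of k))).appTop.hom s) := by
  rw [Scheme.Hom.appLE]
  show ((X ↘ (Spec (CommRingCat.of k))).app ⊤ ≫ X.presheaf.map _ ≫ X.presheaf.germ U x hxU).hom s = _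
  rw [TopCat.Presheaf.germ_res]
  rfl

theorem isScalarTower_stalk {U : X.Opens} (x : X) (hxU : x ∈ U) :
    letI := Groth.Agent.Lib.Helper41.CurveNorm.kAlg k U
    letI := Groth.Agent.Lib.Helper51.stalkAlg (X ↘ (Spec (CommRingCat.of k))) x
    letI : Algebra Γ(X, U) (X.presheaf.stalk x) := X.presheaf.algebra_section_stalk ⟨x, hxU⟩
    IsScalarTower k Γ(X, U) (X.presheaf.stalk x) := by
  letI := Groth.Agent.Lib.Helper41.CurveNorm.kAlg k U
  letI := Groth.Agent.Lib.Helper51.stalkAlg (X ↘ (Spec (CommRingCat.of k))) x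
  letI : Algebra Γ(X, U) (X.presheaf.stalk x) := X.presheaf.algebra_section_stalk ⟨x, hxU⟩
  refine IsScalarTower.of_algebraMap_eq fun c => ?_
  exact (germ_appLE_eq k X x hxU ((Scheme.ΓSpecIso (CommRingCat.of k)).inv.hom c)).symm

end Tower

section Norm

variable (X : Scheme.{u}) [IsIntegral X]
  [QuasiCompact (X.fromSpecStalk (genericPoint X))]
  [QuasiSeparated (X.fromSpecStalk (genericPoint X))]
  {U : X.Opens} (hU : IsAffineOpen U) [Nonempty U] (x : X) (hxU : x ∈ U)

theorem exists_point (Q : Ideal (integralClosure Γ(X, U) (FractionRing Γ(X, U)))) [Q.IsPrime]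
    (hQ : Q.comap (algebraMap Γ(X, U) (integralClosure Γ(X, U) (FractionRing Γ(X, U)))) =
      (hU.primeIdealOf ⟨x, hxU⟩).asIdeal) :
    ∃ (x' : ↥((X.fromSpecStalk (genericPoint X)).normalization))
      (_ : (X.fromSpecStalk (genericPoint X)).fromNormalization x' = x)
      (hx'V : x' ∈ (X.fromSpecStalk (genericPoint X)).fromNormalization ⁻¹ᵁ U),
      RingHom.ker (((X.fromSpecStalk (genericPoint X)).normalization.residue x').hom.comp
        (((X.fromSpecStalk (genericPoint X)).normalization.presheaf.germ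
          ((X.fromSpecStalk (genericPoint X)).fromNormalization ⁻¹ᵁ U) x' hx'V).hom.comp
          (eModel X hU).toRingHom)) = Q := by
  have hV : IsAffineOpen ((X.fromSpecStalk (genericPoint X)).fromNormalization ⁻¹ᵁ U) :=
    hU.preimage _
  let q3 : Ideal Γ((X.fromSpecStalk (genericPoint X)).normalization,
      (X.fromSpecStalk (genericPoint X)).fromNormalization ⁻¹ᵁ U) :=
    Q.comap (eModel X hU).symm.toRingHom
  haveI : q3.IsPrime := Ideal.comap_isPrime _ _
  have hfib : q3.comap ((X.fromSpecStalk (genericPoint X)).fromNormalization.appLE U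
      ((X.fromSpecStalk (genericPoint X)).fromNormalization ⁻¹ᵁ U) le_rfl).hom =
      (hU.primeIdealOf ⟨x, hxU⟩).asIdeal := by
    rw [← hQ]
    ext r
    simp only [Ideal.mem_comap, q3]
    rw [← eModel_algebraMap X hU r]
    show (eModel X hU).symm (eModel X hU _) ∈ Q ↔ _
    rw [RingEquiv.symm_apply_apply]
  let x' := (fibreEquiv (X.fromSpecStalk (genericPoint X)).fromNormalization hU hV rfl hxU).symm
    ⟨⟨q3, inferInstance⟩, hfib⟩
  have hx'V : x'.1 ∈ (X.fromSpecStalk (genericPoint X)).fromNormalization ⁻¹ᵁ U := by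
    show (X.fromSpecStalk (genericPoint X)).fromNormalization x'.1 ∈ U
    rw [x'.2]
    exact hxU
  refine ⟨x'.1, x'.2, hx'V, ?_⟩
  have hprime : hV.primeIdealOf ⟨x'.1, hx'V⟩ = ⟨q3, inferInstance⟩ := by
    have h := (fibreEquiv (X.fromSpecStalk (genericPoint X)).fromNormalization hU hV rfl
      hxU).apply_symm_apply ⟨⟨q3, inferInstance⟩, hfib⟩
    exact congrArg Subtype.val h
  have hgerm := hV.primeIdealOf_eq_map_closedPoint ⟨x'.1, hx'V⟩
  rw [hprime] at hgerm
  have hq3 : q3 = (maximalIdeal ((X.fromSpecStalk (genericPoint X)).normalization.presheaf.stalk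
      x'.1)).comap ((X.fromSpecStalk (genericPoint X)).normalization.presheaf.germ
        ((X.fromSpecStalk (genericPoint X)).fromNormalization ⁻¹ᵁ U) x'.1 hx'V).hom :=
    congrArg PrimeSpectrum.asIdeal hgerm
  ext a
  rw [RingHom.mem_ker, RingHom.comp_apply, RingHom.comp_apply]
  show IsLocalRing.residue _ _ = 0 ↔ _
  rw [IsLocalRing.residue_eq_zero_iff, ← Ideal.mem_comap, ← hq3]
  show (eModel X hU).symm (eModel X hU a) ∈ Q ↔ _
  rw [RingEquiv.symm_apply_apply]

end Norm

section Main

variable (k : Type u) [Field k] (X : Scheme.{u}) [X.Over (Spec (CommRingCat.of k))]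
  [IsIntegral X] [LocallyOfFiniteType (X ↘ (Spec (CommRingCat.of k)))]
  [QuasiCompact (X.fromSpecStalk (genericPoint X))]
  [QuasiSeparated (X.fromSpecStalk (genericPoint X))]
  (K : Type u) [Field K] [Algebra k K]

theorem resMap_compat {U : X.Opens} (hU : IsAffineOpen U) [Nonempty U]
    (x' : ↥((X.fromSpecStalk (genericPoint X)).normalization))
    (hx'V : x' ∈ (X.fromSpecStalk (genericPoint X)).fromNormalization ⁻¹ᵁ U) (c : k) :
    letI : ((X.fromSpecStalk (genericPoint X)).normalization).Over (Spec (CommRingCat.of k)) :=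
      ⟨(X.fromSpecStalk (genericPoint X)).fromNormalization ≫ (X ↘ (Spec (CommRingCat.of k)))⟩
    letI := Groth.Agent.Lib.Helper41.CurveNorm.kAlg k U
    ((X.fromSpecStalk (genericPoint X)).normalization.residue x').hom
      (((X.fromSpecStalk (genericPoint X)).normalization.presheaf.germ
        ((X.fromSpecStalk (genericPoint X)).fromNormalization ⁻¹ᵁ U) x' hx'V).hom
        (eModel X hU (algebraMap Γ(X, U) (integralClosure Γ(X, U) (FractionRing Γ(X, U)))
          (algebraMap k Γ(X, U) c)))) =
      Curv2.resMap k ((X.fromSpecStalk (genericPoint X)).normalization) x' c := by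
  letI : ((X.fromSpecStalk (genericPoint X)).normalization).Over (Spec (CommRingCat.of k)) :=
    ⟨(X.fromSpecStalk (genericPoint X)).fromNormalization ≫ (X ↘ (Spec (CommRingCat.of k)))⟩
  letI := Groth.Agent.Lib.Helper41.CurveNorm.kAlg k U
  rw [eModel_algebraMap]
  show _ = ((X.fromSpecStalk (genericPoint X)).normalization.residue x').hom _
  congr 1
  have h1 := germ_appLE_eq k ((X.fromSpecStalk (genericPoint X)).normalization) x' hx'V
    ((Scheme.ΓSpecIso (CommRingCat.of k)).inv.hom c)
  refine Eq.trans ?_ h1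
  congr 1
  have h2 := Scheme.Hom.appLE_comp_appLE (X.fromSpecStalk (genericPoint X)).fromNormalization
    (X ↘ (Spec (CommRingCat.of k))) ⊤ U
    ((X.fromSpecStalk (genericPoint X)).fromNormalization ⁻¹ᵁ U) le_top le_rfl
  exact congr($(h2).hom ((Scheme.ΓSpecIso (CommRingCat.of k)).inv.hom c))

theorem isReduced_residue_tensor
    (x' : ↥((X.fromSpecStalk (genericPoint X)).normalization))
    (h : letI : ((X.fromSpecStalk (genericPoint X)).normalization).Over
          (Spec (CommRingCat.of k)) :=
        ⟨(X.fromSpecStalk (genericPoint X)).fromNormalization ≫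
          (X ↘ (Spec (CommRingCat.of k)))⟩
      GeometricallyReduced (Spec.map (CommRingCat.ofHom
        (Curv2.resMap k ((X.fromSpecStalk (genericPoint X)).normalization) x')))) :
    letI : ((X.fromSpecStalk (genericPoint X)).normalization).Over (Spec (CommRingCat.of k)) :=
      ⟨(X.fromSpecStalk (genericPoint X)).fromNormalization ≫ (X ↘ (Spec (CommRingCat.of k)))⟩
    letI : Algebra k ((X.fromSpecStalk (genericPoint X)).normalization.residueField x') :=
      (Curv2.resMap k ((X.fromSpecStalk (genericPoint X)).normalization) x').toAlgebra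
    _root_.IsReduced
      (((X.fromSpecStalk (genericPoint X)).normalization.residueField x') ⊗[k] K) := by
  letI : ((X.fromSpecStalk (genericPoint X)).normalization).Over (Spec (CommRingCat.of k)) :=
    ⟨(X.fromSpecStalk (genericPoint X)).fromNormalization ≫ (X ↘ (Spec (CommRingCat.of k)))⟩
  letI : Algebra k ((X.fromSpecStalk (genericPoint X)).normalization.residueField x') :=
    (Curv2.resMap k ((X.fromSpecStalk (genericPoint X)).normalization) x').toAlgebra
  have h1 : AlgebraicGeometry.IsReduced (pullback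
      (Spec.map (CommRingCat.ofHom (algebraMap k
        ((X.fromSpecStalk (genericPoint X)).normalization.residueField x'))))
      (Spec.map (CommRingCat.ofHom (algebraMap k K)))) :=
    pullback_of_geometrically h.geometrically_isReduced K _
  have h2 : AlgebraicGeometry.IsReduced (Spec (CommRingCat.of
      (((X.fromSpecStalk (genericPoint X)).normalization.residueField x') ⊗[k] K))) :=
    isReduced_of_isOpenImmersion (pullbackSpecIso k _ K).inv
  exact (affine_isReduced_iff _).mp h2

theorem deltaInv_eq (x : X) (y : ↥(Curv2.bc k X K)) (hy : (Curv2.bcFst k X K).base y = x)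
    (hdx : ringKrullDim (X.presheaf.stalk x) = 1)
    (hsep :
      letI : ((X.fromSpecStalk (genericPoint X)).normalization).Over
          (Spec (CommRingCat.of k)) :=
        ⟨(X.fromSpecStalk (genericPoint X)).fromNormalization ≫
          (X ↘ (Spec (CommRingCat.of k)))⟩
      ∀ x' : ↥((X.fromSpecStalk (genericPoint X)).normalization),
        (X.fromSpecStalk (genericPoint X)).fromNormalization x' = x →
        GeometricallyReduced (Spec.map (CommRingCat.ofHom
          (Curv2.resMap k ((X.fromSpecStalk (genericPoint X)).normalization) x'))))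
    (hdy : ringKrullDim ((Curv2.bc k X K).presheaf.stalk y) = 1) :
    Curv2.deltaInv (X.presheaf.stalk x) = Curv2.deltaInv ((Curv2.bc k X K).presheaf.stalk y) := by
  obtain ⟨_, ⟨U, hU, rfl⟩, hxU, -⟩ :=
    X.isBasis_affineOpens.exists_subset_of_mem_open (Set.mem_univ x) isOpen_univ
  haveI : Nonempty U := ⟨⟨x, hxU⟩⟩
  have hU' : IsAffineOpen U := hU
  letI : ((X.fromSpecStalk (genericPoint X)).normalization).Over (Spec (CommRingCat.of k)) :=
    ⟨(X.fromSpecStalk (genericPoint X)).fromNormalization ≫ (X ↘ (Spec (CommRingCat.of k)))⟩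
  letI := Groth.Agent.Lib.Helper41.CurveNorm.kAlg k U
  haveI := Groth.Agent.Lib.Helper41.CurveNorm.kAlg_finiteType k U hU'
  haveI : IsDomain Γ(X, U) := inferInstance
  letI := Groth.Agent.Lib.Helper51.stalkAlg (X ↘ (Spec (CommRingCat.of k))) x
  letI : Algebra Γ(X, U) (X.presheaf.stalk x) := X.presheaf.algebra_section_stalk ⟨x, hxU⟩
  haveI := hU'.isLocalization_stalk ⟨x, hxU⟩
  haveI := isScalarTower_stalk k X x hxU
  obtain ⟨q, hq, hqm, ⟨e⟩⟩ := Groth.Agent.Lib.Helper51.exists_prime_ringEquiv_stalk
    (X ↘ (Spec (CommRingCat.of k))) x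
    (Groth.Agent.Lib.Helper51.specMap_stalkMapOf (X ↘ (Spec (CommRingCat.of k))) x) K y hy
  have hdimB : ringKrullDim (Localization.AtPrime q) = 1 := by
    rw [← ringKrullDim_eq_of_ringEquiv e]
    exact hdy
  have key := Groth.Agent.Lib.Helper56.DeltaChart.deltaInv_chart k K Γ(X, U)
    (hU'.primeIdealOf ⟨x, hxU⟩).asIdeal (X.presheaf.stalk x) q hqm hdx hdimB ?_
  · rw [Groth.Agent.Lib.Helper56.DeltaChart.deltaInv_eq_of_ringEquiv e, key]
  · intro Q hQ hQp
    obtain ⟨x', hx', hx'V, hker⟩ := exists_point X hU' x hxU Q hQp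
    refine ⟨(X.fromSpecStalk (genericPoint X)).normalization.residueField x', inferInstance,
      (Curv2.resMap k ((X.fromSpecStalk (genericPoint X)).normalization) x').toAlgebra,
      _, hker, ?_, ?_⟩
    · intro c
      exact resMap_compat k X hU' x' hx'V c
    · exact isReduced_residue_tensor k X K x' (hsep x' hx')

end Main

end Groth.Agent.Lib.Helper56.DeltaBCSch
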