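import Mathlib

set_option autoImplicit false
set_option linter.style.haveILetI false
set_option linter.unusedSectionVars false

namespace Groth.Agent.Lib.Helper56.FamAvoid

theorem exists_sub_mem_of_forall_prime {B B' : Type*} [CommRing B] [CommRing B'] [Algebra B B']
    (p : Ideal B) [p.IsPrime] (a I : Ideal B') (haI : a ≤ I)
    (h : ∀ q : Ideal B', q.IsPrime → q.comap (algebraMap B B') = p → a ≤ q → ¬ I ≤ q) :
    ∃ s : B, s ∉ p ∧ ∃ π ∈ p.map (algebraMap B B'), algebraMap B B' s - π ∈ I := by
  classical
  set K : Ideal B' := I ⊔ p.map (algebraMap B B') with hK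
  set S : Submonoid B' := Submonoid.map (algebraMap B B') p.primeCompl with hS
  by_cases hd : Disjoint (K : Set B') (S : Set B')
  · exfalso
    obtain ⟨q, hqp, hKq, hqS⟩ := Ideal.exists_le_prime_disjoint K S hd
    have h1 : q.comap (algebraMap B B') = p := by
      apply le_antisymm
      · intro b hb
        by_contra hbp
        have hbS : algebraMap B B' b ∈ (S : Set B') := ⟨b, hbp, rfl⟩
        exact Set.disjoint_left.mp hqS hb hbS
      · intro b hb
        rw [Ideal.mem_comap]
        apply hKq
        exact Submodule.mem_sup_right (Ideal.mem_map_of_mem _ hb)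
    exact h q hqp h1 (haI.trans (le_sup_left.trans hKq)) (le_sup_left.trans hKq)
  · rw [Set.not_disjoint_iff] at hd
    obtain ⟨x, hxK, hxS⟩ := hd
    obtain ⟨s, hs, rfl⟩ := hxS
    obtain ⟨i, hi, π, hπ, hsum⟩ := Submodule.mem_sup.mp hxK
    refine ⟨s, hs, π, hπ, ?_⟩
    rw [← hsum, add_sub_cancel_right]
    exact hi

end Groth.Agent.Lib.Helper56.FamAvoid
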