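import Groth.Agent.Lib.Helper56.QuotFlat
import Groth.Agent.S1128

set_option autoImplicit false
universe u

namespace Groth.Agent.Lib.Helper56

open LocCoh IsLocalRing TensorProduct

section FiberIneq

variable (A B : Type u) [CommRing A] [CommRing B] [Algebra A B]

theorem hasSk_fiber_of_ineq (k : ℕ) (p : Ideal A) [p.IsPrime]
    (h : ∀ (r : Ideal B) [r.IsPrime], r.comap (algebraMap A B) = p →
      min (k : WithBot ℕ∞) (ringKrullDim (EGA4.FibLocRing A B r)) ≤
        ((depth (EGA4.FibLocRing A B r) (EGA4.FibLocRing A B r) : ℕ∞) : WithBot ℕ∞)) :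
    HasSk k (p.Fiber B) (p.Fiber B) := by
  rw [hasSk_self_iff]
  intro Q _
  let e := fiberLocEquiv A B p Q
  rw [ringKrullDim_eq_of_ringEquiv e, depth_self_of_ringEquiv e]
  exact h _ (comap_includeRight_comap A B p Q)

theorem sk_ineq_fibLocRing_of_fiber (k : ℕ) (r : Ideal B) [r.IsPrime]
    (h : HasSk k ((r.comap (algebraMap A B)).Fiber B) ((r.comap (algebraMap A B)).Fiber B)) :
    min (k : WithBot ℕ∞) (ringKrullDim (EGA4.FibLocRing A B r)) ≤
      ((depth (EGA4.FibLocRing A B r) (EGA4.FibLocRing A B r) : ℕ∞) : WithBot ℕ∞) :=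
  sk_ineq_of_hasSk_local _ k (hasSk_fibLocRing_of_fiber A B k r h)

end FiberIneq

section SkComp

variable (A B C : Type u) [CommRing A] [CommRing B] [CommRing C] [IsNoetherianRing A]
  [IsNoetherianRing B] [IsNoetherianRing C] [Algebra A B] [Algebra B C] [Algebra A C]
  [IsScalarTower A B C]

theorem hasSk_fibres_comp (n : ℕ) [Module.Flat A B] [Module.Flat B C]
    (hAB : ∀ (p : Ideal A) [p.IsPrime], HasSk n (p.Fiber B) (p.Fiber B))
    (hBC : ∀ (q : Ideal B) [q.IsPrime], HasSk n (q.Fiber C) (q.Fiber C)) :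
    Module.Flat A C ∧ ∀ (p : Ideal A) [p.IsPrime], HasSk n (p.Fiber C) (p.Fiber C) := by
  refine ⟨Module.Flat.trans A B C, ?_⟩
  intro p _
  apply hasSk_fiber_of_ineq
  intro r _ _
  obtain ⟨h1, h2⟩ := fibLoc_comp_formulas A B C r
  rw [h1, h2]
  refine sk_arith_add n _ _ _ _ (sk_ineq_fibLocRing_of_fiber A B n _ (hAB _))
    (sk_ineq_fibLocRing_of_fiber B C n r (hBC _)) ringKrullDim_ne_bot ringKrullDim_ne_bot

theorem hasSk_fibres_descent (n : ℕ) [Module.FaithfullyFlat B C] [Module.Flat A C]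
    (hAC : ∀ (p : Ideal A) [p.IsPrime], HasSk n (p.Fiber C) (p.Fiber C)) :
    Module.Flat A B ∧ ∀ (p : Ideal A) [p.IsPrime], HasSk n (p.Fiber B) (p.Fiber B) := by
  have hflat : Module.Flat A B := Groth.Agent.S1128.flat_of_flat_of_faithfullyFlat A B C
  refine ⟨hflat, ?_⟩
  intro p _
  apply hasSk_fiber_of_ineq
  intro q _ _
  have hne : q.map (algebraMap B C) ≠ ⊤ := by
    intro htop
    have := Ideal.comap_map_eq_self_of_faithfullyFlat (B := C) q
    rw [htop, Ideal.comap_top] at this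
    exact (inferInstance : q.IsPrime).ne_top this.symm
  obtain ⟨r, hr⟩ := Ideal.nonempty_minimalPrimes hne
  have hrp : r.IsPrime := hr.1.1
  have hl := liesOver_of_mem_minimalPrimes_map q r hr
  have hrq : r.comap (algebraMap B C) = q := by
    have := hl.over
    rw [Ideal.under_def] at this
    exact this.symm
  have hr' : r ∈ ((r.comap (algebraMap B C)).map (algebraMap B C)).minimalPrimes := by
    rw [hrq]; exact hr
  have h0 := Groth.Agent.Lib.Helper77.FlatDepth.dim_fibLoc_eq_zero_of_minimal B C r hr'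
  obtain ⟨h1, h2⟩ := fibLoc_comp_formulas A B C r
  have h3 := sk_ineq_fibLocRing_of_fiber A C n r (hAC _)
  have hd0 : depth (EGA4.FibLocRing B C r) (EGA4.FibLocRing B C r) = 0 := by
    have h4 := Helper67.depth_le_supportDim (R := EGA4.FibLocRing B C r) (EGA4.FibLocRing B C r)
    rw [Module.supportDim_self_eq_ringKrullDim] at h4
    have h0' : ringKrullDim (EGA4.FibLocRing B C r) = 0 := h0
    rw [h0'] at h4
    have : ((depth (EGA4.FibLocRing B C r) (EGA4.FibLocRing B C r) : ℕ∞) : WithBot ℕ∞) ≤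
        ((0 : ℕ∞) : WithBot ℕ∞) := h4
    exact le_antisymm (WithBot.coe_le_coe.mp this) bot_le
  have h0' : ringKrullDim (EGA4.FibLocRing B C r) = 0 := h0
  rw [h1, h2, hd0, h0', add_zero, add_zero] at h3
  have key : ∀ (q' : Ideal B) [q'.IsPrime], q' = q →
      min (n : WithBot ℕ∞) (ringKrullDim (EGA4.FibLocRing A B q')) ≤
        ((depth (EGA4.FibLocRing A B q') (EGA4.FibLocRing A B q') : ℕ∞) : WithBot ℕ∞) →
      min (n : WithBot ℕ∞) (ringKrullDim (EGA4.FibLocRing A B q)) ≤
        ((depth (EGA4.FibLocRing A B q) (EGA4.FibLocRing A B q) : ℕ∞) : WithBot ℕ∞) := by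
    intro q' _ hq' hh
    subst hq'
    exact hh
  exact key _ hrq h3

end SkComp

end Groth.Agent.Lib.Helper56
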