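import Groth.Agent.Lib.Helper56.RkLift
import Groth.Agent.S0565
import Mathlib.RingTheory.Flat.FaithfullyFlat.Algebra
import Mathlib.RingTheory.Flat.Localization
import Mathlib.RingTheory.Ideal.GoingDown

set_option autoImplicit false
universe u v w

namespace Groth.Agent.Lib.Helper56

open LocCoh RingTheory.Sequence IsLocalRing
open scoped Pointwise

section FlatRk

theorem liesOver_of_mem_minimalPrimes_map {A' B' : Type*} [CommRing A'] [CommRing B']
    [Algebra A' B'] [Algebra.HasGoingDown A' B'] (P : Ideal A') [P.IsPrime] (Q : Ideal B')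
    (hQ : Q ∈ (P.map (algebraMap A' B')).minimalPrimes) : Q.LiesOver P := by
  have hQp : Q.IsPrime := hQ.1.1
  have hle : P ≤ Q.comap (algebraMap A' B') := Ideal.map_le_iff_le_comap.mp hQ.1.2
  have hQl : Q.LiesOver (Q.comap (algebraMap A' B')) := ⟨rfl⟩
  obtain ⟨Q', hQ'Q, hQ'p, hQ'l⟩ := Ideal.exists_ideal_le_liesOver_of_le Q hle
  have h1 : P.map (algebraMap A' B') ≤ Q' := by
    rw [Ideal.map_le_iff_le_comap]
    exact (Ideal.LiesOver.over (p := P) (P := Q')).le
  have h2 : Q ≤ Q' := hQ.2 ⟨hQ'p, h1⟩ hQ'Q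
  have h3 : Q' = Q := le_antisymm hQ'Q h2
  rw [← h3]
  exact hQ'l

theorem height_eq_of_mem_minimalPrimes_map {A' B' : Type*} [CommRing A'] [CommRing B']
    [IsNoetherianRing A'] [IsNoetherianRing B'] [Algebra A' B'] [Algebra.HasGoingDown A' B'] (P : Ideal A') [P.IsPrime]
    (Q : Ideal B') (hQ : Q ∈ (P.map (algebraMap A' B')).minimalPrimes) :
    Q.height = P.height := by
  have hQp : Q.IsPrime := hQ.1.1
  have hl := liesOver_of_mem_minimalPrimes_map P Q hQ
  have h1 := Ideal.height_eq_height_add_of_liesOver_of_hasGoingDown P Q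
  have h2 := Ideal.comap_minimalPrimes_eq_of_surjective
    (f := Ideal.Quotient.mk (P.map (algebraMap A' B'))) Ideal.Quotient.mk_surjective ⊥
  rw [← RingHom.ker_eq_comap_bot, Ideal.mk_ker] at h2
  rw [h2] at hQ
  obtain ⟨Q0, hQ0, rfl⟩ := hQ
  have hQ0p : Q0.IsPrime := hQ0.1.1
  rw [Ideal.map_comap_of_surjective _ Ideal.Quotient.mk_surjective,
    Ideal.height_eq_zero_iff.mpr hQ0, add_zero] at h1
  exact h1

theorem hasRk_of_faithfullyFlat (k : ℕ) (A' B' : Type u) [CommRing A'] [CommRing B']
    [IsNoetherianRing A'] [IsNoetherianRing B'] [Algebra A' B'] [Module.FaithfullyFlat A' B']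
    (h : HasRk k B') : HasRk k A' := by
  intro P hP hk
  have hne : P.map (algebraMap A' B') ≠ ⊤ := by
    intro htop
    have := Ideal.comap_map_eq_self_of_faithfullyFlat (B := B') P
    rw [htop, Ideal.comap_top] at this
    exact hP.ne_top this.symm
  obtain ⟨Q, hQ⟩ := Ideal.nonempty_minimalPrimes hne
  have hQp : Q.IsPrime := hQ.1.1
  have hl := liesOver_of_mem_minimalPrimes_map P Q hQ
  have hht := height_eq_of_mem_minimalPrimes_map P Q hQ
  have hreg : IsRegularLocalRing (Localization.AtPrime Q) := h Q (by rw [hht]; exact hk)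
  let _ := Localization.AtPrime.algebraOfLiesOver P Q
  have hflat : Module.Flat (Localization.AtPrime P) (Localization.AtPrime Q) := inferInstance
  have hloc : IsLocalHom (algebraMap (Localization.AtPrime P) (Localization.AtPrime Q)) :=
    Localization.isLocalHom_localRingHom P Q (algebraMap A' B') Ideal.LiesOver.over
  exact Groth.Agent.S0565.result (Localization.AtPrime P) (Localization.AtPrime Q)

end FlatRk

end Groth.Agent.Lib.Helper56
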