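import Mathlib

set_option autoImplicit false
universe u

namespace Groth.Agent.Lib.Helper56

open scoped nonZeroDivisors

theorem exists_finite_subalgebra_isFractionRing (A₀ K₀ L : Type u) [CommRing A₀] [IsDomain A₀]
    [Field K₀] [Field L] [Algebra A₀ K₀] [IsFractionRing A₀ K₀] [Algebra K₀ L] [Algebra A₀ L]
    [IsScalarTower A₀ K₀ L] [FiniteDimensional K₀ L] :
    ∃ B : Subalgebra A₀ L, Module.Finite A₀ B ∧ IsFractionRing B L := by
  classical
  obtain ⟨s, b, hb⟩ := FiniteDimensional.exists_is_basis_integral A₀ K₀ L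
  refine ⟨Algebra.adjoin A₀ (Set.range b), ?_, ?_⟩
  · apply Algebra.finite_adjoin_of_finite_of_isIntegral (Set.finite_range b)
    rintro _ ⟨i, rfl⟩
    exact hb i
  · have : FaithfulSMul (Algebra.adjoin A₀ (Set.range b)) L :=
      (faithfulSMul_iff_algebraMap_injective _ _).mpr Subtype.val_injective
    apply IsFractionRing.of_field
    intro z
    obtain ⟨d, hd⟩ := IsLocalization.exist_integer_multiples_of_finite (A₀⁰)
      (fun i : s => b.repr z i)
    choose a ha using hd
    have hd0 : algebraMap A₀ L (d : A₀) ≠ 0 := by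
      rw [IsScalarTower.algebraMap_apply A₀ K₀ L]
      have h1 : algebraMap A₀ K₀ (d : A₀) ≠ 0 :=
        IsLocalization.to_map_ne_zero_of_mem_nonZeroDivisors K₀ le_rfl d.2
      exact (map_ne_zero_iff _ (algebraMap K₀ L).injective).mpr h1
    have hsum : algebraMap A₀ L (d : A₀) * z = ∑ i, algebraMap A₀ L (a i) * b i := by
      conv_lhs => rw [← b.sum_repr z, Finset.mul_sum]
      refine Finset.sum_congr rfl (fun i _ => ?_)
      have := ha i
      rw [Algebra.smul_def] at this
      rw [Algebra.smul_def, ← mul_assoc, IsScalarTower.algebraMap_apply A₀ K₀ L (d : A₀),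
        ← map_mul, ← this, ← IsScalarTower.algebraMap_apply]
    have hmem : algebraMap A₀ L (d : A₀) * z ∈ Algebra.adjoin A₀ (Set.range b) := by
      rw [hsum]
      refine Subalgebra.sum_mem _ (fun i _ => ?_)
      exact Subalgebra.mul_mem _ (Subalgebra.algebraMap_mem _ _)
        (Algebra.subset_adjoin (Set.mem_range_self i))
    refine ⟨⟨_, hmem⟩, ⟨algebraMap A₀ L (d : A₀), Subalgebra.algebraMap_mem _ _⟩, ?_⟩
    show z = (algebraMap A₀ L (d : A₀) * z) / algebraMap A₀ L (d : A₀)
    field_simp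

end Groth.Agent.Lib.Helper56

namespace Groth.Agent.Lib.Helper56

open scoped nonZeroDivisors

section LocLemma

variable {B T : Type u} (TK : Type u) [CommRing B] [IsDomain B] [CommRing T] [Algebra B T]
  [CommRing TK] [Algebra T TK] [IsLocalization (Algebra.algebraMapSubmonoid T B⁰) TK]

omit [IsDomain B] in
theorem disjoint_of_comap_eq_bot [Nontrivial B] (q : Ideal T) (hq : q.comap (algebraMap B T) = ⊥) :
    Disjoint (Algebra.algebraMapSubmonoid T B⁰ : Set T) (q : Set T) := by
  rw [Set.disjoint_left]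
  rintro _ ⟨b, hb, rfl⟩ hmem
  have : b ∈ q.comap (algebraMap B T) := hmem
  rw [hq, Ideal.mem_bot] at this
  exact (nonZeroDivisors.ne_zero hb) this

theorem comap_comap_eq_bot (Q : Ideal TK) [Q.IsPrime] :
    (Q.comap (algebraMap T TK)).comap (algebraMap B T) = ⊥ := by
  rw [eq_bot_iff]
  intro b hb
  rw [Ideal.mem_bot]
  by_contra hb0
  have hu : IsUnit (algebraMap T TK (algebraMap B T b)) :=
    IsLocalization.map_units TK (⟨algebraMap B T b, ⟨b, mem_nonZeroDivisors_of_ne_zero hb0, rfl⟩⟩ :
      Algebra.algebraMapSubmonoid T B⁰)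
  exact (Ideal.IsPrime.ne_top ‹Q.IsPrime›) (Ideal.eq_top_of_isUnit_mem _ hb hu)

omit [IsDomain B] in
include B in
theorem nonempty_localization_equiv (Q : Ideal TK) [Q.IsPrime] :
    Nonempty (Localization.AtPrime (Q.comap (algebraMap T TK)) ≃+* Localization.AtPrime Q) := by
  have := IsLocalization.isLocalization_isLocalization_atPrime_isLocalization
    (Algebra.algebraMapSubmonoid T B⁰) (Localization.AtPrime Q) Q
  exact ⟨(IsLocalization.algEquiv (Q.comap (algebraMap T TK)).primeCompl _ _).toRingEquiv⟩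

theorem exists_prime_of_comap_eq_bot (q : Ideal T) [q.IsPrime]
    (hq : q.comap (algebraMap B T) = ⊥) :
    ∃ (Q : Ideal TK) (_ : Q.IsPrime), Q.comap (algebraMap T TK) = q :=
  ⟨q.map (algebraMap T TK),
    IsLocalization.isPrime_of_isPrime_disjoint _ TK q ‹_› (disjoint_of_comap_eq_bot q hq),
    IsLocalization.under_map_of_isPrime_disjoint _ TK ‹_› (disjoint_of_comap_eq_bot q hq)⟩

theorem nonempty_localization_equiv_of_comap_eq_bot (q : Ideal T) [q.IsPrime]
    (hq : q.comap (algebraMap B T) = ⊥) :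
    ∃ (Q : Ideal TK) (_ : Q.IsPrime), Nonempty (Localization.AtPrime q ≃+* Localization.AtPrime Q) := by
  obtain ⟨Q, hQ, hQq⟩ := exists_prime_of_comap_eq_bot TK q hq
  refine ⟨Q, hQ, ?_⟩
  have key : ∀ (q' : Ideal T) [q'.IsPrime], q' = q →
      Nonempty (Localization.AtPrime q' ≃+* Localization.AtPrime Q) →
      Nonempty (Localization.AtPrime q ≃+* Localization.AtPrime Q) := by
    intro q' _ h hh
    subst h
    exact hh
  exact key _ hQq (nonempty_localization_equiv (B := B) TK Q)

end LocLemma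

end Groth.Agent.Lib.Helper56
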