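import Mathlib
import Groth.Prelude.Def_CAlg

set_option autoImplicit false
universe u

namespace Groth.Agent.Lib.Helper56

open IsLocalRing

theorem height_comap_of_isHomeomorph {R A : Type*} [CommRing R] [CommRing A] (φ : R →+* A)
    (h : IsHomeomorph (PrimeSpectrum.comap φ)) (p : Ideal A) [p.IsPrime] :
    (p.comap φ).height = p.height := by
  let eo : PrimeSpectrum A ≃o PrimeSpectrum R :=
    { toEquiv := Equiv.ofBijective _ h.bijective
      map_rel_iff' := by
        intro a b
        show PrimeSpectrum.comap φ a ≤ PrimeSpectrum.comap φ b ↔ a ≤ b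
        rw [PrimeSpectrum.le_iff_specializes, PrimeSpectrum.le_iff_specializes]
        exact h.isInducing.specializes_iff }
  have := Order.height_orderIso eo ⟨p, inferInstance⟩
  have h1 := PrimeSpectrum.height_eq_orderHeight (⟨p, inferInstance⟩ : PrimeSpectrum A)
  have h2 := PrimeSpectrum.height_eq_orderHeight (eo ⟨p, inferInstance⟩)
  rw [h1, ← this, ← h2]
  rfl

theorem isRegularLocalRing_atPrime_of_map_comap {R A : Type*} [CommRing R] [CommRing A]
    [IsNoetherianRing R] [IsNoetherianRing A] (φ : R →+* A) (p : Ideal A) [p.IsPrime]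
    (hp : (p.comap φ).map φ = p) (hht : (p.comap φ).height ≤ p.height)
    (hreg : IsRegularLocalRing (Localization.AtPrime (p.comap φ))) :
    IsRegularLocalRing (Localization.AtPrime p) := by
  apply IsRegularLocalRing.of_spanFinrank_maximalIdeal_le
  let ψ := Localization.localRingHom (p.comap φ) p φ rfl
  have h1 : maximalIdeal (Localization.AtPrime p) =
      (maximalIdeal (Localization.AtPrime (p.comap φ))).map ψ := by
    rw [← Localization.AtPrime.map_eq_maximalIdeal, ← Localization.AtPrime.map_eq_maximalIdeal,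
      Ideal.map_map]
    have : ψ.comp (algebraMap R (Localization.AtPrime (p.comap φ))) =
        (algebraMap A (Localization.AtPrime p)).comp φ := by
      ext x
      simp [ψ, Localization.localRingHom_to_map]
    rw [this, ← Ideal.map_map, hp]
  rw [h1]
  calc (((maximalIdeal (Localization.AtPrime (p.comap φ))).map ψ).spanFinrank : WithBot ℕ∞)
      ≤ (maximalIdeal (Localization.AtPrime (p.comap φ))).spanFinrank := by
        exact_mod_cast Ideal.spanFinrank_map_le_of_fg ψ (IsNoetherian.noetherian _)
    _ = ringKrullDim (Localization.AtPrime (p.comap φ)) := hreg.spanFinrank_maximalIdeal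
    _ = (p.comap φ).height := IsLocalization.AtPrime.ringKrullDim_eq_height (p.comap φ) _
    _ ≤ p.height := by exact_mod_cast hht
    _ = ringKrullDim (Localization.AtPrime p) :=
        (IsLocalization.AtPrime.ringKrullDim_eq_height p _).symm

theorem exists_map_comap_eq_directLimit {ι : Type*} [Preorder ι] [Nonempty ι] [IsDirectedOrder ι]
    (G : ι → Type*) [∀ i, CommRing (G i)] (f : ∀ i j, i ≤ j → G i →+* G j)
    (I : Ideal (Ring.DirectLimit G (fun i j h ↦ f i j h))) (hI : I.FG) :
    ∃ i, (I.comap (Ring.DirectLimit.of G (fun i j h ↦ f i j h) i)).map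
      (Ring.DirectLimit.of G (fun i j h ↦ f i j h) i) = I := by
  classical
  obtain ⟨s, rfl⟩ := hI
  choose ix y hy using fun x : Ring.DirectLimit G (fun i j h ↦ f i j h) =>
    Ring.DirectLimit.exists_of x
  obtain ⟨i, hi⟩ := Finset.exists_le (s.image ix)
  refine ⟨i, le_antisymm Ideal.map_comap_le ?_⟩
  rw [Ideal.span_le]
  intro x hx
  have hle : ix x ≤ i := hi _ (Finset.mem_image_of_mem _ hx)
  have hx' : x = Ring.DirectLimit.of G (fun i j h ↦ f i j h) i (f (ix x) i hle (y x)) := by
    rw [Ring.DirectLimit.of_f, hy]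
  rw [hx']
  apply Ideal.mem_map_of_mem
  rw [Ideal.mem_comap, ← hx']
  exact Ideal.subset_span hx

theorem hasRk_directLimit (k : ℕ) (ι : Type u) [Preorder ι] [Nonempty ι] [IsDirectedOrder ι]
    (G : ι → Type u) [∀ i, CommRing (G i)]
    (f : ∀ i j, i ≤ j → G i →+* G j)
    [∀ i, IsNoetherianRing (G i)] (hR : ∀ i, LocCoh.HasRk k (G i))
    [IsNoetherianRing (Ring.DirectLimit G (fun i j h ↦ f i j h))]
    (hhomeo : ∀ i, IsHomeomorph
      (PrimeSpectrum.comap (Ring.DirectLimit.of G (fun i j h ↦ f i j h) i))) :
    LocCoh.HasRk k (Ring.DirectLimit G (fun i j h ↦ f i j h)) := by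
  intro p hp hk
  obtain ⟨i, hi⟩ := exists_map_comap_eq_directLimit G f p (IsNoetherian.noetherian p)
  have hht := height_comap_of_isHomeomorph _ (hhomeo i) p
  exact isRegularLocalRing_atPrime_of_map_comap _ p hi hht.le (hR i _ (hht ▸ hk))

end Groth.Agent.Lib.Helper56
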