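import Groth.Agent.Lib.Helper56.HomBaseChange
import Groth.Agent.Lib.Helper56.RkLimit
import Groth.Agent.Lib.Helper56.FlatSk

set_option autoImplicit false
universe u
namespace Groth.Agent.Lib.Helper56
open TensorProduct LocCoh IsLocalRing

section PointwiseAscent

variable (A B : Type u) [CommRing A] [CommRing B] [IsNoetherianRing A] [IsNoetherianRing B]
  [Algebra A B] [Module.Flat A B]

theorem isRegularLocalRing_atPrime_of_flat_of_map_comap (Q : Ideal B) [Q.IsPrime]
    (hQ : (Q.comap (algebraMap A B)).map (algebraMap A B) = Q)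
    (h : IsRegularLocalRing (Localization.AtPrime (Q.comap (algebraMap A B)))) :
    IsRegularLocalRing (Localization.AtPrime Q) :=
  isRegularLocalRing_atPrime_of_map_comap (algebraMap A B) Q hQ (height_comap_le_of_flat A B Q) h

omit [IsNoetherianRing A] [IsNoetherianRing B] [Module.Flat A B] in
theorem hasSk_fibLocRing_of_map_comap (k : ℕ) (Q : Ideal B) [Q.IsPrime]
    (hQ : (Q.comap (algebraMap A B)).map (algebraMap A B) = Q) :
    HasSk k (EGA4.FibLocRing A B Q) (EGA4.FibLocRing A B Q) := by
  have h1 : (Q.comap (algebraMap A B)).map (algebraMap A (Localization.AtPrime Q)) =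
      maximalIdeal (Localization.AtPrime Q) := by
    rw [IsScalarTower.algebraMap_eq A B (Localization.AtPrime Q), ← Ideal.map_map, hQ,
      Localization.AtPrime.map_eq_maximalIdeal]
  have h2 : ((Q.comap (algebraMap A B)).map (algebraMap A (Localization.AtPrime Q))).IsMaximal := by
    rw [h1]; exact maximalIdeal.isMaximal _
  let _ : Field (EGA4.FibLocRing A B Q) := Ideal.Quotient.field _
  exact hasSk_self_of_isCohenMacaulayRing k _ (isCohenMacaulayRing_of_isArtinianRing _)

theorem sk_ineq_of_flat_of_map_comap (k : ℕ) (Q : Ideal B) [Q.IsPrime]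
    (hQ : (Q.comap (algebraMap A B)).map (algebraMap A B) = Q) (hA : HasSk k A A) :
    min (k : WithBot ℕ∞) (ringKrullDim (Localization.AtPrime Q)) ≤
      ((depth (Localization.AtPrime Q) (Localization.AtPrime Q) : ℕ∞) : WithBot ℕ∞) :=
  sk_ineq_of_flat A B k Q ((hasSk_self_iff k).mp hA _) (hasSk_fibLocRing_of_map_comap A B k Q hQ)

end PointwiseAscent

section GeneralLimit

variable (B : Type u) [CommRing B] [IsNoetherianRing B]

theorem isRegularRing_of_forall_exists_flat
    (h : ∀ (Q : Ideal B) [Q.IsPrime], ∃ (A : Type u) (_ : CommRing A) (_ : Algebra A B),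
      Module.Flat A B ∧ IsRegularRing A ∧ (Q.comap (algebraMap A B)).map (algebraMap A B) = Q) :
    IsRegularRing B := by
  rw [isRegularRing_iff]
  intro Q _
  obtain ⟨A, _, _, hflat, hreg, hQ⟩ := h Q
  exact isRegularLocalRing_atPrime_of_flat_of_map_comap A B Q hQ
    (hreg.isRegularLocalRing_localization _)

theorem isNormalRing_of_forall_exists_flat
    (h : ∀ (Q : Ideal B) [Q.IsPrime], ∃ (A : Type u) (_ : CommRing A) (_ : Algebra A B),
      Module.Flat A B ∧ IsNoetherianRing A ∧ EGA4.IsNormalRing A ∧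
        (Q.comap (algebraMap A B)).map (algebraMap A B) = Q) :
    EGA4.IsNormalRing B := by
  refine (serre_normal_iff B).mpr ⟨?_, ?_⟩
  · intro Q _ hht
    obtain ⟨A, _, _, hflat, hN, hnorm, hQ⟩ := h Q
    have hR1 := ((serre_normal_iff A).mp hnorm).1
    refine isRegularLocalRing_atPrime_of_flat_of_map_comap A B Q hQ (hR1 _ ?_)
    exact (height_comap_le_of_flat A B Q).trans hht
  · rw [hasSk_self_iff]
    intro Q _
    obtain ⟨A, _, _, hflat, hN, hnorm, hQ⟩ := h Q
    exact sk_ineq_of_flat_of_map_comap A B 2 Q hQ ((serre_normal_iff A).mp hnorm).2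

end GeneralLimit

end Groth.Agent.Lib.Helper56
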