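import Groth.Agent.Lib.Helper56.SepBaseChange
import Groth.Agent.Lib.Helper30.SmoothRegular

set_option autoImplicit false
set_option linter.unusedSectionVars false
universe u
namespace Groth.Agent.Lib.Helper56
open TensorProduct

section GenericSmooth

variable (A A' : Type u) [CommRing A] [CommRing A'] [IsDomain A] [IsDomain A'] [IsNoetherianRing A]
  [Algebra A A'] [FaithfulSMul A A'] [Algebra.FiniteType A A']
  [Algebra (FractionRing A) (FractionRing A')] [IsScalarTower A (FractionRing A) (FractionRing A')]
  [Algebra.IsGeometricallyReduced (FractionRing A) (FractionRing A')]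

theorem formallySmooth_fractionRing : Algebra.FormallySmooth A (FractionRing A') := by
  let K := FractionRing A
  let K' := FractionRing A'
  have h1 : Algebra.EssFiniteType A K' := Algebra.EssFiniteType.comp A A' K'
  have h2 : Algebra.EssFiniteType K K' := Algebra.EssFiniteType.of_comp A K K'
  obtain ⟨s, hs, H⟩ := exists_isTranscendenceBasis_and_isSeparable_of_isGeometricallyReduced K K'
  have key : ∀ X Y : Set K', X = Y → Algebra.IsSeparable (IntermediateField.adjoin K X) K' →
      Algebra.IsSeparable (IntermediateField.adjoin K Y) K' := by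
    intro X Y h hX; subst h; exact hX
  have H' : Algebra.IsSeparable (IntermediateField.adjoin K (Set.range ((↑) : s → K'))) K' :=
    key _ _ Subtype.range_coe.symm H
  have h3 : Algebra.FormallySmooth K K' :=
    Algebra.FormallySmooth.of_algebraicIndependent_of_isSeparable hs.1
  have h4 : Algebra.FormallySmooth A K := Algebra.FormallySmooth.of_isLocalization (nonZeroDivisors A)
  exact Algebra.FormallySmooth.comp A K K'

theorem exists_smooth_away : ∃ g : A', g ≠ 0 ∧ Algebra.Smooth A (Localization.Away g) := by
  have hfp : Algebra.FinitePresentation A A' := Algebra.FinitePresentation.of_finiteType.mp inferInstance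
  have h0 : (⊥ : Ideal A').primeCompl = nonZeroDivisors A' := by
    ext x
    simp [Ideal.primeCompl, mem_nonZeroDivisors_iff_ne_zero]
  have hbot : (⟨⊥, Ideal.isPrime_bot⟩ : PrimeSpectrum A') ∈ Algebra.smoothLocus A A' := by
    change Algebra.FormallySmooth A (Localization.AtPrime (⊥ : Ideal A'))
    have hloc : IsLocalization (⊥ : Ideal A').primeCompl (FractionRing A') := by
      rw [h0]; infer_instance
    have := formallySmooth_fractionRing A A'
    exact Algebra.FormallySmooth.of_equiv
      ((IsLocalization.algEquiv (⊥ : Ideal A').primeCompl (FractionRing A')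
        (Localization.AtPrime (⊥ : Ideal A'))).restrictScalars A)
  obtain ⟨_, ⟨_, ⟨g, rfl⟩, rfl⟩, hbg, hg⟩ :=
    PrimeSpectrum.isBasis_basic_opens.exists_subset_of_mem_open hbot Algebra.isOpen_smoothLocus
  refine ⟨g, ?_, Algebra.basicOpen_subset_smoothLocus_iff_smooth.mp hg⟩
  rintro rfl
  simp at hbg

end GenericSmooth

end Groth.Agent.Lib.Helper56
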