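import Groth.Agent.Lib.Helper56.GeomRegExt

set_option autoImplicit false
universe u
namespace Groth.Agent.Lib.Helper56
open TensorProduct

theorem exists_compositum (k K k' : Type u) [Field k] [Field K] [Field k'] [Algebra k K]
    [Algebra k k'] [Module.Finite k k'] :
    ∃ (L : Type u) (_ : Field L) (_ : Algebra K L) (_ : Algebra k' L) (_ : Algebra k L),
      IsScalarTower k K L ∧ IsScalarTower k k' L ∧ Module.Finite K L := by
  have hnt : Nontrivial (K ⊗[k] k') := inferInstance
  obtain ⟨m, hm⟩ := Ideal.exists_maximal (K ⊗[k] k')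
  let _ : Field ((K ⊗[k] k') ⧸ m) := Ideal.Quotient.field m
  let _ : Algebra k' ((K ⊗[k] k') ⧸ m) :=
    ((Ideal.Quotient.mk m).comp
      (Algebra.TensorProduct.includeRight : k' →ₐ[k] K ⊗[k] k').toRingHom).toAlgebra
  refine ⟨(K ⊗[k] k') ⧸ m, inferInstance, inferInstance, inferInstance, inferInstance,
    inferInstance, ?_, ?_⟩
  · refine IsScalarTower.of_algebraMap_eq (fun c => ?_)
    change _ = Ideal.Quotient.mk m (Algebra.TensorProduct.includeRight (algebraMap k k' c))
    rw [AlgHom.commutes]
    rfl
  · exact Module.Finite.of_surjective (Ideal.Quotient.mkₐ K m).toLinearMap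
      (Ideal.Quotient.mkₐ_surjective K m)

section BaseChange

variable (k S K : Type u) [Field k] [CommRing S] [Algebra k S] [Field K] [Algebra k K]

theorem isGeometricallyRegular_baseChange [Algebra.EssFiniteType k K]
    (h : CAlg.IsGeometricallyRegular k S) : CAlg.IsGeometricallyRegular K (K ⊗[k] S) := by
  intro L _ _ hL
  let _ : Algebra k L := ((algebraMap K L).comp (algebraMap k K)).toAlgebra
  have : IsScalarTower k K L := IsScalarTower.of_algebraMap_eq (fun _ => rfl)
  have : Algebra.EssFiniteType k L := Algebra.EssFiniteType.comp k K L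
  have h1 : IsRegularRing (L ⊗[k] S) :=
    isRegularRing_tensor_of_forall_purelyInseparable k S (fun k' _ _ hf _ => h k' hf) L
  exact IsRegularRing.of_ringEquiv (R := L ⊗[k] S)
    (Algebra.TensorProduct.cancelBaseChange k K K L S).symm.toRingEquiv

theorem isGeometricallyRegular_of_baseChange
    (h : CAlg.IsGeometricallyRegular K (K ⊗[k] S)) : CAlg.IsGeometricallyRegular k S := by
  intro k' _ _ hk'
  obtain ⟨L, _, _, _, _, ht1, ht2, hfin⟩ := exists_compositum k K k'
  have h1 := h L hfin
  have h2 : IsRegularRing (L ⊗[k] S) :=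
    IsRegularRing.of_ringEquiv (R := L ⊗[K] (K ⊗[k] S))
      (Algebra.TensorProduct.cancelBaseChange k K K L S).toRingEquiv
  exact isRegularRing_tensor_descent k k' L S h2

theorem isGeomNormal_baseChange [IsNoetherianRing S] [Algebra.EssFiniteType k K]
    (h : EGA4.IsGeomNormal k S) : EGA4.IsGeomNormal K (K ⊗[k] S) := by
  intro L _ _ hL
  let _ : Algebra k L := ((algebraMap K L).comp (algebraMap k K)).toAlgebra
  have : IsScalarTower k K L := IsScalarTower.of_algebraMap_eq (fun _ => rfl)
  have : Algebra.EssFiniteType k L := Algebra.EssFiniteType.comp k K L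
  have h1 : EGA4.IsNormalRing (L ⊗[k] S) :=
    isNormalRing_tensor_of_forall_purelyInseparable k S (fun k' _ _ hf _ => h k' hf) L
  exact isNormalRing_of_ringEquiv
    (Algebra.TensorProduct.cancelBaseChange k K K L S).symm.toRingEquiv h1

theorem isGeomNormal_of_baseChange
    (h : EGA4.IsGeomNormal K (K ⊗[k] S)) : EGA4.IsGeomNormal k S := by
  intro k' _ _ hk'
  obtain ⟨L, _, _, _, _, ht1, ht2, hfin⟩ := exists_compositum k K k'
  have h1 := h L hfin
  have h2 : EGA4.IsNormalRing (L ⊗[k] S) :=
    isNormalRing_of_ringEquiv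
      (Algebra.TensorProduct.cancelBaseChange k K K L S).toRingEquiv h1
  exact isNormalRing_tensor_descent k k' L S h2

end BaseChange

end Groth.Agent.Lib.Helper56
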