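import Mathlib
import Groth.Prelude.Def_Curv2
import Groth.Agent.Lib.Helper56.FibreRegular
import Groth.Agent.Lib.Helper56.UnivReg
import Groth.Agent.Lib.Helper56.SepBaseChange
import Groth.Agent.Lib.Helper56.GeomReduced
import Groth.Agent.Lib.Helper56.DeltaBC
import Groth.Agent.Lib.Helper76.RegularLocal
import Groth.Agent.Lib.Helper71.TFCurv

set_option autoImplicit false
set_option linter.style.haveILetI false
set_option linter.unusedSectionVars false

namespace Groth.Agent.Lib.Helper56.GeomRegOne

open TensorProduct IsLocalRing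

universe u

section L1

variable (k K A : Type u) [Field k] [Field K] [Algebra k K] [CommRing A] [Algebra k A]
  (B : Type u) [CommRing B] [Algebra (A ⊗[k] K) B] [Algebra A B] [IsScalarTower A (A ⊗[k] K) B]
  (M : Submonoid (A ⊗[k] K)) [IsLocalization M B]
  (N : Type u) [CommRing N] [Algebra A N] [Algebra k N] [IsScalarTower k A N]

include M in
theorem isRegularRing_tensor_of_isRegularRing [IsRegularRing (N ⊗[k] K)] :
    IsRegularRing (B ⊗[A] N) := by
  let e1 : B ⊗[A ⊗[k] K] ((A ⊗[k] K) ⊗[A] N) ≃ₐ[A ⊗[k] K] B ⊗[A] N :=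
    Algebra.TensorProduct.cancelBaseChange A (A ⊗[k] K) (A ⊗[k] K) B N
  let e2 : N ⊗[A] (A ⊗[k] K) ≃ₐ[A] N ⊗[k] K :=
    Algebra.TensorProduct.cancelBaseChange k A A N K
  let e3 : (A ⊗[k] K) ⊗[A] N ≃ₐ[A] N ⊗[A] (A ⊗[k] K) := Algebra.TensorProduct.comm A _ _
  haveI : IsRegularRing ((A ⊗[k] K) ⊗[A] N) :=
    IsRegularRing.of_ringEquiv (e3.trans e2).symm.toRingEquiv
  haveI : IsLocalization (Algebra.algebraMapSubmonoid ((A ⊗[k] K) ⊗[A] N) M)
      (((A ⊗[k] K) ⊗[A] N) ⊗[A ⊗[k] K] B) := IsLocalization.tensor B M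
  haveI : IsRegularRing (((A ⊗[k] K) ⊗[A] N) ⊗[A ⊗[k] K] B) :=
    Groth.Agent.Lib.Helper56.isRegularRing_of_isLocalization'
      (Algebra.algebraMapSubmonoid ((A ⊗[k] K) ⊗[A] N) M) _ inferInstance
  let e4 : B ⊗[A ⊗[k] K] ((A ⊗[k] K) ⊗[A] N) ≃ₐ[A ⊗[k] K]
      ((A ⊗[k] K) ⊗[A] N) ⊗[A ⊗[k] K] B := Algebra.TensorProduct.comm (A ⊗[k] K) _ _
  exact IsRegularRing.of_ringEquiv (R := ((A ⊗[k] K) ⊗[A] N) ⊗[A ⊗[k] K] B)
    (e4.symm.trans e1).toRingEquiv

end L1

section R1

variable (k K V κ : Type u) [Field k] [Field K] [Algebra k K] [CommRing V]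
  [IsRegularLocalRing V] [Algebra k V] [Field κ] [Algebra k κ] [Algebra V κ]
  [IsScalarTower k V κ] [IsNoetherianRing (V ⊗[k] K)] (Q : Ideal (V ⊗[k] K)) [Q.IsPrime]

theorem isLocalHom_atPrime
    (hQ : Q.comap (Algebra.TensorProduct.includeLeftRingHom) = maximalIdeal V) :
    IsLocalHom (algebraMap V (Localization.AtPrime Q)) := by
  constructor
  intro a ha
  by_contra hnu
  have ham : a ∈ maximalIdeal V := (mem_maximalIdeal a).mpr hnu
  rw [← hQ] at ham
  have h1 : algebraMap (V ⊗[k] K) (Localization.AtPrime Q) (a ⊗ₜ[k] (1 : K)) ∈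
      maximalIdeal (Localization.AtPrime Q) := by
    rw [← IsLocalization.AtPrime.map_eq_maximalIdeal Q (Localization.AtPrime Q)]
    exact Ideal.mem_map_of_mem _ ham
  have h2 : algebraMap V (Localization.AtPrime Q) a =
      algebraMap (V ⊗[k] K) (Localization.AtPrime Q) (a ⊗ₜ[k] (1 : K)) := by
    rw [IsScalarTower.algebraMap_apply V (V ⊗[k] K) (Localization.AtPrime Q)]
    rfl
  rw [h2] at ha
  exact (mem_maximalIdeal _).mp h1 ha

theorem isRegularLocalRing_atPrime (hκ : Function.Surjective (algebraMap V κ))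
    [IsRegularRing (κ ⊗[k] K)]
    (hQ : Q.comap (Algebra.TensorProduct.includeLeftRingHom) = maximalIdeal V) :
    IsRegularLocalRing (Localization.AtPrime Q) := by
  haveI := isLocalHom_atPrime k K V Q hQ
  haveI : Module.Flat (V ⊗[k] K) (Localization.AtPrime Q) :=
    IsLocalization.flat (Localization.AtPrime Q) Q.primeCompl
  haveI : Module.Flat V (Localization.AtPrime Q) :=
    Module.Flat.trans V (V ⊗[k] K) (Localization.AtPrime Q)
  haveI : IsNoetherianRing (Localization.AtPrime Q) :=
    IsLocalization.isNoetherianRing Q.primeCompl (Localization.AtPrime Q) inferInstance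
  apply Groth.Agent.Lib.Helper56.regular_of_flat_of_fibre_regular V (Localization.AtPrime Q)
  set J := (maximalIdeal V).map (algebraMap V (Localization.AtPrime Q)) with hJ
  have hJle : J ≤ maximalIdeal (Localization.AtPrime Q) :=
    IsLocalRing.map_maximalIdeal_le (algebraMap V (Localization.AtPrime Q))
  have hJne : J ≠ ⊤ := fun h => (maximalIdeal.isMaximal _).ne_top (top_le_iff.mp (h ▸ hJle))
  haveI : Nontrivial (Localization.AtPrime Q ⧸ J) := Ideal.Quotient.nontrivial_iff.mpr hJne
  haveI : IsLocalRing (Localization.AtPrime Q ⧸ J) :=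
    IsLocalRing.of_surjective' (Ideal.Quotient.mk _) Ideal.Quotient.mk_surjective
  haveI h1 : IsRegularRing (Localization.AtPrime Q ⊗[V] κ) :=
    isRegularRing_tensor_of_isRegularRing k K V (Localization.AtPrime Q) Q.primeCompl κ
  have hker : RingHom.ker (algebraMap V κ) = maximalIdeal V :=
    eq_maximalIdeal (RingHom.ker_isMaximal_of_surjective _ hκ)
  let eκ : (V ⧸ maximalIdeal V) ≃ₐ[V] κ :=
    (Ideal.quotientEquivAlgOfEq V hker.symm).trans
      (Ideal.quotientKerAlgEquivOfSurjective (f := Algebra.ofId V κ) hκ)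
  let e : (Localization.AtPrime Q ⧸ J) ≃ₐ[Localization.AtPrime Q]
      Localization.AtPrime Q ⊗[V] (V ⧸ maximalIdeal V) :=
    Algebra.TensorProduct.quotIdealMapEquivTensorQuot (Localization.AtPrime Q) (maximalIdeal V)
  let e' : Localization.AtPrime Q ⊗[V] (V ⧸ maximalIdeal V) ≃ₐ[Localization.AtPrime Q]
      Localization.AtPrime Q ⊗[V] κ :=
    Algebra.TensorProduct.congr AlgEquiv.refl eκ
  haveI : IsRegularRing (Localization.AtPrime Q ⧸ J) :=
    IsRegularRing.of_ringEquiv (R := Localization.AtPrime Q ⊗[V] κ) (e.trans e').symm.toRingEquiv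
  exact IsRegularLocalRing.of_isRegularRing_of_isLocalRing _

end R1

section R2

variable (k V κ : Type u) [Field k] [CommRing V]
  [IsRegularLocalRing V] [Algebra k V] [Field κ] [Algebra k κ] [Algebra V κ]
  [IsScalarTower k V κ]

theorem isReduced_tensor_of_finite (E : Type u) [Field E] [Algebra k E] [Module.Finite k E]
    (hκ : Function.Surjective (algebraMap V κ)) [IsRegularRing (κ ⊗[k] E)] :
    IsReduced (V ⊗[k] E) := by
  haveI : IsNoetherianRing V := inferInstance
  haveI : Module.Finite V (V ⊗[k] E) := inferInstance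
  haveI : IsNoetherianRing (V ⊗[k] E) := IsNoetherianRing.of_finite V _
  apply isReduced_ofLocalizationMaximal
  intro Q hQ
  haveI : Algebra.IsIntegral V (V ⊗[k] E) := Algebra.IsIntegral.of_finite V _
  have hQm : Q.comap (Algebra.TensorProduct.includeLeftRingHom) = maximalIdeal V := by
    have h : (Q.comap (algebraMap V (V ⊗[k] E))).IsMaximal :=
      Ideal.isMaximal_comap_of_isIntegral_of_isMaximal Q
    exact eq_maximalIdeal h
  haveI := isRegularLocalRing_atPrime k E V κ Q hκ hQm
  haveI : IsDomain (Localization.AtPrime Q) :=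
    Groth.Agent.Lib.Helper76.isDomain_of_isRegularLocalRing _
  infer_instance

theorem isReduced_fraction_tensor_of_finite (L : Type u) [Field L] [Algebra V L]
    [IsFractionRing V L] [Algebra k L] [IsScalarTower k V L]
    (E : Type u) [Field E] [Algebra k E] [Module.Finite k E]
    (hκ : Function.Surjective (algebraMap V κ)) [IsRegularRing (κ ⊗[k] E)] :
    IsReduced (E ⊗[k] L) := by
  haveI := isReduced_tensor_of_finite k V κ E hκ
  haveI : IsLocalization (Algebra.algebraMapSubmonoid (V ⊗[k] E) (nonZeroDivisors V))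
      ((V ⊗[k] E) ⊗[V] L) := IsLocalization.tensor L (nonZeroDivisors V)
  haveI : IsReduced ((V ⊗[k] E) ⊗[V] L) :=
    isReduced_localizationPreserves (Algebra.algebraMapSubmonoid (V ⊗[k] E) (nonZeroDivisors V))
      ((V ⊗[k] E) ⊗[V] L) inferInstance
  let e1 : (V ⊗[k] E) ⊗[V] L ≃ₐ[V] L ⊗[V] (V ⊗[k] E) := Algebra.TensorProduct.comm V _ _
  let e2 : L ⊗[V] (V ⊗[k] E) ≃ₐ[V] L ⊗[k] E := Algebra.TensorProduct.cancelBaseChange k V V L E
  let e3 : L ⊗[k] E ≃ₐ[k] E ⊗[k] L := Algebra.TensorProduct.comm k L E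
  have hinj : Function.Injective
      ((e1.trans e2).symm.toRingEquiv.toRingHom.comp e3.symm.toRingEquiv.toRingHom) :=
    (e1.trans e2).symm.injective.comp e3.symm.injective
  exact isReduced_of_injective _ hinj

theorem isGeometricallyReduced_of_isFractionRing (L : Type u) [Field L] [Algebra V L]
    [IsFractionRing V L] [Algebra k L] [IsScalarTower k V L]
    (hκ : Function.Surjective (algebraMap V κ))
    (hreg : ∀ (E : Type u) [Field E] [Algebra k E] [Module.Finite k E],
      IsRegularRing (κ ⊗[k] E)) :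
    Algebra.IsGeometricallyReduced k L := by
  rw [Algebra.isGeometricallyReduced_field_iff]
  refine Groth.Agent.Lib.Helper56.isReduced_of_forall_finite (fun E hE => ?_)
  haveI : Module.Finite k E := hE
  haveI := hreg E
  exact isReduced_fraction_tensor_of_finite k V κ L E hκ

end R2

section G1

variable (k K A : Type u) [Field k] [Field K] [Algebra k K] [CommRing A] [IsDomain A]
  [Algebra k A] (q : Ideal (A ⊗[k] K)) [q.IsPrime]

theorem isReduced_atPrime [IsReduced (FractionRing A ⊗[k] K)] :
    IsReduced (Localization.AtPrime q) := by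
  haveI : Module.Flat (A ⊗[k] K) (Localization.AtPrime q) :=
    IsLocalization.flat (Localization.AtPrime q) q.primeCompl
  haveI : Module.Flat A (Localization.AtPrime q) :=
    Module.Flat.trans A (A ⊗[k] K) (Localization.AtPrime q)
  haveI : IsReduced (Localization.AtPrime q ⊗[A] FractionRing A) :=
    Groth.Agent.Lib.Helper56.DeltaBC.isReduced_tensor_of_isReduced k K A (Localization.AtPrime q)
      q.primeCompl (FractionRing A)
  exact isReduced_of_injective
    (Algebra.TensorProduct.includeLeft :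
      Localization.AtPrime q →ₐ[A] Localization.AtPrime q ⊗[A] FractionRing A)
    (Algebra.TensorProduct.includeLeft_injective (IsFractionRing.injective A (FractionRing A)))

end G1

section G2

variable (k A : Type u) [Field k] [CommRing A] [IsDomain A] [IsNoetherianRing A] [IsLocalRing A]
  [Algebra k A] [Module.Finite A (integralClosure A (FractionRing A))]
  (M : Ideal (integralClosure A (FractionRing A))) [M.IsMaximal]

theorem isRegularLocalRing_atMaximal (hdim : ringKrullDim A = 1) :
    IsRegularLocalRing (Localization.AtPrime M) := by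
  haveI : IsPrincipalIdealRing (integralClosure A (FractionRing A)) :=
    Helper71.TFCurv.isPID (FractionRing A) hdim inferInstance
  haveI : IsRegularRing (integralClosure A (FractionRing A)) := inferInstance
  exact IsRegularRing.isRegularLocalRing_localization M

end G2

end Groth.Agent.Lib.Helper56.GeomRegOne
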