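import Mathlib
import Groth.Agent.Lib.Helper56.GeomRegOne
import Groth.Agent.Lib.Helper51.GeomRed

set_option autoImplicit false
set_option linter.style.haveILetI false
set_option linter.unusedSectionVars false

namespace Groth.Agent.Lib.Helper56.GeomRegOne

open TensorProduct IsLocalRing

universe u

theorem regular_of_univRegular (k κ : Type u) [Field k] [Field κ] [Algebra k κ]
    [Algebra.EssFiniteType k κ] [Algebra.IsGeometricallyReduced k κ]
    (E : Type u) [Field E] [Algebra k E] : IsRegularRing (κ ⊗[k] E) := by
  have h := Groth.Agent.Lib.Helper56.univRegular_of_isGeometricallyReduced k κ E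
  exact IsRegularRing.of_ringEquiv (R := E ⊗[k] κ) (Algebra.TensorProduct.comm k E κ).toRingEquiv

section Gen

variable (k C L : Type u) [Field k] [CommRing C] [IsDomain C] [Algebra k C]
  (M : Ideal C) [M.IsPrime] [Field L] [Algebra C L] [IsFractionRing C L] [Algebra k L]
  [IsScalarTower k C L]

theorem isGeometricallyReduced_of_atPrime
    (hreg : IsRegularLocalRing (Localization.AtPrime M))
    [Algebra.EssFiniteType k M.ResidueField] [Algebra.IsGeometricallyReduced k M.ResidueField] :
    Algebra.IsGeometricallyReduced k L := by
  haveI hst : IsScalarTower k (Localization.AtPrime M) M.ResidueField :=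
    IsScalarTower.of_algebraMap_eq (fun c => rfl)
  have hunits : ∀ y : M.primeCompl, IsUnit (algebraMap C L y) := by
    intro y
    rw [isUnit_iff_ne_zero, Ne, map_eq_zero_iff _ (IsFractionRing.injective C L)]
    intro h0
    exact y.2 (h0 ▸ M.zero_mem)
  letI : Algebra (Localization.AtPrime M) L :=
    (IsLocalization.lift (M := M.primeCompl) (S := Localization.AtPrime M)
      (g := algebraMap C L) hunits).toAlgebra
  haveI : IsScalarTower C (Localization.AtPrime M) L :=
    IsScalarTower.of_algebraMap_eq (fun x => (IsLocalization.lift_eq hunits x).symm)
  haveI : IsFractionRing (Localization.AtPrime M) L :=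
    IsFractionRing.isFractionRing_of_isDomain_of_isLocalization M.primeCompl
      (Localization.AtPrime M) L
  haveI : IsScalarTower k (Localization.AtPrime M) L := by
    refine IsScalarTower.of_algebraMap_eq (fun c => ?_)
    rw [IsScalarTower.algebraMap_apply k C (Localization.AtPrime M),
      ← IsScalarTower.algebraMap_apply C (Localization.AtPrime M) L,
      ← IsScalarTower.algebraMap_apply k C L]
  haveI := hreg
  exact isGeometricallyReduced_of_isFractionRing k (Localization.AtPrime M) M.ResidueField
    L IsLocalRing.residue_surjective
    (fun E _ _ _ => regular_of_univRegular k M.ResidueField E)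

end Gen

section G3

variable (k K A : Type u) [Field k] [Field K] [Algebra k K] [CommRing A] [IsDomain A]
  [IsNoetherianRing A] [IsLocalRing A]
  [Algebra k A] [Module.Finite A (integralClosure A (FractionRing A))]
  (M : Ideal (integralClosure A (FractionRing A))) [M.IsMaximal]

theorem isGeometricallyReduced_fractionRing (hdim : ringKrullDim A = 1)
    [Algebra.EssFiniteType k M.ResidueField] [Algebra.IsGeometricallyReduced k M.ResidueField] :
    Algebra.IsGeometricallyReduced k (FractionRing A) := by
  have hreg := isRegularLocalRing_atMaximal A M hdim
  haveI : IsFractionRing (integralClosure A (FractionRing A)) (FractionRing A) :=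
    integralClosure.isFractionRing_of_finite_extension (FractionRing A) (FractionRing A)
  exact isGeometricallyReduced_of_atPrime k (integralClosure A (FractionRing A)) (FractionRing A)
    M hreg

theorem isReduced_atPrime_of_maximal (hdim : ringKrullDim A = 1)
    [Algebra.EssFiniteType k M.ResidueField] [Algebra.IsGeometricallyReduced k M.ResidueField]
    (q : Ideal (A ⊗[k] K)) [q.IsPrime] : IsReduced (Localization.AtPrime q) := by
  haveI := isGeometricallyReduced_fractionRing k A M hdim
  haveI : IsReduced (K ⊗[k] FractionRing A) :=
    Groth.Agent.Lib.Helper51.isReduced_tensor_of_isGeometricallyReduced K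
  haveI : IsReduced (FractionRing A ⊗[k] K) :=
    isReduced_of_injective (Algebra.TensorProduct.comm k (FractionRing A) K).toRingEquiv.toRingHom
      (Algebra.TensorProduct.comm k (FractionRing A) K).injective
  exact isReduced_atPrime k K A q

end G3

end Groth.Agent.Lib.Helper56.GeomRegOne
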