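import Mathlib
import Groth.Agent.Lib.Helper56.GeomRegOne2
import Groth.Agent.Lib.Helper56.DeltaChart

set_option autoImplicit false
set_option linter.style.haveILetI false
set_option linter.unusedSectionVars false

namespace Groth.Agent.Lib.Helper56.GeomRegOne

open TensorProduct IsLocalRing

universe u

section Chart

variable (k K R : Type u) [Field k] [Field K] [Algebra k K] [CommRing R] [IsDomain R]
  [Algebra k R] [Algebra.FiniteType k R] (p : Ideal R) [p.IsPrime]
  (A : Type u) [CommRing A] [IsDomain A] [Algebra R A] [IsLocalization.AtPrime A p]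
  [Algebra k A] [IsScalarTower k R A] [IsLocalRing A]
  (q : Ideal (A ⊗[k] K)) [q.IsPrime]

theorem isReduced_atPrime_chart (hdim : ringKrullDim A = 1)
    (H : ∀ (Q : Ideal (integralClosure R (FractionRing R))), Q.IsPrime →
      Q.comap (algebraMap R (integralClosure R (FractionRing R))) = p →
      ∃ (L : Type u) (_ : Field L) (_ : Algebra k L)
        (Φ : integralClosure R (FractionRing R) →+* L), RingHom.ker Φ = Q ∧
        (∀ c : k, Φ (algebraMap R (integralClosure R (FractionRing R)) (algebraMap k R c)) =
          algebraMap k L c) ∧ Algebra.IsGeometricallyReduced k L) :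
    IsReduced (Localization.AtPrime q) := by
  haveI := Groth.Agent.Lib.Helper56.DeltaChart.isNoetherianRing_loc k R p A
  haveI : Module.Finite R (integralClosure R (FractionRing R)) :=
    Groth.Agent.Lib.Helper38.FieldN2.isN2_of_finiteType k R (FractionRing R) inferInstance
  haveI : Module.Finite A (integralClosure A (FractionRing A)) :=
    Groth.Agent.Lib.Helper56.NormLoc.finite_of_finite R p A
  obtain ⟨M, hM⟩ := Ideal.exists_maximal (integralClosure A (FractionRing A))
  haveI := hM
  obtain ⟨Q, hQ, hQp, J, hJ⟩ := Groth.Agent.Lib.Helper56.NormLoc.exists_residue_hom R p A M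
  obtain ⟨L, _, _, Φ, hker, hΦ, hred⟩ := H Q hQ hQp
  let Φ' : Q.ResidueField →+* L := Ideal.ResidueField.lift Q Φ (le_of_eq hker.symm)
    (fun x hx => by
      show IsUnit (Φ x)
      rw [isUnit_iff_ne_zero]
      intro h0
      apply hx
      rw [← hker]
      exact h0)
  letI : Field (integralClosure A (FractionRing A) ⧸ M) := Ideal.Quotient.field M
  have hbij : Function.Bijective (algebraMap (integralClosure A (FractionRing A) ⧸ M)
      M.ResidueField) := Ideal.bijective_algebraMap_quotient_residueField M
  let ι : M.ResidueField ≃+* (integralClosure A (FractionRing A) ⧸ M) :=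
    (RingEquiv.ofBijective _ hbij).symm
  let Ψ : M.ResidueField →+* L := (Φ'.comp J).comp (ι : M.ResidueField →+* _)
  have hΨ : ∀ c : k, Ψ (algebraMap k M.ResidueField c) = algebraMap k L c := by
    intro c
    have h0 : algebraMap k M.ResidueField c =
        algebraMap (integralClosure A (FractionRing A) ⧸ M) M.ResidueField
          (algebraMap k (integralClosure A (FractionRing A) ⧸ M) c) := rfl
    have h1 : algebraMap k (integralClosure A (FractionRing A) ⧸ M) c =
        Ideal.Quotient.mk M (algebraMap A (integralClosure A (FractionRing A))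
          (algebraMap R A (algebraMap k R c))) := by
      rw [← IsScalarTower.algebraMap_apply k R A]
      rfl
    show Φ' (J (ι (algebraMap k M.ResidueField c))) = _
    have h2 : ι (algebraMap k M.ResidueField c) =
        algebraMap k (integralClosure A (FractionRing A) ⧸ M) c := by
      rw [h0]
      show (RingEquiv.ofBijective _ hbij).symm
        ((RingEquiv.ofBijective _ hbij) (algebraMap k _ c)) = _
      exact (RingEquiv.ofBijective _ hbij).symm_apply_apply _
    rw [h2, h1, hJ, Ideal.ResidueField.lift_algebraMap]
    exact hΦ c
  let Ψ' : M.ResidueField →ₐ[k] L := { Ψ with commutes' := hΨ }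
  haveI : Algebra.IsGeometricallyReduced k M.ResidueField :=
    Algebra.IsGeometricallyReduced.of_injective Ψ' Ψ.injective
  haveI := Groth.Agent.Lib.Helper56.DeltaChart.essFiniteType_loc k R p A
  haveI : Algebra.EssFiniteType k (integralClosure A (FractionRing A)) :=
    Algebra.EssFiniteType.comp k A _
  haveI : Algebra.EssFiniteType k M.ResidueField :=
    Algebra.EssFiniteType.comp k (integralClosure A (FractionRing A)) _
  exact isReduced_atPrime_of_maximal k K A M hdim q

end Chart

end Groth.Agent.Lib.Helper56.GeomRegOne
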