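import Mathlib
import Groth.Prelude.Def_Curv2
import Groth.Agent.Lib.Helper56.GeomRegOne3
import Groth.Agent.Lib.Helper56.DeltaBCSch

set_option autoImplicit false
set_option linter.style.haveILetI false
set_option linter.unusedSectionVars false

namespace Groth.Agent.Lib.Helper56.GeomRegOneSch

open CategoryTheory CategoryTheory.Limits AlgebraicGeometry TensorProduct IsLocalRing
open Groth.Agent.Lib.Helper69.BranchNormScheme Groth.Agent.Lib.Helper69.BranchNorm
open Groth.Agent.Lib.Helper56.DeltaBCSch

universe u

section Main

variable (k : Type u) [Field k] (X : Scheme.{u}) [X.Over (Spec (CommRingCat.of k))]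
  [IsIntegral X] [LocallyOfFiniteType (X ↘ (Spec (CommRingCat.of k)))]
  [QuasiCompact (X.fromSpecStalk (genericPoint X))]
  [QuasiSeparated (X.fromSpecStalk (genericPoint X))]

theorem isGeometricallyReduced_residueField
    (x' : ↥((X.fromSpecStalk (genericPoint X)).normalization))
    (h : letI : ((X.fromSpecStalk (genericPoint X)).normalization).Over
          (Spec (CommRingCat.of k)) :=
        ⟨(X.fromSpecStalk (genericPoint X)).fromNormalization ≫
          (X ↘ (Spec (CommRingCat.of k)))⟩
      GeometricallyReduced (Spec.map (CommRingCat.ofHom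
        (Curv2.resMap k ((X.fromSpecStalk (genericPoint X)).normalization) x')))) :
    letI : ((X.fromSpecStalk (genericPoint X)).normalization).Over (Spec (CommRingCat.of k)) :=
      ⟨(X.fromSpecStalk (genericPoint X)).fromNormalization ≫ (X ↘ (Spec (CommRingCat.of k)))⟩
    letI : Algebra k ((X.fromSpecStalk (genericPoint X)).normalization.residueField x') :=
      (Curv2.resMap k ((X.fromSpecStalk (genericPoint X)).normalization) x').toAlgebra
    Algebra.IsGeometricallyReduced k
      ((X.fromSpecStalk (genericPoint X)).normalization.residueField x') := by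
  letI : ((X.fromSpecStalk (genericPoint X)).normalization).Over (Spec (CommRingCat.of k)) :=
    ⟨(X.fromSpecStalk (genericPoint X)).fromNormalization ≫ (X ↘ (Spec (CommRingCat.of k)))⟩
  letI : Algebra k ((X.fromSpecStalk (genericPoint X)).normalization.residueField x') :=
    (Curv2.resMap k ((X.fromSpecStalk (genericPoint X)).normalization) x').toAlgebra
  have h1 := isReduced_residue_tensor k X (AlgebraicClosure k) x' h
  rw [Algebra.isGeometricallyReduced_field_iff]
  exact isReduced_of_injective
    (Algebra.TensorProduct.comm k (AlgebraicClosure k) _).toRingEquiv.toRingHom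
    (Algebra.TensorProduct.comm k (AlgebraicClosure k) _).injective

theorem isGeomReducedAt (x : X) (hdx : ringKrullDim (X.presheaf.stalk x) = 1)
    (hsep :
      letI : ((X.fromSpecStalk (genericPoint X)).normalization).Over
          (Spec (CommRingCat.of k)) :=
        ⟨(X.fromSpecStalk (genericPoint X)).fromNormalization ≫
          (X ↘ (Spec (CommRingCat.of k)))⟩
      ∀ x' : ↥((X.fromSpecStalk (genericPoint X)).normalization),
        (X.fromSpecStalk (genericPoint X)).fromNormalization x' = x →
        GeometricallyReduced (Spec.map (CommRingCat.ofHom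
          (Curv2.resMap k ((X.fromSpecStalk (genericPoint X)).normalization) x')))) :
    Curv2.IsGeomReducedAt k X x := by
  intro K _ _ y hy
  obtain ⟨_, ⟨U, hU, rfl⟩, hxU, -⟩ :=
    X.isBasis_affineOpens.exists_subset_of_mem_open (Set.mem_univ x) isOpen_univ
  haveI : Nonempty U := ⟨⟨x, hxU⟩⟩
  have hU' : IsAffineOpen U := hU
  letI : ((X.fromSpecStalk (genericPoint X)).normalization).Over (Spec (CommRingCat.of k)) :=
    ⟨(X.fromSpecStalk (genericPoint X)).fromNormalization ≫ (X ↘ (Spec (CommRingCat.of k)))⟩
  letI := Groth.Agent.Lib.Helper41.CurveNorm.kAlg k U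
  haveI := Groth.Agent.Lib.Helper41.CurveNorm.kAlg_finiteType k U hU'
  haveI : IsDomain Γ(X, U) := inferInstance
  letI := Groth.Agent.Lib.Helper51.stalkAlg (X ↘ (Spec (CommRingCat.of k))) x
  letI : Algebra Γ(X, U) (X.presheaf.stalk x) := X.presheaf.algebra_section_stalk ⟨x, hxU⟩
  haveI := hU'.isLocalization_stalk ⟨x, hxU⟩
  haveI := isScalarTower_stalk k X x hxU
  obtain ⟨q, hq, hqm, ⟨e⟩⟩ := Groth.Agent.Lib.Helper51.exists_prime_ringEquiv_stalk
    (X ↘ (Spec (CommRingCat.of k))) x
    (Groth.Agent.Lib.Helper51.specMap_stalkMapOf (X ↘ (Spec (CommRingCat.of k))) x) K y hy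
  have key : _root_.IsReduced (Localization.AtPrime q) :=
    Groth.Agent.Lib.Helper56.GeomRegOne.isReduced_atPrime_chart k K Γ(X, U)
      (hU'.primeIdealOf ⟨x, hxU⟩).asIdeal (X.presheaf.stalk x) q hdx ?_
  · exact isReduced_of_injective e.toRingHom e.injective
  · intro Q hQ hQp
    obtain ⟨x', hx', hx'V, hker⟩ := exists_point X hU' x hxU Q hQp
    refine ⟨(X.fromSpecStalk (genericPoint X)).normalization.residueField x', inferInstance,
      (Curv2.resMap k ((X.fromSpecStalk (genericPoint X)).normalization) x').toAlgebra,
      _, hker, ?_, ?_⟩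
    · intro c
      exact resMap_compat k X hU' x' hx'V c
    · exact isGeometricallyReduced_residueField k X x' (hsep x' hx')

end Main

end Groth.Agent.Lib.Helper56.GeomRegOneSch
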