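import Mathlib
import Groth.Prelude.Def_Curv2
import Groth.Agent.Lib.Helper56.GeomRegOneSch
import Groth.Agent.Lib.Helper41.CurveNorm

set_option autoImplicit false
set_option linter.style.haveILetI false
set_option linter.unusedSectionVars false

namespace Groth.Agent.Lib.Helper56.GeomRegOneSch

open CategoryTheory CategoryTheory.Limits AlgebraicGeometry TensorProduct IsLocalRing
open Groth.Agent.Lib.Helper69.BranchNormScheme Groth.Agent.Lib.Helper69.BranchNorm
open Groth.Agent.Lib.Helper56.DeltaBCSch

universe u

section Ring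

theorem isRegularLocalRing_of_normal_height_one (G W : Type u) [CommRing G] [IsDomain G]
    [IsNoetherianRing G] [IsIntegrallyClosed G] (P : Ideal G) [P.IsPrime] (hP : P.height = 1)
    [CommRing W] [IsDomain W] [Algebra G W] [IsLocalization.AtPrime W P] :
    IsRegularLocalRing W := by
  haveI : IsLocalRing W := IsLocalization.AtPrime.isLocalRing W P
  haveI : IsNoetherianRing W := IsLocalization.isNoetherianRing P.primeCompl W inferInstance
  haveI : IsIntegrallyClosed W :=
    isIntegrallyClosed_of_isLocalization W P.primeCompl P.primeCompl_le_nonZeroDivisors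
  have hdim : ringKrullDim W = 1 := by
    rw [IsLocalization.AtPrime.ringKrullDim_eq_height P W, hP]
    rfl
  haveI : Ring.KrullDimLE 1 W := Ring.krullDimLE_iff.mpr (by rw [hdim]; rfl)
  haveI : Ring.DimensionLEOne W := ⟨fun {p} hp hpr =>
    Ring.krullDimLE_one_iff_of_noZeroDivisors.mp inferInstance p hp hpr⟩
  haveI : IsDedekindDomain W := { }
  haveI : IsRegularRing W := inferInstance
  exact IsRegularLocalRing.of_isRegularRing_of_isLocalRing W

end Ring

section Main

variable (k : Type u) [Field k] (X : Scheme.{u}) [X.Over (Spec (CommRingCat.of k))]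
  [IsIntegral X] [LocallyOfFiniteType (X ↘ (Spec (CommRingCat.of k)))]
  [QuasiCompact (X.fromSpecStalk (genericPoint X))]
  [QuasiSeparated (X.fromSpecStalk (genericPoint X))]

theorem stalk_facts (x : X) (hdx : ringKrullDim (X.presheaf.stalk x) = 1)
    (x' : ↥((X.fromSpecStalk (genericPoint X)).normalization))
    (hx' : (X.fromSpecStalk (genericPoint X)).fromNormalization x' = x) :
    letI : ((X.fromSpecStalk (genericPoint X)).normalization).Over (Spec (CommRingCat.of k)) :=
      ⟨(X.fromSpecStalk (genericPoint X)).fromNormalization ≫ (X ↘ (Spec (CommRingCat.of k)))⟩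
    letI : Algebra k ((X.fromSpecStalk (genericPoint X)).normalization.residueField x') :=
      (Curv2.resMap k ((X.fromSpecStalk (genericPoint X)).normalization) x').toAlgebra
    IsRegularLocalRing ((X.fromSpecStalk (genericPoint X)).normalization.presheaf.stalk x') ∧
      Algebra.EssFiniteType k
        ((X.fromSpecStalk (genericPoint X)).normalization.residueField x') := by
  obtain ⟨_, ⟨U, hU, rfl⟩, hxU, -⟩ :=
    X.isBasis_affineOpens.exists_subset_of_mem_open (Set.mem_univ x) isOpen_univ
  haveI : Nonempty U := ⟨⟨x, hxU⟩⟩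
  have hU' : IsAffineOpen U := hU
  have hV : IsAffineOpen ((X.fromSpecStalk (genericPoint X)).fromNormalization ⁻¹ᵁ U) :=
    hU'.preimage _
  have hx'V : x' ∈ (X.fromSpecStalk (genericPoint X)).fromNormalization ⁻¹ᵁ U := by
    show (X.fromSpecStalk (genericPoint X)).fromNormalization x' ∈ U
    rw [hx']
    exact hxU
  haveI : Nonempty ↥((X.fromSpecStalk (genericPoint X)).fromNormalization ⁻¹ᵁ U) :=
    ⟨⟨x', hx'V⟩⟩
  letI : ((X.fromSpecStalk (genericPoint X)).normalization).Over (Spec (CommRingCat.of k)) :=
    ⟨(X.fromSpecStalk (genericPoint X)).fromNormalization ≫ (X ↘ (Spec (CommRingCat.of k)))⟩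
  letI : Algebra k ((X.fromSpecStalk (genericPoint X)).normalization.residueField x') :=
    (Curv2.resMap k ((X.fromSpecStalk (genericPoint X)).normalization) x').toAlgebra
  letI := Groth.Agent.Lib.Helper41.CurveNorm.kAlg k U
  haveI := Groth.Agent.Lib.Helper41.CurveNorm.kAlg_finiteType k U hU'
  haveI : IsDomain Γ(X, U) := inferInstance
  haveI : IsDomain Γ((X.fromSpecStalk (genericPoint X)).normalization,
      (X.fromSpecStalk (genericPoint X)).fromNormalization ⁻¹ᵁ U) :=
    @IsIntegral.component_integral (X.fromSpecStalk (genericPoint X)).normalization _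
      ((X.fromSpecStalk (genericPoint X)).fromNormalization ⁻¹ᵁ U) ⟨⟨x', hx'V⟩⟩
  have he := eModel_algebraMap X hU'
  haveI : Module.Finite Γ(X, U) (integralClosure Γ(X, U) (FractionRing Γ(X, U))) :=
    Groth.Agent.Lib.Helper38.FieldN2.isN2_of_finiteType k Γ(X, U) (FractionRing Γ(X, U))
      inferInstance
  haveI : IsNoetherianRing Γ(X, U) := Algebra.FiniteType.isNoetherianRing k Γ(X, U)
  haveI : IsNoetherianRing (integralClosure Γ(X, U) (FractionRing Γ(X, U))) :=
    IsNoetherianRing.of_finite Γ(X, U) _
  haveI : IsNoetherianRing Γ((X.fromSpecStalk (genericPoint X)).normalization,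
      (X.fromSpecStalk (genericPoint X)).fromNormalization ⁻¹ᵁ U) :=
    isNoetherianRing_of_ringEquiv _ (eModel X hU')
  haveI : IsIntegrallyClosed (integralClosure Γ(X, U) (FractionRing Γ(X, U))) :=
    integralClosure.isIntegrallyClosedOfFiniteExtension (FractionRing Γ(X, U))
  haveI : IsIntegrallyClosed Γ((X.fromSpecStalk (genericPoint X)).normalization,
      (X.fromSpecStalk (genericPoint X)).fromNormalization ⁻¹ᵁ U) :=
    IsIntegrallyClosed.of_equiv (eModel X hU')
  letI : Algebra Γ(X, U) Γ((X.fromSpecStalk (genericPoint X)).normalization,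
      (X.fromSpecStalk (genericPoint X)).fromNormalization ⁻¹ᵁ U) :=
    ((X.fromSpecStalk (genericPoint X)).fromNormalization.appLE U
      ((X.fromSpecStalk (genericPoint X)).fromNormalization ⁻¹ᵁ U) le_rfl).hom.toAlgebra
  have hcompR : algebraMap Γ(X, U) Γ((X.fromSpecStalk (genericPoint X)).normalization,
      (X.fromSpecStalk (genericPoint X)).fromNormalization ⁻¹ᵁ U) =
      (eModel X hU').toRingHom.comp
        (algebraMap Γ(X, U) (integralClosure Γ(X, U) (FractionRing Γ(X, U)))) := by
    ext r
    exact (he r).symm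
  have hfin : (algebraMap Γ(X, U) Γ((X.fromSpecStalk (genericPoint X)).normalization,
      (X.fromSpecStalk (genericPoint X)).fromNormalization ⁻¹ᵁ U)).Finite := by
    rw [hcompR]
    exact (RingHom.Finite.of_surjective _ (eModel X hU').surjective).comp
      (RingHom.finite_algebraMap.2 inferInstance)
  haveI : Module.Finite Γ(X, U) Γ((X.fromSpecStalk (genericPoint X)).normalization,
      (X.fromSpecStalk (genericPoint X)).fromNormalization ⁻¹ᵁ U) :=
    RingHom.finite_algebraMap.1 hfin
  haveI : Algebra.IsIntegral Γ(X, U) Γ((X.fromSpecStalk (genericPoint X)).normalization,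
      (X.fromSpecStalk (genericPoint X)).fromNormalization ⁻¹ᵁ U) :=
    Algebra.IsIntegral.of_finite _ _
  have hinj : Function.Injective (algebraMap Γ(X, U)
      Γ((X.fromSpecStalk (genericPoint X)).normalization,
        (X.fromSpecStalk (genericPoint X)).fromNormalization ⁻¹ᵁ U)) := by
    rw [hcompR]
    refine (eModel X hU').injective.comp ?_
    intro a b hab
    exact IsFractionRing.injective Γ(X, U) (FractionRing Γ(X, U)) (congrArg Subtype.val hab)
  letI : Algebra Γ(X, U) (X.presheaf.stalk x) := X.presheaf.algebra_section_stalk ⟨x, hxU⟩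
  haveI := hU'.isLocalization_stalk ⟨x, hxU⟩
  have hp : (hU'.primeIdealOf ⟨x, hxU⟩).asIdeal.height = 1 := by
    have h := IsLocalization.AtPrime.ringKrullDim_eq_height (hU'.primeIdealOf ⟨x, hxU⟩).asIdeal
      (X.presheaf.stalk x)
    rw [hdx] at h
    exact (WithBot.coe_injective h).symm
  have hPcomap : (hV.primeIdealOf ⟨x', hx'V⟩).asIdeal.comap
      (algebraMap Γ(X, U) Γ((X.fromSpecStalk (genericPoint X)).normalization,
        (X.fromSpecStalk (genericPoint X)).fromNormalization ⁻¹ᵁ U)) =
      (hU'.primeIdealOf ⟨x, hxU⟩).asIdeal := by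
    have h1 := IsAffineOpen.comap_primeIdealOf_appLE U hU' _ hV le_rfl hx'V
    have h2 : hU'.primeIdealOf ⟨(X.fromSpecStalk (genericPoint X)).fromNormalization x',
        le_rfl (α := (X.fromSpecStalk (genericPoint X)).normalization.Opens) hx'V⟩ =
        hU'.primeIdealOf ⟨x, hxU⟩ := by
      congr 1
      exact Subtype.ext hx'
    exact congr($(h1.trans h2).1)
  have hP : (hV.primeIdealOf ⟨x', hx'V⟩).asIdeal.height = 1 :=
    Groth.Agent.Lib.Helper41.CurveNorm.height_eq_one_of_isIntegral hinj _
      (by rw [hPcomap]; exact hp)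
  letI : Algebra Γ((X.fromSpecStalk (genericPoint X)).normalization,
      (X.fromSpecStalk (genericPoint X)).fromNormalization ⁻¹ᵁ U)
      ((X.fromSpecStalk (genericPoint X)).normalization.presheaf.stalk x') :=
    (X.fromSpecStalk (genericPoint X)).normalization.presheaf.algebra_section_stalk ⟨x', hx'V⟩
  haveI := hV.isLocalization_stalk ⟨x', hx'V⟩
  refine ⟨isRegularLocalRing_of_normal_height_one _ _ (hV.primeIdealOf ⟨x', hx'V⟩).asIdeal hP, ?_⟩
  rw [← RingHom.essFiniteType_algebraMap]
  have hcomp : algebraMap k ((X.fromSpecStalk (genericPoint X)).normalization.residueField x') =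
      (((X.fromSpecStalk (genericPoint X)).normalization.residue x').hom.comp
        (algebraMap Γ((X.fromSpecStalk (genericPoint X)).normalization,
          (X.fromSpecStalk (genericPoint X)).fromNormalization ⁻¹ᵁ U)
          ((X.fromSpecStalk (genericPoint X)).normalization.presheaf.stalk x'))).comp
        ((algebraMap Γ(X, U) Γ((X.fromSpecStalk (genericPoint X)).normalization,
          (X.fromSpecStalk (genericPoint X)).fromNormalization ⁻¹ᵁ U)).comp
          (algebraMap k Γ(X, U))) := by
    ext c
    have h := resMap_compat k X hU' x' hx'V c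
    rw [he] at h
    exact h.symm
  rw [hcomp]
  have h1 : (algebraMap k Γ(X, U)).EssFiniteType :=
    (RingHom.finiteType_algebraMap.2 inferInstance).essFiniteType
  have h2 : (algebraMap Γ(X, U) Γ((X.fromSpecStalk (genericPoint X)).normalization,
      (X.fromSpecStalk (genericPoint X)).fromNormalization ⁻¹ᵁ U)).EssFiniteType :=
    hfin.finiteType.essFiniteType
  have h3 : (algebraMap Γ((X.fromSpecStalk (genericPoint X)).normalization,
      (X.fromSpecStalk (genericPoint X)).fromNormalization ⁻¹ᵁ U)
      ((X.fromSpecStalk (genericPoint X)).normalization.presheaf.stalk x')).EssFiniteType := by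
    rw [RingHom.essFiniteType_algebraMap]
    exact Algebra.EssFiniteType.of_isLocalization _
      (hV.primeIdealOf ⟨x', hx'V⟩).asIdeal.primeCompl
  have h4 : ((X.fromSpecStalk (genericPoint X)).normalization.residue x').hom.EssFiniteType :=
    (RingHom.FiniteType.of_surjective _ IsLocalRing.residue_surjective).essFiniteType
  exact (h1.comp h2).comp (h3.comp h4)

end Main

end Groth.Agent.Lib.Helper56.GeomRegOneSch
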