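import Mathlib
import Groth.Prelude.Def_Curv2
import Groth.Agent.Lib.Helper56.GeomRegOneSch2

set_option autoImplicit false
set_option linter.style.haveILetI false
set_option linter.unusedSectionVars false

namespace Groth.Agent.Lib.Helper56.GeomRegOneSch

open CategoryTheory CategoryTheory.Limits AlgebraicGeometry TensorProduct IsLocalRing
open Groth.Agent.Lib.Helper56.DeltaBCSch

universe u

section Main

variable (k : Type u) [Field k] (X : Scheme.{u}) [X.Over (Spec (CommRingCat.of k))]
  [IsIntegral X] [LocallyOfFiniteType (X ↘ (Spec (CommRingCat.of k)))]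
  [QuasiCompact (X.fromSpecStalk (genericPoint X))]
  [QuasiSeparated (X.fromSpecStalk (genericPoint X))]

theorem isGeomRegularAt (x : X) (hdx : ringKrullDim (X.presheaf.stalk x) = 1)
    (hsep :
      letI : ((X.fromSpecStalk (genericPoint X)).normalization).Over
          (Spec (CommRingCat.of k)) :=
        ⟨(X.fromSpecStalk (genericPoint X)).fromNormalization ≫
          (X ↘ (Spec (CommRingCat.of k)))⟩
      ∀ x' : ↥((X.fromSpecStalk (genericPoint X)).normalization),
        (X.fromSpecStalk (genericPoint X)).fromNormalization x' = x →
        GeometricallyReduced (Spec.map (CommRingCat.ofHom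
          (Curv2.resMap k ((X.fromSpecStalk (genericPoint X)).normalization) x'))))
    (x' : ↥((X.fromSpecStalk (genericPoint X)).normalization))
    (hx' : (X.fromSpecStalk (genericPoint X)).fromNormalization x' = x) :
    letI : ((X.fromSpecStalk (genericPoint X)).normalization).Over (Spec (CommRingCat.of k)) :=
      ⟨(X.fromSpecStalk (genericPoint X)).fromNormalization ≫ (X ↘ (Spec (CommRingCat.of k)))⟩
    Curv2.IsGeomRegularAt k ((X.fromSpecStalk (genericPoint X)).normalization) x' := by
  letI : ((X.fromSpecStalk (genericPoint X)).normalization).Over (Spec (CommRingCat.of k)) :=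
    ⟨(X.fromSpecStalk (genericPoint X)).fromNormalization ≫ (X ↘ (Spec (CommRingCat.of k)))⟩
  intro K _ _ hFG y' hy'
  obtain ⟨hregV, hess⟩ := stalk_facts k X x hdx x' hx'
  letI iκ : Algebra k ((X.fromSpecStalk (genericPoint X)).normalization.residueField x') :=
    (Curv2.resMap k ((X.fromSpecStalk (genericPoint X)).normalization) x').toAlgebra
  haveI := hess
  haveI := isGeometricallyReduced_residueField k X x' (hsep x' hx')
  letI := Groth.Agent.Lib.Helper51.stalkAlg
    ((X.fromSpecStalk (genericPoint X)).normalization ↘ (Spec (CommRingCat.of k))) x'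
  obtain ⟨q', hq', hq'm, ⟨e'⟩⟩ := Groth.Agent.Lib.Helper51.exists_prime_ringEquiv_stalk
    ((X.fromSpecStalk (genericPoint X)).normalization ↘ (Spec (CommRingCat.of k))) x'
    (Groth.Agent.Lib.Helper51.specMap_stalkMapOf
      ((X.fromSpecStalk (genericPoint X)).normalization ↘ (Spec (CommRingCat.of k))) x') K y' hy'
  haveI := hregV
  haveI : Algebra.EssFiniteType k K := IntermediateField.fg_top_iff.mp hFG
  haveI : IsNoetherianRing
      ((X.fromSpecStalk (genericPoint X)).normalization.presheaf.stalk x' ⊗[k] K) :=
    Groth.Agent.Lib.Helper56.isNoetherianRing_tensor_essFiniteType k K _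
  letI : Algebra ((X.fromSpecStalk (genericPoint X)).normalization.presheaf.stalk x')
      ((X.fromSpecStalk (genericPoint X)).normalization.residueField x') :=
    ((X.fromSpecStalk (genericPoint X)).normalization.residue x').hom.toAlgebra
  haveI : IsScalarTower k ((X.fromSpecStalk (genericPoint X)).normalization.presheaf.stalk x')
      ((X.fromSpecStalk (genericPoint X)).normalization.residueField x') :=
    IsScalarTower.of_algebraMap_eq (fun c => rfl)
  haveI : IsRegularRing
      ((X.fromSpecStalk (genericPoint X)).normalization.residueField x' ⊗[k] K) :=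
    Groth.Agent.Lib.Helper56.GeomRegOne.regular_of_univRegular k _ K
  have key := Groth.Agent.Lib.Helper56.GeomRegOne.isRegularLocalRing_atPrime k K
    ((X.fromSpecStalk (genericPoint X)).normalization.presheaf.stalk x')
    ((X.fromSpecStalk (genericPoint X)).normalization.residueField x') q'
    IsLocalRing.residue_surjective hq'm
  exact IsRegularLocalRing.of_ringEquiv e'.symm

end Main

end Groth.Agent.Lib.Helper56.GeomRegOneSch
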