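import Groth.Agent.Lib.Helper56.Normal3
import Groth.Prelude.Def_EGA4b

set_option autoImplicit false
universe u v w

namespace Groth.Agent.Lib.Helper56

open IsLocalRing

section Coheight

theorem saturated_of_length_eq_coheight_head {α : Type*} [PartialOrder α] (l : LTSeries α)
    (h : (l.length : ℕ∞) = Order.coheight l.head) :
    (∀ i : Fin l.length, l i.castSucc ⋖ l i.succ) ∧ IsMax l.last := by
  have hidx := fun i => Order.coheight_eq_index_of_length_eq_head_coheight h i
  constructor
  · intro i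
    refine ⟨l.strictMono (Fin.castSucc_lt_succ), fun c hc1 hc2 => ?_⟩
    have h1 := Order.coheight_add_one_le hc1
    have h2 := Order.coheight_add_one_le hc2
    rw [hidx] at h1 h2
    have h3 : ((i.succ.rev : ℕ) : ℕ∞) + 1 + 1 ≤ ((i.castSucc.rev : ℕ) : ℕ∞) :=
      le_trans (by gcongr) h1
    have h4 : (i.succ.rev : ℕ) + 1 + 1 ≤ (i.castSucc.rev : ℕ) := by exact_mod_cast h3
    simp only [Fin.val_rev, Fin.val_succ, Fin.val_castSucc] at h4
    have := i.2
    omega
  · have h0 := hidx (Fin.last _)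
    simp only [Fin.rev_last, Fin.val_zero, Nat.cast_zero] at h0
    exact Order.coheight_eq_zero.mp h0

theorem isMax_eq_closedPoint {A : Type u} [CommRing A] [IsLocalRing A] (x : PrimeSpectrum A)
    (hx : IsMax x) : x = closedPoint A := by
  have hle : x ≤ closedPoint A := IsLocalRing.le_maximalIdeal x.2.ne_top
  exact le_antisymm hle (hx hle)

theorem coheight_eq_add_one_of_covBy {A : Type u} [CommRing A] [IsNoetherianRing A]
    [IsLocalRing A] (hcat : CAlg.IsCatenary A) (q P : PrimeSpectrum A) (h : q ⋖ P) :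
    Order.coheight q = Order.coheight P + 1 := by
  obtain ⟨nP, hnP⟩ := ENat.ne_top_iff_exists.mp (Order.coheight_lt_top P).ne
  obtain ⟨nq, hnq⟩ := ENat.ne_top_iff_exists.mp (Order.coheight_lt_top q).ne
  obtain ⟨l, hl_head, hl_len⟩ := Order.exists_series_of_coheight_eq_coe P hnP.symm
  obtain ⟨l', hl'_head, hl'_len⟩ := Order.exists_series_of_coheight_eq_coe q hnq.symm
  obtain ⟨hsat, hmax⟩ := saturated_of_length_eq_coheight_head l
    (by rw [hl_head, hl_len, hnP])
  obtain ⟨hsat', hmax'⟩ := saturated_of_length_eq_coheight_head l'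
    (by rw [hl'_head, hl'_len, hnq])
  have hcov : ∀ i : Fin (l.length + 1),
      (Fin.cons q l.toFun : Fin (l.length + 1 + 1) → PrimeSpectrum A) i.castSucc ⋖
        (Fin.cons q l.toFun : Fin (l.length + 1 + 1) → PrimeSpectrum A) i.succ := by
    intro i
    refine Fin.cases ?_ (fun j => ?_) i
    · rw [Fin.castSucc_zero, Fin.cons_zero, Fin.cons_succ]
      have : l.toFun 0 = P := hl_head
      rw [this]
      exact h
    · rw [← Fin.succ_castSucc, Fin.cons_succ, Fin.cons_succ]
      exact hsat j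
  let s : LTSeries (PrimeSpectrum A) := LTSeries.mk (l.length + 1) (Fin.cons q l.toFun)
    (Fin.strictMono_iff_lt_succ.mpr (fun i => (hcov i).lt))
  have hs_last : s.last = l.last := by
    change (Fin.cons q l.toFun : Fin (l.length + 1 + 1) → PrimeSpectrum A)
      (Fin.last (l.length + 1)) = l.toFun (Fin.last l.length)
    rw [← Fin.succ_last, Fin.cons_succ]
  have hlen := hcat.2 l' s (by rw [hl'_head]; rfl)
    (by rw [hs_last, isMax_eq_closedPoint _ hmax, isMax_eq_closedPoint _ hmax']) hsat' hcov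
  have hlen' : l'.length = l.length + 1 := hlen
  rw [← hnq, ← hnP, ← hl'_len, ← hl_len, hlen']
  push_cast
  rfl

theorem coheight_eq_ringKrullDim_quotient {A : Type u} [CommRing A] (Q : PrimeSpectrum A) :
    (Order.coheight Q : WithBot ℕ∞) = ringKrullDim (A ⧸ Q.asIdeal) := by
  rw [ringKrullDim_quotient, Order.coheight_eq_krullDim_Ici]
  have : PrimeSpectrum.zeroLocus (Q.asIdeal : Set A) = Set.Ici Q := by
    ext P
    simp only [PrimeSpectrum.mem_zeroLocus, SetLike.coe_subset_coe, Set.mem_Ici]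
    rfl
  rw [this]

end Coheight

section Domain

variable {A : Type u} [CommRing A] [IsNoetherianRing A] [IsLocalRing A]

theorem height_le_one_of_covBy_minimal (hcat : CAlg.IsCatenary A) (heq : EGA4.IsEquidim A)
    (q P : PrimeSpectrum A) (hq : q.asIdeal ∈ minimalPrimes A) (h : q ⋖ P) :
    P.asIdeal.height ≤ 1 := by
  have h1' : ((1 : ℕ) : ℕ∞) = 1 := Nat.cast_one
  rw [← h1', Ideal.height_le_iff]
  intro Q hQ hQP
  rw [h1', Order.lt_one_iff, Ideal.height_eq_zero_iff]
  by_contra hcon
  obtain ⟨Q₀, hQ₀, hQ₀Q⟩ := Ideal.exists_minimalPrimes_le (bot_le : (⊥ : Ideal A) ≤ Q)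
  have hQ₀p : Q₀.IsPrime := hQ₀.1.1
  have hlt : Q₀ < Q := lt_of_le_of_ne hQ₀Q (fun h => hcon (h ▸ hQ₀))
  have h1 := Order.coheight_add_one_le
    (show (⟨Q₀, hQ₀p⟩ : PrimeSpectrum A) < ⟨Q, hQ⟩ from hlt)
  have h2 := Order.coheight_add_one_le (show (⟨Q, hQ⟩ : PrimeSpectrum A) < P from hQP)
  have h3 := coheight_eq_add_one_of_covBy hcat q P h
  have h4 : (Order.coheight (⟨Q₀, hQ₀p⟩ : PrimeSpectrum A) : WithBot ℕ∞) ≤ ringKrullDim A :=
    Order.coheight_le_krullDim _
  have h5 : (Order.coheight q : WithBot ℕ∞) = ringKrullDim A := by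
    rw [coheight_eq_ringKrullDim_quotient, heq _ hq]
  rw [← h5] at h4
  have h6 : Order.coheight (⟨Q₀, hQ₀p⟩ : PrimeSpectrum A) ≤ Order.coheight q :=
    WithBot.coe_le_coe.mp h4
  obtain ⟨n, hn⟩ := ENat.ne_top_iff_exists.mp (Order.coheight_lt_top q).ne
  have h7 : Order.coheight q + 1 ≤ Order.coheight q := by
    calc Order.coheight q + 1 = Order.coheight P + 1 + 1 := by rw [h3]
      _ ≤ Order.coheight (⟨Q, hQ⟩ : PrimeSpectrum A) + 1 := by gcongr
      _ ≤ _ := h1
      _ ≤ _ := h6
  rw [← hn] at h7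
  have : n + 1 ≤ n := by exact_mod_cast h7
  omega

omit [IsNoetherianRing A] [IsLocalRing A] in
theorem notMem_minimalPrime_of_mem_nonZeroDivisors {t : A} (hreg : t ∈ nonZeroDivisors A)
    {q : Ideal A} (hq : q ∈ minimalPrimes A) : t ∉ q := fun h =>
  Set.disjoint_left.mp (Ideal.disjoint_nonZeroDivisors_of_mem_minimalPrimes hq) h hreg

theorem minimalPrime_le_of_unique (hcat : CAlg.IsCatenary A) (heq : EGA4.IsEquidim A) (t : A)
    (ht : t ∈ maximalIdeal A) (hreg : t ∈ nonZeroDivisors A) (p : Ideal A) [p.IsPrime]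
    (hp : (Ideal.span {t}).minimalPrimes = {p}) (q : Ideal A) (hq : q ∈ minimalPrimes A) :
    q ≤ p := by
  have hqp : q.IsPrime := hq.1.1
  have htq : t ∉ q := notMem_minimalPrime_of_mem_nonZeroDivisors hreg hq
  have hne : q ⊔ Ideal.span {t} ≠ ⊤ := by
    intro h
    have hle : q ⊔ Ideal.span {t} ≤ maximalIdeal A :=
      sup_le (IsLocalRing.le_maximalIdeal hqp.ne_top)
        ((Ideal.span_singleton_le_iff_mem _).mpr ht)
    rw [h] at hle
    exact (maximalIdeal.isMaximal A).ne_top (top_le_iff.mp hle)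
  obtain ⟨P, hP⟩ := Ideal.nonempty_minimalPrimes hne
  have hPp : P.IsPrime := hP.1.1
  have hcov := covBy_of_mem_minimalPrimes_sup q P t htq hP
  have hht := height_le_one_of_covBy_minimal hcat heq ⟨q, hqp⟩ ⟨P, hPp⟩ hq hcov
  have htP : Ideal.span {t} ≤ P := le_trans le_sup_right hP.1.2
  obtain ⟨p', hp', hp'P⟩ := Ideal.exists_minimalPrimes_le htP
  rw [hp] at hp'
  have hpp' := Set.mem_singleton_iff.mp hp'
  subst hpp'
  have hp'min : p' ∈ (Ideal.span {t}).minimalPrimes := by
    rw [hp]
    exact Set.mem_singleton p'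
  have htp : t ∈ p' := hp'min.1.2 (Ideal.mem_span_singleton_self t)
  have hpP : p' = P := by
    by_contra hne'
    have hlt : p' < P := lt_of_le_of_ne hp'P hne'
    have h1 := Ideal.height_add_one_le_of_lt_of_isPrime hlt
    have h2 : 1 ≤ p'.height := by
      rw [Order.one_le_iff_pos, pos_iff_ne_zero, Ne, Ideal.height_eq_zero_iff]
      intro hpmin
      exact notMem_minimalPrime_of_mem_nonZeroDivisors hreg hpmin htp
    have h3 : (1 : ℕ∞) + 1 ≤ 1 := le_trans (by gcongr) (le_trans h1 hht)
    norm_num at h3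
  rw [hpP]
  exact le_trans le_sup_left hP.1.2

omit [IsLocalRing A] in
theorem isDomain_localization_of_maximalIdeal_eq_span (t : A) (hreg : t ∈ nonZeroDivisors A)
    (p : Ideal A) [p.IsPrime]
    (hgen : maximalIdeal (Localization.AtPrime p) =
      Ideal.span {algebraMap A (Localization.AtPrime p) t}) :
    IsDomain (Localization.AtPrime p) := by
  have hreg' : algebraMap A (Localization.AtPrime p) t ∈
      nonZeroDivisors (Localization.AtPrime p) :=
    IsLocalization.map_nonZeroDivisors_le p.primeCompl _ (Submonoid.mem_map_of_mem _ hreg)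
  have hprime : (Ideal.span {algebraMap A (Localization.AtPrime p) t}).IsPrime :=
    hgen ▸ (maximalIdeal.isMaximal _).isPrime
  have : IsDomain (Localization.AtPrime p ⧸ Ideal.span {algebraMap A (Localization.AtPrime p) t}) :=
    Ideal.Quotient.isDomain _
  exact isDomain_of_quotient_span_singleton _ _ hreg'

theorem isDomain_of_hironaka (hcat : CAlg.IsCatenary A) [IsReduced A] (heq : EGA4.IsEquidim A)
    (t : A) (ht : t ∈ maximalIdeal A) (hreg : t ∈ nonZeroDivisors A) (p : Ideal A) [p.IsPrime]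
    (hp : (Ideal.span {t}).minimalPrimes = {p})
    (hgen : maximalIdeal (Localization.AtPrime p) =
      Ideal.span {algebraMap A (Localization.AtPrime p) t}) : IsDomain A := by
  have hdomp := isDomain_localization_of_maximalIdeal_eq_span t hreg p hgen
  have hkprime : (RingHom.ker (algebraMap A (Localization.AtPrime p))).IsPrime :=
    RingHom.ker_isPrime _
  have hall : ∀ q ∈ minimalPrimes A, q = RingHom.ker (algebraMap A (Localization.AtPrime p)) := by
    intro q hq
    have hqp := minimalPrime_le_of_unique hcat heq t ht hreg p hp q hq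
    have hkq : RingHom.ker (algebraMap A (Localization.AtPrime p)) ≤ q := by
      intro a ha
      rw [RingHom.mem_ker, IsLocalization.map_eq_zero_iff p.primeCompl] at ha
      obtain ⟨m, hm⟩ := ha
      have hmem : (m : A) * a ∈ q := by
        rw [hm]
        exact q.zero_mem
      exact (hq.1.1.mem_or_mem hmem).resolve_left (fun h => m.2 (hqp h))
    exact le_antisymm (hq.2 ⟨hkprime, bot_le⟩ hkq) hkq
  have hk : RingHom.ker (algebraMap A (Localization.AtPrime p)) = ⊥ := by
    rw [eq_bot_iff]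
    intro a ha
    have hnil : a ∈ nilradical A := by
      rw [nilradical_eq_sInf, Ideal.mem_sInf]
      intro J hJ
      have hJp : J.IsPrime := hJ
      obtain ⟨q, hq, hqJ⟩ := Ideal.exists_minimalPrimes_le (bot_le : (⊥ : Ideal A) ≤ J)
      rw [hall q hq] at hqJ
      exact hqJ ha
    exact (IsReduced.eq_zero _ (mem_nilradical.mp hnil))
  have hbot : (⊥ : Ideal A).IsPrime := hk ▸ hkprime
  have : NoZeroDivisors A := ⟨fun {a b} hab => by
    have : a * b ∈ (⊥ : Ideal A) := by rw [hab]; exact Ideal.zero_mem _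
    rcases hbot.mem_or_mem this with h | h
    · exact Or.inl ((Submodule.mem_bot A).mp h)
    · exact Or.inr ((Submodule.mem_bot A).mp h)⟩
  exact NoZeroDivisors.to_isDomain A

end Domain

end Groth.Agent.Lib.Helper56
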