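import Mathlib

set_option autoImplicit false
set_option linter.style.haveILetI false
set_option linter.unusedSectionVars false

universe u

open TensorProduct

namespace Groth.Agent.Lib.Helper56.LftCore

variable {k K B : Type u} [Field k] [Field K] [Algebra k K] [CommRing B] [Algebra k B]

/-- base change of an algebra map along `k → K`. -/
noncomputable abbrev bc {A : Type u} [CommRing A] [Algebra k A] (ψ : A →ₐ[k] B) :
    A ⊗[k] K →ₐ[k] B ⊗[k] K :=
  Algebra.TensorProduct.map ψ (AlgHom.id k K)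

lemma exists_finset_mem_range (x : B ⊗[k] K) :
    ∃ S : Finset B, ∀ (A : Type u) [CommRing A] [Algebra k A] (ψ : A →ₐ[k] B),
      (S : Set B) ⊆ Set.range ψ → x ∈ (bc (K := K) ψ).range := by
  classical
  obtain ⟨S, hS⟩ := TensorProduct.exists_finset x
  refine ⟨S.image Prod.fst, fun A _ _ ψ hψ => ?_⟩
  rw [hS]
  refine Subalgebra.sum_mem _ fun i hi => ?_
  obtain ⟨a, ha⟩ := hψ (by
    simp only [Finset.coe_image, Set.mem_image, Finset.mem_coe]
    exact ⟨i, hi, rfl⟩)
  exact ⟨a ⊗ₜ i.2, by simp [bc, ha]⟩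

/-- the conductor-like ideal `{a | ψ a * b ∈ range ψ}`. -/
def colon {A : Type u} [CommRing A] [Algebra k A] (ψ : A →ₐ[k] B) (b : B) : Ideal A where
  carrier := {a | ∃ c, ψ a * b = ψ c}
  add_mem' := by
    rintro a₁ a₂ ⟨c₁, h₁⟩ ⟨c₂, h₂⟩
    exact ⟨c₁ + c₂, by simp [add_mul, h₁, h₂]⟩
  zero_mem' := ⟨0, by simp⟩
  smul_mem' := by
    rintro r a ⟨c, h⟩
    exact ⟨r * c, by simp [mul_assoc, h]⟩

lemma mem_colon {A : Type u} [CommRing A] [Algebra k A] (ψ : A →ₐ[k] B) (b : B) (a : A) :
    a ∈ colon ψ b ↔ ∃ c, ψ a * b = ψ c := Iff.rfl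

lemma mem_map_colon {A : Type u} [CommRing A] [Algebra k A] (ψ : A →ₐ[k] B) (b : B)
    (z y : A ⊗[k] K) (h : bc ψ z * (b ⊗ₜ[k] (1 : K)) = bc ψ y) :
    z ∈ (colon ψ b).map (algebraMap A (A ⊗[k] K)) := by
  let N : Submodule k B := LinearMap.range ψ.toLinearMap
  let q : B →ₗ[k] B ⧸ N := N.mkQ
  let φ : A →ₗ[k] B ⧸ N := q ∘ₗ (LinearMap.mulRight k b) ∘ₗ ψ.toLinearMap
  have h1 : ∀ w : A ⊗[k] K, (φ.rTensor K) w = (q.rTensor K) (bc ψ w * (b ⊗ₜ[k] (1 : K))) := by
    intro w
    induction w using TensorProduct.induction_on with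
    | zero => simp
    | tmul a c => simp [φ, bc, Algebra.TensorProduct.tmul_mul_tmul]
    | add w₁ w₂ h₁ h₂ => simp only [map_add, add_mul, h₁, h₂]
  have h2 : ∀ w : A ⊗[k] K, (q.rTensor K) (bc ψ w) = 0 := by
    intro w
    induction w using TensorProduct.induction_on with
    | zero => simp
    | tmul a c =>
      have : q (ψ a) = 0 := by
        simp only [q, Submodule.mkQ_apply, Submodule.Quotient.mk_eq_zero]
        exact ⟨a, rfl⟩
      simp [bc, this]
    | add w₁ w₂ h₁ h₂ => simp only [map_add, h₁, h₂, add_zero]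
  have h3 : (φ.rTensor K) z = 0 := by rw [h1, h, h2]
  have hex : Function.Exact ((LinearMap.ker φ).subtype.rTensor K) (φ.rTensor K) :=
    Module.Flat.rTensor_exact K (LinearMap.exact_subtype_ker_map φ)
  obtain ⟨w, rfl⟩ := (hex z).mp h3
  clear h h3
  induction w using TensorProduct.induction_on with
  | zero => simp
  | tmul i c =>
    have hi : (i : A) ∈ colon ψ b := by
      have := i.2
      rw [LinearMap.mem_ker] at this
      simp only [φ, q, LinearMap.coe_comp, Function.comp_apply, Submodule.mkQ_apply,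
        Submodule.Quotient.mk_eq_zero] at this
      obtain ⟨c', hc'⟩ := this
      exact ⟨c', by simpa using hc'.symm⟩
    have : ((LinearMap.ker φ).subtype.rTensor K) (i ⊗ₜ[k] c)
        = algebraMap A (A ⊗[k] K) (i : A) * ((1 : A) ⊗ₜ[k] c) := by
      simp [Algebra.TensorProduct.algebraMap_apply, Algebra.TensorProduct.tmul_mul_tmul]
    rw [this]
    exact Ideal.mul_mem_right _ _ (Ideal.mem_map_of_mem _ hi)
  | add w₁ w₂ h₁ h₂ =>
    rw [map_add]
    exact Ideal.add_mem _ h₁ h₂

theorem core_of_H {A : Type u} [CommRing A] [Algebra k A] [Algebra.FiniteType k A]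
    (ψ : A →ₐ[k] B) (a' : A ⊗[k] K) (q' : Ideal (B ⊗[k] K)) [q'.IsPrime]
    (ha' : bc ψ a' ∉ q')
    (H : ∀ b : B, ∃ (n : ℕ) (y : A ⊗[k] K), (bc ψ a') ^ n * (b ⊗ₜ[k] (1 : K)) = bc ψ y) :
    ∃ g : B, g ⊗ₜ[k] (1 : K) ∉ q' ∧ (algebraMap k (Localization.Away g)).FiniteType := by
  classical
  let P' : Ideal (A ⊗[k] K) := q'.comap (bc ψ).toRingHom
  haveI : P'.IsPrime := Ideal.comap_isPrime _ _
  have haP : a' ∉ P' := ha'
  have hopen := PrimeSpectrum.isOpenMap_comap_algebraMap_tensorProduct_of_field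
    (K := k) (A := A) (B := K)
  let O : Set (PrimeSpectrum A) :=
    PrimeSpectrum.comap (algebraMap A (A ⊗[k] K)) '' (PrimeSpectrum.basicOpen a' : Set _)
  have hO : IsOpen O := hopen _ (PrimeSpectrum.basicOpen a').isOpen
  let p₀ : PrimeSpectrum A := PrimeSpectrum.comap (algebraMap A (A ⊗[k] K)) ⟨P', inferInstance⟩
  have hp₀ : p₀ ∈ O := ⟨⟨P', inferInstance⟩, haP, rfl⟩
  obtain ⟨_, ⟨g₀, rfl⟩, hg₀mem, hg₀sub⟩ :=
    PrimeSpectrum.isTopologicalBasis_basic_opens.exists_subset_of_mem_open hp₀ hO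
  have hrad : ∀ b : B, ∃ N : ℕ, g₀ ^ N ∈ colon ψ b := by
    intro b
    obtain ⟨n, y, hny⟩ := H b
    have hmem : a' ^ n ∈ (colon ψ b).map (algebraMap A (A ⊗[k] K)) :=
      mem_map_colon ψ b (a' ^ n) y (by rw [map_pow]; exact hny)
    have : g₀ ∈ (colon ψ b).radical := by
      rw [Ideal.radical_eq_sInf, Ideal.mem_sInf]
      rintro p ⟨hp, hpp⟩
      by_contra hgp
      have : (⟨p, hpp⟩ : PrimeSpectrum A) ∈ O := hg₀sub hgp
      obtain ⟨P, hP, hPp⟩ := this
      have hle : (colon ψ b).map (algebraMap A (A ⊗[k] K)) ≤ P.asIdeal := by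
        rw [Ideal.map_le_iff_le_comap]
        have : P.asIdeal.comap (algebraMap A (A ⊗[k] K)) = p := by
          have := congrArg PrimeSpectrum.asIdeal hPp
          simpa using this
        rw [this]
        exact hp
      exact hP (P.isPrime.mem_of_pow_mem n (hle hmem))
    exact this
  refine ⟨ψ g₀, ?_, ?_⟩
  · intro hmem
    apply hg₀mem
    show algebraMap A (A ⊗[k] K) g₀ ∈ P'
    show (bc ψ) (algebraMap A (A ⊗[k] K) g₀) ∈ q'
    simpa [bc, Algebra.TensorProduct.algebraMap_apply] using hmem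
  · set g := ψ g₀ with hg
    let χ : A →+* Localization.Away g := (algebraMap B (Localization.Away g)).comp ψ.toRingHom
    have hχ : IsUnit (χ g₀) := IsLocalization.Away.algebraMap_isUnit g
    let Lf : Localization.Away g₀ →+* Localization.Away g :=
      IsLocalization.Away.lift g₀ hχ
    have hLf : ∀ a : A, Lf (algebraMap A (Localization.Away g₀) a) = χ a := fun a =>
      IsLocalization.Away.lift_eq g₀ hχ a
    have hcomp : algebraMap k (Localization.Away g)
        = Lf.comp (algebraMap k (Localization.Away g₀)) := by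
      ext c
      rw [RingHom.comp_apply, IsScalarTower.algebraMap_apply k A (Localization.Away g₀), hLf,
        IsScalarTower.algebraMap_apply k B (Localization.Away g)]
      simp [χ]
    rw [hcomp]
    refine RingHom.FiniteType.comp ?_ ?_
    · refine RingHom.FiniteType.of_surjective _ ?_
      intro z
      obtain ⟨n, b, hnb⟩ := IsLocalization.Away.surj g z
      obtain ⟨N, c, hNc⟩ := hrad b
      set v := IsLocalization.Away.invSelf (S := Localization.Away g₀) g₀ with hv
      have huv : algebraMap A (Localization.Away g₀) g₀ * v = 1 :=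
        IsLocalization.Away.mul_invSelf g₀
      have hgv : algebraMap B (Localization.Away g) g * Lf v = 1 := by
        have : Lf (algebraMap A (Localization.Away g₀) g₀ * v) = 1 := by rw [huv, map_one]
        rw [map_mul, hLf] at this
        exact this
      refine ⟨algebraMap A (Localization.Away g₀) c * v ^ (n + N), ?_⟩
      rw [map_mul, map_pow, hLf]
      have h1 : χ c = z * algebraMap B (Localization.Away g) g ^ (n + N) := by
        show algebraMap B (Localization.Away g) (ψ c) = _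
        rw [← hNc, map_pow, map_mul, map_pow, pow_add, ← mul_assoc, hnb]
        ring
      rw [h1, mul_assoc, ← mul_pow, hgv, one_pow, mul_one]
    · rw [RingHom.finiteType_algebraMap]
      exact Algebra.FiniteType.trans (S := A) inferInstance inferInstance

theorem ring_core (k K B : Type u) [Field k] [Field K] [Algebra k K] [CommRing B] [Algebra k B]
    (f' : B ⊗[k] K) (q' : Ideal (B ⊗[k] K)) [q'.IsPrime] (hf : f' ∉ q')
    (hft : ((algebraMap (B ⊗[k] K) (Localization.Away f')).comp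
      (Algebra.TensorProduct.includeRight : K →ₐ[k] B ⊗[k] K).toRingHom).FiniteType) :
    ∃ g : B, g ⊗ₜ[k] (1 : K) ∉ q' ∧ (algebraMap k (Localization.Away g)).FiniteType := by
  classical
  let R := B ⊗[k] K
  let L := Localization.Away f'
  let θ : K →+* L := (algebraMap R L).comp
    (Algebra.TensorProduct.includeRight : K →ₐ[k] B ⊗[k] K).toRingHom
  letI : Algebra K L := θ.toAlgebra
  have hft' : Algebra.FiniteType K L := hft
  obtain ⟨T, hT⟩ := hft'.out
  have hsurj : ∀ z : L, ∃ (n : ℕ) (r : R), z * algebraMap R L f' ^ n = algebraMap R L r :=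
    fun z => IsLocalization.Away.surj f' z
  choose nz rz hz using hsurj
  choose Sx hSx using (exists_finset_mem_range (k := k) (K := K) (B := B))
  let S : Finset B := Sx f' ∪ T.biUnion (fun t => Sx (rz t))
  let A := Algebra.adjoin k (S : Set B)
  let ψ : A →ₐ[k] B := A.val
  have hSψ : (S : Set B) ⊆ Set.range ψ := fun s hs => ⟨⟨s, Algebra.subset_adjoin hs⟩, rfl⟩
  haveI : Algebra.FiniteType k A := ⟨(Subalgebra.fg_top _).mpr (Subalgebra.fg_adjoin_finset S)⟩
  obtain ⟨a', ha'⟩ := hSx f' A ψ (subset_trans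
    (by intro s hs; exact Finset.mem_coe.mpr (Finset.mem_union_left _ (Finset.mem_coe.mp hs))) hSψ)
  have ha'' : bc ψ a' = f' := ha'
  have key : ∀ z : L, ∃ (n : ℕ) (y : A ⊗[k] K),
      z * algebraMap R L f' ^ n = algebraMap R L (bc ψ y) := by
    intro z
    have hz' : z ∈ Algebra.adjoin K (T : Set L) := hT ▸ Algebra.mem_top
    induction hz' using Algebra.adjoin_induction with
    | mem t ht =>
      obtain ⟨y, hy⟩ := hSx (rz t) A ψ (subset_trans
        (by
          intro s hs
          refine Finset.mem_coe.mpr (Finset.mem_union_right _ ?_)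
          exact Finset.mem_biUnion.mpr ⟨t, Finset.mem_coe.mp ht, Finset.mem_coe.mp hs⟩) hSψ)
      exact ⟨nz t, y, by rw [hz]; congr 1; exact hy.symm⟩
    | algebraMap c =>
      refine ⟨0, (1 : A) ⊗ₜ[k] c, ?_⟩
      rw [pow_zero, mul_one, RingHom.algebraMap_toAlgebra]
      simp [θ, bc, R, L]
    | add x y _ _ hx hy =>
      obtain ⟨n₁, y₁, h₁⟩ := hx
      obtain ⟨n₂, y₂, h₂⟩ := hy
      refine ⟨n₁ + n₂, y₁ * a' ^ n₂ + y₂ * a' ^ n₁, ?_⟩
      rw [map_add, map_mul, map_mul, map_pow, map_pow, ha'', map_add, map_mul, map_mul,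
        ← h₁, ← h₂, map_pow, map_pow, pow_add]
      ring
    | mul x y _ _ hx hy =>
      obtain ⟨n₁, y₁, h₁⟩ := hx
      obtain ⟨n₂, y₂, h₂⟩ := hy
      refine ⟨n₁ + n₂, y₁ * y₂, ?_⟩
      rw [map_mul, map_mul, ← h₁, ← h₂, pow_add]
      ring
  have H : ∀ b : B, ∃ (n : ℕ) (y : A ⊗[k] K),
      (bc ψ a') ^ n * (b ⊗ₜ[k] (1 : K)) = bc ψ y := by
    intro b
    obtain ⟨n, y, h⟩ := key (algebraMap R L (b ⊗ₜ[k] (1 : K)))
    rw [← map_pow, ← map_mul] at h
    obtain ⟨⟨_, m, rfl⟩, hm⟩ := (IsLocalization.eq_iff_exists (Submonoid.powers f') L).mp h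
    refine ⟨m + n, a' ^ m * y, ?_⟩
    rw [map_mul, map_pow, ha'', ← hm, pow_add]
    ring
  exact core_of_H ψ a' q' (by rw [ha'']; exact hf) H

end Groth.Agent.Lib.Helper56.LftCore
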