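import Mathlib
import Groth.Agent.Lib.Helper56.LftCore

set_option autoImplicit false
set_option linter.style.haveILetI false
set_option linter.unusedSectionVars false

universe u

namespace Groth.Agent.Lib.Helper56.LftRC

open TensorProduct in
theorem ring_core (k K B : Type u) [Field k] [Field K] [CommRing B] [Algebra k K] [Algebra k B]
    (f' : K ⊗[k] B) (hft : Algebra.FiniteType K (Localization.Away f'))
    (q' : Ideal (K ⊗[k] B)) [q'.IsPrime] (hf' : f' ∉ q') :
    ∃ g : B, (1 : K) ⊗ₜ[k] g ∉ q' ∧ Algebra.FiniteType k (Localization.Away g) := by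
  classical
  let e : K ⊗[k] B ≃ₐ[k] B ⊗[k] K := Algebra.TensorProduct.comm k K B
  let q'' : Ideal (B ⊗[k] K) := q'.comap e.symm.toRingHom
  haveI : q''.IsPrime := Ideal.comap_isPrime _ _
  have hf'' : e f' ∉ q'' := by
    intro h
    apply hf'
    have : e.symm (e f') ∈ q' := h
    simpa using this
  have hpow : (Submonoid.powers f').map e.toRingEquiv.toMonoidHom = Submonoid.powers (e f') := by
    rw [Submonoid.map_powers]
    rfl
  let E : Localization.Away f' ≃+* Localization.Away (e f') :=
    IsLocalization.ringEquivOfRingEquiv (Localization.Away f') (Localization.Away (e f'))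
      e.toRingEquiv hpow
  have hE : ∀ x : K ⊗[k] B, E (algebraMap _ (Localization.Away f') x)
      = algebraMap _ (Localization.Away (e f')) (e x) := fun x =>
    IsLocalization.ringEquivOfRingEquiv_eq (S := Localization.Away f')
      (Q := Localization.Away (e f')) (j := e.toRingEquiv) hpow x
  have hcomp : ((algebraMap (B ⊗[k] K) (Localization.Away (e f'))).comp
      (Algebra.TensorProduct.includeRight : K →ₐ[k] B ⊗[k] K).toRingHom)
      = E.toRingHom.comp (algebraMap K (Localization.Away f')) := by
    ext c
    rw [RingHom.comp_apply, RingHom.comp_apply,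
      IsScalarTower.algebraMap_apply K (K ⊗[k] B) (Localization.Away f')]
    show _ = E _
    rw [hE]
    congr 1
  have hft'' : ((algebraMap (B ⊗[k] K) (Localization.Away (e f'))).comp
      (Algebra.TensorProduct.includeRight : K →ₐ[k] B ⊗[k] K).toRingHom).FiniteType := by
    rw [hcomp]
    exact RingHom.FiniteType.comp (RingHom.FiniteType.of_surjective _ E.surjective)
      (RingHom.finiteType_algebraMap.mpr hft)
  obtain ⟨g, hg1, hg2⟩ := Groth.Agent.Lib.Helper56.LftCore.ring_core k K B (e f') q'' hf'' hft''
  refine ⟨g, ?_, RingHom.finiteType_algebraMap.mp hg2⟩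
  intro h
  apply hg1
  show e.symm (g ⊗ₜ[k] (1 : K)) ∈ q'
  simpa [e] using h

end Groth.Agent.Lib.Helper56.LftRC
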