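import Mathlib

set_option autoImplicit false
set_option linter.style.haveILetI false
set_option linter.unusedSectionVars false

namespace Groth.Agent.Lib.Helper56.MC

open MvPowerSeries

universe u

variable (k : Type u) [Field k] (n : ℕ)

noncomputable def crossIdeal : Ideal (MvPowerSeries (Fin n) k) :=
  Ideal.span {f | ∃ i j : Fin n, i ≠ j ∧ f = X i * X j}

noncomputable def proj (i : Fin n) : MvPowerSeries (Fin n) k →+* PowerSeries k :=
  (killCompl (R := k) (Function.Embedding.punit i)).toRingHom

theorem coeff_proj (i : Fin n) (m : ℕ) (f : MvPowerSeries (Fin n) k) :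
    PowerSeries.coeff m (proj k n i f) = coeff (Finsupp.single i m) f := by
  show coeff (Finsupp.single () m) (killCompl (Function.Embedding.punit i) f) = _
  rw [coeff_killCompl, Finsupp.embDomain_single]
  rfl

theorem proj_C (i : Fin n) (c : k) : proj k n i (C c) = PowerSeries.C c := by
  show killCompl (Function.Embedding.punit i) (C c) = _
  rw [killCompl_C]
  rfl

theorem proj_X_self (i : Fin n) : proj k n i (X i) = PowerSeries.X := by
  show killCompl (Function.Embedding.punit i) (X ((Function.Embedding.punit i) ())) = _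
  rw [killCompl_X]
  rfl

theorem proj_X_of_ne (i j : Fin n) (h : j ≠ i) : proj k n i (X j) = 0 := by
  show killCompl (Function.Embedding.punit i) (X j) = 0
  apply killCompl_X_eq_zero
  rintro ⟨u, hu⟩
  exact h hu.symm

theorem constantCoeff_proj (i : Fin n) (f : MvPowerSeries (Fin n) k) :
    PowerSeries.constantCoeff (proj k n i f) = constantCoeff f := by
  rw [← PowerSeries.coeff_zero_eq_constantCoeff_apply, coeff_proj, Finsupp.single_zero,
    coeff_zero_eq_constantCoeff_apply]

noncomputable def psi : MvPowerSeries (Fin n) k →+* (Fin n → PowerSeries k) :=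
  RingHom.pi (proj k n)

theorem psi_apply (f : MvPowerSeries (Fin n) k) (i : Fin n) : psi k n f i = proj k n i f := rfl

theorem psi_eq_zero_iff (f : MvPowerSeries (Fin n) k) :
    psi k n f = 0 ↔ ∀ (i : Fin n) (m : ℕ), coeff (Finsupp.single i m) f = 0 := by
  constructor
  · intro h i m
    rw [← coeff_proj, ← psi_apply, h]
    simp
  · intro h
    funext i
    ext m
    rw [psi_apply, coeff_proj, h]
    simp

theorem crossIdeal_le_ker : crossIdeal k n ≤ RingHom.ker (psi k n) := by
  unfold crossIdeal
  rw [Ideal.span_le]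
  rintro f ⟨a, b, hab, rfl⟩
  rw [SetLike.mem_coe, RingHom.mem_ker]
  funext i
  rw [psi_apply, map_mul]
  by_cases ha : a = i
  · have hb : b ≠ i := fun hb => hab (ha.trans hb.symm)
    rw [proj_X_of_ne k n i b hb, mul_zero]
    rfl
  · rw [proj_X_of_ne k n i a ha, zero_mul]
    rfl

theorem X_mul_X_dvd {a b : Fin n} (hab : a ≠ b) (g : MvPowerSeries (Fin n) k)
    (hg : ∀ d : Fin n →₀ ℕ, coeff d g ≠ 0 → d a ≠ 0 ∧ d b ≠ 0) : X a * X b ∣ g := by
  have h1 : X a ∣ g := by
    rw [X_dvd_iff]
    intro m hm
    by_contra hne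
    exact (hg m hne).1 hm
  obtain ⟨h, rfl⟩ := h1
  have h2 : X b ∣ h := by
    rw [X_dvd_iff]
    intro m hm
    by_contra hne
    have h3 : coeff (Finsupp.single a 1 + m) (X a * h) = coeff m h := by
      rw [X, coeff_add_monomial_mul, one_mul]
    have h4 := (hg (Finsupp.single a 1 + m) (by rw [h3]; exact hne)).2
    apply h4
    rw [Finsupp.add_apply, hm, Finsupp.single_apply, if_neg hab, add_zero]
  obtain ⟨h', rfl⟩ := h2
  exact ⟨h', by rw [mul_assoc]⟩

open Classical in
noncomputable def pairOf (hn : 0 < n) (d : Fin n →₀ ℕ) : Fin n × Fin n :=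
  if h : 1 < d.support.card then
    ((Finset.one_lt_card.mp h).choose, (Finset.one_lt_card.mp h).choose_spec.2.choose)
  else (⟨0, hn⟩, ⟨0, hn⟩)

theorem pairOf_spec (hn : 0 < n) (d : Fin n →₀ ℕ) (h : 1 < d.support.card) :
    (pairOf n hn d).1 ≠ (pairOf n hn d).2 ∧ d (pairOf n hn d).1 ≠ 0 ∧ d (pairOf n hn d).2 ≠ 0 := by
  unfold pairOf
  rw [dif_pos h]
  have h1 := (Finset.one_lt_card.mp h).choose_spec.1
  have h2 := (Finset.one_lt_card.mp h).choose_spec.2.choose_spec
  exact ⟨h2.2, Finsupp.mem_support_iff.mp h1, Finsupp.mem_support_iff.mp h2.1⟩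

theorem eq_single_of_card_le_one (hn : 0 < n) (d : Fin n →₀ ℕ) (h : ¬ 1 < d.support.card) :
    ∃ (i : Fin n) (m : ℕ), d = Finsupp.single i m := by
  haveI : Nonempty (Fin n) := ⟨⟨0, hn⟩⟩
  rw [not_lt, Finset.card_le_one_iff_subset_singleton] at h
  obtain ⟨i, hi⟩ := h
  refine ⟨i, d i, ?_⟩
  ext j
  rw [Finsupp.single_apply]
  split_ifs with hij
  · rw [hij]
  · by_contra hne
    have : j ∈ d.support := Finsupp.mem_support_iff.mpr hne
    exact hij (Finset.mem_singleton.mp (hi this)).symm

open Classical in
theorem ker_le_crossIdeal (hn : 0 < n) : RingHom.ker (psi k n) ≤ crossIdeal k n := by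
  intro f hf
  rw [RingHom.mem_ker, psi_eq_zero_iff] at hf
  let F : Fin n × Fin n → MvPowerSeries (Fin n) k := fun p d =>
    if 1 < d.support.card ∧ pairOf n hn d = p then coeff d f else 0
  have hsum : f = ∑ p : Fin n × Fin n, F p := by
    ext d
    rw [map_sum]
    have hc : ∀ p : Fin n × Fin n, coeff d (F p) =
        if pairOf n hn d = p then (if 1 < d.support.card then coeff d f else 0) else 0 := by
      intro p
      show (if 1 < d.support.card ∧ pairOf n hn d = p then coeff d f else 0) = _
      by_cases h1 : 1 < d.support.card <;> by_cases h2 : pairOf n hn d = p <;> simp [h1, h2]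
    simp_rw [hc]
    rw [Finset.sum_ite_eq, if_pos (Finset.mem_univ _)]
    split_ifs with h1
    · rfl
    · obtain ⟨i, m, rfl⟩ := eq_single_of_card_le_one n hn d h1
      exact hf i m
  rw [hsum]
  refine Ideal.sum_mem _ (fun p _ => ?_)
  by_cases hp : p.1 = p.2
  · have : F p = 0 := by
      ext d
      show (if 1 < d.support.card ∧ pairOf n hn d = p then coeff d f else 0) = _
      rw [if_neg, map_zero]
      rintro ⟨h1, h2⟩
      exact (pairOf_spec n hn d h1).1 (by rw [h2]; exact hp)
    rw [this]
    exact Ideal.zero_mem _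
  · have hdvd : X p.1 * X p.2 ∣ F p := by
      apply X_mul_X_dvd k n hp
      intro d hd
      have hd' : (if 1 < d.support.card ∧ pairOf n hn d = p then coeff d f else 0) ≠ 0 := hd
      have hcond : 1 < d.support.card ∧ pairOf n hn d = p := by
        by_contra hc
        rw [if_neg hc] at hd'
        exact hd' rfl
      have := pairOf_spec n hn d hcond.1
      rw [hcond.2] at this
      exact this.2
    obtain ⟨g, hg⟩ := hdvd
    rw [hg]
    exact Ideal.mul_mem_right _ _ (Ideal.subset_span ⟨p.1, p.2, hp, rfl⟩)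

theorem ker_psi (hn : 0 < n) : RingHom.ker (psi k n) = crossIdeal k n :=
  le_antisymm (ker_le_crossIdeal k n hn) (crossIdeal_le_ker k n)

theorem psi_C (c : k) : psi k n (C c) = fun _ => PowerSeries.C c := by
  funext i
  rw [psi_apply, proj_C]

theorem proj_rename_self (j : Fin n) (h : PowerSeries k) :
    proj k n j (rename (Function.Embedding.punit j) h) = h :=
  killCompl_rename_app (e := Function.Embedding.punit j) h

theorem proj_rename_of_ne (i j : Fin n) (hij : i ≠ j) (h : PowerSeries k)
    (h0 : PowerSeries.constantCoeff h = 0) :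
    proj k n j (rename (Function.Embedding.punit i) h) = 0 := by
  ext m
  rw [coeff_proj, map_zero]
  by_cases hm : m = 0
  · rw [hm, Finsupp.single_zero, coeff_zero_eq_constantCoeff_apply, constantCoeff_rename]
    exact h0
  · apply coeff_rename_eq_zero
    rintro ⟨y, hy⟩
    have h1 : (Finsupp.mapDomain (⇑(Function.Embedding.punit i)) y) j =
        (Finsupp.single j m) j := by rw [hy]
    rw [Finsupp.mapDomain_of_notMem_range, Finsupp.single_eq_same] at h1
    · exact hm h1.symm
    · rintro ⟨u, hu⟩
      exact hij hu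

theorem range_psi (hn : 0 < n) :
    Set.range (psi k n) = {f : Fin n → PowerSeries k |
      ∀ i j : Fin n, PowerSeries.constantCoeff (f i) = PowerSeries.constantCoeff (f j)} := by
  ext g
  constructor
  · rintro ⟨f, rfl⟩ i j
    rw [psi_apply, psi_apply, constantCoeff_proj, constantCoeff_proj]
  · intro hg
    set c : k := PowerSeries.constantCoeff (g ⟨0, hn⟩) with hc
    refine ⟨C c + ∑ i : Fin n, rename (Function.Embedding.punit i) (g i - PowerSeries.C c), ?_⟩
    funext j
    rw [psi_apply, map_add, proj_C, map_sum, Finset.sum_eq_single j]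
    · rw [proj_rename_self]
      ring
    · intro i _ hij
      apply proj_rename_of_ne k n i j hij
      rw [map_sub, PowerSeries.constantCoeff_C, hg i ⟨0, hn⟩, sub_self]
    · intro h
      exact absurd (Finset.mem_univ j) h

noncomputable def psiBar : (MvPowerSeries (Fin n) k ⧸ crossIdeal k n) →+* (Fin n → PowerSeries k) :=
  Ideal.Quotient.lift (crossIdeal k n) (psi k n) (fun _ hf => crossIdeal_le_ker k n hf)

theorem psiBar_mk (f : MvPowerSeries (Fin n) k) :
    psiBar k n (Ideal.Quotient.mk (crossIdeal k n) f) = psi k n f := rfl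

theorem psiBar_injective (hn : 0 < n) : Function.Injective (psiBar k n) := by
  rw [injective_iff_map_eq_zero]
  intro x hx
  obtain ⟨f, rfl⟩ := Ideal.Quotient.mk_surjective x
  rw [psiBar_mk] at hx
  rw [Ideal.Quotient.eq_zero_iff_mem, ← ker_psi k n hn, RingHom.mem_ker]
  exact hx

theorem range_psiBar (hn : 0 < n) :
    Set.range (psiBar k n) = {f : Fin n → PowerSeries k |
      ∀ i j : Fin n, PowerSeries.constantCoeff (f i) = PowerSeries.constantCoeff (f j)} := by
  rw [← range_psi k n hn]
  ext g
  constructor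
  · rintro ⟨x, rfl⟩
    obtain ⟨f, rfl⟩ := Ideal.Quotient.mk_surjective x
    exact ⟨f, rfl⟩
  · rintro ⟨f, rfl⟩
    exact ⟨Ideal.Quotient.mk _ f, rfl⟩

theorem psiBar_C (c : k) :
    psiBar k n (Ideal.Quotient.mk (crossIdeal k n) (C c)) = fun _ => PowerSeries.C c := by
  rw [psiBar_mk, psi_C]

end Groth.Agent.Lib.Helper56.MC
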