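import Mathlib

set_option autoImplicit false
set_option linter.style.haveILetI false
set_option linter.unusedSectionVars false

namespace Groth.Agent.Lib.Helper56.MC

universe u

variable {k : Type u} [Field k] {n : ℕ} {R : Type u} [CommRing R]
  (φ : R →+* (Fin n → PowerSeries k))

def IsMulticross : Prop :=
  Function.Injective φ ∧ Set.range φ = {f : Fin n → PowerSeries k |
    ∀ i j : Fin n, PowerSeries.constantCoeff (f i) = PowerSeries.constantCoeff (f j)}

noncomputable def comp (i : Fin n) : R →+* PowerSeries k :=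
  (Pi.evalRingHom (fun _ : Fin n => PowerSeries k) i).comp φ

theorem comp_apply (i : Fin n) (x : R) : comp φ i x = φ x i := rfl

noncomputable def P (i : Fin n) : Ideal R := RingHom.ker (comp φ i)

instance (i : Fin n) : (P φ i).IsPrime := RingHom.ker_isPrime _

theorem mem_P (i : Fin n) (x : R) : x ∈ P φ i ↔ φ x i = 0 := by
  unfold P
  rw [RingHom.mem_ker, comp_apply]

variable {φ}

theorem IsMulticross.exists_single_X (h : IsMulticross φ) (i : Fin n) :
    ∃ x : R, φ x = Pi.single i PowerSeries.X := by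
  have : (Pi.single i PowerSeries.X : Fin n → PowerSeries k) ∈ Set.range φ := by
    rw [h.2]
    intro a b
    have h0 : ∀ c : Fin n, PowerSeries.constantCoeff
        ((Pi.single i PowerSeries.X : Fin n → PowerSeries k) c) = 0 := by
      intro c
      by_cases hc : c = i
      · rw [hc, Pi.single_eq_same, PowerSeries.constantCoeff_X]
      · rw [Pi.single_eq_of_ne hc, map_zero]
    rw [h0, h0]
  exact this

theorem IsMulticross.exists_const (h : IsMulticross φ) (g : PowerSeries k) :
    ∃ x : R, φ x = fun _ => g := by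
  have : (fun _ => g : Fin n → PowerSeries k) ∈ Set.range φ := by
    rw [h.2]
    intro a b
    rfl
  exact this

theorem IsMulticross.eq_of_P_le (h : IsMulticross φ) {i j : Fin n} (hle : P φ j ≤ P φ i) :
    j = i := by
  by_contra hne
  obtain ⟨x, hx⟩ := h.exists_single_X i
  have h1 : x ∈ P φ j := by
    rw [mem_P, hx, Pi.single_eq_of_ne hne]
  have h2 := hle h1
  rw [mem_P, hx, Pi.single_eq_same] at h2
  exact PowerSeries.X_ne_zero h2

theorem IsMulticross.iInf_P (h : IsMulticross φ) : ⨅ i, P φ i = ⊥ := by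
  rw [eq_bot_iff]
  intro x hx
  rw [Ideal.mem_iInf] at hx
  rw [Ideal.mem_bot]
  apply h.1
  rw [map_zero]
  funext i
  exact (mem_P φ i x).mp (hx i)

theorem IsMulticross.exists_P_le (h : IsMulticross φ) (q : Ideal R) [hq : q.IsPrime] :
    ∃ i, P φ i ≤ q := by
  have h1 : Finset.univ.inf (P φ) ≤ q := by
    rw [Finset.inf_univ_eq_iInf, h.iInf_P]
    exact bot_le
  obtain ⟨i, -, hi⟩ := (Ideal.IsPrime.inf_le' hq).mp h1
  exact ⟨i, hi⟩

theorem IsMulticross.minimalPrimes_eq (h : IsMulticross φ) :
    minimalPrimes R = Set.range (P φ) := by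
  ext q
  constructor
  · intro hq
    haveI := hq.1.1
    obtain ⟨i, hi⟩ := h.exists_P_le q
    have := hq.2 ⟨inferInstance, bot_le⟩ hi
    exact ⟨i, le_antisymm hi this⟩
  · rintro ⟨i, rfl⟩
    refine ⟨⟨inferInstance, bot_le⟩, ?_⟩
    rintro q ⟨hq, -⟩ hle
    obtain ⟨j, hj⟩ := h.exists_P_le q
    have := h.eq_of_P_le (hj.trans hle)
    rw [this] at hj
    exact hj

theorem IsMulticross.card_minimalPrimes (h : IsMulticross φ) :
    ENat.card (minimalPrimes R) = n := by
  have hinj : Function.Injective (P φ) := by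
    intro i j hij
    exact h.eq_of_P_le hij.le
  rw [h.minimalPrimes_eq, ENat.card_congr (Equiv.ofInjective (P φ) hinj).symm]
  simp

theorem IsMulticross.comp_ringEquiv {R' : Type u} [CommRing R'] (h : IsMulticross φ)
    (e : R' ≃+* R) : IsMulticross (φ.comp (e : R' →+* R)) := by
  refine ⟨h.1.comp e.injective, ?_⟩
  rw [← h.2]
  ext g
  constructor
  · rintro ⟨x, rfl⟩
    exact ⟨e x, rfl⟩
  · rintro ⟨x, rfl⟩
    exact ⟨e.symm x, by simp⟩

end Groth.Agent.Lib.Helper56.MC
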