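import Mathlib
import Groth.Prelude.Def_Curv2
import Groth.Agent.Lib.Helper52.NormalTotal
import Groth.Agent.Lib.Helper57.NormalRing
import Groth.Agent.Lib.Helper56.MC2

set_option autoImplicit false
set_option linter.style.haveILetI false
set_option linter.unusedSectionVars false

namespace Groth.Agent.Lib.Helper56.MC

universe u

section FR

variable (R S : Type u) [CommRing R] [CommRing S] [Algebra R S]

theorem algebraMap_mem_nonZeroDivisors_of_conductor
    (hinj : Function.Injective (algebraMap R S)) (s : R)
    (hs : algebraMap R S s ∈ nonZeroDivisors S)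
    (hsS : ∀ x : S, ∃ r : R, algebraMap R S r = algebraMap R S s * x)
    (r : R) (hr : r ∈ nonZeroDivisors R) : algebraMap R S r ∈ nonZeroDivisors S := by
  rw [mem_nonZeroDivisors_iff_right]
  intro x hx
  obtain ⟨r', hr'⟩ := hsS x
  have h1 : algebraMap R S (r' * r) = 0 := by
    rw [map_mul, hr', mul_assoc, hx, mul_zero]
  have h2 : r' * r = 0 := hinj (by rw [h1, map_zero])
  have h3 : r' = 0 := (mem_nonZeroDivisors_iff_right.mp hr) _ h2
  rw [h3, map_zero] at hr'
  have := (mem_nonZeroDivisors_iff_right.mp hs) x (by rw [mul_comm]; exact hr'.symm)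
  exact this

theorem exists_algHom_integralClosure
    (hinj : Function.Injective (algebraMap R S)) (s : R)
    (hs : algebraMap R S s ∈ nonZeroDivisors S)
    (hsS : ∀ x : S, ∃ r : R, algebraMap R S r = algebraMap R S s * x)
    (hic : IsIntegrallyClosedIn S (FractionRing S)) :
    ∃ θ : integralClosure R (FractionRing R) →ₐ[R] S, Function.Injective θ := by
  have hSF : Function.Injective (algebraMap S (FractionRing S)) :=
    IsFractionRing.injective S (FractionRing S)
  haveI : IsFractionRing R (FractionRing S) := by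
    refine ⟨?_, ?_, ?_⟩
    · rintro ⟨r, hr⟩
      have h1 := algebraMap_mem_nonZeroDivisors_of_conductor R S hinj s hs hsS r hr
      rw [IsScalarTower.algebraMap_apply R S (FractionRing S)]
      exact IsLocalization.map_units (FractionRing S) (⟨_, h1⟩ : nonZeroDivisors S)
    · intro z
      obtain ⟨x, y, rfl⟩ := IsLocalization.exists_mk'_eq (nonZeroDivisors S) z
      obtain ⟨rx, hrx⟩ := hsS x
      obtain ⟨ry, hry⟩ := hsS y
      have hsy : algebraMap R S s * (y : S) ∈ nonZeroDivisors S := mul_mem hs y.2
      have hry' : ry ∈ nonZeroDivisors R := by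
        rw [mem_nonZeroDivisors_iff_right]
        intro a ha
        have h1 : algebraMap R S a * (algebraMap R S s * (y : S)) = 0 := by
          rw [← hry, ← map_mul, ha, map_zero]
        have h2 := (mem_nonZeroDivisors_iff_right.mp hsy) _ h1
        exact hinj (by rw [h2, map_zero])
      refine ⟨(rx, ⟨ry, hry'⟩), ?_⟩
      simp only
      rw [IsScalarTower.algebraMap_apply R S (FractionRing S),
        IsScalarTower.algebraMap_apply R S (FractionRing S), hrx, hry, map_mul, map_mul]
      rw [mul_left_comm, IsLocalization.mk'_spec]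
    · intro x y hxy
      refine ⟨1, ?_⟩
      rw [IsScalarTower.algebraMap_apply R S (FractionRing S),
        IsScalarTower.algebraMap_apply R S (FractionRing S)] at hxy
      rw [hinj (hSF hxy)]
  let e₁ : FractionRing R ≃ₐ[R] FractionRing S :=
    IsLocalization.algEquiv (nonZeroDivisors R) (FractionRing R) (FractionRing S)
  let θ₁ : integralClosure R (FractionRing R) →ₐ[R] FractionRing S :=
    (e₁ : FractionRing R →ₐ[R] FractionRing S).comp (integralClosure R (FractionRing R)).val
  have hθ₁ : Function.Injective θ₁ := e₁.injective.comp Subtype.val_injective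
  have hrange : ∀ z, θ₁ z ∈ (IsScalarTower.toAlgHom R S (FractionRing S)).range := by
    intro z
    have h1 : IsIntegral R (θ₁ z) := z.2.map (e₁ : FractionRing R →ₐ[R] FractionRing S)
    have h2 : IsIntegral S (θ₁ z) := IsIntegral.tower_top h1
    obtain ⟨c, hc⟩ := (isIntegrallyClosedIn_iff.mp hic).2 h2
    exact ⟨c, hc⟩
  let θ₂ : integralClosure R (FractionRing R) →ₐ[R]
      (IsScalarTower.toAlgHom R S (FractionRing S)).range := θ₁.codRestrict _ hrange
  have hθ₂ : Function.Injective θ₂ := by
    intro a b hab
    apply hθ₁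
    exact congrArg Subtype.val hab
  let σ : S ≃ₐ[R] (IsScalarTower.toAlgHom R S (FractionRing S)).range :=
    AlgEquiv.ofInjective (IsScalarTower.toAlgHom R S (FractionRing S)) hSF
  refine ⟨(σ.symm : _ →ₐ[R] S).comp θ₂, ?_⟩
  intro a b hab
  apply hθ₂
  apply σ.symm.injective
  exact hab

theorem deltaInv_le_length
    (hinj : Function.Injective (algebraMap R S)) (s : R)
    (hs : algebraMap R S s ∈ nonZeroDivisors S)
    (hsS : ∀ x : S, ∃ r : R, algebraMap R S r = algebraMap R S s * x)
    (hic : IsIntegrallyClosedIn S (FractionRing S)) :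
    Curv2.deltaInv R ≤ Module.length R (S ⧸ LinearMap.range (Algebra.linearMap R S)) := by
  obtain ⟨θ, hθ⟩ := exists_algHom_integralClosure R S hinj s hs hsS hic
  unfold Curv2.deltaInv
  have hle : LinearMap.range (Algebra.linearMap R (integralClosure R (FractionRing R))) ≤
      (LinearMap.range (Algebra.linearMap R S)).comap θ.toLinearMap := by
    rintro _ ⟨b, rfl⟩
    refine ⟨b, ?_⟩
    simp only [Algebra.linearMap_apply, AlgHom.toLinearMap_apply, AlgHom.commutes]
  let q := Submodule.mapQ _ _ θ.toLinearMap hle
  refine Module.length_le_of_injective q ?_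
  rw [← LinearMap.ker_eq_bot, LinearMap.ker_eq_bot']
  intro x hx
  obtain ⟨z, rfl⟩ := Submodule.Quotient.mk_surjective _ x
  have h1 : θ z ∈ LinearMap.range (Algebra.linearMap R S) := by
    have : q (Submodule.Quotient.mk z) = Submodule.Quotient.mk (θ z) := rfl
    rw [this, Submodule.Quotient.mk_eq_zero] at hx
    exact hx
  obtain ⟨b, hb⟩ := h1
  rw [Submodule.Quotient.mk_eq_zero]
  refine ⟨b, ?_⟩
  apply hθ
  rw [← hb]
  simp only [Algebra.linearMap_apply, AlgHom.commutes]

end FR

section Pi

variable (k : Type u) [Field k] (n : ℕ)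

theorem isIntegrallyClosedIn_pi :
    IsIntegrallyClosedIn (Fin n → PowerSeries k) (FractionRing (Fin n → PowerSeries k)) := by
  have h1 : EGA4.IsNormalRing (ULift.{u} (Fin n) → PowerSeries k) :=
    Groth.Agent.Lib.Helper57.isNormalRing_pi (fun _ : ULift.{u} (Fin n) => PowerSeries k)
      (fun _ => Groth.Agent.Lib.Helper57.isNormalRing_of_isIntegrallyClosed (PowerSeries k))
  let e : (ULift.{u} (Fin n) → PowerSeries k) ≃+* (Fin n → PowerSeries k) :=
    RingEquiv.piCongrLeft (fun _ => PowerSeries k) Equiv.ulift
  have h2 : EGA4.IsNormalRing (Fin n → PowerSeries k) :=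
    Groth.Agent.Lib.Helper57.isNormalRing_of_ringEquiv e h1
  have hfin : (minimalPrimes (Fin n → PowerSeries k)).Finite :=
    minimalPrimes.finite_of_isNoetherianRing _
  exact (Groth.Agent.Lib.Helper52.NormalTotal.main hfin).mp h2

end Pi

section Bound

variable {k : Type u} [Field k] {n' : ℕ} {R : Type u} [CommRing R]
  {φ : R →+* (Fin (n' + 1) → PowerSeries k)}

theorem IsMulticross.mem_range (h : IsMulticross φ) (f : Fin (n' + 1) → PowerSeries k)
    (hf : ∀ i j, PowerSeries.constantCoeff (f i) = PowerSeries.constantCoeff (f j)) :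
    ∃ r : R, φ r = f := by
  have : f ∈ Set.range φ := by rw [h.2]; exact hf
  exact this

theorem IsMulticross.constantCoeff_eq (h : IsMulticross φ) (r : R) (i j : Fin (n' + 1)) :
    PowerSeries.constantCoeff (φ r i) = PowerSeries.constantCoeff (φ r j) := by
  have : φ r ∈ Set.range φ := ⟨r, rfl⟩
  rw [h.2] at this
  exact this i j

theorem IsMulticross.length_le (h : IsMulticross φ) :
    letI : Algebra R (Fin (n' + 1) → PowerSeries k) := φ.toAlgebra
    Module.length R ((Fin (n' + 1) → PowerSeries k) ⧸
      LinearMap.range (Algebra.linearMap R (Fin (n' + 1) → PowerSeries k))) ≤ n' := by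
  letI : Algebra R (Fin (n' + 1) → PowerSeries k) := φ.toAlgebra
  have halg : ∀ r : R, algebraMap R (Fin (n' + 1) → PowerSeries k) r = φ r := fun _ => rfl
  let ε : R →+* k := (PowerSeries.constantCoeff (R := k)).comp (comp φ 0)
  have hε : Function.Surjective ε := by
    intro c
    obtain ⟨r, hr⟩ := h.exists_const (PowerSeries.C c)
    refine ⟨r, ?_⟩
    show PowerSeries.constantCoeff (φ r 0) = c
    rw [hr, PowerSeries.constantCoeff_C]
  set 𝔪 : Ideal R := RingHom.ker ε with h𝔪
  haveI : 𝔪.IsMaximal := RingHom.ker_isMaximal_of_surjective ε hε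
  set N := LinearMap.range (Algebra.linearMap R (Fin (n' + 1) → PowerSeries k)) with hN
  have hmemN : ∀ f : Fin (n' + 1) → PowerSeries k,
      (∀ i j, PowerSeries.constantCoeff (f i) = PowerSeries.constantCoeff (f j)) → f ∈ N := by
    intro f hf
    obtain ⟨r, hr⟩ := h.mem_range f hf
    exact ⟨r, hr⟩
  let q : Fin n' → (Fin (n' + 1) → PowerSeries k) ⧸ N := fun i =>
    Submodule.Quotient.mk (Pi.single (Fin.castSucc i) 1)
  have hq : ∀ i, 𝔪 ≤ LinearMap.ker (LinearMap.toSpanSingleton R _ (q i)) := by
    intro i a ha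
    rw [LinearMap.mem_ker, LinearMap.toSpanSingleton_apply]
    show a • Submodule.Quotient.mk _ = 0
    rw [← Submodule.Quotient.mk_smul, Submodule.Quotient.mk_eq_zero]
    apply hmemN
    have ha0 : ∀ j, PowerSeries.constantCoeff (φ a j) = 0 := by
      intro j
      rw [h.constantCoeff_eq a j 0]
      exact ha
    have h0 : ∀ j, PowerSeries.constantCoeff
        ((a • (Pi.single (Fin.castSucc i) 1 : Fin (n' + 1) → PowerSeries k)) j) = 0 := by
      intro j
      rw [Algebra.smul_def, halg, Pi.mul_apply, map_mul, ha0, zero_mul]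
    intro i j
    rw [h0, h0]
  let l : Fin n' → (R ⧸ 𝔪) →ₗ[R] (Fin (n' + 1) → PowerSeries k) ⧸ N := fun i =>
    Submodule.liftQ 𝔪 (LinearMap.toSpanSingleton R _ (q i)) (hq i)
  let g : (Fin n' → R ⧸ 𝔪) →ₗ[R] (Fin (n' + 1) → PowerSeries k) ⧸ N :=
    ∑ i, (l i).comp (LinearMap.proj i)
  have hg : Function.Surjective g := by
    intro x
    obtain ⟨f, rfl⟩ := Submodule.Quotient.mk_surjective _ x
    have hex : ∀ i : Fin n', ∃ a : R, φ a = fun _ => PowerSeries.C
        (PowerSeries.constantCoeff (f (Fin.castSucc i)) -
          PowerSeries.constantCoeff (f (Fin.last n'))) := fun i => h.exists_const _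
    choose a ha using hex
    refine ⟨fun i => Ideal.Quotient.mk 𝔪 (a i), ?_⟩
    have hgv : g (fun i => Ideal.Quotient.mk 𝔪 (a i)) = ∑ i, a i • q i := by
      show (∑ i, (l i).comp (LinearMap.proj i)) (fun i => Ideal.Quotient.mk 𝔪 (a i)) = _
      rw [LinearMap.sum_apply]
      refine Finset.sum_congr rfl (fun i _ => ?_)
      show Submodule.liftQ 𝔪 (LinearMap.toSpanSingleton R _ (q i)) (hq i)
        (Submodule.Quotient.mk (a i)) = _
      rw [Submodule.liftQ_apply, LinearMap.toSpanSingleton_apply]
    rw [hgv]
    have hsum : (∑ i, a i • q i) = Submodule.Quotient.mk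
        (∑ i, a i • (Pi.single (Fin.castSucc i) 1 : Fin (n' + 1) → PowerSeries k)) := by
      rw [← Submodule.mkQ_apply, map_sum]
      exact Finset.sum_congr rfl (fun i _ => rfl)
    rw [hsum, eq_comm, ← sub_eq_zero, ← Submodule.Quotient.mk_sub, Submodule.Quotient.mk_eq_zero]
    apply hmemN
    have hval : ∀ j : Fin (n' + 1), PowerSeries.constantCoeff
        ((f - ∑ i, a i • (Pi.single (Fin.castSucc i) 1 : Fin (n' + 1) → PowerSeries k)) j) =
        PowerSeries.constantCoeff (f (Fin.last n')) := by
      intro j
      rw [Pi.sub_apply, Finset.sum_apply, map_sub, map_sum]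
      have hterm : ∀ i : Fin n', PowerSeries.constantCoeff
          ((a i • (Pi.single (Fin.castSucc i) 1 : Fin (n' + 1) → PowerSeries k)) j) =
          if j = Fin.castSucc i then PowerSeries.constantCoeff (f (Fin.castSucc i)) -
            PowerSeries.constantCoeff (f (Fin.last n')) else 0 := by
        intro i
        rw [Algebra.smul_def, halg, Pi.mul_apply, ha i, map_mul, PowerSeries.constantCoeff_C]
        split_ifs with hj
        · rw [hj, Pi.single_eq_same, map_one, mul_one]
        · rw [Pi.single_eq_of_ne hj, map_zero, mul_zero]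
      simp_rw [hterm]
      induction j using Fin.lastCases with
      | last =>
        rw [Finset.sum_eq_zero, sub_zero]
        intro i _
        rw [if_neg]
        exact (Fin.castSucc_lt_last i).ne'
      | cast j =>
        rw [Finset.sum_eq_single j]
        · rw [if_pos rfl]
          ring
        · intro i _ hij
          rw [if_neg]
          intro hc
          exact hij (Fin.castSucc_injective _ hc).symm
        · intro hc
          exact absurd (Finset.mem_univ j) hc
    intro i j
    rw [hval, hval]
  have h1 := Module.length_le_of_surjective g hg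
  have h2 : Module.length R (R ⧸ 𝔪) = 1 := by
    have : IsSimpleModule R (R ⧸ 𝔪) :=
      isSimpleModule_iff_quot_maximal.mpr ⟨𝔪, inferInstance, ⟨LinearEquiv.refl _ _⟩⟩
    exact Module.length_eq_one R _
  rw [Module.length_pi, h2, mul_one] at h1
  simpa using h1

theorem IsMulticross.deltaInv_le (h : IsMulticross φ) : Curv2.deltaInv R ≤ n' := by
  letI : Algebra R (Fin (n' + 1) → PowerSeries k) := φ.toAlgebra
  have halg : ∀ r : R, algebraMap R (Fin (n' + 1) → PowerSeries k) r = φ r := fun _ => rfl
  obtain ⟨s, hs⟩ := h.exists_const (PowerSeries.X : PowerSeries k)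
  refine le_trans (deltaInv_le_length R (Fin (n' + 1) → PowerSeries k) h.1 s ?_ ?_
    (isIntegrallyClosedIn_pi k (n' + 1))) h.length_le
  · rw [mem_nonZeroDivisors_iff_right]
    intro x hx
    funext i
    have h1 : x i * PowerSeries.X = 0 := by
      have := congrFun hx i
      rw [halg, hs] at this
      exact this
    exact (mul_eq_zero.mp h1).resolve_right PowerSeries.X_ne_zero
  · intro x
    apply h.mem_range
    have h0 : ∀ j, PowerSeries.constantCoeff
        ((algebraMap R (Fin (n' + 1) → PowerSeries k) s * x) j) = 0 := by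
      intro j
      rw [halg, hs, Pi.mul_apply, map_mul, PowerSeries.constantCoeff_X, zero_mul]
    intro i j
    rw [h0, h0]

end Bound

end Groth.Agent.Lib.Helper56.MC
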