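import Mathlib
import Groth.Prelude.Def_Brnch
import Groth.Agent.Lib.Helper56.BranchCpl3
import Groth.Agent.Lib.Helper56.DeltaMain2
import Groth.Agent.Lib.Helper38.NagataFT1

set_option autoImplicit false
set_option linter.style.haveILetI false
set_option linter.unusedSectionVars false

namespace Groth.Agent.Lib.Helper56.MC

open IsLocalRing TensorProduct

universe u

section DimOne

variable (A : Type u) [CommRing A] [IsLocalRing A] [IsReduced A]

theorem isNormalRing_cpl_tensor (hN : CAlg.IsNagata A) (hdim : ringKrullDim A = 1) :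
    haveI : IsNoetherianRing A := hN.1
    EGA4.IsNormalRing
      (AdicCompletion (maximalIdeal A) A ⊗[A] integralClosure A (FractionRing A)) := by
  haveI : IsNoetherianRing A := hN.1
  haveI : IsNoetherianRing (AdicCompletion (maximalIdeal A) A) :=
    Groth.Agent.S0543.result A _
  have hbij : Function.Bijective
      (ResidueField.map (algebraMap A (AdicCompletion (maximalIdeal A) A))) := by
    refine ⟨(ResidueField.map _).injective, ?_⟩
    intro y
    obtain ⟨x, rfl⟩ := residue_surjective y
    obtain ⟨r, hr⟩ := Groth.Agent.Lib.Helper52.NormCount.exists_sub_mem_maximalIdeal A x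
    refine ⟨residue A r, ?_⟩
    rw [ResidueField.map_residue, eq_comm, ← sub_eq_zero, ← map_sub, residue_eq_zero_iff]
    exact hr
  haveI : Algebra.IsSeparable (ResidueField A)
      (ResidueField (AdicCompletion (maximalIdeal A) A)) :=
    Groth.Agent.Lib.Helper56.DeltaRes.isSeparable_of_bijective A _ hbij
  have hm : (maximalIdeal A).map (algebraMap A (AdicCompletion (maximalIdeal A) A)) =
      maximalIdeal (AdicCompletion (maximalIdeal A) A) :=
    AdicCompletion.maximalIdeal_eq_map.symm
  haveI hfin : Module.Finite A (integralClosure A (FractionRing A)) :=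
    Groth.Agent.Lib.Helper56.DeltaMain.finite_integralClosure A hN
  have hR : ∀ (M : Ideal (integralClosure A (FractionRing A))) [M.IsMaximal],
      IsReduced (AdicCompletion (maximalIdeal A) A ⊗[A]
        (integralClosure A (FractionRing A) ⧸ M)) := by
    intro M hM
    haveI : M.LiesOver (maximalIdeal A) :=
      ⟨(Groth.Agent.Lib.Helper52.NormCountB.comap_isMaximal A M).symm⟩
    letI : Field (integralClosure A (FractionRing A) ⧸ M) := Ideal.Quotient.field M
    letI : Algebra (ResidueField A) (integralClosure A (FractionRing A) ⧸ M) :=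
      Ideal.Quotient.algebraOfLiesOver M (maximalIdeal A)
    haveI : IsScalarTower A (ResidueField A) (integralClosure A (FractionRing A) ⧸ M) :=
      Ideal.Quotient.isScalarTower_of_liesOver A M (maximalIdeal A)
    exact Groth.Agent.Lib.Helper56.DeltaRes.isReduced_tensor_of_residue_separable A
      (AdicCompletion (maximalIdeal A) A) hm (integralClosure A (FractionRing A) ⧸ M)
  exact Groth.Agent.Lib.Helper56.DeltaNormal.isNormalRing_tensor A
    (AdicCompletion (maximalIdeal A) A) hdim hm hR

theorem ncard_isMaximal_eq_ncard_minimalPrimes_cpl (hN : CAlg.IsNagata A)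
    (hdim : ringKrullDim A = 1) :
    {P : Ideal (integralClosure A (FractionRing A)) | P.IsMaximal}.ncard =
      (minimalPrimes (AdicCompletion (maximalIdeal A) A)).ncard := by
  haveI : IsNoetherianRing A := hN.1
  haveI hfin : Module.Finite A (integralClosure A (FractionRing A)) :=
    Groth.Agent.Lib.Helper56.DeltaMain.finite_integralClosure A hN
  have hC := isNormalRing_cpl_tensor A hN hdim
  rw [← Groth.Agent.Lib.Helper52.NormCount.ncard_minimalPrimes_C A,
    Groth.Agent.Lib.Helper52.MinPrimesCount.ncard_minimalPrimes_eq_ncard_isMaximal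
      (fun N hN => (hC N).1)
      (fun Q hQ N N' hN hN' h1 h2 => by
        have := hQ.1.1
        exact Groth.Agent.Lib.Helper52.NormCount.unique_maximal A Q N N' hN hN' h1 h2)]
  exact (Groth.Agent.Lib.Helper52.MinPrimesCount.ncard_isMaximal_eq
    (Groth.Agent.Lib.Helper52.NormCount.ι A) _
    (Groth.Agent.Lib.Helper52.NormCount.dense A)
    (Groth.Agent.Lib.Helper52.NormCount.map_le_of_isMaximal A)
    (Groth.Agent.Lib.Helper52.NormCount.comap_ι_isMaximal A)
    (Groth.Agent.Lib.Helper52.NormCount.exists_lift A)).symm

theorem numBranches_eq_card (hN : CAlg.IsNagata A) (hdim : ringKrullDim A = 1) :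
    Brnch.numBranches A = ENat.card (minimalPrimes (AdicCompletion (maximalIdeal A) A)) := by
  haveI : IsNoetherianRing A := hN.1
  haveI := Groth.Agent.Lib.Helper56.BranchCpl.nontrivial_red A
  haveI := Groth.Agent.Lib.Helper56.DeltaMain.isLocalRing_red A
  haveI : IsReduced (CAlg2.red A) :=
    (Ideal.isRadical_iff_quotient_reduced _).mp (Ideal.radical_isRadical ⊥)
  have hND : CAlg.IsNagata (CAlg2.red A) :=
    Groth.Agent.Lib.Helper38.NagataFT1.isNagata_of_surjective (Ideal.Quotient.mk (nilradical A))
      Ideal.Quotient.mk_surjective hN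
  haveI : IsNoetherianRing (CAlg2.red A) := hND.1
  have hbot : nilradical A = ⊥ := nilradical_eq_zero A
  have hdimD : ringKrullDim (CAlg2.red A) = 1 := by
    rw [← hdim]
    exact ringKrullDim_eq_of_ringEquiv
      ((Ideal.quotEquivOfEq hbot).trans (RingEquiv.quotientBot A))
  haveI hfin : Module.Finite (CAlg2.red A) (CAlg2.normRed A) :=
    Groth.Agent.Lib.Helper56.DeltaMain.finite_integralClosure (CAlg2.red A) hND
  haveI : Finite (MaximalSpectrum (CAlg2.normRed A)) :=
    Groth.Agent.Lib.Helper56.BranchCpl.finite_maximalSpectrum_of_finite (CAlg2.red A)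
      (CAlg2.normRed A)
  have h1 := ncard_isMaximal_eq_ncard_minimalPrimes_cpl (CAlg2.red A) hND hdimD
  have hNcpl : IsNoetherianRing (AdicCompletion (maximalIdeal (CAlg2.red A)) (CAlg2.red A)) :=
    Groth.Agent.S0543.result _ _
  have hfinA : (minimalPrimes A).Finite := minimalPrimes.finite_of_isNoetherianRing A
  rw [← Groth.Agent.Lib.Helper56.BranchCpl.card_minimalPrimes_cpl_red]
  unfold Brnch.numBranches
  rw [if_pos hfinA, Groth.Agent.Lib.Helper56.BranchCpl.card_maximalSpectrum_eq_ncard, h1,
    (minimalPrimes.finite_of_isNoetherianRing _).cast_ncard_eq]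
  rfl

end DimOne

end Groth.Agent.Lib.Helper56.MC
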