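import Mathlib

set_option autoImplicit false
set_option linter.style.haveILetI false
set_option linter.unusedSectionVars false

namespace Groth.Agent.Lib.Helper56.Multi

open PowerSeries

universe u

section Cpl

variable {k : Type u} [Field k] {A : Type u} [CommRing A] (I : Ideal A) (κ : k →+* A)
  {ι : Type} (ψ : ι → A →+* PowerSeries k)

theorem eq_of_forall_dvd {g g' : PowerSeries k}
    (h : ∀ M : ℕ, (X : PowerSeries k) ^ M ∣ g - g') : g = g' := by
  rw [← sub_eq_zero]
  ext m
  rw [map_zero]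
  exact (PowerSeries.X_pow_dvd_iff.mp (h (m + 1))) m (Nat.lt_succ_self m)

variable (h5 : ∀ a ∈ I, ∀ i, (X : PowerSeries k) ∣ ψ i a)

include h5 in
theorem dvd_of_mem_pow (i : ι) (N : ℕ) (a : A) (ha : a ∈ I ^ N) :
    (X : PowerSeries k) ^ N ∣ ψ i a := by
  have hle : I ≤ (Ideal.span {(X : PowerSeries k)}).comap (ψ i) :=
    fun a ha => Ideal.mem_span_singleton.mpr (h5 a ha i)
  have h' := (Ideal.pow_right_mono hle N).trans (Ideal.le_comap_pow (ψ i) N)
  have := h' ha
  rw [Ideal.mem_comap, Ideal.span_singleton_pow, Ideal.mem_span_singleton] at this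
  exact this

noncomputable def lim (s : AdicCompletion.AdicCauchySequence I A) (i : ι) : PowerSeries k :=
  PowerSeries.mk fun N => coeff N (ψ i (s (N + 1)))

theorem sub_mem_pow (s : AdicCompletion.AdicCauchySequence I A) {m n : ℕ} (hmn : m ≤ n) :
    s m - s n ∈ I ^ m := by
  have h := SModEq.sub_mem.mp (s.property hmn)
  rwa [smul_eq_mul, Ideal.mul_top] at h

include h5 in
theorem lim_spec (s : AdicCompletion.AdicCauchySequence I A) (i : ι) (M : ℕ) :
    (X : PowerSeries k) ^ M ∣ lim I ψ s i - ψ i (s M) := by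
  rw [PowerSeries.X_pow_dvd_iff]
  intro m hm
  have hmem : s (m + 1) - s M ∈ I ^ (m + 1) := sub_mem_pow I s hm
  have hd := dvd_of_mem_pow I ψ h5 i (m + 1) _ hmem
  rw [PowerSeries.X_pow_dvd_iff] at hd
  have := hd m (Nat.lt_succ_self m)
  rw [map_sub, map_sub] at this
  rw [map_sub, lim, coeff_mk]
  exact this

include h5 in
theorem lim_eq (s : AdicCompletion.AdicCauchySequence I A) (i : ι) (g : PowerSeries k)
    (h : ∀ M : ℕ, (X : PowerSeries k) ^ M ∣ g - ψ i (s M)) : lim I ψ s i = g := by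
  apply eq_of_forall_dvd
  intro M
  have := dvd_sub (lim_spec I ψ h5 s i M) (h M)
  rwa [sub_sub_sub_cancel_right] at this

noncomputable def limHom : AdicCompletion.AdicCauchySequence I A →+* (ι → PowerSeries k) where
  toFun s i := lim I ψ s i
  map_one' := by
    funext i
    apply lim_eq I ψ h5
    intro M
    have : ψ i ((1 : AdicCompletion.AdicCauchySequence I A) M) = 1 := map_one _
    rw [Pi.one_apply, this, sub_self]
    exact dvd_zero _
  map_mul' s t := by
    funext i
    apply lim_eq I ψ h5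
    intro M
    have h1 : ψ i ((s * t) M) = ψ i (s M) * ψ i (t M) := map_mul _ _ _
    rw [Pi.mul_apply, h1]
    have e : lim I ψ s i * lim I ψ t i - ψ i (s M) * ψ i (t M) =
        (lim I ψ s i - ψ i (s M)) * lim I ψ t i + ψ i (s M) * (lim I ψ t i - ψ i (t M)) := by ring
    rw [e]
    exact dvd_add (Dvd.dvd.mul_right (lim_spec I ψ h5 s i M) _)
      (Dvd.dvd.mul_left (lim_spec I ψ h5 t i M) _)
  map_zero' := by
    funext i
    apply lim_eq I ψ h5
    intro M
    have : ψ i ((0 : AdicCompletion.AdicCauchySequence I A) M) = 0 := map_zero _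
    rw [Pi.zero_apply, this, sub_self]
    exact dvd_zero _
  map_add' s t := by
    funext i
    apply lim_eq I ψ h5
    intro M
    have h1 : ψ i ((s + t) M) = ψ i (s M) + ψ i (t M) := map_add _ _ _
    rw [Pi.add_apply, h1]
    have e : lim I ψ s i + lim I ψ t i - (ψ i (s M) + ψ i (t M)) =
        (lim I ψ s i - ψ i (s M)) + (lim I ψ t i - ψ i (t M)) := by ring
    rw [e]
    exact dvd_add (lim_spec I ψ h5 s i M) (lim_spec I ψ h5 t i M)

theorem limHom_apply (s : AdicCompletion.AdicCauchySequence I A) (i : ι) :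
    limHom I ψ h5 s i = lim I ψ s i := rfl

theorem mem_pow_of_mk_eq_zero (s : AdicCompletion.AdicCauchySequence I A)
    (h : AdicCompletion.mkₐ I s = 0) (M : ℕ) : s M ∈ I ^ M := by
  have := congrArg (AdicCompletion.evalₐ I M) h
  rw [AdicCompletion.evalₐ_mkₐ, map_zero, Ideal.Quotient.eq_zero_iff_mem] at this
  exact this

theorem mk_eq_zero_of_mem_pow (s : AdicCompletion.AdicCauchySequence I A)
    (h : ∀ M : ℕ, s M ∈ I ^ M) : AdicCompletion.mkₐ I s = 0 := by
  apply AdicCompletion.ext_evalₐ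
  intro M
  rw [AdicCompletion.evalₐ_mkₐ, map_zero, Ideal.Quotient.eq_zero_iff_mem]
  exact h M

theorem ker_le : RingHom.ker (AdicCompletion.mkₐ I : AdicCompletion.AdicCauchySequence I A →ₐ[A]
    AdicCompletion I A).toRingHom ≤ RingHom.ker (limHom I ψ h5) := by
  intro s hs
  rw [RingHom.mem_ker] at hs ⊢
  funext i
  rw [limHom_apply, Pi.zero_apply]
  apply lim_eq I ψ h5
  intro M
  rw [zero_sub, dvd_neg]
  exact dvd_of_mem_pow I ψ h5 i M _ (mem_pow_of_mk_eq_zero I s hs M)

theorem mkₐ_surjective : Function.Surjective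
    (AdicCompletion.mkₐ I : AdicCompletion.AdicCauchySequence I A →ₐ[A]
      AdicCompletion I A).toRingHom :=
  AdicCompletion.mk_surjective I A

noncomputable def cplHom : AdicCompletion I A →+* (ι → PowerSeries k) :=
  RingHom.liftOfSurjective _ (mkₐ_surjective I) ⟨limHom I ψ h5, ker_le I ψ h5⟩

theorem cplHom_mk (s : AdicCompletion.AdicCauchySequence I A) :
    cplHom I ψ h5 (AdicCompletion.mkₐ I s) = limHom I ψ h5 s :=
  RingHom.liftOfSurjective_comp_apply _ (mkₐ_surjective I) ⟨limHom I ψ h5, ker_le I ψ h5⟩ s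

theorem cplHom_algebraMap (a : A) (i : ι) :
    cplHom I ψ h5 (algebraMap A (AdicCompletion I A) a) i = ψ i a := by
  have h1 : algebraMap A (AdicCompletion I A) a =
      AdicCompletion.mkₐ I (algebraMap A (AdicCompletion.AdicCauchySequence I A) a) :=
    ((AdicCompletion.mkₐ I).commutes a).symm
  rw [h1, cplHom_mk, limHom_apply]
  apply lim_eq I ψ h5
  intro M
  have : (algebraMap A (AdicCompletion.AdicCauchySequence I A) a) M = a := rfl
  rw [this, sub_self]
  exact dvd_zero _

variable (h1 : ∀ i c, ψ i (κ c) = PowerSeries.C c)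
  (h2 : ∀ f : ι → PowerSeries k, (∀ i j, constantCoeff (f i) = constantCoeff (f j)) →
    ∀ N : ℕ, ∃ a : A, ∀ i, (X : PowerSeries k) ^ N ∣ ψ i a - f i)
  (h4 : ∀ (N : ℕ) (a : A), (∀ i, (X : PowerSeries k) ^ N ∣ ψ i a) → a ∈ I ^ N)
  (h6 : ∀ a : A, ∃ c : k, a - κ c ∈ I)

include h4 in
theorem cplHom_injective : Function.Injective (cplHom I ψ h5) := by
  rw [injective_iff_map_eq_zero]
  intro x hx
  obtain ⟨s, rfl⟩ := AdicCompletion.mk_surjective I A x
  have hx' : limHom I ψ h5 s = 0 := (cplHom_mk I ψ h5 s).symm.trans hx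
  apply mk_eq_zero_of_mem_pow I s
  intro M
  apply h4
  intro i
  have h0 : lim I ψ s i = 0 := congrFun hx' i
  have := lim_spec I ψ h5 s i M
  rwa [h0, zero_sub, dvd_neg] at this

include h1 h5 h6 in
theorem constantCoeff_psi (a : A) (i j : ι) :
    constantCoeff (ψ i a) = constantCoeff (ψ j a) := by
  obtain ⟨c, hc⟩ := h6 a
  have key : ∀ l : ι, constantCoeff (ψ l a) = c := by
    intro l
    have hd := h5 _ hc l
    rw [map_sub, h1] at hd
    have h0 : constantCoeff (ψ l a - PowerSeries.C c) = 0 := by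
      rw [← PowerSeries.coeff_zero_eq_constantCoeff_apply]
      exact (PowerSeries.X_pow_dvd_iff.mp (by rwa [pow_one])) 0 Nat.one_pos
    rwa [map_sub, constantCoeff_C, sub_eq_zero] at h0
  rw [key i, key j]

include h1 h6 in
theorem constantCoeff_cplHom (x : AdicCompletion I A) (i j : ι) :
    constantCoeff (cplHom I ψ h5 x i) = constantCoeff (cplHom I ψ h5 x j) := by
  obtain ⟨s, rfl⟩ := AdicCompletion.mk_surjective I A x
  have e : ∀ l : ι, constantCoeff (cplHom I ψ h5 (AdicCompletion.mkₐ I s) l) =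
      constantCoeff (ψ l (s 1)) := by
    intro l
    rw [cplHom_mk, limHom_apply, lim, ← PowerSeries.coeff_zero_eq_constantCoeff_apply, coeff_mk,
      PowerSeries.coeff_zero_eq_constantCoeff_apply]
  exact (e i).trans ((constantCoeff_psi I κ ψ h5 h1 h6 (s 1) i j).trans (e j).symm)

include h2 h4 in
theorem exists_cplHom_eq (f : ι → PowerSeries k)
    (hf : ∀ i j, constantCoeff (f i) = constantCoeff (f j)) :
    ∃ x : AdicCompletion I A, cplHom I ψ h5 x = f := by
  choose a ha using h2 f hf
  have hc : ∀ n, a n ≡ a (n + 1) [SMOD (I ^ n • ⊤ : Submodule A A)] := by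
    intro n
    rw [SModEq.sub_mem, smul_eq_mul, Ideal.mul_top]
    apply h4
    intro i
    have h1' : (X : PowerSeries k) ^ n ∣ ψ i (a (n + 1)) - f i :=
      (pow_dvd_pow _ (Nat.le_succ n)).trans (ha (n + 1) i)
    have := dvd_sub (ha n i) h1'
    rwa [sub_sub_sub_cancel_right, ← map_sub] at this
  refine ⟨AdicCompletion.mkₐ I (AdicCompletion.AdicCauchySequence.mk I A a hc), ?_⟩
  rw [cplHom_mk]
  funext i
  rw [limHom_apply]
  apply lim_eq I ψ h5
  intro M
  have := ha M i
  rw [← dvd_neg, neg_sub] at this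
  exact this

include h1 h2 h4 h5 h6 in
theorem main :
    ∃ φ : AdicCompletion I A →+* (ι → PowerSeries k),
      Function.Injective φ ∧
      (∀ c : k, φ (algebraMap A (AdicCompletion I A) (κ c)) = fun _ => PowerSeries.C c) ∧
      Set.range φ = {f : ι → PowerSeries k |
        ∀ i j : ι, constantCoeff (f i) = constantCoeff (f j)} := by
  refine ⟨cplHom I ψ h5, cplHom_injective I ψ h5 h4, ?_, ?_⟩
  · intro c
    funext i
    rw [cplHom_algebraMap, h1]
  · ext f
    constructor
    · rintro ⟨x, rfl⟩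
      exact fun i j => constantCoeff_cplHom I κ ψ h5 h1 h6 x i j
    · intro hf
      exact exists_cplHom_eq I ψ h5 h2 h4 f hf

end Cpl

end Groth.Agent.Lib.Helper56.Multi
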