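import Mathlib

set_option autoImplicit false
set_option linter.style.haveILetI false
set_option linter.unusedSectionVars false

namespace Groth.Agent.Lib.Helper56.Multi

open PowerSeries

universe u

section Taylor

variable {k : Type u} [Field k] {D : Type u} [CommRing D] [IsDomain D] (ι : k →+* D) (ϖ : D)

noncomputable def ev (N : ℕ) (f : PowerSeries k) : D := (trunc N f).eval₂ ι ϖ

def IsExp (x : D) (f : PowerSeries k) : Prop := ∀ N, ϖ ^ N ∣ x - ev ι ϖ N f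

theorem ev_succ (N : ℕ) (f : PowerSeries k) :
    ev ι ϖ (N + 1) f = ev ι ϖ N f + ι (coeff N f) * ϖ ^ N := by
  unfold ev
  rw [eval₂_trunc_eq_sum_range, eval₂_trunc_eq_sum_range, Finset.sum_range_succ]

theorem ev_zero (f : PowerSeries k) : ev ι ϖ 0 f = 0 := by
  unfold ev
  rw [trunc_zero', Polynomial.eval₂_zero]

theorem ev_add (N : ℕ) (f g : PowerSeries k) : ev ι ϖ N (f + g) = ev ι ϖ N f + ev ι ϖ N g := by
  unfold ev
  rw [map_add, Polynomial.eval₂_add]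

theorem ev_sub (N : ℕ) (f g : PowerSeries k) : ev ι ϖ N (f - g) = ev ι ϖ N f - ev ι ϖ N g := by
  unfold ev
  rw [map_sub, Polynomial.eval₂_sub]

theorem ev_shift (N : ℕ) (f : PowerSeries k) :
    ev ι ϖ (N + 1) f = ι (coeff 0 f) + ϖ * ev ι ϖ N (PowerSeries.mk fun i => coeff (i + 1) f) := by
  unfold ev
  rw [eval₂_trunc_eq_sum_range, eval₂_trunc_eq_sum_range, Finset.sum_range_succ', pow_zero,
    mul_one, add_comm, Finset.mul_sum]
  congr 1
  apply Finset.sum_congr rfl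
  intro i _
  rw [coeff_mk, pow_succ]
  ring

theorem dvd_coeff (hϖ : ¬ IsUnit ϖ) (c : k) (h : ϖ ∣ ι c) : c = 0 := by
  by_contra hc
  apply hϖ
  have hu : IsUnit (ι c) := (IsUnit.mk0 c hc).map ι
  exact isUnit_of_dvd_unit h hu

theorem coeff_eq_zero_of_dvd (hϖ : ¬ IsUnit ϖ) (hϖ0 : ϖ ≠ 0) :
    ∀ (N : ℕ) (f : PowerSeries k), ϖ ^ N ∣ ev ι ϖ N f → ∀ j < N, coeff j f = 0 := by
  intro N
  induction N with
  | zero => intro f _ j hj; exact absurd hj (Nat.not_lt_zero j)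
  | succ N ih =>
    intro f hf j hj
    rw [ev_shift] at hf
    have h0 : coeff 0 f = 0 := by
      apply dvd_coeff ι ϖ hϖ
      have h1 : ϖ ∣ ι (coeff 0 f) + ϖ * ev ι ϖ N (PowerSeries.mk fun i => coeff (i + 1) f) :=
        (dvd_pow_self ϖ (Nat.succ_ne_zero N)).trans hf
      exact (dvd_add_left (dvd_mul_right ϖ _)).mp h1
    rw [h0, map_zero, zero_add, pow_succ'] at hf
    have h2 : ϖ ^ N ∣ ev ι ϖ N (PowerSeries.mk fun i => coeff (i + 1) f) :=
      (mul_dvd_mul_iff_left hϖ0).mp hf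
    cases j with
    | zero => exact h0
    | succ j =>
      have := ih _ h2 j (Nat.lt_of_succ_lt_succ hj)
      rwa [coeff_mk] at this

theorem IsExp.unique (hϖ : ¬ IsUnit ϖ) (hϖ0 : ϖ ≠ 0) {x : D} {f g : PowerSeries k}
    (hf : IsExp ι ϖ x f) (hg : IsExp ι ϖ x g) : f = g := by
  rw [← sub_eq_zero]
  ext j
  rw [map_zero]
  apply coeff_eq_zero_of_dvd ι ϖ hϖ hϖ0 (j + 1) (f - g) _ j (Nat.lt_succ_self j)
  rw [ev_sub]
  have h := dvd_sub (hg (j + 1)) (hf (j + 1))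
  have e : x - ev ι ϖ (j + 1) g - (x - ev ι ϖ (j + 1) f) =
      ev ι ϖ (j + 1) f - ev ι ϖ (j + 1) g := by ring
  rwa [e] at h

theorem eval₂_sub_ev (N : ℕ) (p : Polynomial k) :
    ϖ ^ N ∣ p.eval₂ ι ϖ - ev ι ϖ N (p : PowerSeries k) := by
  have h1 : (Polynomial.X : Polynomial k) ^ N ∣ p - trunc N (p : PowerSeries k) := by
    rw [Polynomial.X_pow_dvd_iff]
    intro d hd
    rw [Polynomial.coeff_sub, coeff_trunc, if_pos hd, Polynomial.coeff_coe, sub_self]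
  obtain ⟨q, hq⟩ := h1
  unfold ev
  rw [← Polynomial.eval₂_sub, hq, Polynomial.eval₂_mul, Polynomial.eval₂_pow, Polynomial.eval₂_X]
  exact dvd_mul_right _ _

theorem IsExp.eval₂ (p : Polynomial k) : IsExp ι ϖ (p.eval₂ ι ϖ) (p : PowerSeries k) :=
  fun N => eval₂_sub_ev ι ϖ N p

theorem IsExp.zero : IsExp ι ϖ 0 0 := by
  intro N
  unfold ev
  rw [map_zero, Polynomial.eval₂_zero, sub_zero]
  exact dvd_zero _

theorem IsExp.C (c : k) : IsExp ι ϖ (ι c) (PowerSeries.C c) := by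
  have h := IsExp.eval₂ ι ϖ (Polynomial.C c)
  rwa [Polynomial.eval₂_C, Polynomial.coe_C] at h

theorem IsExp.one : IsExp ι ϖ 1 1 := by
  have h := IsExp.C ι ϖ 1
  rwa [map_one, map_one] at h

theorem IsExp.add {x y : D} {f g : PowerSeries k} (hf : IsExp ι ϖ x f) (hg : IsExp ι ϖ y g) :
    IsExp ι ϖ (x + y) (f + g) := by
  intro N
  rw [ev_add]
  have e : x + y - (ev ι ϖ N f + ev ι ϖ N g) = (x - ev ι ϖ N f) + (y - ev ι ϖ N g) := by ring
  rw [e]
  exact dvd_add (hf N) (hg N)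

theorem ev_mul (N : ℕ) (f g : PowerSeries k) :
    ϖ ^ N ∣ ev ι ϖ N f * ev ι ϖ N g - ev ι ϖ N (f * g) := by
  have h := eval₂_sub_ev ι ϖ N (trunc N f * trunc N g)
  rw [Polynomial.eval₂_mul, Polynomial.coe_mul] at h
  have e : ev ι ϖ N ((trunc N f : PowerSeries k) * (trunc N g : PowerSeries k)) =
      ev ι ϖ N (f * g) := by
    unfold ev
    rw [trunc_trunc_mul_trunc]
  rw [e] at h
  exact h

theorem IsExp.mul {x y : D} {f g : PowerSeries k} (hf : IsExp ι ϖ x f) (hg : IsExp ι ϖ y g) :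
    IsExp ι ϖ (x * y) (f * g) := by
  intro N
  have e : x * y - ev ι ϖ N (f * g) = (x - ev ι ϖ N f) * y + ev ι ϖ N f * (y - ev ι ϖ N g) +
      (ev ι ϖ N f * ev ι ϖ N g - ev ι ϖ N (f * g)) := by ring
  rw [e]
  exact dvd_add (dvd_add (Dvd.dvd.mul_right (hf N) _) (Dvd.dvd.mul_left (hg N) _))
    (ev_mul ι ϖ N f g)

variable (hres : ∀ x : D, ∃ c : k, ∃ y : D, x = ι c + ϖ * y)

noncomputable def digit (x : D) : k := (hres x).choose

noncomputable def next (x : D) : D := (hres x).choose_spec.choose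

theorem digit_next (x : D) : x = ι (digit ι ϖ hres x) + ϖ * next ι ϖ hres x :=
  (hres x).choose_spec.choose_spec

noncomputable def seq (x : D) : ℕ → D
  | 0 => x
  | (j + 1) => next ι ϖ hres (seq x j)

noncomputable def expand (x : D) : PowerSeries k :=
  PowerSeries.mk fun j => digit ι ϖ hres (seq ι ϖ hres x j)

theorem sub_ev_expand (x : D) (N : ℕ) :
    x - ev ι ϖ N (expand ι ϖ hres x) = ϖ ^ N * seq ι ϖ hres x N := by
  induction N with
  | zero => rw [ev_zero, sub_zero, pow_zero, one_mul]; rfl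
  | succ N ih =>
    rw [ev_succ, ← sub_sub, ih]
    have h1 : coeff N (expand ι ϖ hres x) = digit ι ϖ hres (seq ι ϖ hres x N) := by
      unfold expand
      rw [coeff_mk]
    have h2 : seq ι ϖ hres x (N + 1) = next ι ϖ hres (seq ι ϖ hres x N) := rfl
    have h3 := digit_next ι ϖ hres (seq ι ϖ hres x N)
    rw [h1, h2, pow_succ]
    calc ϖ ^ N * seq ι ϖ hres x N - ι (digit ι ϖ hres (seq ι ϖ hres x N)) * ϖ ^ N
        = ϖ ^ N * (seq ι ϖ hres x N - ι (digit ι ϖ hres (seq ι ϖ hres x N))) := by ring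
      _ = ϖ ^ N * (ϖ * next ι ϖ hres (seq ι ϖ hres x N)) := by
        congr 1
        rw [sub_eq_iff_eq_add, add_comm]
        exact h3
      _ = ϖ ^ N * ϖ * next ι ϖ hres (seq ι ϖ hres x N) := by ring

theorem isExp_expand (x : D) : IsExp ι ϖ x (expand ι ϖ hres x) := by
  intro N
  rw [sub_ev_expand]
  exact dvd_mul_right _ _

variable (hϖ : ¬ IsUnit ϖ) (hϖ0 : ϖ ≠ 0)

noncomputable def taylor : D →+* PowerSeries k where
  toFun := expand ι ϖ hres
  map_one' := IsExp.unique ι ϖ hϖ hϖ0 (isExp_expand ι ϖ hres 1) (IsExp.one ι ϖ)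
  map_mul' x y := IsExp.unique ι ϖ hϖ hϖ0 (isExp_expand ι ϖ hres (x * y))
    (IsExp.mul ι ϖ (isExp_expand ι ϖ hres x) (isExp_expand ι ϖ hres y))
  map_zero' := IsExp.unique ι ϖ hϖ hϖ0 (isExp_expand ι ϖ hres 0) (IsExp.zero ι ϖ)
  map_add' x y := IsExp.unique ι ϖ hϖ hϖ0 (isExp_expand ι ϖ hres (x + y))
    (IsExp.add ι ϖ (isExp_expand ι ϖ hres x) (isExp_expand ι ϖ hres y))

theorem isExp_taylor (x : D) : IsExp ι ϖ x (taylor ι ϖ hres hϖ hϖ0 x) :=
  isExp_expand ι ϖ hres x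

theorem taylor_C (c : k) : taylor ι ϖ hres hϖ hϖ0 (ι c) = PowerSeries.C c :=
  IsExp.unique ι ϖ hϖ hϖ0 (isExp_taylor ι ϖ hres hϖ hϖ0 (ι c)) (IsExp.C ι ϖ c)

theorem taylor_eval₂ (p : Polynomial k) :
    taylor ι ϖ hres hϖ hϖ0 (p.eval₂ ι ϖ) = (p : PowerSeries k) :=
  IsExp.unique ι ϖ hϖ hϖ0 (isExp_taylor ι ϖ hres hϖ hϖ0 _) (IsExp.eval₂ ι ϖ p)

theorem X_pow_dvd_taylor_iff (x : D) (N : ℕ) :
    (PowerSeries.X : PowerSeries k) ^ N ∣ taylor ι ϖ hres hϖ hϖ0 x ↔ ϖ ^ N ∣ x := by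
  have hP := isExp_taylor ι ϖ hres hϖ hϖ0 x N
  constructor
  · intro h
    rw [PowerSeries.X_pow_dvd_iff] at h
    have h0 : trunc N (taylor ι ϖ hres hϖ hϖ0 x) = 0 := by
      ext d
      rw [coeff_trunc, Polynomial.coeff_zero]
      split_ifs with hd
      · exact h d hd
      · rfl
    unfold ev at hP
    rw [h0, Polynomial.eval₂_zero, sub_zero] at hP
    exact hP
  · intro h
    rw [PowerSeries.X_pow_dvd_iff]
    apply coeff_eq_zero_of_dvd ι ϖ hϖ hϖ0 N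
    have := dvd_sub h hP
    rwa [sub_sub_cancel] at this

end Taylor

end Groth.Agent.Lib.Helper56.Multi
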