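import Mathlib
import Groth.Agent.Lib.Helper56.Multi1

set_option autoImplicit false
set_option linter.style.haveILetI false
set_option linter.unusedSectionVars false

namespace Groth.Agent.Lib.Helper56.Multi

open PowerSeries IsLocalRing

universe u

section Branch

variable {k : Type u} [Field k] {B : Type u} [CommRing B] (κB : k →+* B) (M : Ideal B)
  [hM : M.IsMaximal]

theorem mem_pow_of_map_mem (N : ℕ) (b : B)
    (h : algebraMap B (Localization.AtPrime M) b ∈ (maximalIdeal (Localization.AtPrime M)) ^ N) :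
    b ∈ M ^ N := by
  rw [← IsLocalization.AtPrime.map_eq_maximalIdeal M (Localization.AtPrime M), ← Ideal.map_pow,
    IsLocalization.mem_map_algebraMap_iff M.primeCompl] at h
  obtain ⟨⟨x, s⟩, hxs⟩ := h
  rw [← map_mul, IsLocalization.eq_iff_exists M.primeCompl] at hxs
  obtain ⟨c, hc⟩ := hxs
  have hmem : ((c : B) * (s : B)) * b ∈ M ^ N := by
    have e : ((c : B) * (s : B)) * b = (c : B) * (b * (s : B)) := by ring
    rw [e, hc]
    exact Ideal.mul_mem_left _ _ x.2
  have ht : (c : B) * (s : B) ∉ M := (c * s).2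
  exact (Ideal.IsMaximal.mul_mem_pow M hmem).resolve_left ht

theorem map_mem_of_mem_pow (N : ℕ) (b : B) (h : b ∈ M ^ N) :
    algebraMap B (Localization.AtPrime M) b ∈ (maximalIdeal (Localization.AtPrime M)) ^ N := by
  rw [← IsLocalization.AtPrime.map_eq_maximalIdeal M (Localization.AtPrime M), ← Ideal.map_pow]
  exact Ideal.mem_map_of_mem _ h

variable [IsDomain (Localization.AtPrime M)] [IsDiscreteValuationRing (Localization.AtPrime M)]

theorem exists_uniformizer :
    ∃ π : B, maximalIdeal (Localization.AtPrime M) =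
      Ideal.span {algebraMap B (Localization.AtPrime M) π} := by
  obtain ⟨ϖ₀, hirr⟩ := IsDiscreteValuationRing.exists_irreducible (Localization.AtPrime M)
  obtain ⟨b, s, hbs⟩ := IsLocalization.exists_mk'_eq M.primeCompl ϖ₀
  have hspec : ϖ₀ * algebraMap B (Localization.AtPrime M) (s : B) =
      algebraMap B (Localization.AtPrime M) b := by
    rw [← hbs]
    exact IsLocalization.mk'_spec _ b s
  have hunit : IsUnit (algebraMap B (Localization.AtPrime M) (s : B)) :=
    IsLocalization.map_units _ s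
  have hspan : Ideal.span {algebraMap B (Localization.AtPrime M) b} = Ideal.span {ϖ₀} := by
    rw [← hspec]
    exact Ideal.span_singleton_mul_right_unit hunit ϖ₀
  exact ⟨b, by rw [hspan]; exact hirr.maximalIdeal_eq⟩

variable (hresB : ∀ b : B, ∃ c : k, b - κB c ∈ M)

include hresB in
theorem exists_branch_hom :
    ∃ Θ : B →+* PowerSeries k,
      (∀ c : k, Θ (κB c) = PowerSeries.C c) ∧
      (∀ (N : ℕ) (b : B), (X : PowerSeries k) ^ N ∣ Θ b ↔ b ∈ M ^ N) ∧
      (∀ (N : ℕ) (f : PowerSeries k), ∃ b : B, (X : PowerSeries k) ^ N ∣ Θ b - f) := by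
  obtain ⟨π, hπ⟩ := exists_uniformizer M
  set D := Localization.AtPrime M with hD
  set ϖ : D := algebraMap B D π with hϖdef
  let ι : k →+* D := (algebraMap B D).comp κB
  have hnf : maximalIdeal D ≠ ⊥ := IsDiscreteValuationRing.not_a_field D
  have hϖ0 : ϖ ≠ 0 := by
    intro h0
    apply hnf
    rw [hπ, h0, Ideal.span_singleton_eq_bot]
  have hϖ : ¬ IsUnit ϖ := by
    intro hu
    have h1 : ϖ ∈ maximalIdeal D := by rw [hπ]; exact Ideal.mem_span_singleton_self _
    exact (mem_maximalIdeal _).mp h1 hu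
  have hres : ∀ x : D, ∃ c : k, ∃ y : D, x = ι c + ϖ * y := by
    intro x
    obtain ⟨z, hz⟩ := (IsLocalization.AtPrime.equivQuotMaximalIdeal M D).surjective
      (Ideal.Quotient.mk _ x)
    obtain ⟨b, rfl⟩ := Ideal.Quotient.mk_surjective z
    rw [IsLocalization.AtPrime.equivQuotMaximalIdeal_apply_mk] at hz
    have h1 : algebraMap B D b - x ∈ maximalIdeal D := Ideal.Quotient.eq.mp hz
    obtain ⟨c, hc⟩ := hresB b
    have h2 : algebraMap B D (b - κB c) ∈ maximalIdeal D :=
      (IsLocalization.AtPrime.to_map_mem_maximal_iff D M _).mpr hc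
    have h3 : x - ι c ∈ maximalIdeal D := by
      have e : x - ι c = algebraMap B D (b - κB c) - (algebraMap B D b - x) := by
        rw [map_sub]
        show x - algebraMap B D (κB c) = _
        ring
      rw [e]
      exact Ideal.sub_mem _ h2 h1
    rw [hπ, Ideal.mem_span_singleton] at h3
    obtain ⟨y, hy⟩ := h3
    exact ⟨c, y, by rw [← hy]; ring⟩
  have hpow : ∀ (N : ℕ) (x : D), ϖ ^ N ∣ x ↔ x ∈ (maximalIdeal D) ^ N := by
    intro N x
    rw [hπ, Ideal.span_singleton_pow, Ideal.mem_span_singleton]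
  refine ⟨(taylor ι ϖ hres hϖ hϖ0).comp (algebraMap B D), ?_, ?_, ?_⟩
  · intro c
    exact taylor_C ι ϖ hres hϖ hϖ0 c
  · intro N b
    rw [RingHom.comp_apply, X_pow_dvd_taylor_iff, hpow]
    exact ⟨mem_pow_of_map_mem M N b, map_mem_of_mem_pow M N b⟩
  · intro N f
    refine ⟨(trunc N f).eval₂ κB π, ?_⟩
    have h1 : algebraMap B D ((trunc N f).eval₂ κB π) = (trunc N f).eval₂ ι ϖ :=
      Polynomial.hom_eval₂ _ κB (algebraMap B D) π
    rw [RingHom.comp_apply, h1, taylor_eval₂, PowerSeries.X_pow_dvd_iff]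
    intro m hm
    rw [map_sub, Polynomial.coeff_coe, coeff_trunc, if_pos hm, sub_self]

end Branch

end Groth.Agent.Lib.Helper56.Multi
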