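import Mathlib
import Groth.Prelude.Def_Brnch
import Groth.Agent.Lib.Helper56.DeltaCount2
import Groth.Agent.Lib.Helper56.CharCount

set_option autoImplicit false
set_option linter.style.haveILetI false
set_option linter.unusedSectionVars false

namespace Groth.Agent.Lib.Helper56.Wedge

open TensorProduct IsLocalRing

universe u

variable (A : Type u) [CommRing A] [IsLocalRing A] (R : Type u) [CommRing R] [Algebra A R]

theorem toAlgHom_apply
    (τ : {τ : R →+* AlgebraicClosure (ResidueField A) //
      τ.comp (algebraMap A R) = Brnch.toClosure A}) (r : R) :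
    Groth.Agent.Lib.Helper56.DeltaCount.toAlgHom A R τ ((1 : ResidueField A) ⊗ₜ[A] r) = τ.1 r := by
  simp only [Groth.Agent.Lib.Helper56.DeltaCount.toAlgHom, Algebra.TensorProduct.lift_tmul,
    map_one, one_mul]
  rfl

theorem toAlgHom_surjective :
    Function.Surjective (Groth.Agent.Lib.Helper56.DeltaCount.toAlgHom A R) := by
  intro φ
  have hcomp : (φ.toRingHom.comp (Algebra.TensorProduct.includeRight :
      R →ₐ[A] ResidueField A ⊗[A] R).toRingHom).comp (algebraMap A R) = Brnch.toClosure A := by
    ext a
    show φ ((1 : ResidueField A) ⊗ₜ[A] (algebraMap A R a)) =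
      algebraMap (ResidueField A) (AlgebraicClosure (ResidueField A)) (residue A a)
    have h1 : (1 : ResidueField A) ⊗ₜ[A] (algebraMap A R a) =
        algebraMap (ResidueField A) (ResidueField A ⊗[A] R) (residue A a) := by
      rw [Algebra.TensorProduct.algebraMap_apply, Algebra.algebraMap_self_apply,
        Algebra.algebraMap_eq_smul_one, ← TensorProduct.smul_tmul]
      congr 1
      rw [Algebra.smul_def, mul_one]
      rfl
    rw [h1, φ.commutes]
  refine ⟨⟨_, hcomp⟩, ?_⟩
  apply Algebra.TensorProduct.ext
  · apply AlgHom.ext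
    intro c
    exact (AlgHom.commutes _ c).trans (AlgHom.commutes _ c).symm
  · apply AlgHom.ext
    intro r
    show Groth.Agent.Lib.Helper56.DeltaCount.toAlgHom A R _ ((1 : ResidueField A) ⊗ₜ[A] r) =
      φ ((1 : ResidueField A) ⊗ₜ[A] r)
    rw [toAlgHom_apply]
    rfl

variable [Module.Finite A R]

theorem stats
    (h : Module.length A (R ⧸ LinearMap.range (Algebra.linearMap A R)) + 1 ≤
      ENat.card {τ : R →+* AlgebraicClosure (ResidueField A) //
        τ.comp (algebraMap A R) = Brnch.toClosure A}) :
    Nat.card (ResidueField A ⊗[A] R →ₐ[ResidueField A] AlgebraicClosure (ResidueField A)) =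
      Module.finrank (ResidueField A) (ResidueField A ⊗[A] R) ∧
    Module.length A (ResidueField A ⊗[A] (R ⧸ LinearMap.range (Algebra.linearMap A R))) =
      Module.length A (R ⧸ LinearMap.range (Algebra.linearMap A R)) ∧
    Module.length A (R ⧸ LinearMap.range (Algebra.linearMap A R)) ≠ ⊤ := by
  have h1 : ENat.card {τ : R →+* AlgebraicClosure (ResidueField A) //
        τ.comp (algebraMap A R) = Brnch.toClosure A} ≤
      (Nat.card (ResidueField A ⊗[A] R →ₐ[ResidueField A]
        AlgebraicClosure (ResidueField A)) : ℕ∞) :=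
    (ENat.card_le_card_of_injective
      (Groth.Agent.Lib.Helper56.DeltaCount.toAlgHom_injective A R)).trans_eq
      (ENat.card_eq_coe_natCard _)
  have h2 : Nat.card (ResidueField A ⊗[A] R →ₐ[ResidueField A]
        AlgebraicClosure (ResidueField A)) ≤
      Module.finrank (ResidueField A) (ResidueField A ⊗[A] R) :=
    card_algHom_le_finrank (ResidueField A) (ResidueField A ⊗[A] R)
      (AlgebraicClosure (ResidueField A))
  have h3 : Module.length A (ResidueField A ⊗[A] R) =
      (Module.finrank (ResidueField A) (ResidueField A ⊗[A] R) : ℕ∞) := by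
    rw [Module.length_eq_of_surjective (S := A) (R := ResidueField A) residue_surjective,
      Module.length_eq_finrank]
  have h4 := Groth.Agent.Lib.Helper56.DeltaCount.length_tensor_le A (ResidueField A) A R
    (Algebra.linearMap A R)
  have h5 : Module.length A (ResidueField A ⊗[A] A) = 1 := by
    rw [(TensorProduct.rid A (ResidueField A)).length_eq,
      Module.length_eq_of_surjective (S := A) (R := ResidueField A) residue_surjective,
      Module.length_eq_finrank, Module.finrank_self]
    rfl
  have h6 : Module.length A (ResidueField A ⊗[A]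
      (R ⧸ LinearMap.range (Algebra.linearMap A R))) ≤
      Module.length A (R ⧸ LinearMap.range (Algebra.linearMap A R)) := by
    rw [← (TensorProduct.lid A (R ⧸ LinearMap.range (Algebra.linearMap A R))).length_eq]
    exact Module.length_le_of_surjective
      (LinearMap.rTensor (R ⧸ LinearMap.range (Algebra.linearMap A R))
        (Algebra.linearMap A (ResidueField A)))
      (LinearMap.rTensor_surjective _ residue_surjective)
  rw [h3, h5] at h4
  generalize Module.length A (R ⧸ LinearMap.range (Algebra.linearMap A R)) = δ at *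
  generalize Module.length A (ResidueField A ⊗[A]
      (R ⧸ LinearMap.range (Algebra.linearMap A R))) = q at *
  generalize ENat.card {τ : R →+* AlgebraicClosure (ResidueField A) //
        τ.comp (algebraMap A R) = Brnch.toClosure A} = c at *
  generalize Nat.card (ResidueField A ⊗[A] R →ₐ[ResidueField A]
        AlgebraicClosure (ResidueField A)) = n at *
  generalize Module.finrank (ResidueField A) (ResidueField A ⊗[A] R) = f at *
  have hc : c ≠ ⊤ := ne_top_of_le_ne_top (ENat.natCast_ne_top n) h1
  have hδ : δ ≠ ⊤ := by
    intro hδ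
    rw [hδ, top_add] at h
    exact hc (top_le_iff.mp h)
  have hq : q ≠ ⊤ := ne_top_of_le_ne_top hδ h6
  lift c to ℕ using hc
  lift δ to ℕ using hδ
  lift q to ℕ using hq
  norm_cast at h h1 h4 h6
  refine ⟨by omega, by norm_cast; omega, ENat.natCast_ne_top _⟩

theorem smul_top_eq_bot
    (h : Module.length A (R ⧸ LinearMap.range (Algebra.linearMap A R)) + 1 ≤
      ENat.card {τ : R →+* AlgebraicClosure (ResidueField A) //
        τ.comp (algebraMap A R) = Brnch.toClosure A}) :
    (maximalIdeal A) • (⊤ : Submodule A (R ⧸ LinearMap.range (Algebra.linearMap A R))) = ⊥ := by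
  obtain ⟨-, hq, hδ⟩ := stats A R h
  have e := TensorProduct.quotTensorEquivQuotSMul
    (R ⧸ LinearMap.range (Algebra.linearMap A R)) (maximalIdeal A)
  have hq' : Module.length A ((R ⧸ LinearMap.range (Algebra.linearMap A R)) ⧸
      ((maximalIdeal A) • (⊤ : Submodule A (R ⧸ LinearMap.range (Algebra.linearMap A R))))) =
      Module.length A (R ⧸ LinearMap.range (Algebra.linearMap A R)) := by
    rw [← hq]
    exact e.length_eq.symm
  have hadd := Module.length_eq_add_of_exact
    ((maximalIdeal A) • (⊤ : Submodule A (R ⧸ LinearMap.range (Algebra.linearMap A R)))).subtype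
    ((maximalIdeal A) • (⊤ : Submodule A (R ⧸ LinearMap.range (Algebra.linearMap A R)))).mkQ
    (Submodule.injective_subtype _) (Submodule.mkQ_surjective _)
    (by rw [LinearMap.exact_iff, Submodule.ker_mkQ, Submodule.range_subtype])
  rw [hq'] at hadd
  have h0 : Module.length A (↥((maximalIdeal A) •
      (⊤ : Submodule A (R ⧸ LinearMap.range (Algebra.linearMap A R))))) = 0 := by
    generalize Module.length A (R ⧸ LinearMap.range (Algebra.linearMap A R)) = δ at *
    generalize Module.length A (↥((maximalIdeal A) •
      (⊤ : Submodule A (R ⧸ LinearMap.range (Algebra.linearMap A R))))) = p at *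
    lift δ to ℕ using hδ
    have hp : p ≠ ⊤ := by
      intro hp
      rw [hp, top_add] at hadd
      exact ENat.natCast_ne_top _ hadd
    lift p to ℕ using hp
    norm_cast at hadd ⊢
    omega
  rw [Module.length_eq_zero_iff] at h0
  exact Submodule.subsingleton_iff_eq_bot.mp h0

theorem smul_mem_range
    (h : Module.length A (R ⧸ LinearMap.range (Algebra.linearMap A R)) + 1 ≤
      ENat.card {τ : R →+* AlgebraicClosure (ResidueField A) //
        τ.comp (algebraMap A R) = Brnch.toClosure A})
    (x : A) (hx : x ∈ maximalIdeal A) (r : R) :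
    x • r ∈ LinearMap.range (Algebra.linearMap A R) := by
  have h1 : x • (Submodule.Quotient.mk r : R ⧸ LinearMap.range (Algebra.linearMap A R)) ∈
      (maximalIdeal A) • (⊤ : Submodule A (R ⧸ LinearMap.range (Algebra.linearMap A R))) :=
    Submodule.smul_mem_smul hx Submodule.mem_top
  rw [smul_top_eq_bot A R h, Submodule.mem_bot, ← Submodule.Quotient.mk_smul,
    Submodule.Quotient.mk_eq_zero] at h1
  exact h1

theorem smul_top_le_range
    (h : Module.length A (R ⧸ LinearMap.range (Algebra.linearMap A R)) + 1 ≤
      ENat.card {τ : R →+* AlgebraicClosure (ResidueField A) //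
        τ.comp (algebraMap A R) = Brnch.toClosure A}) :
    (maximalIdeal A) • (⊤ : Submodule A R) ≤ LinearMap.range (Algebra.linearMap A R) := by
  rw [Submodule.smul_le]
  intro x hx r _
  exact smul_mem_range A R h x hx r

theorem mem_range_of_forall [IsSepClosed (ResidueField A)]
    (h : Module.length A (R ⧸ LinearMap.range (Algebra.linearMap A R)) + 1 ≤
      ENat.card {τ : R →+* AlgebraicClosure (ResidueField A) //
        τ.comp (algebraMap A R) = Brnch.toClosure A})
    (r : R) (hr : ∀ τ : {τ : R →+* AlgebraicClosure (ResidueField A) //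
        τ.comp (algebraMap A R) = Brnch.toClosure A}, τ.1 r = 0) :
    r ∈ LinearMap.range (Algebra.linearMap A R) := by
  obtain ⟨hn, -, -⟩ := stats A R h
  have h0 : (1 : ResidueField A) ⊗ₜ[A] r = 0 := by
    apply Groth.Agent.Lib.Helper56.CharCount.eq_zero_of_forall_algHom_eq_zero (ResidueField A)
      (ResidueField A ⊗[A] R) (AlgebraicClosure (ResidueField A)) hn
    intro φ
    obtain ⟨τ, rfl⟩ := toAlgHom_surjective A R φ
    rw [toAlgHom_apply]
    exact hr τ
  have h1 : TensorProduct.quotTensorEquivQuotSMul R (maximalIdeal A)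
      ((1 : ResidueField A) ⊗ₜ[A] r) = 0 :=
    (congrArg (TensorProduct.quotTensorEquivQuotSMul R (maximalIdeal A)) h0).trans
      (map_zero (TensorProduct.quotTensorEquivQuotSMul R (maximalIdeal A)))
  have h2 : TensorProduct.quotTensorEquivQuotSMul R (maximalIdeal A)
      ((1 : ResidueField A) ⊗ₜ[A] r) = Submodule.Quotient.mk r :=
    TensorProduct.quotTensorEquivQuotSMul_mk_one_tmul (maximalIdeal A) r
  rw [h2, Submodule.Quotient.mk_eq_zero] at h1
  exact smul_top_le_range A R h h1

theorem exists_eq [IsSepClosed (ResidueField A)]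
    (h : Module.length A (R ⧸ LinearMap.range (Algebra.linearMap A R)) + 1 ≤
      ENat.card {τ : R →+* AlgebraicClosure (ResidueField A) //
        τ.comp (algebraMap A R) = Brnch.toClosure A})
    (τ : {τ : R →+* AlgebraicClosure (ResidueField A) //
        τ.comp (algebraMap A R) = Brnch.toClosure A}) (r : R) :
    ∃ a : A, τ.1 r = τ.1 (algebraMap A R a) := by
  obtain ⟨hn, -, -⟩ := stats A R h
  obtain ⟨c, hc⟩ := Groth.Agent.Lib.Helper56.CharCount.exists_algebraMap_eq (ResidueField A)
    (ResidueField A ⊗[A] R) (AlgebraicClosure (ResidueField A)) hn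
    (Groth.Agent.Lib.Helper56.DeltaCount.toAlgHom A R τ) ((1 : ResidueField A) ⊗ₜ[A] r)
  obtain ⟨a, rfl⟩ := residue_surjective c
  refine ⟨a, ?_⟩
  rw [toAlgHom_apply] at hc
  rw [hc]
  exact (RingHom.congr_fun τ.2 a).symm

end Groth.Agent.Lib.Helper56.Wedge
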