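import Mathlib
import Groth.Prelude.Def_Brnch
import Groth.Prelude.Def_Curv2
import Groth.Prelude.Def_Found
import Groth.Agent.Lib.Helper56.Wedge
import Groth.Agent.Lib.Helper56.DeltaMain2

set_option autoImplicit false
set_option linter.style.haveILetI false
set_option linter.unusedSectionVars false

namespace Groth.Agent.Lib.Helper56.Wedge

open TensorProduct IsLocalRing

universe u

section Ker

variable (A : Type u) [CommRing A] [IsLocalRing A] (R : Type u) [CommRing R] [Algebra A R]
  [Algebra.IsIntegral A R]

theorem ker_isMaximal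
    (τ : {τ : R →+* AlgebraicClosure (ResidueField A) //
      τ.comp (algebraMap A R) = Brnch.toClosure A}) : (RingHom.ker τ.1).IsMaximal := by
  obtain ⟨τ, hτ⟩ := τ
  have hprime : (RingHom.ker τ).IsPrime := RingHom.ker_isPrime τ
  have hcomap : (RingHom.ker τ).comap (algebraMap A R) = maximalIdeal A := by
    rw [RingHom.comap_ker, hτ]
    ext a
    rw [RingHom.mem_ker]
    show algebraMap (ResidueField A) (AlgebraicClosure (ResidueField A)) (residue A a) = 0 ↔ _
    rw [map_eq_zero_iff _ (algebraMap (ResidueField A)
      (AlgebraicClosure (ResidueField A))).injective, residue_eq_zero_iff]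
  exact Ideal.isMaximal_of_isIntegral_of_isMaximal_comap (R := A) (RingHom.ker τ)
    (by rw [hcomap]; infer_instance)

theorem exists_hom_ker (M : Ideal R) [hM : M.IsMaximal] :
    ∃ τ : {τ : R →+* AlgebraicClosure (ResidueField A) //
      τ.comp (algebraMap A R) = Brnch.toClosure A}, RingHom.ker τ.1 = M := by
  have hcomap : M.comap (algebraMap A R) = maximalIdeal A :=
    eq_maximalIdeal (Ideal.isMaximal_comap_of_isIntegral_of_isMaximal M)
  haveI : M.LiesOver (maximalIdeal A) := ⟨hcomap.symm⟩
  letI : Field (R ⧸ M) := Ideal.Quotient.field M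
  letI : Algebra (ResidueField A) (R ⧸ M) := Ideal.Quotient.algebraOfLiesOver M (maximalIdeal A)
  haveI : IsScalarTower A (ResidueField A) (R ⧸ M) :=
    Ideal.Quotient.isScalarTower_of_liesOver A M (maximalIdeal A)
  haveI : Algebra.IsIntegral (ResidueField A) (R ⧸ M) :=
    Ideal.Quotient.algebra_isIntegral_of_liesOver (p := maximalIdeal A) (P := M)
  haveI : Algebra.IsAlgebraic (ResidueField A) (R ⧸ M) := Algebra.IsIntegral.isAlgebraic
  let σ : R ⧸ M →ₐ[ResidueField A] AlgebraicClosure (ResidueField A) := IsAlgClosed.lift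
  refine ⟨⟨σ.toRingHom.comp (Ideal.Quotient.mk M), ?_⟩, ?_⟩
  · ext a
    show σ (Ideal.Quotient.mk M (algebraMap A R a)) =
      algebraMap (ResidueField A) (AlgebraicClosure (ResidueField A)) (residue A a)
    have h1 : Ideal.Quotient.mk M (algebraMap A R a) =
        algebraMap (ResidueField A) (R ⧸ M) (residue A a) := rfl
    rw [h1, σ.commutes]
  · ext x
    rw [RingHom.mem_ker, RingHom.comp_apply]
    show σ (Ideal.Quotient.mk M x) = 0 ↔ _
    rw [map_eq_zero_iff σ σ.injective, Ideal.Quotient.eq_zero_iff_mem]

end Ker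

section Trans

variable (A : Type u) [CommRing A] [IsLocalRing A] [IsReduced A]

theorem exists_hom_normRed (hN : CAlg.IsNagata A) (hdim : ringKrullDim A = 1) :
    ∃ j : integralClosure A (FractionRing A) →+* CAlg2.normRed A,
      (∀ a : A, j (algebraMap A (integralClosure A (FractionRing A)) a) =
        algebraMap A (CAlg2.normRed A) a) ∧ Function.Surjective j := by
  haveI : IsNoetherianRing A := hN.1
  haveI := Groth.Agent.Lib.Helper56.DeltaMain.isLocalRing_red A
  haveI : IsLocalHom (algebraMap A (CAlg2.red A)) :=
    Function.Surjective.isLocalHom _ Ideal.Quotient.mk_surjective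
  have hbot : nilradical A = ⊥ := nilradical_eq_zero A
  have hinj : Function.Injective (algebraMap A (CAlg2.red A)) := by
    rw [injective_iff_map_eq_zero]
    intro a ha
    have : a ∈ nilradical A := Ideal.Quotient.eq_zero_iff_mem.mp ha
    rw [hbot] at this
    exact this
  haveI : Module.Flat A (CAlg2.red A) :=
    Module.Flat.of_linearEquiv
      (LinearEquiv.ofBijective (Algebra.linearMap A (CAlg2.red A))
        ⟨hinj, Ideal.Quotient.mk_surjective⟩).symm
  have hm : (maximalIdeal A).map (algebraMap A (CAlg2.red A)) = maximalIdeal (CAlg2.red A) := by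
    have h1 : ((maximalIdeal A).map (algebraMap A (CAlg2.red A))).IsMaximal :=
      Ideal.IsMaximal.map_of_surjective_of_ker_le Ideal.Quotient.mk_surjective (by
        intro x hx
        have h2 : x ∈ nilradical A := Ideal.Quotient.eq_zero_iff_mem.mp hx
        rw [hbot] at h2
        rw [h2]
        exact Ideal.zero_mem _)
    exact eq_maximalIdeal h1
  have hbij : Function.Bijective (ResidueField.map (algebraMap A (CAlg2.red A))) := by
    refine ⟨(ResidueField.map _).injective, ?_⟩
    intro y
    obtain ⟨x, rfl⟩ := residue_surjective y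
    obtain ⟨a, rfl⟩ := Ideal.Quotient.mk_surjective x
    exact ⟨residue A a, rfl⟩
  haveI : Algebra.IsSeparable (ResidueField A) (ResidueField (CAlg2.red A)) :=
    Groth.Agent.Lib.Helper56.DeltaRes.isSeparable_of_bijective A _ hbij
  obtain ⟨e⟩ := Groth.Agent.Lib.Helper56.DeltaMain.nonempty_algEquiv_of_residue_separable
    A hN hdim (CAlg2.red A) hm
  refine ⟨(e : _ →+* _).comp
    (Algebra.TensorProduct.includeRight :
      integralClosure A (FractionRing A) →ₐ[A]
        CAlg2.red A ⊗[A] integralClosure A (FractionRing A)).toRingHom, ?_, ?_⟩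
  · intro a
    show e ((1 : CAlg2.red A) ⊗ₜ[A] (algebraMap A (integralClosure A (FractionRing A)) a)) = _
    have h2 : (1 : CAlg2.red A) ⊗ₜ[A] (algebraMap A (integralClosure A (FractionRing A)) a) =
        algebraMap (CAlg2.red A) (CAlg2.red A ⊗[A] integralClosure A (FractionRing A))
          (algebraMap A (CAlg2.red A) a) := by
      rw [Algebra.TensorProduct.algebraMap_apply, Algebra.algebraMap_self_apply,
        Algebra.algebraMap_eq_smul_one, Algebra.algebraMap_eq_smul_one, TensorProduct.smul_tmul]
    rw [h2, e.commutes]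
    rfl
  · intro x
    obtain ⟨t, rfl⟩ := e.surjective x
    induction t using TensorProduct.induction_on with
    | zero => exact ⟨0, by rw [map_zero, map_zero]⟩
    | tmul d r =>
      obtain ⟨a, rfl⟩ := Ideal.Quotient.mk_surjective d
      refine ⟨a • r, ?_⟩
      show e ((1 : CAlg2.red A) ⊗ₜ[A] (a • r)) = e (Ideal.Quotient.mk (nilradical A) a ⊗ₜ[A] r)
      congr 1
      rw [← TensorProduct.smul_tmul, Algebra.smul_def, mul_one]
      rfl
    | add t t' ht ht' =>
      obtain ⟨y, hy⟩ := ht
      obtain ⟨y', hy'⟩ := ht'
      exact ⟨y + y', by rw [map_add, hy, hy', map_add]⟩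

theorem numGeomBranches_le_card (hN : CAlg.IsNagata A) (hdim : ringKrullDim A = 1) :
    Brnch.numGeomBranches A ≤
      ENat.card {τ : integralClosure A (FractionRing A) →+* AlgebraicClosure (ResidueField A) //
        τ.comp (algebraMap A (integralClosure A (FractionRing A))) = Brnch.toClosure A} := by
  haveI : IsNoetherianRing A := hN.1
  have hfin : (minimalPrimes A).Finite := minimalPrimes.finite_of_isNoetherianRing A
  obtain ⟨j, hj1, hj2⟩ := exists_hom_normRed A hN hdim
  unfold Brnch.numGeomBranches
  rw [if_pos hfin]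
  let Φ : {τ : CAlg2.normRed A →+* AlgebraicClosure (ResidueField A) //
        τ.comp (algebraMap A (CAlg2.normRed A)) = Brnch.toClosure A} →
      {τ : integralClosure A (FractionRing A) →+* AlgebraicClosure (ResidueField A) //
        τ.comp (algebraMap A (integralClosure A (FractionRing A))) = Brnch.toClosure A} :=
    fun τ => ⟨τ.1.comp j, by
      refine Eq.trans ?_ τ.2
      ext a
      show τ.1 (j (algebraMap A _ a)) = τ.1 (algebraMap A _ a)
      rw [hj1]⟩
  have hΦ : Function.Injective Φ := by
    intro τ τ' h
    have h1 : τ.1.comp j = τ'.1.comp j := congrArg Subtype.val h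
    apply Subtype.ext
    ext x
    obtain ⟨y, rfl⟩ := hj2 x
    exact RingHom.congr_fun h1 y
  exact (ENat.card_le_card_of_injective
    (Groth.Agent.Lib.Helper56.DeltaMain.embToHom_injective A)).trans
    (ENat.card_le_card_of_injective hΦ)

end Trans

end Groth.Agent.Lib.Helper56.Wedge
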