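import Mathlib
import Groth.Prelude.Def_Brnch
import Groth.Prelude.Def_Curv2
import Groth.Prelude.Def_Found
import Groth.Agent.Lib.Helper56.Wedge2
import Groth.Agent.Lib.Helper56.Multi2
import Groth.Agent.Lib.Helper56.Multi3
import Groth.Agent.Lib.Helper56.BranchCpl2

set_option autoImplicit false
set_option linter.style.haveILetI false
set_option linter.unusedSectionVars false

namespace Groth.Agent.Lib.Helper56.Multi

open PowerSeries IsLocalRing TensorProduct

universe u

theorem isSepClosed_of_bijective {k K : Type u} [Field k] [Field K] [IsSepClosed k]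
    (f : k →+* K) (hf : Function.Bijective f) : IsSepClosed K := by
  let e := RingEquiv.ofBijective f hf
  refine ⟨fun p hp => ?_⟩
  have h1 : (p.map (e.symm : K →+* k)).Separable := hp.map
  have h2 := IsSepClosed.splits_of_separable _ h1
  have h3 := h2.map (e : k →+* K)
  have h4 : ((e : k →+* K)).comp (e.symm : K →+* k) = RingHom.id K := by
    ext x
    exact e.apply_symm_apply x
  rwa [Polynomial.map_map, h4, Polynomial.map_id] at h3

section Card

variable (A : Type u) [CommRing A] [IsLocalRing A] (R : Type u) [CommRing R] [Algebra A R]
  [Algebra.IsIntegral A R]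

theorem card_maximalSpectrum_le :
    ENat.card (MaximalSpectrum R) ≤
      ENat.card {τ : R →+* AlgebraicClosure (ResidueField A) //
        τ.comp (algebraMap A R) = Brnch.toClosure A} := by
  have hex : ∀ M : MaximalSpectrum R, ∃ τ : {τ : R →+* AlgebraicClosure (ResidueField A) //
      τ.comp (algebraMap A R) = Brnch.toClosure A}, RingHom.ker τ.1 = M.asIdeal := by
    intro M
    haveI := M.isMaximal
    exact Groth.Agent.Lib.Helper56.Wedge.exists_hom_ker A R M.asIdeal
  choose F hF using hex
  apply ENat.card_le_card_of_injective (f := F)
  intro M M' h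
  apply MaximalSpectrum.ext
  rw [← hF M, ← hF M', h]

end Card

section Comap

variable {R S : Type u} [CommRing R] [CommRing S] (j : R →+* S) (hj : Function.Surjective j)

include hj in
theorem card_maximalSpectrum_le_of_surjective :
    ENat.card (MaximalSpectrum S) ≤ ENat.card (MaximalSpectrum R) := by
  let F : MaximalSpectrum S → MaximalSpectrum R := fun M =>
    ⟨M.asIdeal.comap j, Ideal.comap_isMaximal_of_surjective j hj (H := M.isMaximal)⟩
  apply ENat.card_le_card_of_injective (f := F)
  intro M M' h
  apply MaximalSpectrum.ext
  have h1 : M.asIdeal.comap j = M'.asIdeal.comap j := congrArg MaximalSpectrum.asIdeal h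
  rw [← Ideal.map_comap_of_surjective j hj M.asIdeal, h1, Ideal.map_comap_of_surjective j hj]

end Comap

end Groth.Agent.Lib.Helper56.Multi
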