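import Mathlib
import Groth.Prelude.Def_Brnch
import Groth.Prelude.Def_Curv2
import Groth.Prelude.Def_Found
import Groth.Agent.Lib.Helper56.Multi4

set_option autoImplicit false
set_option linter.style.haveILetI false
set_option linter.unusedSectionVars false

namespace Groth.Agent.Lib.Helper56.Multi

open PowerSeries IsLocalRing TensorProduct

universe u

abbrev TBr (A : Type u) [CommRing A] [IsLocalRing A] : Type u :=
  {τ : integralClosure A (FractionRing A) →+* AlgebraicClosure (ResidueField A) //
    τ.comp (algebraMap A (integralClosure A (FractionRing A))) = Brnch.toClosure A}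

section Global

variable (k : Type u) [Field k] (A : Type u) [CommRing A] [IsLocalRing A] [Algebra k A]
  [IsReduced A] [IsSepClosed (ResidueField A)]

local notation "B" => integralClosure A (FractionRing A)


theorem residue_repr (hres : Function.Bijective (algebraMap k (ResidueField A))) (a : A) :
    ∃ c : k, a - algebraMap k A c ∈ maximalIdeal A := by
  obtain ⟨c, hc⟩ := hres.2 (residue A a)
  refine ⟨c, ?_⟩
  rw [← residue_eq_zero_iff, map_sub, sub_eq_zero, ← hc]
  exact (IsScalarTower.algebraMap_apply k A (ResidueField A) c).symm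

theorem algebraMap_injective : Function.Injective (algebraMap A B) := by
  intro a a' h
  apply IsFractionRing.injective A (FractionRing A)
  exact congrArg Subtype.val h

theorem tau_algebraMap_eq_zero (τ : TBr A) (a : A) (ha : a ∈ maximalIdeal A) :
    τ.1 (algebraMap A B a) = 0 := by
  have h1 : τ.1 (algebraMap A B a) = Brnch.toClosure A a := RingHom.congr_fun τ.2 a
  rw [h1]
  show algebraMap (ResidueField A) (AlgebraicClosure (ResidueField A)) (residue A a) = 0
  rw [(residue_eq_zero_iff a).mpr ha, map_zero]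

variable [Module.Finite A (integralClosure A (FractionRing A))]
  (h : Module.length A ((integralClosure A (FractionRing A)) ⧸
    LinearMap.range (Algebra.linearMap A (integralClosure A (FractionRing A)))) + 1 ≤
      ENat.card (TBr A))

theorem algebraMap_mem (M : Ideal B) [hM : M.IsMaximal] (a : A) (ha : a ∈ maximalIdeal A) :
    algebraMap A B a ∈ M := by
  have hcomap : M.comap (algebraMap A B) = maximalIdeal A :=
    eq_maximalIdeal (Ideal.isMaximal_comap_of_isIntegral_of_isMaximal M)
  rw [← hcomap] at ha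
  exact ha

include h in
theorem hresB (hres : Function.Bijective (algebraMap k (ResidueField A)))
    (M : Ideal B) [hM : M.IsMaximal] (b : B) :
    ∃ c : k, b - ((algebraMap A B).comp (algebraMap k A)) c ∈ M := by
  obtain ⟨τ, hτ⟩ := Groth.Agent.Lib.Helper56.Wedge.exists_hom_ker A B M
  obtain ⟨a, ha⟩ := Groth.Agent.Lib.Helper56.Wedge.exists_eq A B h τ b
  obtain ⟨c, hc⟩ := residue_repr k A hres a
  refine ⟨c, ?_⟩
  have e : b - ((algebraMap A B).comp (algebraMap k A)) c =
      (b - algebraMap A B a) + algebraMap A B (a - algebraMap k A c) := by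
    rw [map_sub, RingHom.comp_apply]
    ring
  rw [e]
  refine Ideal.add_mem _ ?_ (algebraMap_mem A M _ hc)
  rw [← hτ, RingHom.mem_ker, map_sub, ha, sub_self]

include h in
theorem nonempty_TB : Nonempty (TBr A) := by
  by_contra hne
  rw [not_nonempty_iff] at hne
  have h0 : ENat.card (TBr A) = 0 := (ENat.card_eq_zero_iff_empty _).mpr hne
  rw [h0] at h
  have : (1 : ℕ∞) ≤ 0 := le_trans (by exact le_add_self) h
  exact absurd this (by norm_num)

include h in
theorem exists_of_forall_mem (b : B) (hb : ∀ M : MaximalSpectrum B, b ∈ M.asIdeal) :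
    ∃ a ∈ maximalIdeal A, algebraMap A B a = b := by
  have hr := Groth.Agent.Lib.Helper56.Wedge.mem_range_of_forall A B h b (by
    intro τ
    have hmax := Groth.Agent.Lib.Helper56.Wedge.ker_isMaximal A B τ
    exact hb ⟨RingHom.ker τ.1, hmax⟩)
  obtain ⟨a, ha⟩ := hr
  have ha' : algebraMap A B a = b := ha
  refine ⟨a, ?_, ha'⟩
  obtain ⟨τ⟩ := nonempty_TB A h
  have hmax := Groth.Agent.Lib.Helper56.Wedge.ker_isMaximal A B τ
  have h1 : τ.1 b = 0 := hb ⟨RingHom.ker τ.1, hmax⟩
  rw [← ha'] at h1
  have h2 : τ.1 (algebraMap A B a) = Brnch.toClosure A a := RingHom.congr_fun τ.2 a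
  rw [h2] at h1
  have h3 : algebraMap (ResidueField A) (AlgebraicClosure (ResidueField A)) (residue A a) = 0 := h1
  rw [map_eq_zero_iff _ (algebraMap (ResidueField A)
    (AlgebraicClosure (ResidueField A))).injective, residue_eq_zero_iff] at h3
  exact h3

theorem isCoprime_asIdeal :
    Pairwise (Function.onFun IsCoprime fun M : MaximalSpectrum B => M.asIdeal) := by
  intro M M' hne
  exact Ideal.isCoprime_iff_sup_eq.mpr (Ideal.IsMaximal.coprime_of_ne M.isMaximal M'.isMaximal
    (fun h => hne (MaximalSpectrum.ext h)))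

theorem isCoprime_asIdeal_pow (N : ℕ) :
    Pairwise (Function.onFun IsCoprime fun M : MaximalSpectrum B => M.asIdeal ^ N) :=
  fun _ _ hne => (isCoprime_asIdeal A hne).pow

theorem iInf_pow [IsNoetherianRing A] (N : ℕ) :
    (⨅ M : MaximalSpectrum B, M.asIdeal ^ N) = (⨅ M : MaximalSpectrum B, M.asIdeal) ^ N := by
  haveI : Finite (MaximalSpectrum B) :=
    Groth.Agent.Lib.Helper56.BranchCpl.finite_maximalSpectrum_of_finite A B
  cases nonempty_fintype (MaximalSpectrum B)
  have h1 := Ideal.prod_eq_iInf_of_pairwise_isCoprime (s := Finset.univ)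
    (J := fun M : MaximalSpectrum B => M.asIdeal ^ N)
    (fun M _ M' _ hne => isCoprime_asIdeal_pow A N hne)
  have h2 := Ideal.prod_eq_iInf_of_pairwise_isCoprime (s := Finset.univ)
    (J := fun M : MaximalSpectrum B => M.asIdeal)
    (fun M _ M' _ hne => isCoprime_asIdeal A hne)
  simp only [Finset.mem_univ, iInf_pos] at h1 h2
  rw [← h1, ← h2, Finset.prod_pow]

include h in
theorem exists_of_mem_pow (N : ℕ) :
    ∀ b ∈ (⨅ M : MaximalSpectrum B, M.asIdeal) ^ (N + 1),
      ∃ a ∈ (maximalIdeal A) ^ (N + 1), algebraMap A B a = b := by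
  induction N with
  | zero =>
    intro b hb
    rw [zero_add, pow_one] at hb
    obtain ⟨a, ha, hab⟩ := exists_of_forall_mem A h b (fun M => (Ideal.mem_iInf.mp hb) M)
    exact ⟨a, by rwa [zero_add, pow_one], hab⟩
  | succ N ih =>
    intro b hb
    rw [pow_succ] at hb
    refine Submodule.mul_induction_on hb ?_ ?_
    · intro x hx y hy
      obtain ⟨ax, hax, rfl⟩ := ih x hx
      obtain ⟨ay, hay, rfl⟩ := exists_of_forall_mem A h y (fun M => (Ideal.mem_iInf.mp hy) M)
      exact ⟨ax * ay, by rw [pow_succ]; exact Ideal.mul_mem_mul hax hay, map_mul _ _ _⟩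
    · rintro x y ⟨ax, hax, rfl⟩ ⟨ay, hay, rfl⟩
      exact ⟨ax + ay, Ideal.add_mem _ hax hay, map_add _ _ _⟩

end Global

end Groth.Agent.Lib.Helper56.Multi
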