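import Mathlib
import Groth.Prelude.Def_Brnch
import Groth.Prelude.Def_Curv2
import Groth.Prelude.Def_Found
import Groth.Agent.Lib.Helper56.Multi5

set_option autoImplicit false
set_option linter.style.haveILetI false
set_option linter.unusedSectionVars false

namespace Groth.Agent.Lib.Helper56.Multi

open PowerSeries IsLocalRing TensorProduct

universe u

section Final

variable (k : Type u) [Field k] (A : Type u) [CommRing A] [IsLocalRing A] [Algebra k A]
  [IsReduced A] [IsSepClosed (ResidueField A)] [IsNoetherianRing A]
  [Module.Finite A (integralClosure A (FractionRing A))]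
  (hdim : ringKrullDim A = 1)
  (hres : Function.Bijective (algebraMap k (ResidueField A)))
  (h : Module.length A ((integralClosure A (FractionRing A)) ⧸
    LinearMap.range (Algebra.linearMap A (integralClosure A (FractionRing A)))) + 1 ≤
      ENat.card (TBr A))

local notation "B" => integralClosure A (FractionRing A)

include hdim hres h in
theorem multicross (n : ℕ) (e : Fin n ≃ MaximalSpectrum B) :
    ∃ φ : AdicCompletion (maximalIdeal A) A →+* (Fin n → PowerSeries k),
      Function.Injective φ ∧
      (∀ c : k, φ (algebraMap A (AdicCompletion (maximalIdeal A) A) (algebraMap k A c)) =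
        fun _ => PowerSeries.C c) ∧
      Set.range φ = {f : Fin n → PowerSeries k |
        ∀ i j : Fin n, constantCoeff (f i) = constantCoeff (f j)} := by
  have hbranch : ∀ M : MaximalSpectrum B, ∃ Θ : B →+* PowerSeries k,
      (∀ c : k, Θ (((algebraMap A B).comp (algebraMap k A)) c) = PowerSeries.C c) ∧
      (∀ (N : ℕ) (b : B), (X : PowerSeries k) ^ N ∣ Θ b ↔ b ∈ M.asIdeal ^ N) ∧
      (∀ (N : ℕ) (f : PowerSeries k), ∃ b : B, (X : PowerSeries k) ^ N ∣ Θ b - f) := by
    intro M
    haveI := M.isMaximal
    obtain ⟨hdom, hdvr⟩ :=
      Groth.Agent.Lib.Helper52.NormCountB.isDVR_localization A hdim M.asIdeal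
    exact exists_branch_hom ((algebraMap A B).comp (algebraMap k A)) M.asIdeal
      (hresB k A h hres M.asIdeal)
  choose Θ hΘ1 hΘ2 hΘ3 using hbranch
  have h5 : ∀ a ∈ maximalIdeal A, ∀ j : Fin n,
      (X : PowerSeries k) ∣ ((Θ (e j)).comp (algebraMap A B)) a := by
    intro a ha j
    haveI := (e j).isMaximal
    have := (hΘ2 (e j) 1 (algebraMap A B a)).mpr (by
      rw [pow_one]
      exact algebraMap_mem A (e j).asIdeal a ha)
    rwa [pow_one] at this
  have h1 : ∀ (j : Fin n) (c : k),
      ((Θ (e j)).comp (algebraMap A B)) (algebraMap k A c) = PowerSeries.C c :=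
    fun j c => hΘ1 (e j) c
  have h6 : ∀ a : A, ∃ c : k, a - algebraMap k A c ∈ maximalIdeal A := residue_repr k A hres
  have h4 : ∀ (N : ℕ) (a : A),
      (∀ j : Fin n, (X : PowerSeries k) ^ N ∣ ((Θ (e j)).comp (algebraMap A B)) a) →
        a ∈ (maximalIdeal A) ^ N := by
    intro N a ha
    cases N with
    | zero => rw [pow_zero, Ideal.one_eq_top]; trivial
    | succ N =>
      have hmem : algebraMap A B a ∈ ⨅ M : MaximalSpectrum B, M.asIdeal ^ (N + 1) := by
        rw [Ideal.mem_iInf]
        intro M
        have := ha (e.symm M)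
        rw [e.apply_symm_apply] at this
        exact (hΘ2 M (N + 1) _).mp this
      rw [iInf_pow] at hmem
      obtain ⟨a', ha', haa'⟩ := exists_of_mem_pow A h N _ hmem
      rw [← algebraMap_injective A haa']
      exact ha'
  have h2 : ∀ f : Fin n → PowerSeries k,
      (∀ i j, constantCoeff (f i) = constantCoeff (f j)) →
      ∀ N : ℕ, ∃ a : A, ∀ j : Fin n,
        (X : PowerSeries k) ^ N ∣ ((Θ (e j)).comp (algebraMap A B)) a - f j := by
    intro f hf N
    cases N with
    | zero => exact ⟨0, fun j => by rw [pow_zero]; exact one_dvd _⟩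
    | succ N =>
      rcases Nat.eq_zero_or_pos n with hn0 | hnpos
      · subst hn0
        exact ⟨0, fun j => j.elim0⟩
      · let j₀ : Fin n := ⟨0, hnpos⟩
        haveI : Finite (MaximalSpectrum B) :=
          Groth.Agent.Lib.Helper56.BranchCpl.finite_maximalSpectrum_of_finite A B
        choose bM hbM using fun M : MaximalSpectrum B => hΘ3 M (N + 1) (f (e.symm M))
        obtain ⟨b, hb⟩ := Ideal.exists_forall_sub_mem_ideal (isCoprime_asIdeal_pow A (N + 1)) bM
        have hclose : ∀ M : MaximalSpectrum B,
            (X : PowerSeries k) ^ (N + 1) ∣ Θ M b - f (e.symm M) := by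
          intro M
          have e1 : Θ M b - f (e.symm M) = Θ M (b - bM M) + (Θ M (bM M) - f (e.symm M)) := by
            rw [map_sub]
            ring
          rw [e1]
          exact dvd_add ((hΘ2 M (N + 1) _).mpr (hb M)) (hbM M)
        have hmemM : ∀ M : MaximalSpectrum B,
            b - ((algebraMap A B).comp (algebraMap k A)) (constantCoeff (f j₀)) ∈ M.asIdeal := by
          intro M
          have hX : (X : PowerSeries k) ^ 1 ∣
              Θ M (b - ((algebraMap A B).comp (algebraMap k A)) (constantCoeff (f j₀))) := by
            rw [map_sub, hΘ1, pow_one]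
            have e2 : Θ M b - PowerSeries.C (constantCoeff (f j₀)) =
                (Θ M b - f (e.symm M)) + (f (e.symm M) - PowerSeries.C (constantCoeff (f j₀))) := by
              ring
            rw [e2]
            refine dvd_add ((dvd_pow_self _ (Nat.succ_ne_zero N)).trans (hclose M)) ?_
            rw [PowerSeries.X_dvd_iff, map_sub, constantCoeff_C, sub_eq_zero]
            exact hf _ _
          have := (hΘ2 M 1 _).mp hX
          rwa [pow_one] at this
        obtain ⟨a₀, -, ha₀⟩ := exists_of_forall_mem A h _ hmemM
        refine ⟨a₀ + algebraMap k A (constantCoeff (f j₀)), fun j => ?_⟩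
        have hab : algebraMap A B (a₀ + algebraMap k A (constantCoeff (f j₀))) = b := by
          rw [map_add, ha₀]
          show b - (algebraMap A B) (algebraMap k A (constantCoeff (f j₀))) +
            (algebraMap A B) (algebraMap k A (constantCoeff (f j₀))) = b
          ring
        rw [RingHom.comp_apply, hab]
        have := hclose (e j)
        rwa [e.symm_apply_apply] at this
  exact main (maximalIdeal A) (algebraMap k A) (fun j => (Θ (e j)).comp (algebraMap A B))
    h5 h1 h2 h4 h6

end Final

end Groth.Agent.Lib.Helper56.Multi
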