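import Mathlib
import Groth.Prelude.Def_Brnch
import Groth.Prelude.Def_Curv2
import Groth.Agent.Lib.Helper56.MC1
import Groth.Agent.Lib.Helper56.MC3
import Groth.Agent.Lib.Helper56.MC4
import Groth.Agent.Lib.Helper56.DimOneN2c
import Groth.Agent.Lib.Helper56.DeltaChart
import Groth.Agent.S0547
import Groth.Agent.S12218

set_option autoImplicit false
set_option linter.style.haveILetI false
set_option linter.unusedSectionVars false

namespace Groth.Agent.Lib.Helper56.MC

open IsLocalRing MvPowerSeries

universe u

theorem isMulticross_psiBar (k : Type u) [Field k] (n : ℕ) (hn : 0 < n) :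
    IsMulticross (psiBar k n) :=
  ⟨psiBar_injective k n hn, range_psiBar k n hn⟩

theorem eq_zero_or_isUnit_of_fin_zero (k : Type u) [Field k]
    (x : MvPowerSeries (Fin 0) k ⧸ crossIdeal k 0) : x = 0 ∨ IsUnit x := by
  obtain ⟨f, rfl⟩ := Ideal.Quotient.mk_surjective x
  by_cases hc : constantCoeff f = 0
  · left
    have : f = 0 := by
      ext d
      have hd : d = 0 := Subsingleton.elim _ _
      rw [hd, coeff_zero_eq_constantCoeff_apply, hc, map_zero]
    rw [this, map_zero]
  · right
    have : IsUnit f := by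
      rw [MvPowerSeries.isUnit_iff_constantCoeff]
      exact isUnit_iff_ne_zero.mpr hc
    exact this.map _

theorem exists_mem_maximalIdeal_ne_zero (B : Type u) [CommRing B] [IsLocalRing B]
    (hdim : ringKrullDim B = 1) : ∃ a : B, a ∈ maximalIdeal B ∧ a ≠ 0 := by
  by_contra hcon
  push Not at hcon
  have hbot : maximalIdeal B = ⊥ := by
    rw [eq_bot_iff]
    intro a ha
    exact hcon a ha
  have hfield : IsField B := IsLocalRing.isField_iff_maximalIdeal_eq.mpr hbot
  have : ringKrullDim B = 0 := by
    let _ := hfield.toField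
    exact ringKrullDim_eq_zero_of_field B
  rw [this] at hdim
  exact absurd hdim (by norm_num)

section Bwd

variable (k : Type u) [Field k] (A : Type u) [CommRing A] [IsLocalRing A] [IsReduced A]

theorem numBranches_le_deltaInv_add_one (hN : CAlg.IsNagata A) (hdim : ringKrullDim A = 1) :
    Brnch.numBranches A ≤ Curv2.deltaInv A + 1 := by
  haveI : IsNoetherianRing A := hN.1
  haveI hfin : Module.Finite A (integralClosure A (FractionRing A)) :=
    Groth.Agent.Lib.Helper56.DeltaMain.finite_integralClosure A hN
  obtain ⟨j, hj1, hj2⟩ := Groth.Agent.Lib.Helper56.Wedge.exists_hom_normRed A hN hdim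
  have c1 := Groth.Agent.Lib.Helper56.Multi.card_maximalSpectrum_le_of_surjective j hj2
  have c2 := Groth.Agent.Lib.Helper56.Multi.card_maximalSpectrum_le A
    (integralClosure A (FractionRing A))
  have c3 := Groth.Agent.Lib.Helper56.DeltaCount.card_le_length_add_one A
    (integralClosure A (FractionRing A))
  have hnb : Brnch.numBranches A = ENat.card (MaximalSpectrum (CAlg2.normRed A)) := by
    unfold Brnch.numBranches
    rw [if_pos (minimalPrimes.finite_of_isNoetherianRing A)]
  rw [hnb]
  exact c1.trans (c2.trans c3)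

theorem bwd (hN : CAlg.IsNagata A) (hdim : ringKrullDim A = 1) (n : ℕ)
    (e : AdicCompletion (maximalIdeal A) A ≃+* (MvPowerSeries (Fin n) k ⧸ crossIdeal k n)) :
    Brnch.numBranches A = n ∧ Curv2.deltaInv A + 1 = n := by
  haveI : IsNoetherianRing A := hN.1
  haveI hNc : IsNoetherianRing (AdicCompletion (maximalIdeal A) A) :=
    Groth.Agent.S0543.result A _
  have hdimc : ringKrullDim (AdicCompletion (maximalIdeal A) A) = 1 := by
    rw [Groth.Agent.S0547.result A, hdim]
  rcases Nat.eq_zero_or_pos n with h0 | hn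
  · exfalso
    subst h0
    obtain ⟨a, ha, ha0⟩ :=
      exists_mem_maximalIdeal_ne_zero (AdicCompletion (maximalIdeal A) A) hdimc
    rcases eq_zero_or_isUnit_of_fin_zero k (e a) with h | h
    · exact ha0 (e.injective (by rw [h, map_zero]))
    · have : IsUnit a := by
        have := h.map (e.symm : _ →+* AdicCompletion (maximalIdeal A) A)
        simpa using this
      exact ha this
  · obtain ⟨n', rfl⟩ := Nat.exists_eq_succ_of_ne_zero hn.ne'
    have hφ : IsMulticross ((psiBar k (n' + 1)).comp
        (e : AdicCompletion (maximalIdeal A) A →+* _)) :=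
      (isMulticross_psiBar k (n' + 1) hn).comp_ringEquiv e
    have h1 : Brnch.numBranches A = ((n' + 1 : ℕ) : ℕ∞) := by
      rw [numBranches_eq_card A hN hdim, hφ.card_minimalPrimes]
    have h2 : Curv2.deltaInv (AdicCompletion (maximalIdeal A) A) ≤ n' := hφ.deltaInv_le
    have h3 := Groth.Agent.Lib.Helper56.DeltaMain.deltaInv_completion A hN hdim
    have h4 := numBranches_le_deltaInv_add_one A hN hdim
    refine ⟨h1, le_antisymm ?_ (by rw [← h1]; exact h4)⟩
    rw [← h3]
    calc Curv2.deltaInv (AdicCompletion (maximalIdeal A) A) + 1 ≤ (n' : ℕ∞) + 1 :=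
          add_le_add_left h2 1
      _ = ((n' + 1 : ℕ) : ℕ∞) := by push_cast; rfl

end Bwd

section Fwd

variable (k : Type u) [Field k] [IsSepClosed k]
  (A : Type u) [CommRing A] [IsLocalRing A] [Algebra k A] [IsReduced A]

theorem fwd (hdim : ringKrullDim A = 1) (hN : CAlg.IsNagata A)
    (hres : Function.Bijective (algebraMap k (IsLocalRing.ResidueField A)))
    (n : ℕ) (hn : Brnch.numBranches A = n) (hδ : Curv2.deltaInv A + 1 = n) :
    ∃ e : AdicCompletion (maximalIdeal A) A ≃+* (MvPowerSeries (Fin n) k ⧸ crossIdeal k n),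
      ∀ c : k, e (algebraMap A (AdicCompletion (maximalIdeal A) A) (algebraMap k A c)) =
        Ideal.Quotient.mk _ (C c) := by
  obtain ⟨φ, h1, h2, h3⟩ := Groth.Agent.S12218.result k A hdim hN hres n hn hδ
  have hnpos : 0 < n := by
    rcases Nat.eq_zero_or_pos n with h0 | h0
    · exfalso
      rw [h0] at hδ
      simp at hδ
    · exact h0
  have hψ := isMulticross_psiBar k n hnpos
  have hrange : φ.range = (psiBar k n).range := by
    apply SetLike.coe_injective
    rw [RingHom.coe_range, RingHom.coe_range, h3, hψ.2]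
  let e1 : AdicCompletion (maximalIdeal A) A ≃+* φ.range :=
    RingEquiv.ofBijective φ.rangeRestrict
      ⟨fun a b hab => h1 (congrArg Subtype.val hab), φ.rangeRestrict_surjective⟩
  let e2 : (MvPowerSeries (Fin n) k ⧸ crossIdeal k n) ≃+* (psiBar k n).range :=
    RingEquiv.ofBijective (psiBar k n).rangeRestrict
      ⟨fun a b hab => hψ.1 (congrArg Subtype.val hab), (psiBar k n).rangeRestrict_surjective⟩
  refine ⟨e1.trans ((RingEquiv.subringCongr hrange).trans e2.symm), ?_⟩
  intro c
  rw [RingEquiv.trans_apply, RingEquiv.trans_apply, RingEquiv.symm_apply_eq]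
  apply Subtype.ext
  show φ _ = psiBar k n _
  rw [h2 c, psiBar_C]
  rfl

end Fwd

end Groth.Agent.Lib.Helper56.MC
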