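import Mathlib
import Groth.Prelude.Def_CurvBase
import Groth.Prelude.Def_Found
import Groth.Agent.Lib.Helper51.SmoothStalk
import Groth.Agent.Lib.Helper51.GenFibre
import Groth.Agent.Lib.Helper38.NagataFT7
import Groth.Agent.Lib.Helper56.DimOneN2c
import Groth.Agent.Lib.Helper73.DimFT.Scheme

set_option autoImplicit false
set_option linter.style.haveILetI false
set_option linter.unusedSectionVars false

namespace Groth.Agent.Lib.Helper56.MC

open CategoryTheory AlgebraicGeometry IsLocalRing
open Groth.Agent.Lib.Helper73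

universe u

theorem isNagata_field (k : Type u) [Field k] : CAlg.IsNagata k := by
  refine ⟨inferInstance, fun p hp => ?_⟩
  have hp0 : p = ⊥ := by
    rcases Ideal.eq_bot_or_top p with h | h
    · exact h
    · exact absurd h hp.ne_top
  subst hp0
  exact Groth.Agent.Lib.Helper56.isN2_of_isField _
    ((Ideal.Quotient.maximal_ideal_iff_isField_quotient (⊥ : Ideal k)).mp Ideal.bot_isMaximal)

section Sch

variable (k : Type u) [Field k] (X : Scheme.{u}) [X.Over (Spec (CommRingCat.of k))]
  [LocallyOfFiniteType (X ↘ (Spec (CommRingCat.of k)))]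

include k in
theorem isNagata_stalk (x : X) : CAlg.IsNagata (X.presheaf.stalk x) := by
  letI := Groth.Agent.Lib.Helper51.stalkAlg (X ↘ (Spec (CommRingCat.of k))) x
  haveI := Groth.Agent.Lib.Helper51.essFiniteType_stalk (X ↘ (Spec (CommRingCat.of k))) x
  exact Groth.Agent.Lib.Helper38.NagataFT7.isNagata_of_essFiniteType k (isNagata_field k) _

include k in
theorem ringKrullDim_stalk_eq_one
    (hequi : ∀ Z ∈ irreducibleComponents (X : Type u), topologicalKrullDim Z = 1)
    (x : X) (hx : IsClosed ({x} : Set X)) : ringKrullDim (X.presheaf.stalk x) = 1 := by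
  have hD := isDimFun_trdegNat (X ↘ (Spec (CommRingCat.of k)))
  have hx0 : trdegNat (X ↘ (Spec (CommRingCat.of k))) x = 0 :=
    trdegNat_eq_zero_of_isClosed _ hx
  have hle : ∀ η : X, ((trdegNat (X ↘ (Spec (CommRingCat.of k))) η : ℕ) : ℕ∞) ≤ 1 := by
    intro η
    have hZ := irreducibleComponent_mem_irreducibleComponents η
    have h1 := hD.topologicalKrullDim_closed_eq_iSup (isClosed_irreducibleComponent (x := η))
    rw [hequi _ hZ] at h1
    have h2 : (((trdegNat (X ↘ (Spec (CommRingCat.of k))) η : ℕ) : ℕ∞) : WithBot ℕ∞) ≤ 1 := by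
      rw [h1]
      exact le_iSup (fun t : ↥(irreducibleComponent η) =>
        (((trdegNat (X ↘ (Spec (CommRingCat.of k))) t.1 : ℕ) : ℕ∞) : WithBot ℕ∞))
        ⟨η, mem_irreducibleComponent⟩
    exact_mod_cast h2
  obtain ⟨η₀, hη₀⟩ := QuasiSober.sober (isIrreducible_irreducibleComponent (x := x))
    (isClosed_irreducibleComponent (x := x))
  have hη₀x : η₀ ⤳ x := by
    rw [specializes_iff_mem_closure, hη₀.def]
    exact mem_irreducibleComponent
  have hη₀1 : ((trdegNat (X ↘ (Spec (CommRingCat.of k))) η₀ : ℕ) : ℕ∞) = 1 := by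
    have h1 := hD.topologicalKrullDim_closure_singleton η₀
    rw [hη₀.def, hequi _ (irreducibleComponent_mem_irreducibleComponents x)] at h1
    exact_mod_cast h1.symm
  have h1 := hD.le_coheight_add hη₀x
  have h2 := hD.coheight_add_le (x := x) (N := 1) (fun η _ => hle η)
  rw [hx0] at h1 h2
  rw [hη₀1] at h1
  simp only [Nat.cast_zero, add_zero] at h1 h2
  rw [ringKrullDim_stalk_eq_coheight, le_antisymm h2 h1]
  rfl

theorem resMap_bijective [IsAlgClosed k] (x : X) (hx : IsClosed ({x} : Set X)) :
    Function.Bijective (Curv2.resMap k X x) := by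
  have h1 := Groth.Agent.Lib.Helper51.specMap_resMap k X x
  have h2 := SpecMap_residueFieldIsoBase_inv (X ↘ (Spec (CommRingCat.of k))) x hx
  have h3 : CommRingCat.ofHom (Curv2.resMap k X x) =
      (residueFieldIsoBase (X ↘ (Spec (CommRingCat.of k))) x hx).inv :=
    Spec.map_injective (h1.trans h2.symm)
  have h4 : IsIso (CommRingCat.ofHom (Curv2.resMap k X x)) := by
    rw [h3]
    infer_instance
  exact (ConcreteCategory.isIso_iff_bijective _).mp h4

end Sch

end Groth.Agent.Lib.Helper56.MC
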