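import Mathlib
import Groth.Agent.Lib.Helper56.MC3

set_option autoImplicit false
set_option linter.style.haveILetI false
set_option linter.unusedSectionVars false

namespace Groth.Agent.Lib.Helper56.MC

open IsLocalRing

universe u

variable {k : Type u} [Field k] {n' : ℕ} {R : Type u} [CommRing R] [IsLocalRing R]
  {φ : R →+* (Fin (n' + 1) → PowerSeries k)}

theorem IsMulticross.mem_maximalIdeal_iff (h : IsMulticross φ) (y : R) (j : Fin (n' + 1)) :
    y ∈ maximalIdeal R ↔ PowerSeries.constantCoeff (φ y j) = 0 := by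
  constructor
  · intro hy
    by_contra hc
    apply hy
    have hcj : ∀ i, PowerSeries.constantCoeff (φ y i) ≠ 0 := by
      intro i
      rw [h.constantCoeff_eq y i j]
      exact hc
    obtain ⟨z, hz⟩ := h.mem_range (fun i => (φ y i)⁻¹) (by
      intro a b
      rw [PowerSeries.constantCoeff_inv, PowerSeries.constantCoeff_inv,
        h.constantCoeff_eq y a b])
    have h1 : y * z = 1 := by
      apply h.1
      rw [map_mul, map_one, hz]
      funext i
      exact PowerSeries.mul_inv_cancel _ (hcj i)
    exact IsUnit.of_mul_eq_one _ h1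
  · intro hc
    rw [mem_maximalIdeal, mem_nonunits_iff]
    intro hu
    have h1 : IsUnit (φ y j) := (hu.map φ).map (Pi.evalRingHom (fun _ => PowerSeries k) j)
    have h2 := PowerSeries.isUnit_iff_constantCoeff.mp h1
    rw [hc] at h2
    exact not_isUnit_zero h2

theorem IsMulticross.X_sq_dvd (h : IsMulticross φ) (y : R) (hy : y ∈ maximalIdeal R ^ 2)
    (j : Fin (n' + 1)) : (PowerSeries.X : PowerSeries k) ^ 2 ∣ φ y j := by
  have h1 : maximalIdeal R ≤ (Ideal.span {(PowerSeries.X : PowerSeries k)}).comap (comp φ j) := by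
    intro a ha
    rw [Ideal.mem_comap, Ideal.mem_span_singleton, comp_apply, PowerSeries.X_dvd_iff]
    exact (h.mem_maximalIdeal_iff a j).mp ha
  have h2 : maximalIdeal R ^ 2 ≤
      (Ideal.span {(PowerSeries.X : PowerSeries k) ^ 2}).comap (comp φ j) := by
    calc maximalIdeal R ^ 2 ≤
        ((Ideal.span {(PowerSeries.X : PowerSeries k)}).comap (comp φ j)) ^ 2 :=
          Ideal.pow_right_mono h1 2
      _ ≤ ((Ideal.span {(PowerSeries.X : PowerSeries k)}) ^ 2).comap (comp φ j) :=
          Ideal.le_comap_pow _ 2
      _ = _ := by rw [Ideal.span_singleton_pow]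
  have h3 := h2 hy
  rw [Ideal.mem_comap, Ideal.mem_span_singleton, comp_apply] at h3
  exact h3

theorem IsMulticross.finrank_cotangentSpace (h : IsMulticross φ) :
    Module.finrank (ResidueField R) (CotangentSpace R) = n' + 1 := by
  have hex : ∀ i : Fin (n' + 1), ∃ x : R, φ x = Pi.single i PowerSeries.X :=
    fun i => h.exists_single_X i
  choose x hx using hex
  have hxm : ∀ i, x i ∈ maximalIdeal R := by
    intro i
    rw [h.mem_maximalIdeal_iff (x i) i, hx, Pi.single_eq_same, PowerSeries.constantCoeff_X]
  let v : Fin (n' + 1) → CotangentSpace R := fun i => (maximalIdeal R).toCotangent ⟨x i, hxm i⟩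
  have hsmul : ∀ (a : R) (w : CotangentSpace R), residue R a • w = a • w := by
    intro a w
    rw [← ResidueField.algebraMap_eq, algebraMap_smul]
  have hφsum : ∀ (c : Fin (n' + 1) → R) (j : Fin (n' + 1)),
      φ (∑ i, c i * x i) j = φ (c j) j * PowerSeries.X := by
    intro c j
    rw [map_sum, Finset.sum_apply, Finset.sum_eq_single j]
    · rw [map_mul, Pi.mul_apply, hx, Pi.single_eq_same]
    · intro i _ hij
      rw [map_mul, Pi.mul_apply, hx, Pi.single_eq_of_ne hij.symm, mul_zero]
    · intro hj
      exact absurd (Finset.mem_univ j) hj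
  have hli : LinearIndependent (ResidueField R) v := by
    rw [Fintype.linearIndependent_iff]
    intro g hg j
    have hc : ∀ i, ∃ c : R, residue R c = g i := fun i => residue_surjective (g i)
    choose c hc using hc
    have h1 : ∑ i, g i • v i =
        (maximalIdeal R).toCotangent ⟨∑ i, c i * x i,
          Ideal.sum_mem _ (fun i _ => Ideal.mul_mem_left _ _ (hxm i))⟩ := by
      have : (⟨∑ i, c i * x i, Ideal.sum_mem _ (fun i _ => Ideal.mul_mem_left _ _ (hxm i))⟩ :
          maximalIdeal R) = ∑ i, c i • (⟨x i, hxm i⟩ : maximalIdeal R) := by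
        apply Subtype.ext
        rw [Submodule.coe_sum]
        rfl
      rw [this, map_sum]
      refine Finset.sum_congr rfl (fun i _ => ?_)
      rw [map_smul, ← hc i, hsmul]
    rw [h1, Ideal.toCotangent_eq_zero] at hg
    have h2 := h.X_sq_dvd _ hg j
    rw [hφsum, pow_two] at h2
    have h3 : (PowerSeries.X : PowerSeries k) ∣ φ (c j) j :=
      (mul_dvd_mul_iff_right PowerSeries.X_ne_zero).mp h2
    rw [PowerSeries.X_dvd_iff] at h3
    have h4 : c j ∈ maximalIdeal R := (h.mem_maximalIdeal_iff (c j) j).mpr h3
    rw [← hc j, residue_eq_zero_iff]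
    exact h4
  have hsp : ⊤ ≤ Submodule.span (ResidueField R) (Set.range v) := by
    intro w _
    obtain ⟨⟨y, hy⟩, rfl⟩ := (maximalIdeal R).toCotangent_surjective w
    have hg : ∀ j, ∃ g : PowerSeries k, φ y j = PowerSeries.X * g := by
      intro j
      have : (PowerSeries.X : PowerSeries k) ∣ φ y j := by
        rw [PowerSeries.X_dvd_iff]
        exact (h.mem_maximalIdeal_iff y j).mp hy
      exact this
    choose g hg using hg
    have ha : ∀ j, ∃ a : R, φ a = fun _ => g j := fun j => h.exists_const (g j)
    choose a ha using ha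
    have hy' : y = ∑ i, a i * x i := by
      apply h.1
      funext j
      rw [hφsum, ha, hg, mul_comm]
    have : (⟨y, hy⟩ : maximalIdeal R) = ∑ i, a i • (⟨x i, hxm i⟩ : maximalIdeal R) := by
      apply Subtype.ext
      rw [Submodule.coe_sum]
      exact hy'
    rw [this, map_sum]
    refine Submodule.sum_mem _ (fun i _ => ?_)
    rw [map_smul, ← hsmul]
    exact Submodule.smul_mem _ _ (Submodule.subset_span ⟨i, rfl⟩)
  have hb := Module.finrank_eq_card_basis (Module.Basis.mk hli hsp)
  rw [hb, Fintype.card_fin]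

end Groth.Agent.Lib.Helper56.MC
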