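import Mathlib
import Groth.Agent.Lib.Helper56.MC5
import Groth.Agent.Lib.Helper56.MC7
import Groth.Agent.Lib.Helper77.EmbDimFlat

set_option autoImplicit false
set_option linter.style.haveILetI false
set_option linter.unusedSectionVars false

namespace Groth.Agent.Lib.Helper56.MC

open IsLocalRing MvPowerSeries

universe u

theorem finrank_cotangentSpace_of_equiv (k : Type u) [Field k]
    (A : Type u) [CommRing A] [IsLocalRing A] [IsNoetherianRing A] (n : ℕ) (hn : 0 < n)
    (e : AdicCompletion (maximalIdeal A) A ≃+* (MvPowerSeries (Fin n) k ⧸ crossIdeal k n)) :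
    Module.finrank (ResidueField A) (CotangentSpace A) = n := by
  haveI hNc : IsNoetherianRing (AdicCompletion (maximalIdeal A) A) :=
    Groth.Agent.S0543.result A _
  obtain ⟨n', rfl⟩ := Nat.exists_eq_succ_of_ne_zero hn.ne'
  have hφ : IsMulticross ((psiBar k (n' + 1)).comp
      (e : AdicCompletion (maximalIdeal A) A →+* _)) :=
    (isMulticross_psiBar k (n' + 1) hn).comp_ringEquiv e
  have h1 := hφ.finrank_cotangentSpace
  have hm : (maximalIdeal A).map (algebraMap A (AdicCompletion (maximalIdeal A) A)) =
      maximalIdeal (AdicCompletion (maximalIdeal A) A) :=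
    AdicCompletion.maximalIdeal_eq_map.symm
  rw [← spanFinrank_maximalIdeal_eq_finrank_cotangentSpace] at h1 ⊢
  rw [← Groth.Agent.Lib.Helper77.EmbDimFlat.spanFinrank_eq_of_map_eq hm]
  exact h1

end Groth.Agent.Lib.Helper56.MC
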