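import Mathlib

set_option autoImplicit false
set_option linter.style.haveILetI false
set_option linter.unusedSectionVars false

namespace Groth.Agent.Lib.Helper56.NodeAlg

open IsLocalRing

universe u

structure NodeData (A : Type u) [CommRing A] [IsLocalRing A] where
  x : A
  y : A
  a : A
  b : A
  hx : x ∈ maximalIdeal A
  hy : y ∈ maximalIdeal A
  hspan : maximalIdeal A = Ideal.span {x, y}
  hE : y ^ 2 + b * x * y + a * x ^ 2 ∈ maximalIdeal A ^ 3
  hD : b ^ 2 - 4 * a ∉ maximalIdeal A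
  hind : ∀ p q : A, p * x + q * y ∈ maximalIdeal A ^ 2 →
    p ∈ maximalIdeal A ∧ q ∈ maximalIdeal A

variable {A : Type u} [CommRing A] [IsLocalRing A]

theorem NodeData.exists_eq (d : NodeData A) {w : A} (hw : w ∈ maximalIdeal A) :
    ∃ p q : A, w = p * d.x + q * d.y := by
  rw [d.hspan, Ideal.mem_span_pair] at hw
  obtain ⟨p, q, h⟩ := hw
  exact ⟨p, q, h.symm⟩

theorem NodeData.x_ne_zero (d : NodeData A) : d.x ≠ 0 := by
  intro h0
  have := (d.hind 1 0 (by rw [h0]; simp)).1
  exact (Ideal.ne_top_iff_one _).mp (maximalIdeal.isMaximal A).ne_top this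

theorem NodeData.y_notMem_span (d : NodeData A) (c : A) : d.y ≠ c * d.x := by
  intro h
  have := (d.hind (-c) 1 (by rw [h]; ring_nf; exact Ideal.zero_mem _)).2
  exact (Ideal.ne_top_iff_one _).mp (maximalIdeal.isMaximal A).ne_top this

section Noeth

variable [IsNoetherianRing A]

theorem NodeData.sq_le (d : NodeData A) :
    maximalIdeal A ^ 2 ≤ Ideal.span {d.x} * maximalIdeal A := by
  have hjac : maximalIdeal A ≤ Ideal.jacobson ⊥ := maximalIdeal_le_jacobson ⊥
  have key : maximalIdeal A ^ 2 ≤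
      Ideal.span {d.x} * maximalIdeal A ⊔ maximalIdeal A • (maximalIdeal A ^ 2) := by
    rw [pow_two, Ideal.mul_le]
    intro u hu v hv
    obtain ⟨p, q, rfl⟩ := d.exists_eq hu
    obtain ⟨p', q', rfl⟩ := d.exists_eq hv
    have h1 : (p * d.x + q * d.y) * (p' * d.x + q' * d.y) =
        d.x * (p * p' * d.x + (p * q' + q * p') * d.y - q * q' * (d.b * d.y + d.a * d.x)) +
          q * q' * (d.y ^ 2 + d.b * d.x * d.y + d.a * d.x ^ 2) := by ring
    rw [h1]
    refine Submodule.add_mem_sup ?_ ?_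
    · refine Ideal.mul_mem_mul (Ideal.mem_span_singleton_self _) ?_
      refine Ideal.sub_mem _ (Ideal.add_mem _ (Ideal.mul_mem_left _ _ d.hx)
        (Ideal.mul_mem_left _ _ d.hy)) (Ideal.mul_mem_left _ _
          (Ideal.add_mem _ (Ideal.mul_mem_left _ _ d.hy) (Ideal.mul_mem_left _ _ d.hx)))
    · have h3 : maximalIdeal A ^ 3 = maximalIdeal A • (maximalIdeal A * maximalIdeal A) := by
        rw [smul_eq_mul, pow_succ', pow_two]
      rw [← h3]
      exact Ideal.mul_mem_left _ _ d.hE
  exact Submodule.le_of_le_smul_of_le_jacobson_bot (Ideal.fg_of_isNoetherianRing _) hjac key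

theorem NodeData.sq_eq (d : NodeData A) :
    maximalIdeal A ^ 2 = Ideal.span {d.x} * maximalIdeal A := by
  refine le_antisymm d.sq_le ?_
  rw [pow_two]
  exact Ideal.mul_mono_left ((Ideal.span_singleton_le_iff_mem _).mpr d.hx)

theorem NodeData.exists_sq (d : NodeData A) {w : A} (hw : w ∈ maximalIdeal A ^ 2) :
    ∃ w' ∈ maximalIdeal A, w = d.x * w' := by
  rw [d.sq_eq, Ideal.mem_span_singleton_mul] at hw
  obtain ⟨z, hz, h⟩ := hw
  exact ⟨z, hz, h.symm⟩

theorem NodeData.cube_eq (d : NodeData A) :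
    maximalIdeal A ^ 3 = Ideal.span {d.x ^ 2} * maximalIdeal A := by
  rw [pow_succ', d.sq_eq, ← mul_assoc, mul_comm (maximalIdeal A) (Ideal.span {d.x}), mul_assoc,
    ← pow_two, d.sq_eq, ← mul_assoc, Ideal.span_singleton_mul_span_singleton, ← pow_two]

theorem NodeData.exists_e0 (d : NodeData A) :
    ∃ e0 ∈ maximalIdeal A, d.y ^ 2 + d.b * d.x * d.y + d.a * d.x ^ 2 = d.x ^ 2 * e0 := by
  have h := d.hE
  rw [d.cube_eq, Ideal.mem_span_singleton_mul] at h
  obtain ⟨z, hz, h⟩ := h
  exact ⟨z, hz, h.symm⟩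

theorem NodeData.x_mem_nonZeroDivisors [IsReduced A] (d : NodeData A) :
    d.x ∈ nonZeroDivisors A := by
  rw [mem_nonZeroDivisors_iff_right]
  intro z hz
  have hkill : ∀ w ∈ maximalIdeal A, w * z = 0 := by
    intro w hw
    have hw2 : w ^ 2 ∈ maximalIdeal A ^ 2 := Ideal.pow_mem_pow hw 2
    obtain ⟨w1, -, hw1⟩ := d.exists_sq hw2
    have : (w * z) ^ 2 = 0 := by
      rw [mul_pow, hw1]
      have : d.x * w1 * z ^ 2 = (z * d.x) * (w1 * z) := by ring
      rw [this, hz, zero_mul]
    exact pow_eq_zero_iff (two_ne_zero) |>.mp this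
  by_cases hzm : z ∈ maximalIdeal A
  · have := hkill z hzm
    exact pow_eq_zero_iff (two_ne_zero) |>.mp (by rw [pow_two]; exact this)
  · have hu : IsUnit z := by
      by_contra hnu
      exact hzm ((mem_maximalIdeal z).mpr hnu)
    exfalso
    apply d.x_ne_zero
    rcases hu with ⟨u, rfl⟩
    have : (↑u⁻¹ : A) * (↑u * d.x) = 0 := by rw [hz, mul_zero]
    rwa [← mul_assoc, Units.inv_mul, one_mul] at this

theorem NodeData.ringKrullDim_eq_one [IsReduced A] (d : NodeData A) : ringKrullDim A = 1 := by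
  have hreg : IsSMulRegular A d.x := by
    have h := (isRegular_iff_mem_nonZeroDivisors.mpr d.x_mem_nonZeroDivisors).left
    exact h
  have hjac : d.x ∈ Ring.jacobson A := by
    have : maximalIdeal A ≤ Ideal.jacobson ⊥ := maximalIdeal_le_jacobson ⊥
    rw [← Ideal.jacobson_bot]
    exact this d.hx
  have h1 := ringKrullDim_quotient_span_singleton_succ_eq_ringKrullDim_of_mem_jacobson hreg hjac
  have hne : Ideal.span {d.x} ≠ ⊤ := by
    intro h
    have : Ideal.span {d.x} ≤ maximalIdeal A := (Ideal.span_singleton_le_iff_mem _).mpr d.hx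
    rw [h] at this
    exact (maximalIdeal.isMaximal A).ne_top (top_le_iff.mp this)
  haveI : Nontrivial (A ⧸ Ideal.span {d.x}) := Ideal.Quotient.nontrivial_iff.mpr hne
  have h0 : Ring.KrullDimLE 0 (A ⧸ Ideal.span {d.x}) := by
    rw [Ring.krullDimLE_zero_iff]
    intro P hP
    have hcm : P.comap (Ideal.Quotient.mk (Ideal.span {d.x})) = maximalIdeal A := by
      haveI : (P.comap (Ideal.Quotient.mk (Ideal.span {d.x}))).IsPrime := Ideal.comap_isPrime _ _
      refine le_antisymm (le_maximalIdeal (Ideal.IsPrime.ne_top inferInstance)) ?_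
      intro z hz
      have hz2 : z ^ 2 ∈ maximalIdeal A ^ 2 := Ideal.pow_mem_pow hz 2
      obtain ⟨w, -, hw⟩ := d.exists_sq hz2
      have : z ^ 2 ∈ P.comap (Ideal.Quotient.mk (Ideal.span {d.x})) := by
        rw [Ideal.mem_comap, hw, map_mul]
        have : Ideal.Quotient.mk (Ideal.span {d.x}) d.x = 0 :=
          Ideal.Quotient.eq_zero_iff_mem.mpr (Ideal.mem_span_singleton_self _)
        rw [this, zero_mul]
        exact Ideal.zero_mem _
      exact Ideal.IsPrime.mem_of_pow_mem inferInstance 2 this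
    have hP' : P = (maximalIdeal A).map (Ideal.Quotient.mk (Ideal.span {d.x})) := by
      rw [← hcm, Ideal.map_comap_of_surjective _ Ideal.Quotient.mk_surjective]
    rw [hP']
    refine Ideal.IsMaximal.map_of_surjective_of_ker_le Ideal.Quotient.mk_surjective ?_
    rw [Ideal.mk_ker]
    exact (Ideal.span_singleton_le_iff_mem _).mpr d.hx
  have h2 : ringKrullDim (A ⧸ Ideal.span {d.x}) = 0 :=
    (ringKrullDimZero_iff_ringKrullDim_eq_zero).mp h0
  rw [h2, zero_add] at h1
  exact h1.symm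

end Noeth

end Groth.Agent.Lib.Helper56.NodeAlg
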