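import Mathlib
import Groth.Agent.Lib.Helper56.NodeAlg1

set_option autoImplicit false
set_option linter.style.haveILetI false
set_option linter.unusedSectionVars false

namespace Groth.Agent.Lib.Helper56.NodeAlg

open IsLocalRing

universe u

theorem nonempty_of_normalization {A R : Type u} [CommRing A] [IsLocalRing A] [CommRing R]
    [Algebra A R] {L : Type u} [Field L] (ρ : A →+* L)
    (hρ : ∀ a, ρ a = 0 ↔ a ∈ maximalIdeal A)
    (hinj : Function.Injective (algebraMap A R))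
    (h1 : ∀ w ∈ maximalIdeal A, ∀ r : R, ∃ a : A, algebraMap A R a = algebraMap A R w * r)
    (α : R) (h2 : ∀ r : R, ∃ p q : A, r = algebraMap A R p + algebraMap A R q * α)
    (τ₁ τ₂ : R →+* L) (hτ : τ₁ ≠ τ₂)
    (hτ₁ : ∀ a, τ₁ (algebraMap A R a) = ρ a) (hτ₂ : ∀ a, τ₂ (algebraMap A R a) = ρ a)
    (x₀ : R) (hx₀ : Ideal.span {x₀} = (maximalIdeal A).map (algebraMap A R))
    (hnzd : x₀ ∈ nonZeroDivisors R) :
    Nonempty (NodeData A) := by
  classical
  set ι := algebraMap A R with hι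
  have hval : ∀ (τ : R →+* L) (_ : ∀ a, τ (ι a) = ρ a) (p q : A),
      τ (ι p + ι q * α) = ρ p + ρ q * τ α := by
    intro τ hτ' p q
    rw [map_add, map_mul, hτ', hτ']
  have hr : τ₁ α ≠ τ₂ α := by
    intro h
    apply hτ
    ext r
    obtain ⟨p, q, rfl⟩ := h2 r
    rw [hval τ₁ hτ₁, hval τ₂ hτ₂, h]
  have hmapker : ∀ (τ : R →+* L) (_ : ∀ a, τ (ι a) = ρ a),
      (maximalIdeal A).map ι ≤ RingHom.ker τ := by
    intro τ hτ'
    rw [Ideal.map_le_iff_le_comap]
    intro w hw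
    rw [Ideal.mem_comap, RingHom.mem_ker, hτ', hρ]
    exact hw
  have hmem : ∀ z ∈ (maximalIdeal A).map ι, ∃ w ∈ maximalIdeal A, ι w = z := by
    intro z hz
    refine Submodule.span_induction (p := fun z _ => ∃ w ∈ maximalIdeal A, ι w = z)
      ?_ ?_ ?_ ?_ hz
    · rintro _ ⟨w, hw, rfl⟩
      exact ⟨w, hw, rfl⟩
    · exact ⟨0, Ideal.zero_mem _, map_zero _⟩
    · rintro _ _ _ _ ⟨w, hw, rfl⟩ ⟨w', hw', rfl⟩
      exact ⟨w + w', Ideal.add_mem _ hw hw', map_add _ _ _⟩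
    · rintro r _ _ ⟨w, hw, rfl⟩
      obtain ⟨a, ha⟩ := h1 w hw r
      refine ⟨a, ?_, ?_⟩
      · rw [← hρ, ← hτ₁, ha, map_mul, hτ₁, (hρ w).mpr hw, zero_mul]
      · rw [ha, smul_eq_mul, mul_comm]
  have hx₀mem : x₀ ∈ (maximalIdeal A).map ι := by
    rw [← hx₀]; exact Ideal.subset_span rfl
  obtain ⟨x, hxm, hx⟩ := hmem x₀ hx₀mem
  obtain ⟨y, hym, hy⟩ := hmem (α * x₀) (Ideal.mul_mem_left _ _ hx₀mem)
  obtain ⟨p₀, q₀, hpq⟩ := h2 (α ^ 2)
  have hroot : ∀ (τ : R →+* L) (_ : ∀ a, τ (ι a) = ρ a),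
      τ α ^ 2 + ρ (-q₀) * τ α + ρ (-p₀) = 0 := by
    intro τ hτ'
    have := congrArg τ hpq
    rw [map_pow, hval τ hτ'] at this
    rw [map_neg, map_neg, this]
    ring
  have hR1 := hroot τ₁ hτ₁
  have hR2 := hroot τ₂ hτ₂
  set r₁ := τ₁ α with hr₁
  set r₂ := τ₂ α with hr₂
  have hsub : r₁ - r₂ ≠ 0 := sub_ne_zero.mpr hr
  have hb : ρ (-q₀) = -(r₁ + r₂) := by
    have : (r₁ - r₂) * (r₁ + r₂ + ρ (-q₀)) = 0 := by linear_combination hR1 - hR2
    rcases mul_eq_zero.mp this with h | h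
    · exact absurd h hsub
    · linear_combination h
  have ha : ρ (-p₀) = r₁ * r₂ := by
    rw [hb] at hR1
    linear_combination hR1
  have hmsq : ∀ w ∈ maximalIdeal A ^ 2, ∃ r : R, ι w = x₀ ^ 2 * r := by
    intro w hw
    have h3 : ι w ∈ ((maximalIdeal A).map ι) ^ 2 := by
      rw [← Ideal.map_pow]
      exact Ideal.mem_map_of_mem _ hw
    rw [← hx₀, Ideal.span_singleton_pow, Ideal.mem_span_singleton'] at h3
    obtain ⟨r, hr⟩ := h3
    exact ⟨r, by rw [← hr, mul_comm]⟩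
  refine ⟨{ x := x, y := y, a := -p₀, b := -q₀, hx := hxm, hy := hym,
            hspan := ?_, hE := ?_, hD := ?_, hind := ?_ }⟩
  · apply le_antisymm
    · intro w hw
      have h3 : ι w ∈ (maximalIdeal A).map ι := Ideal.mem_map_of_mem _ hw
      rw [← hx₀, Ideal.mem_span_singleton'] at h3
      obtain ⟨r, hr⟩ := h3
      obtain ⟨p, q, rfl⟩ := h2 r
      rw [Ideal.mem_span_pair]
      refine ⟨p, q, hinj ?_⟩
      rw [map_add, map_mul, map_mul, hx, hy, ← hr]
      ring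
    · rw [Ideal.span_le]
      intro z hz
      rcases hz with rfl | rfl
      · exact hxm
      · exact hym
  · have h0 : y ^ 2 + -q₀ * x * y + -p₀ * x ^ 2 = 0 := by
      apply hinj
      rw [map_zero, map_add, map_add, map_mul, map_mul, map_mul, map_pow, map_pow, hx, hy,
        map_neg, map_neg]
      have : (α * x₀) ^ 2 = (ι p₀ + ι q₀ * α) * x₀ ^ 2 := by rw [← hpq]; ring
      rw [this]
      ring
    rw [h0]
    exact Ideal.zero_mem _
  · intro h
    rw [← hρ, map_sub, map_mul, map_pow, map_ofNat, hb, ha] at h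
    apply hsub
    have : (r₁ - r₂) ^ 2 = 0 := by linear_combination h
    exact pow_eq_zero_iff (two_ne_zero) |>.mp this
  · intro p q hpq'
    obtain ⟨r, hr'⟩ := hmsq _ hpq'
    have h3 : x₀ * (ι p + ι q * α) = x₀ * (x₀ * r) := by
      rw [map_add, map_mul, map_mul, hx, hy] at hr'
      linear_combination hr'
    have h4 : ι p + ι q * α = x₀ * r := by
      have h5 : x₀ * ((ι p + ι q * α) - x₀ * r) = 0 := by
        rw [mul_sub, h3, sub_self]
      have := (mem_nonZeroDivisors_iff.mp hnzd).1 _ h5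
      exact sub_eq_zero.mp this
    have h6 : ι p + ι q * α ∈ (maximalIdeal A).map ι := by
      rw [h4]
      exact Ideal.mul_mem_right _ _ hx₀mem
    have e1 := hmapker τ₁ hτ₁ h6
    have e2 := hmapker τ₂ hτ₂ h6
    rw [RingHom.mem_ker, hval τ₁ hτ₁] at e1
    rw [RingHom.mem_ker, hval τ₂ hτ₂] at e2
    have hq0 : ρ q = 0 := by
      have : ρ q * (r₁ - r₂) = 0 := by linear_combination e1 - e2
      rcases mul_eq_zero.mp this with h | h
      · exact h
      · exact absurd h hsub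
    have hp0 : ρ p = 0 := by
      rw [hq0] at e1
      linear_combination e1
    exact ⟨(hρ p).mp hp0, (hρ q).mp hq0⟩

end Groth.Agent.Lib.Helper56.NodeAlg
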