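import Mathlib

set_option autoImplicit false
set_option linter.style.haveILetI false
set_option linter.unusedSectionVars false

namespace Groth.Agent.Lib.Helper56.NodeAlg

open IsLocalRing

universe u

variable {R : Type u} [CommRing R]

theorem not_le_mul_of_nzd (I : Ideal R) (hfg : I.FG) (t : R) (ht : t ∈ I)
    (htn : t ∈ nonZeroDivisors R) (M : Ideal R) (hM : M ≠ ⊤) : ¬ I ≤ M * I := by
  intro hle
  obtain ⟨r, hr1, hr2⟩ := Submodule.exists_sub_one_mem_and_smul_eq_zero_of_fg_of_le_smul M I hfg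
    (by rw [smul_eq_mul]; exact hle)
  have h0 : r * t = 0 := hr2 t ht
  have hr0 : r = 0 := (mem_nonZeroDivisors_iff.mp htn).2 r h0
  rw [hr0, zero_sub] at hr1
  apply hM
  rw [Ideal.eq_top_iff_one]
  have := M.neg_mem hr1
  rwa [neg_neg] at this

theorem map_le_span_of_notMem (I : Ideal R) (P : Ideal R) [hP : P.IsMaximal]
    [IsDomain (Localization.AtPrime P)] [IsPrincipalIdealRing (Localization.AtPrime P)]
    (x₀ : R) (hx₀ : x₀ ∈ I) (hx₀P : x₀ ∉ P * I) :
    I.map (algebraMap R (Localization.AtPrime P)) ≤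
      (Ideal.span {x₀}).map (algebraMap R (Localization.AtPrime P)) := by
  set S := Localization.AtPrime P with hS
  have hprin : (I.map (algebraMap R S)).IsPrincipal := IsPrincipalIdealRing.principal _
  obtain ⟨g, hg⟩ := hprin
  have hg' : I.map (algebraMap R S) = Ideal.span {g} := hg
  have h1 : algebraMap R S x₀ ∈ Ideal.span {g} := by
    rw [← hg']
    exact Ideal.mem_map_of_mem _ hx₀
  rw [Ideal.mem_span_singleton'] at h1
  obtain ⟨v, hv⟩ := h1
  have hvu : IsUnit v := by
    by_contra hnu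
    have hvm : v ∈ maximalIdeal S := (mem_maximalIdeal _).mpr hnu
    rw [← IsLocalization.AtPrime.map_eq_maximalIdeal P S] at hvm
    have h2 : algebraMap R S x₀ ∈ (P * I).map (algebraMap R S) := by
      rw [Ideal.map_mul, ← hv]
      apply Ideal.mul_mem_mul hvm
      rw [hg']
      exact Ideal.subset_span rfl
    rw [IsLocalization.mem_map_algebraMap_iff P.primeCompl S] at h2
    obtain ⟨⟨⟨j, hj⟩, ⟨s, hs⟩⟩, hjs⟩ := h2
    simp only at hjs
    rw [← map_mul, IsLocalization.eq_iff_exists P.primeCompl S] at hjs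
    obtain ⟨⟨c, hc⟩, hcs⟩ := hjs
    simp only at hcs
    have hcsP : c * s ∉ P := by
      intro h
      rcases hP.isPrime.mem_or_mem h with h | h
      · exact hc h
      · exact hs h
    obtain ⟨w, m', hm', hw⟩ := hP.exists_inv hcsP
    apply hx₀P
    have : x₀ = w * (c * j) + m' * x₀ := by
      rw [← hcs]
      linear_combination (-x₀) * hw
    rw [this]
    apply Ideal.add_mem
    · exact Ideal.mul_mem_left _ _ (Ideal.mul_mem_left _ _ hj)
    · exact Ideal.mul_mem_mul hm' hx₀
  rw [hg', Ideal.map_span, Set.image_singleton, Ideal.span_singleton_le_span_singleton]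
  obtain ⟨v', hv'⟩ := hvu.exists_left_inv
  exact ⟨v', by rw [← hv]; linear_combination (-g) * hv'⟩

theorem exists_span_singleton_eq (I : Ideal R) (hfg : I.FG) (t : R) (ht : t ∈ I)
    (htn : t ∈ nonZeroDivisors R) (M₁ M₂ : Ideal R) [h1 : M₁.IsMaximal] [h2 : M₂.IsMaximal]
    (hM : ∀ M : Ideal R, M.IsMaximal → M = M₁ ∨ M = M₂)
    (hpid : ∀ (M : Ideal R) [M.IsMaximal], ∃ _ : IsDomain (Localization.AtPrime M),
      IsPrincipalIdealRing (Localization.AtPrime M)) :
    ∃ x₀ : R, Ideal.span {x₀} = I ∧ x₀ ∈ nonZeroDivisors R := by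
  have hn1 := not_le_mul_of_nzd I hfg t ht htn M₁ h1.ne_top
  have hn2 := not_le_mul_of_nzd I hfg t ht htn M₂ h2.ne_top
  have hnot : ¬ ((I : Set R) ⊆ (M₁ * I : Ideal R) ∪ (M₂ * I : Ideal R)) := by
    rw [Ideal.subset_union]
    rintro (h | h)
    · exact hn1 h
    · exact hn2 h
  rw [Set.not_subset] at hnot
  obtain ⟨x₀, hx₀I, hx₀U⟩ := hnot
  have hx1 : x₀ ∉ M₁ * I := fun h => hx₀U (Or.inl h)
  have hx2 : x₀ ∉ M₂ * I := fun h => hx₀U (Or.inr h)
  have heq : Ideal.span {x₀} = I := by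
    apply le_antisymm
    · rw [Ideal.span_le, Set.singleton_subset_iff]
      exact hx₀I
    · apply Ideal.le_of_localization_maximal
      intro P hP
      obtain ⟨hdom, hpir⟩ := hpid P
      rcases hM P hP with rfl | rfl
      · exact map_le_span_of_notMem I P x₀ hx₀I hx1
      · exact map_le_span_of_notMem I P x₀ hx₀I hx2
  refine ⟨x₀, heq, ?_⟩
  rw [← heq, Ideal.mem_span_singleton'] at ht
  obtain ⟨r, hr⟩ := ht
  rw [mem_nonZeroDivisors_iff]
  have key : ∀ z, x₀ * z = 0 → z = 0 := by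
    intro z hz
    apply (mem_nonZeroDivisors_iff.mp htn).1
    rw [← hr]
    linear_combination r * hz
  refine ⟨key, ?_⟩
  intro z hz
  apply key
  rw [mul_comm]; exact hz

end Groth.Agent.Lib.Helper56.NodeAlg
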