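import Mathlib
import Groth.Prelude.Def_Brnch
import Groth.Prelude.Def_Curv2
import Groth.Prelude.Def_Found
import Groth.Agent.Lib.Helper56.NodeAlg10
import Groth.Agent.Lib.Helper56.NodeAlg11
import Groth.Agent.Lib.Helper56.Wedge2
import Groth.Agent.Lib.Helper56.DeltaMain2
import Groth.Agent.Lib.Helper52.NormCountB

set_option autoImplicit false
set_option linter.style.haveILetI false
set_option linter.unusedSectionVars false

namespace Groth.Agent.Lib.Helper56.NodeAlg

open IsLocalRing

universe u

theorem hom_eq_or {A R : Type u} [CommRing A] [CommRing R] [Algebra A R] {L : Type u} [Field L]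
    (ρ : A →+* L) (α : R)
    (h2 : ∀ r : R, ∃ p q : A, r = algebraMap A R p + algebraMap A R q * α)
    (τ₁ τ₂ τ : R →+* L) (hne : τ₁ ≠ τ₂)
    (hτ₁ : ∀ a, τ₁ (algebraMap A R a) = ρ a) (hτ₂ : ∀ a, τ₂ (algebraMap A R a) = ρ a)
    (hτ : ∀ a, τ (algebraMap A R a) = ρ a) : τ = τ₁ ∨ τ = τ₂ := by
  have hval : ∀ (τ' : R →+* L) (_ : ∀ a, τ' (algebraMap A R a) = ρ a) (p q : A),
      τ' (algebraMap A R p + algebraMap A R q * α) = ρ p + ρ q * τ' α := by
    intro τ' hτ' p q
    rw [map_add, map_mul, hτ', hτ']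
  have hext : ∀ (τ' τ'' : R →+* L) (_ : ∀ a, τ' (algebraMap A R a) = ρ a)
      (_ : ∀ a, τ'' (algebraMap A R a) = ρ a), τ' α = τ'' α → τ' = τ'' := by
    intro τ' τ'' h' h'' h
    ext r
    obtain ⟨p, q, rfl⟩ := h2 r
    rw [hval τ' h', hval τ'' h'', h]
  have hr : τ₁ α ≠ τ₂ α := fun h => hne (hext τ₁ τ₂ hτ₁ hτ₂ h)
  obtain ⟨p₀, q₀, hpq⟩ := h2 (α ^ 2)
  have hroot : ∀ (τ' : R →+* L) (_ : ∀ a, τ' (algebraMap A R a) = ρ a),
      τ' α ^ 2 = ρ p₀ + ρ q₀ * τ' α := by
    intro τ' hτ'
    have := congrArg τ' hpq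
    rw [map_pow, hval τ' hτ'] at this
    exact this
  have hR1 := hroot τ₁ hτ₁
  have hR2 := hroot τ₂ hτ₂
  have hR := hroot τ hτ
  have hsub : τ₁ α - τ₂ α ≠ 0 := sub_ne_zero.mpr hr
  have hb : ρ q₀ = τ₁ α + τ₂ α := by
    have : (τ₁ α - τ₂ α) * (τ₁ α + τ₂ α - ρ q₀) = 0 := by linear_combination hR1 - hR2
    rcases mul_eq_zero.mp this with h | h
    · exact absurd h hsub
    · linear_combination -h
  have ha : ρ p₀ = -(τ₁ α * τ₂ α) := by
    rw [hb] at hR1
    linear_combination -hR1
  have hprod : (τ α - τ₁ α) * (τ α - τ₂ α) = 0 := by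
    rw [hb, ha] at hR
    linear_combination hR
  rcases mul_eq_zero.mp hprod with h | h
  · exact Or.inl (hext τ τ₁ hτ hτ₁ (sub_eq_zero.mp h))
  · exact Or.inr (hext τ τ₂ hτ hτ₂ (sub_eq_zero.mp h))

theorem nonempty_of_delta (A : Type u) [CommRing A] [IsLocalRing A] [IsReduced A]
    (hN : CAlg.IsNagata A) (hdim : ringKrullDim A = 1) (hδ : Curv2.deltaInv A = 1)
    (hg : Brnch.numGeomBranches A = 2) : Nonempty (NodeData A) := by
  classical
  haveI : IsNoetherianRing A := hN.1
  haveI hfin : Module.Finite A (integralClosure A (FractionRing A)) :=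
    Groth.Agent.Lib.Helper56.DeltaMain.finite_integralClosure A hN
  have hlen : Module.length A (integralClosure A (FractionRing A) ⧸
      LinearMap.range (Algebra.linearMap A (integralClosure A (FractionRing A)))) = 1 := hδ
  have hcard : Module.length A (integralClosure A (FractionRing A) ⧸
      LinearMap.range (Algebra.linearMap A (integralClosure A (FractionRing A)))) + 1 ≤
      ENat.card {τ : integralClosure A (FractionRing A) →+* AlgebraicClosure (ResidueField A) //
        τ.comp (algebraMap A (integralClosure A (FractionRing A))) = Brnch.toClosure A} := by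
    rw [hlen]
    have := Groth.Agent.Lib.Helper56.Wedge.numGeomBranches_le_card A hN hdim
    rw [hg] at this
    rw [one_add_one_eq_two]
    exact this
  have hnt : Nontrivial {τ : integralClosure A (FractionRing A) →+*
      AlgebraicClosure (ResidueField A) //
        τ.comp (algebraMap A (integralClosure A (FractionRing A))) = Brnch.toClosure A} := by
    rw [← ENat.one_lt_card_iff_nontrivial]
    rw [hlen, one_add_one_eq_two] at hcard
    exact lt_of_lt_of_le (by norm_num) hcard
  obtain ⟨τ₁, τ₂, hne⟩ := exists_pair_ne {τ : integralClosure A (FractionRing A) →+*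
      AlgebraicClosure (ResidueField A) //
        τ.comp (algebraMap A (integralClosure A (FractionRing A))) = Brnch.toClosure A}
  have hsimple : IsSimpleModule A (integralClosure A (FractionRing A) ⧸
      LinearMap.range (Algebra.linearMap A (integralClosure A (FractionRing A)))) :=
    Module.length_eq_one_iff.mp hlen
  haveI := IsSimpleModule.nontrivial A (integralClosure A (FractionRing A) ⧸
      LinearMap.range (Algebra.linearMap A (integralClosure A (FractionRing A))))
  obtain ⟨q0, hq0⟩ := exists_ne (0 : integralClosure A (FractionRing A) ⧸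
      LinearMap.range (Algebra.linearMap A (integralClosure A (FractionRing A))))
  obtain ⟨α, rfl⟩ := Submodule.Quotient.mk_surjective _ q0
  have h2 : ∀ r : integralClosure A (FractionRing A), ∃ p q : A,
      r = algebraMap A (integralClosure A (FractionRing A)) p +
        algebraMap A (integralClosure A (FractionRing A)) q * α := by
    intro r
    obtain ⟨q, hq⟩ := IsSimpleModule.toSpanSingleton_surjective A hq0 (Submodule.Quotient.mk r)
    rw [LinearMap.toSpanSingleton_apply, ← Submodule.Quotient.mk_smul, eq_comm,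
      Submodule.Quotient.eq] at hq
    obtain ⟨p, hp⟩ := hq
    refine ⟨p, q, ?_⟩
    rw [Algebra.linearMap_apply] at hp
    rw [hp, Algebra.smul_def]
    ring
  have h1 : ∀ w ∈ maximalIdeal A, ∀ r : integralClosure A (FractionRing A), ∃ a : A,
      algebraMap A (integralClosure A (FractionRing A)) a =
        algebraMap A (integralClosure A (FractionRing A)) w * r := by
    intro w hw r
    obtain ⟨a, ha⟩ := Groth.Agent.Lib.Helper56.Wedge.smul_mem_range A _ hcard w hw r
    exact ⟨a, by rw [← Algebra.smul_def, ← ha]; rfl⟩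
  have hρ : ∀ a, Brnch.toClosure A a = 0 ↔ a ∈ maximalIdeal A := by
    intro a
    unfold Brnch.toClosure
    rw [RingHom.comp_apply, map_eq_zero_iff _ (RingHom.injective _), residue_eq_zero_iff]
  have hτ₁ : ∀ a, τ₁.1 (algebraMap A (integralClosure A (FractionRing A)) a) =
      Brnch.toClosure A a := fun a => RingHom.congr_fun τ₁.2 a
  have hτ₂ : ∀ a, τ₂.1 (algebraMap A (integralClosure A (FractionRing A)) a) =
      Brnch.toClosure A a := fun a => RingHom.congr_fun τ₂.2 a
  have hne' : τ₁.1 ≠ τ₂.1 := fun h => hne (Subtype.ext h)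
  obtain ⟨t, htm, htn⟩ :=
    Groth.Agent.Lib.Helper52.NormCountB.exists_mem_maximalIdeal_nonZeroDivisors A hdim
  haveI hM1 : (RingHom.ker τ₁.1).IsMaximal :=
    Groth.Agent.Lib.Helper56.Wedge.ker_isMaximal A _ τ₁
  haveI hM2 : (RingHom.ker τ₂.1).IsMaximal :=
    Groth.Agent.Lib.Helper56.Wedge.ker_isMaximal A _ τ₂
  obtain ⟨x₀, hx₀, hnzd⟩ := exists_span_singleton_eq
    ((maximalIdeal A).map (algebraMap A (integralClosure A (FractionRing A))))
    (Ideal.FG.map (IsNoetherian.noetherian _) _)
    (algebraMap A (integralClosure A (FractionRing A)) t) (Ideal.mem_map_of_mem _ htm)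
    (Groth.Agent.Lib.Helper52.NormCountB.algebraMap_mem_nonZeroDivisors A t htn)
    (RingHom.ker τ₁.1) (RingHom.ker τ₂.1)
    (by
      intro M hM
      obtain ⟨τ, hτ⟩ := Groth.Agent.Lib.Helper56.Wedge.exists_hom_ker A
        (integralClosure A (FractionRing A)) M
      rcases hom_eq_or (Brnch.toClosure A) α h2 τ₁.1 τ₂.1 τ.1 hne' hτ₁ hτ₂
        (fun a => RingHom.congr_fun τ.2 a) with h | h
      · left; rw [← hτ, h]
      · right; rw [← hτ, h])
    (by
      intro M hM
      obtain ⟨hd, hdvr⟩ := Groth.Agent.Lib.Helper52.NormCountB.isDVR_localization A hdim M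
      exact ⟨hd, inferInstance⟩)
  exact nonempty_of_normalization (Brnch.toClosure A) hρ
    (Groth.Agent.Lib.Helper52.NormCountB.algebraMap_injective A) h1 α h2 τ₁.1 τ₂.1 hne' hτ₁ hτ₂
    x₀ hx₀ hnzd

end Groth.Agent.Lib.Helper56.NodeAlg
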