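import Mathlib
import Groth.Agent.Lib.Helper56.NodeAlg1

set_option autoImplicit false
set_option linter.style.haveILetI false
set_option linter.unusedSectionVars false

namespace Groth.Agent.Lib.Helper56.NodeAlg

open IsLocalRing

universe u

variable {A : Type u} [CommRing A] [IsLocalRing A]
variable {K : Type u} [CommRing K] [Algebra A K]

structure Frame (A : Type u) [CommRing A] [IsLocalRing A] (K : Type u) [CommRing K]
    [Algebra A K] where
  d : NodeData A
  e0 : A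
  he0 : e0 ∈ maximalIdeal A
  hrel : d.y ^ 2 + d.b * d.x * d.y + d.a * d.x ^ 2 = d.x ^ 2 * e0
  α : K
  hα : algebraMap A K d.x * α = algebraMap A K d.y
  hinj : Function.Injective (algebraMap A K)
  hxu : IsUnit (algebraMap A K d.x)

namespace Frame

variable (F : Frame A K)

def a1 : A := F.d.a - F.e0

theorem disc_notMem : F.d.b ^ 2 - 4 * F.a1 ∉ maximalIdeal A := by
  intro h
  apply F.d.hD
  have : F.d.b ^ 2 - 4 * F.d.a = (F.d.b ^ 2 - 4 * F.a1) - 4 * F.e0 := by
    unfold a1; ring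
  rw [this]
  exact Ideal.sub_mem _ h (Ideal.mul_mem_left _ _ F.he0)

theorem quad : F.α ^ 2 + algebraMap A K F.d.b * F.α + algebraMap A K F.a1 = 0 := by
  have hu : IsUnit (algebraMap A K F.d.x ^ 2) := F.hxu.pow 2
  apply hu.mul_left_cancel
  rw [mul_zero]
  have h1 : algebraMap A K F.d.x ^ 2 *
      (F.α ^ 2 + algebraMap A K F.d.b * F.α + algebraMap A K F.a1) =
      (algebraMap A K F.d.x * F.α) ^ 2 +
        algebraMap A K F.d.b * algebraMap A K F.d.x * (algebraMap A K F.d.x * F.α) +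
        algebraMap A K F.a1 * algebraMap A K F.d.x ^ 2 := by ring
  rw [h1, F.hα]
  unfold a1
  rw [← map_pow, ← map_pow, ← map_mul, ← map_mul, ← map_mul, ← map_add, ← map_add]
  have : F.d.y ^ 2 + F.d.b * F.d.x * F.d.y + (F.d.a - F.e0) * F.d.x ^ 2 = 0 := by
    have := F.hrel
    linear_combination this
  rw [this, map_zero]

theorem alpha_sq : F.α ^ 2 = -(algebraMap A K F.d.b * F.α) - algebraMap A K F.a1 := by
  have := F.quad
  linear_combination this

def B0 : Submodule A K := Submodule.span A {1, F.α}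

def T (_F : Frame A K) : Submodule A K :=
  Submodule.map (Algebra.linearMap A K) (maximalIdeal A)

theorem mem_B0 {z : K} : z ∈ F.B0 ↔ ∃ p q : A, z = algebraMap A K p + algebraMap A K q * F.α := by
  unfold B0
  rw [Submodule.mem_span_pair]
  constructor
  · rintro ⟨p, q, rfl⟩
    exact ⟨p, q, by rw [Algebra.smul_def, Algebra.smul_def, mul_one]⟩
  · rintro ⟨p, q, rfl⟩
    exact ⟨p, q, by rw [Algebra.smul_def, Algebra.smul_def, mul_one]⟩

theorem mem_T {z : K} : z ∈ F.T ↔ ∃ w ∈ maximalIdeal A, z = algebraMap A K w := by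
  unfold T
  rw [Submodule.mem_map]
  constructor
  · rintro ⟨w, hw, rfl⟩
    exact ⟨w, hw, rfl⟩
  · rintro ⟨w, hw, rfl⟩
    exact ⟨w, hw, rfl⟩

theorem algebraMap_mem_B0 (p : A) : algebraMap A K p ∈ F.B0 :=
  F.mem_B0.mpr ⟨p, 0, by rw [map_zero, zero_mul, add_zero]⟩

theorem alpha_mem_B0 : F.α ∈ F.B0 :=
  F.mem_B0.mpr ⟨0, 1, by rw [map_zero, map_one, one_mul, zero_add]⟩

theorem mul_mem_B0 {z z' : K} (hz : z ∈ F.B0) (hz' : z' ∈ F.B0) : z * z' ∈ F.B0 := by
  obtain ⟨p, q, rfl⟩ := F.mem_B0.mp hz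
  obtain ⟨p', q', rfl⟩ := F.mem_B0.mp hz'
  refine F.mem_B0.mpr ⟨p * p' - q * q' * F.a1, p * q' + q * p' - q * q' * F.d.b, ?_⟩
  have h := F.alpha_sq
  simp only [map_sub, map_add, map_mul]
  linear_combination (algebraMap A K q * algebraMap A K q') * h

theorem pow_mem_B0 {z : K} (hz : z ∈ F.B0) (n : ℕ) : z ^ n ∈ F.B0 := by
  induction n with
  | zero => rw [pow_zero]; simpa using F.algebraMap_mem_B0 1
  | succ n ih => rw [pow_succ]; exact F.mul_mem_B0 ih hz

theorem T_le_B0 : F.T ≤ F.B0 := by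
  intro z hz
  obtain ⟨w, -, rfl⟩ := F.mem_T.mp hz
  exact F.algebraMap_mem_B0 w

theorem y_mul_alpha :
    algebraMap A K F.d.y * F.α = algebraMap A K (-(F.d.b * F.d.y) - F.a1 * F.d.x) := by
  have h := F.alpha_sq
  have hα := F.hα
  simp only [map_sub, map_neg, map_mul]
  rw [← hα]
  linear_combination (algebraMap A K F.d.x) * h

theorem mem_mul_alpha {w : A} (hw : w ∈ maximalIdeal A) :
    ∃ w' ∈ maximalIdeal A, algebraMap A K w * F.α = algebraMap A K w' := by
  obtain ⟨p, q, rfl⟩ := F.d.exists_eq hw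
  refine ⟨p * F.d.y + q * (-(F.d.b * F.d.y) - F.a1 * F.d.x), ?_, ?_⟩
  · refine Ideal.add_mem _ (Ideal.mul_mem_left _ _ F.d.hy) (Ideal.mul_mem_left _ _ ?_)
    exact Ideal.sub_mem _ (Ideal.neg_mem_iff _ |>.mpr (Ideal.mul_mem_left _ _ F.d.hy))
      (Ideal.mul_mem_left _ _ F.d.hx)
  · have h1 := F.y_mul_alpha
    have h2 := F.hα
    rw [map_add, map_mul, map_mul, map_add, map_mul, map_mul, ← h1, ← h2]
    ring

theorem T_mul_B0 {t z : K} (ht : t ∈ F.T) (hz : z ∈ F.B0) : t * z ∈ F.T := by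
  obtain ⟨w, hw, rfl⟩ := F.mem_T.mp ht
  obtain ⟨p, q, rfl⟩ := F.mem_B0.mp hz
  obtain ⟨w', hw', h⟩ := F.mem_mul_alpha (Ideal.mul_mem_right q _ hw)
  refine F.mem_T.mpr ⟨w * p + w', Ideal.add_mem _ (Ideal.mul_mem_right _ _ hw) hw', ?_⟩
  rw [map_add, map_mul, ← h, map_mul]
  ring

theorem mem_T_iff {z : K} : z ∈ F.T ↔ ∃ u ∈ F.B0, z = algebraMap A K F.d.x * u := by
  constructor
  · intro hz
    obtain ⟨w, hw, rfl⟩ := F.mem_T.mp hz
    obtain ⟨p, q, rfl⟩ := F.d.exists_eq hw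
    refine ⟨algebraMap A K p + algebraMap A K q * F.α, F.mem_B0.mpr ⟨p, q, rfl⟩, ?_⟩
    have h2 := F.hα
    rw [map_add, map_mul, map_mul, ← h2]
    ring
  · rintro ⟨u, hu, rfl⟩
    exact F.T_mul_B0 (F.mem_T.mpr ⟨F.d.x, F.d.hx, rfl⟩) hu

theorem coeff_mem {p q w : A} (hw : w ∈ maximalIdeal A)
    (h : algebraMap A K p + algebraMap A K q * F.α = algebraMap A K w) :
    p ∈ maximalIdeal A ∧ q ∈ maximalIdeal A := by
  have hq : q ∈ maximalIdeal A := by
    by_contra hq
    have hu : IsUnit q := by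
      by_contra hnu
      exact hq ((mem_maximalIdeal q).mpr hnu)
    obtain ⟨u, rfl⟩ := hu
    have hαeq : F.α = algebraMap A K (↑u⁻¹ * (w - p)) := by
      have : algebraMap A K (↑u⁻¹) * (algebraMap A K ↑u * F.α) =
          algebraMap A K (↑u⁻¹) * (algebraMap A K w - algebraMap A K p) := by
        rw [← h]; ring
      rw [← mul_assoc, ← map_mul, Units.inv_mul, map_one, one_mul] at this
      rw [this, map_mul, map_sub]
    have h2 := F.hα
    rw [hαeq, ← map_mul] at h2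
    have h3 := F.hinj h2
    exact F.d.y_notMem_span (↑u⁻¹ * (w - p)) (by rw [← h3]; ring)
  refine ⟨?_, hq⟩
  obtain ⟨w', hw', h'⟩ := F.mem_mul_alpha hq
  rw [h'] at h
  have : p = w - w' := by
    apply F.hinj
    rw [map_sub, ← h]
    ring
  rw [this]
  exact Ideal.sub_mem _ hw hw'

theorem sq_mem_T {u : K} (hu : u ∈ F.B0) (h : u ^ 2 ∈ F.T) : u ∈ F.T := by
  obtain ⟨p, q, rfl⟩ := F.mem_B0.mp hu
  obtain ⟨w, hw, hw'⟩ := F.mem_T.mp h
  have hsq : (algebraMap A K p + algebraMap A K q * F.α) ^ 2 =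
      algebraMap A K (p ^ 2 - F.a1 * q ^ 2) +
        algebraMap A K (2 * p * q - F.d.b * q ^ 2) * F.α := by
    have h := F.alpha_sq
    simp only [map_sub, map_mul, map_pow, map_ofNat]
    linear_combination (algebraMap A K q) ^ 2 * h
  rw [hsq] at hw'
  obtain ⟨h1, h2⟩ := F.coeff_mem hw hw'
  have hpq : p ∈ maximalIdeal A ∧ q ∈ maximalIdeal A := by
    have hprime : (maximalIdeal A).IsPrime := (maximalIdeal.isMaximal A).isPrime
    have h2' : q * (2 * p - F.d.b * q) ∈ maximalIdeal A := by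
      have : q * (2 * p - F.d.b * q) = 2 * p * q - F.d.b * q ^ 2 := by ring
      rw [this]; exact h2
    rcases hprime.mem_or_mem h2' with hq | hq
    · refine ⟨?_, hq⟩
      have : p ^ 2 ∈ maximalIdeal A := by
        have : p ^ 2 = (p ^ 2 - F.a1 * q ^ 2) + F.a1 * q * q := by ring
        rw [this]
        exact Ideal.add_mem _ h1 (Ideal.mul_mem_left _ _ hq)
      exact hprime.mem_of_pow_mem 2 this
    · by_cases hqm : q ∈ maximalIdeal A
      · refine ⟨?_, hqm⟩
        have : p ^ 2 ∈ maximalIdeal A := by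
          have : p ^ 2 = (p ^ 2 - F.a1 * q ^ 2) + F.a1 * q * q := by ring
          rw [this]
          exact Ideal.add_mem _ h1 (Ideal.mul_mem_left _ _ hqm)
        exact hprime.mem_of_pow_mem 2 this
      · exfalso
        have h3 : (F.d.b ^ 2 - 4 * F.a1) * q ^ 2 ∈ maximalIdeal A := by
          have : (F.d.b ^ 2 - 4 * F.a1) * q ^ 2 =
              -(F.d.b * q + 2 * p) * (2 * p - F.d.b * q) + 4 * (p ^ 2 - F.a1 * q ^ 2) := by ring
          rw [this]
          exact Ideal.add_mem _ (Ideal.mul_mem_left _ _ hq) (Ideal.mul_mem_left _ _ h1)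
        rcases hprime.mem_or_mem h3 with h4 | h4
        · exact F.disc_notMem h4
        · exact hqm (hprime.mem_of_pow_mem 2 h4)
  obtain ⟨w', hw', h'⟩ := F.mem_mul_alpha hpq.2
  refine F.mem_T.mpr ⟨p + w', Ideal.add_mem _ hpq.1 hw', ?_⟩
  rw [h', map_add]

theorem pow_mem_T {u : K} (hu : u ∈ F.B0) (n : ℕ) (h : u ^ n ∈ F.T) : u ∈ F.T := by
  have key : ∀ k : ℕ, u ^ (2 ^ k) ∈ F.T → u ∈ F.T := by
    intro k
    induction k with
    | zero => intro h; simpa using h
    | succ k ih =>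
      intro h
      apply ih
      apply F.sq_mem_T (F.pow_mem_B0 hu _)
      rw [← pow_mul, ← pow_succ]
      exact h
  apply key n
  have hle : n ≤ 2 ^ n := Nat.lt_two_pow_self.le
  obtain ⟨m, hm⟩ := Nat.exists_eq_add_of_le hle
  rw [hm, pow_add]
  exact F.T_mul_B0 h (F.pow_mem_B0 hu m)

end Frame

end Groth.Agent.Lib.Helper56.NodeAlg
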