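import Mathlib
import Groth.Agent.Lib.Helper56.NodeAlg2

set_option autoImplicit false
set_option linter.style.haveILetI false
set_option linter.unusedSectionVars false

namespace Groth.Agent.Lib.Helper56.NodeAlg

open IsLocalRing

universe u

variable {A : Type u} [CommRing A] [IsLocalRing A]
variable {K : Type u} [CommRing K] [Algebra A K]

namespace Frame

variable (F : Frame A K)

theorem isIntegral_alpha : IsIntegral A F.α := by
  refine ⟨Polynomial.X ^ 2 + Polynomial.C F.d.b * Polynomial.X + Polynomial.C F.a1, ?_, ?_⟩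
  · have h1 : (Polynomial.X ^ 2 + Polynomial.C F.d.b * Polynomial.X + Polynomial.C F.a1 :
        Polynomial A) = Polynomial.X ^ 2 + (Polynomial.C F.d.b * Polynomial.X + Polynomial.C F.a1) :=
      by ring
    rw [h1]
    apply Polynomial.monic_X_pow_add
    calc (Polynomial.C F.d.b * Polynomial.X + Polynomial.C F.a1 : Polynomial A).degree
        ≤ 1 := Polynomial.degree_linear_le
      _ < 2 := by norm_num
  · simp only [Polynomial.eval₂_add, Polynomial.eval₂_mul, Polynomial.eval₂_pow,
      Polynomial.eval₂_X, Polynomial.eval₂_C]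
    exact F.quad

theorem isIntegral_of_mem_B0 {z : K} (hz : z ∈ F.B0) : IsIntegral A z := by
  obtain ⟨p, q, rfl⟩ := F.mem_B0.mp hz
  exact (isIntegral_algebraMap).add ((isIntegral_algebraMap).mul F.isIntegral_alpha)

theorem mem_T_of_isIntegral {v : K} (hv : IsIntegral A v)
    (hu : algebraMap A K F.d.x * v ∈ F.B0) : algebraMap A K F.d.x * v ∈ F.T := by
  obtain ⟨P, hmonic, hroot⟩ := hv
  set n := P.natDegree with hn
  set xK := algebraMap A K F.d.x with hxK
  rcases Nat.eq_zero_or_pos n with h0 | hpos
  · have hP : P = 1 := Polynomial.eq_one_of_monic_natDegree_zero hmonic h0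
    rw [hP, Polynomial.eval₂_one] at hroot
    have : xK * v = (xK * v) * 1 := (mul_one _).symm
    rw [this, hroot, mul_zero]
    exact Submodule.zero_mem _
  · apply F.pow_mem_T hu n
    rw [Polynomial.eval₂_eq_sum_range, Finset.sum_range_succ, ← hn, hmonic.coeff_natDegree,
      map_one, one_mul] at hroot
    have hvn : v ^ n = -∑ i ∈ Finset.range n, algebraMap A K (P.coeff i) * v ^ i := by
      linear_combination hroot
    have : (xK * v) ^ n =
        -∑ i ∈ Finset.range n, algebraMap A K (P.coeff i * F.d.x ^ (n - i)) * (xK * v) ^ i := by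
      rw [mul_pow, hvn, mul_neg, Finset.mul_sum]
      congr 1
      apply Finset.sum_congr rfl
      intro i hi
      have hi' : i < n := Finset.mem_range.mp hi
      have : xK ^ n = xK ^ (n - i) * xK ^ i := by
        rw [← pow_add, Nat.sub_add_cancel hi'.le]
      rw [this, map_mul, map_pow, mul_pow]
      ring
    rw [this]
    apply Submodule.neg_mem
    apply Submodule.sum_mem
    intro i hi
    have hi' : i < n := Finset.mem_range.mp hi
    apply F.T_mul_B0 _ (F.pow_mem_B0 hu i)
    refine F.mem_T.mpr ⟨P.coeff i * F.d.x ^ (n - i), ?_, rfl⟩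
    apply Ideal.mul_mem_left
    have : n - i = (n - i - 1) + 1 := by omega
    rw [this, pow_succ]
    exact Ideal.mul_mem_left _ _ F.d.hx

theorem mem_B0_of_mul_mem {v : K} (hv : IsIntegral A v)
    (hu : algebraMap A K F.d.x * v ∈ F.B0) : v ∈ F.B0 := by
  have h := F.mem_T_of_isIntegral hv hu
  obtain ⟨u', hu', h'⟩ := F.mem_T_iff.mp h
  have := F.hxu.mul_left_cancel h'
  rw [this]
  exact hu'

theorem mem_B0_of_pow_mul_mem {z : K} (hz : IsIntegral A z) (N : ℕ)
    (h : algebraMap A K F.d.x ^ N * z ∈ F.B0) : z ∈ F.B0 := by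
  induction N with
  | zero => simpa using h
  | succ N ih =>
    apply ih
    apply F.mem_B0_of_mul_mem
    · exact (isIntegral_algebraMap.pow N).mul hz
    · rw [← mul_assoc, ← pow_succ']
      exact h

end Frame

end Groth.Agent.Lib.Helper56.NodeAlg
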