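import Mathlib
import Groth.Agent.Lib.Helper56.NodeAlg3

set_option autoImplicit false
set_option linter.style.haveILetI false
set_option linter.unusedSectionVars false

namespace Groth.Agent.Lib.Helper56.NodeAlg

open IsLocalRing

universe u

variable {A : Type u} [CommRing A] [IsLocalRing A]

theorem NodeData.exists_pow_mem_span [IsNoetherianRing A] [IsReduced A] (d : NodeData A) (w : A)
    (hw : w ∈ nonZeroDivisors A) : ∃ N : ℕ, d.x ^ N ∈ Ideal.span {w} := by
  by_cases hwm : w ∈ maximalIdeal A
  · have hreg : IsSMulRegular A w := (isRegular_iff_mem_nonZeroDivisors.mpr hw).left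
    have hjac : w ∈ Ring.jacobson A := by
      have : maximalIdeal A ≤ Ideal.jacobson ⊥ := maximalIdeal_le_jacobson ⊥
      rw [← Ideal.jacobson_bot]
      exact this hwm
    have h1 := ringKrullDim_quotient_span_singleton_succ_eq_ringKrullDim_of_mem_jacobson hreg hjac
    rw [d.ringKrullDim_eq_one] at h1
    have hne : Ideal.span {w} ≠ ⊤ := by
      intro h
      have : Ideal.span {w} ≤ maximalIdeal A := (Ideal.span_singleton_le_iff_mem _).mpr hwm
      rw [h] at this
      exact (maximalIdeal.isMaximal A).ne_top (top_le_iff.mp this)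
    haveI : Nontrivial (A ⧸ Ideal.span {w}) := Ideal.Quotient.nontrivial_iff.mpr hne
    haveI : IsLocalRing (A ⧸ Ideal.span {w}) :=
      IsLocalRing.of_surjective' (Ideal.Quotient.mk _) Ideal.Quotient.mk_surjective
    have h2 : ringKrullDim (A ⧸ Ideal.span {w}) = 0 := by
      have hnn : (0 : WithBot ℕ∞) ≤ ringKrullDim (A ⧸ Ideal.span {w}) :=
        ringKrullDim_nonneg_of_nontrivial
      generalize ringKrullDim (A ⧸ Ideal.span {w}) = X at h1 hnn
      induction X using WithBot.recBotCoe with
      | bot => simp at hnn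
      | coe n =>
        induction n using ENat.recTopCoe with
        | top => exact absurd h1 (by decide)
        | coe k =>
          have : ((k + 1 : ℕ) : WithBot ℕ∞) = ((1 : ℕ) : WithBot ℕ∞) := by exact_mod_cast h1
          have hk : k + 1 = 1 := by exact_mod_cast this
          have : k = 0 := by omega
          subst this
          rfl
    haveI : Ring.KrullDimLE 0 (A ⧸ Ideal.span {w}) :=
      (ringKrullDimZero_iff_ringKrullDim_eq_zero).mpr h2
    have hmem : Ideal.Quotient.mk (Ideal.span {w}) d.x ∈ maximalIdeal (A ⧸ Ideal.span {w}) := by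
      rw [mem_maximalIdeal, mem_nonunits_iff]
      intro hu
      haveI : IsLocalHom (Ideal.Quotient.mk (Ideal.span {w})) :=
        Function.Surjective.isLocalHom _ Ideal.Quotient.mk_surjective
      have := isUnit_of_map_unit (Ideal.Quotient.mk (Ideal.span {w})) d.x hu
      exact (mem_maximalIdeal _).mp d.hx this
    rw [← Ring.KrullDimLE.nilradical_eq_maximalIdeal, mem_nilradical] at hmem
    obtain ⟨N, hN⟩ := hmem
    refine ⟨N, ?_⟩
    rw [← map_pow] at hN
    exact Ideal.Quotient.eq_zero_iff_mem.mp hN
  · have hu : IsUnit w := by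
      by_contra hnu
      exact hwm ((mem_maximalIdeal w).mpr hnu)
    refine ⟨0, ?_⟩
    rw [Ideal.span_singleton_eq_top.mpr hu]
    trivial

variable {K : Type u} [CommRing K] [Algebra A K]

section Frac

variable [IsNoetherianRing A] [IsReduced A] [IsFractionRing A K]

theorem exists_frame (d : NodeData A) : ∃ F : Frame A K, F.d = d := by
  obtain ⟨e0, he0, hrel⟩ := d.exists_e0
  have hxu : IsUnit (algebraMap A K d.x) :=
    IsLocalization.map_units K (⟨d.x, d.x_mem_nonZeroDivisors⟩ : nonZeroDivisors A)
  refine ⟨{ d := d, e0 := e0, he0 := he0, hrel := hrel,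
            α := algebraMap A K d.y * ↑hxu.unit⁻¹,
            hα := ?_, hinj := IsFractionRing.injective A K, hxu := hxu }, rfl⟩
  rw [mul_comm (algebraMap A K d.y), ← mul_assoc, IsUnit.mul_val_inv, one_mul]

namespace Frame

variable (F : Frame A K)

theorem exists_pow_mul_mem (z : K) : ∃ N : ℕ, algebraMap A K F.d.x ^ N * z ∈ F.B0 := by
  obtain ⟨u, w, rfl⟩ := IsLocalization.exists_mk'_eq (nonZeroDivisors A) z
  obtain ⟨N, hN⟩ := F.d.exists_pow_mem_span w.1 w.2
  obtain ⟨c, hc⟩ := Ideal.mem_span_singleton'.mp hN
  refine ⟨N, ?_⟩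
  have : algebraMap A K F.d.x ^ N * IsLocalization.mk' K u w = algebraMap A K (c * u) := by
    rw [← map_pow, ← hc, map_mul, map_mul, mul_assoc, IsLocalization.mk'_spec']
  rw [this]
  exact F.algebraMap_mem_B0 _

theorem isIntegral_iff (z : K) : IsIntegral A z ↔ z ∈ F.B0 := by
  constructor
  · intro hz
    obtain ⟨N, hN⟩ := F.exists_pow_mul_mem z
    exact F.mem_B0_of_pow_mul_mem hz N hN
  · exact F.isIntegral_of_mem_B0

theorem smul_alpha_mem_range_iff (a : A) :
    (∃ c : A, algebraMap A K c = algebraMap A K a * F.α) ↔ a ∈ maximalIdeal A := by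
  constructor
  · rintro ⟨c, hc⟩
    have h : algebraMap A K (-c) + algebraMap A K a * F.α = algebraMap A K 0 := by
      rw [map_neg, map_zero, hc]; ring
    exact (F.coeff_mem (Ideal.zero_mem _) h).2
  · intro ha
    obtain ⟨w', -, h⟩ := F.mem_mul_alpha ha
    exact ⟨w', h.symm⟩

include F in
theorem length_eq_one :
    Module.length A (↥(integralClosure A K) ⧸
      LinearMap.range (Algebra.linearMap A ↥(integralClosure A K))) = 1 := by
  let α' : integralClosure A K := ⟨F.α, F.isIntegral_alpha⟩
  let f : A →ₗ[A] (↥(integralClosure A K) ⧸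
      LinearMap.range (Algebra.linearMap A ↥(integralClosure A K))) :=
    (Submodule.mkQ _).comp (LinearMap.toSpanSingleton A (integralClosure A K) α')
  have hf : ∀ a : A, f a = Submodule.Quotient.mk (a • α') := fun a => rfl
  have hsurj : Function.Surjective f := by
    intro t
    obtain ⟨z, rfl⟩ := Submodule.Quotient.mk_surjective _ t
    obtain ⟨p, q, hpq⟩ := F.mem_B0.mp ((F.isIntegral_iff z.1).mp z.2)
    refine ⟨q, ?_⟩
    rw [hf, Submodule.Quotient.eq]
    refine ⟨-p, ?_⟩
    apply Subtype.ext
    show algebraMap A K (-p) = _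
    have : ((q • α' - z : integralClosure A K) : K) = algebraMap A K q * F.α - z.1 := by
      rw [Subalgebra.coe_sub, Subalgebra.coe_smul, Algebra.smul_def]
    rw [this, hpq, map_neg]
    ring
  have hker : LinearMap.ker f = maximalIdeal A := by
    ext a
    rw [LinearMap.mem_ker, hf, Submodule.Quotient.mk_eq_zero, ← F.smul_alpha_mem_range_iff]
    constructor
    · rintro ⟨c, hc⟩
      refine ⟨c, ?_⟩
      have := congrArg Subtype.val hc
      rw [Subalgebra.coe_smul, Algebra.smul_def] at this
      exact this
    · rintro ⟨c, hc⟩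
      refine ⟨c, ?_⟩
      apply Subtype.ext
      rw [Subalgebra.coe_smul, Algebra.smul_def]
      exact hc
  let e := f.quotKerEquivOfSurjective hsurj
  rw [← e.length_eq, hker, Module.length_eq_one_iff, isSimpleModule_iff_isCoatom]
  exact (maximalIdeal.isMaximal A).out

end Frame

end Frac

end Groth.Agent.Lib.Helper56.NodeAlg
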