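import Mathlib
import Groth.Agent.Lib.Helper56.NodeAlg4

set_option autoImplicit false
set_option linter.style.haveILetI false
set_option linter.unusedSectionVars false

namespace Groth.Agent.Lib.Helper56.NodeAlg

open IsLocalRing

universe u

variable {A : Type u} [CommRing A] [IsLocalRing A]
variable {K : Type u} [CommRing K] [Algebra A K]
variable [IsNoetherianRing A] [IsReduced A] [IsFractionRing A K]

namespace Frame

variable (F : Frame A K) {L : Type u} [Field L] (ρ : A →+* L)
  (hρ : ∀ a, ρ a = 0 ↔ a ∈ maximalIdeal A) (r : L)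

open Classical in
noncomputable def val (z : K) : L :=
  if h : z ∈ F.B0 then ρ (F.mem_B0.mp h).choose + ρ (F.mem_B0.mp h).choose_spec.choose * r else 0

include hρ in
theorem val_eq {z : K} {p q : A} (h : z = algebraMap A K p + algebraMap A K q * F.α) :
    F.val ρ r z = ρ p + ρ q * r := by
  have hz : z ∈ F.B0 := F.mem_B0.mpr ⟨p, q, h⟩
  unfold val
  rw [dif_pos hz]
  set p0 := (F.mem_B0.mp hz).choose
  set q0 := (F.mem_B0.mp hz).choose_spec.choose
  have h0 : z = algebraMap A K p0 + algebraMap A K q0 * F.α :=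
    (F.mem_B0.mp hz).choose_spec.choose_spec
  have hd : algebraMap A K (p0 - p) + algebraMap A K (q0 - q) * F.α = algebraMap A K 0 := by
    rw [map_sub, map_sub, map_zero]
    have := h0.symm.trans h
    linear_combination this
  obtain ⟨h1, h2⟩ := F.coeff_mem (Ideal.zero_mem _) hd
  have e1 : ρ p0 = ρ p := by
    have := (hρ _).mpr h1
    rw [map_sub, sub_eq_zero] at this
    exact this
  have e2 : ρ q0 = ρ q := by
    have := (hρ _).mpr h2
    rw [map_sub, sub_eq_zero] at this
    exact this
  rw [e1, e2]

include hρ in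
theorem exists_hom (hr : r ^ 2 + ρ F.d.b * r + ρ F.a1 = 0) :
    ∃ τ : integralClosure A K →+* L,
      (∀ a, τ (algebraMap A (integralClosure A K) a) = ρ a) ∧
        τ ⟨F.α, F.isIntegral_alpha⟩ = r := by
  have hmem : ∀ z : integralClosure A K, ∃ p q : A,
      (z : K) = algebraMap A K p + algebraMap A K q * F.α :=
    fun z => F.mem_B0.mp ((F.isIntegral_iff z.1).mp z.2)
  refine ⟨{ toFun := fun z => F.val ρ r z.1
            map_one' := ?_
            map_mul' := ?_
            map_zero' := ?_
            map_add' := ?_ }, ?_, ?_⟩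
  · have : ((1 : integralClosure A K) : K) = algebraMap A K 1 + algebraMap A K 0 * F.α := by
      rw [map_one, map_zero, zero_mul, add_zero]; rfl
    rw [F.val_eq ρ hρ r this, map_one, map_zero, zero_mul, add_zero]
  · intro z z'
    obtain ⟨p, q, h⟩ := hmem z
    obtain ⟨p', q', h'⟩ := hmem z'
    have hmul : ((z * z' : integralClosure A K) : K) =
        algebraMap A K (p * p' - q * q' * F.a1) +
          algebraMap A K (p * q' + q * p' - q * q' * F.d.b) * F.α := by
      rw [Subalgebra.coe_mul, h, h']
      have hs := F.alpha_sq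
      simp only [map_sub, map_add, map_mul]
      linear_combination (algebraMap A K q * algebraMap A K q') * hs
    rw [F.val_eq ρ hρ r hmul, F.val_eq ρ hρ r h, F.val_eq ρ hρ r h']
    simp only [map_sub, map_add, map_mul]
    linear_combination (-(ρ q * ρ q')) * hr
  · have : ((0 : integralClosure A K) : K) = algebraMap A K 0 + algebraMap A K 0 * F.α := by
      rw [map_zero, zero_mul, add_zero]; rfl
    rw [F.val_eq ρ hρ r this, map_zero, zero_mul, add_zero]
  · intro z z'
    obtain ⟨p, q, h⟩ := hmem z
    obtain ⟨p', q', h'⟩ := hmem z'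
    have hadd : ((z + z' : integralClosure A K) : K) =
        algebraMap A K (p + p') + algebraMap A K (q + q') * F.α := by
      rw [Subalgebra.coe_add, h, h', map_add, map_add]
      ring
    rw [F.val_eq ρ hρ r hadd, F.val_eq ρ hρ r h, F.val_eq ρ hρ r h']
    simp only [map_add]
    ring
  · intro a
    have : ((algebraMap A (integralClosure A K) a : integralClosure A K) : K) =
        algebraMap A K a + algebraMap A K 0 * F.α := by
      rw [map_zero, zero_mul, add_zero]; rfl
    show F.val ρ r _ = _
    rw [F.val_eq ρ hρ r this, map_zero, zero_mul, add_zero]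
  · have : F.α = algebraMap A K 0 + algebraMap A K 1 * F.α := by
      rw [map_zero, map_one, one_mul, zero_add]
    show F.val ρ r F.α = _
    rw [F.val_eq ρ hρ r this, map_zero, map_one, one_mul, zero_add]

include F hρ in
theorem exists_two_hom [IsAlgClosed L] :
    ∃ τ₁ τ₂ : integralClosure A K →+* L, τ₁ ≠ τ₂ ∧
      (∀ a, τ₁ (algebraMap A (integralClosure A K) a) = ρ a) ∧
      (∀ a, τ₂ (algebraMap A (integralClosure A K) a) = ρ a) := by
  set β := ρ F.d.b with hβ
  set γ := ρ F.a1 with hγ
  have hlt : (Polynomial.C β * Polynomial.X + Polynomial.C γ : Polynomial L).degree <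
      (Polynomial.X ^ 2 : Polynomial L).degree := by
    rw [Polynomial.degree_X_pow]
    calc (Polynomial.C β * Polynomial.X + Polynomial.C γ : Polynomial L).degree
        ≤ 1 := Polynomial.degree_linear_le
      _ < ((2 : ℕ) : WithBot ℕ) := by norm_num
  have hdeg : (Polynomial.X ^ 2 + (Polynomial.C β * Polynomial.X + Polynomial.C γ) :
      Polynomial L).degree = 2 := by
    rw [Polynomial.degree_add_eq_left_of_degree_lt hlt, Polynomial.degree_X_pow]
    rfl
  obtain ⟨r₁, hr₁⟩ := IsAlgClosed.exists_root
    (Polynomial.X ^ 2 + (Polynomial.C β * Polynomial.X + Polynomial.C γ) : Polynomial L)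
    (by rw [hdeg]; norm_num)
  have hr₁' : r₁ ^ 2 + β * r₁ + γ = 0 := by
    simp only [Polynomial.IsRoot.def, Polynomial.eval_add, Polynomial.eval_pow,
      Polynomial.eval_X, Polynomial.eval_mul, Polynomial.eval_C] at hr₁
    linear_combination hr₁
  set r₂ := -β - r₁ with hr₂def
  have hr₂' : r₂ ^ 2 + β * r₂ + γ = 0 := by
    rw [hr₂def]
    linear_combination hr₁'
  have hne : r₁ ≠ r₂ := by
    intro h
    have hβ2 : β = -(2 * r₁) := by
      rw [hr₂def] at h
      linear_combination h
    have hdisc : ρ (F.d.b ^ 2 - 4 * F.a1) = 0 := by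
      rw [map_sub, map_pow, map_mul, map_ofNat, ← hβ, ← hγ]
      have hγ' : γ = -(r₁ ^ 2) - β * r₁ := by linear_combination hr₁'
      rw [hγ', hβ2]
      ring
    exact F.disc_notMem ((hρ _).mp hdisc)
  obtain ⟨τ₁, h1, h1'⟩ := F.exists_hom ρ hρ r₁ hr₁'
  obtain ⟨τ₂, h2, h2'⟩ := F.exists_hom ρ hρ r₂ hr₂'
  refine ⟨τ₁, τ₂, ?_, h1, h2⟩
  intro h
  apply hne
  rw [← h1', ← h2', h]

end Frame

end Groth.Agent.Lib.Helper56.NodeAlg
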