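import Mathlib
import Groth.Prelude.Def_Brnch
import Groth.Prelude.Def_Curv2
import Groth.Agent.Lib.Helper56.NodeAlg5
import Groth.Agent.Lib.Helper56.Wedge2
import Groth.Agent.Lib.Helper87.GeomBranchCount2

set_option autoImplicit false
set_option linter.style.haveILetI false
set_option linter.unusedSectionVars false

namespace Groth.Agent.Lib.Helper56.NodeAlg

open IsLocalRing

universe u

section Equiv

variable {A B : Type u} [CommRing A] [IsLocalRing A] [CommRing B] [IsLocalRing B]

theorem mem_maximalIdeal_equiv (e : A ≃+* B) (a : A) :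
    e a ∈ maximalIdeal B ↔ a ∈ maximalIdeal A := by
  rw [mem_maximalIdeal, mem_maximalIdeal, mem_nonunits_iff, mem_nonunits_iff]
  exact not_congr (isUnit_map_iff e a)

theorem maximalIdeal_eq_map_equiv (e : A ≃+* B) :
    maximalIdeal B = (maximalIdeal A).map (e : A →+* B) := by
  ext b
  rw [Ideal.mem_map_iff_of_surjective (e : A →+* B) e.surjective]
  constructor
  · intro hb
    refine ⟨e.symm b, ?_, by simp⟩
    rw [← mem_maximalIdeal_equiv e]
    simpa using hb
  · rintro ⟨a, ha, rfl⟩
    exact (mem_maximalIdeal_equiv e a).mpr ha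

theorem mem_pow_equiv (e : A ≃+* B) (n : ℕ) (a : A) :
    e a ∈ maximalIdeal B ^ n ↔ a ∈ maximalIdeal A ^ n := by
  rw [maximalIdeal_eq_map_equiv e, ← Ideal.map_pow]
  constructor
  · intro h
    rw [Ideal.mem_map_iff_of_surjective (e : A →+* B) e.surjective] at h
    obtain ⟨a', ha', h'⟩ := h
    have : a' = a := e.injective h'
    rw [← this]; exact ha'
  · intro h
    exact Ideal.mem_map_of_mem _ h

noncomputable def NodeData.ofEquiv (e : A ≃+* B) (d : NodeData A) : NodeData B where
  x := e d.x
  y := e d.y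
  a := e d.a
  b := e d.b
  hx := (mem_maximalIdeal_equiv e _).mpr d.hx
  hy := (mem_maximalIdeal_equiv e _).mpr d.hy
  hspan := by
    rw [maximalIdeal_eq_map_equiv e, d.hspan, Ideal.map_span, Set.image_pair]
    rfl
  hE := by
    have : e d.y ^ 2 + e d.b * e d.x * e d.y + e d.a * e d.x ^ 2 =
        e (d.y ^ 2 + d.b * d.x * d.y + d.a * d.x ^ 2) := by
      simp only [map_add, map_mul, map_pow]
    rw [this, mem_pow_equiv e]
    exact d.hE
  hD := by
    have : e d.b ^ 2 - 4 * e d.a = e (d.b ^ 2 - 4 * d.a) := by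
      simp only [map_sub, map_mul, map_pow, map_ofNat]
    rw [this, mem_maximalIdeal_equiv e]
    exact d.hD
  hind := by
    intro p q h
    have : p * e d.x + q * e d.y = e (e.symm p * d.x + e.symm q * d.y) := by
      simp only [map_add, map_mul, RingEquiv.apply_symm_apply]
    rw [this, mem_pow_equiv e] at h
    obtain ⟨h1, h2⟩ := d.hind _ _ h
    rw [← mem_maximalIdeal_equiv e] at h1 h2
    simpa using And.intro h1 h2

end Equiv

section Delta

variable {A : Type u} [CommRing A] [IsLocalRing A] [IsNoetherianRing A] [IsReduced A]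

theorem NodeData.deltaInv_eq_one (d : NodeData A) : Curv2.deltaInv A = 1 := by
  obtain ⟨F, -⟩ := exists_frame (K := FractionRing A) d
  exact F.length_eq_one

end Delta

section Geom

variable (A : Type u) [CommRing A] [IsLocalRing A]

noncomputable def homToEmb
    (τ : {τ : CAlg2.normRed A →+* AlgebraicClosure (ResidueField A) //
      τ.comp (algebraMap A (CAlg2.normRed A)) = Brnch.toClosure A}) :
    Σ m' : MaximalSpectrum (CAlg2.normRed A), Brnch.Emb A m' :=
  ⟨⟨RingHom.ker τ.1, Groth.Agent.Lib.Helper56.Wedge.ker_isMaximal A (CAlg2.normRed A) τ⟩,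
    ⟨Ideal.Quotient.lift (RingHom.ker τ.1) τ.1 (fun _ h => h), by
      rw [Groth.Agent.Lib.Helper87.GeomBranchCount.toResidue_eq, ← RingHom.comp_assoc]
      have : (Ideal.Quotient.lift (RingHom.ker τ.1) τ.1 (fun _ h => h)).comp
          (Ideal.Quotient.mk (RingHom.ker τ.1)) = τ.1 := by
        ext z; exact Ideal.Quotient.lift_mk (RingHom.ker τ.1) τ.1 (fun _ h => h)
      rw [this]
      exact τ.2⟩⟩

theorem embToHom_homToEmb
    (τ : {τ : CAlg2.normRed A →+* AlgebraicClosure (ResidueField A) //
      τ.comp (algebraMap A (CAlg2.normRed A)) = Brnch.toClosure A}) :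
    Groth.Agent.Lib.Helper56.DeltaMain.embToHom A (homToEmb A τ) = τ := by
  apply Subtype.ext
  ext z
  exact Ideal.Quotient.lift_mk (RingHom.ker τ.1) τ.1 (fun _ h => h)

theorem homToEmb_injective : Function.Injective (homToEmb A) :=
  Function.LeftInverse.injective (embToHom_homToEmb A)

end Geom

end Groth.Agent.Lib.Helper56.NodeAlg
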