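import Mathlib
import Groth.Prelude.Def_Brnch
import Groth.Prelude.Def_Curv2
import Groth.Agent.Lib.Helper56.NodeAlg6
import Groth.Agent.Lib.Helper56.DeltaMain2

set_option autoImplicit false
set_option linter.style.haveILetI false
set_option linter.unusedSectionVars false

namespace Groth.Agent.Lib.Helper56.NodeAlg

open IsLocalRing

universe u

variable {A : Type u} [CommRing A] [IsLocalRing A] [IsNoetherianRing A] [IsReduced A]

theorem NodeData.two_le_numGeomBranches (d : NodeData A) : 2 ≤ Brnch.numGeomBranches A := by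
  haveI := Groth.Agent.Lib.Helper56.DeltaMain.isLocalRing_red A
  have hbot : nilradical A = ⊥ := nilradical_eq_zero A
  have hinj : Function.Injective (Ideal.Quotient.mk (nilradical A)) := by
    rw [injective_iff_map_eq_zero]
    intro a ha
    have : a ∈ nilradical A := Ideal.Quotient.eq_zero_iff_mem.mp ha
    rw [hbot] at this
    exact this
  let e : A ≃+* CAlg2.red A :=
    RingEquiv.ofBijective (Ideal.Quotient.mk (nilradical A)) ⟨hinj, Ideal.Quotient.mk_surjective⟩
  haveI : IsReduced (CAlg2.red A) := isReduced_of_injective e.symm.toRingHom e.symm.injective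
  let d' : NodeData (CAlg2.red A) := d.ofEquiv e
  obtain ⟨F, -⟩ := exists_frame (K := FractionRing (CAlg2.red A)) d'
  let ρ : CAlg2.red A →+* AlgebraicClosure (ResidueField A) :=
    Ideal.Quotient.lift (nilradical A) (Brnch.toClosure A) (by
      intro a ha
      rw [hbot] at ha
      rw [Ideal.mem_bot.mp ha]
      exact map_zero _)
  have hρmk : ∀ a : A, ρ (Ideal.Quotient.mk (nilradical A) a) = Brnch.toClosure A a := fun a =>
    Ideal.Quotient.lift_mk (nilradical A) (Brnch.toClosure A) _
  have hρ : ∀ a, ρ a = 0 ↔ a ∈ maximalIdeal (CAlg2.red A) := by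
    intro a
    obtain ⟨a, rfl⟩ := Ideal.Quotient.mk_surjective a
    rw [hρmk]
    have h1 : Brnch.toClosure A a = 0 ↔ residue A a = 0 := by
      unfold Brnch.toClosure
      rw [RingHom.comp_apply]
      exact map_eq_zero_iff _ (RingHom.injective _)
    rw [h1, residue_eq_zero_iff]
    exact (mem_maximalIdeal_equiv e a).symm
  obtain ⟨τ₁, τ₂, hne, h1, h2⟩ := F.exists_two_hom ρ hρ
  have hc : ∀ τ : CAlg2.normRed A →+* AlgebraicClosure (ResidueField A),
      (∀ a, τ (algebraMap (CAlg2.red A) (CAlg2.normRed A) a) = ρ a) →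
        τ.comp (algebraMap A (CAlg2.normRed A)) = Brnch.toClosure A := by
    intro τ h
    ext a
    rw [RingHom.comp_apply, IsScalarTower.algebraMap_apply A (CAlg2.red A) (CAlg2.normRed A), h]
    exact hρmk a
  unfold Brnch.numGeomBranches
  rw [if_pos (minimalPrimes.finite_of_isNoetherianRing A)]
  let f : Bool → Σ m' : MaximalSpectrum (CAlg2.normRed A), Brnch.Emb A m' := fun b =>
    homToEmb A (if b then ⟨τ₁, hc τ₁ h1⟩ else ⟨τ₂, hc τ₂ h2⟩)
  have hf : Function.Injective f := by
    intro b b' hbb
    have h3 := homToEmb_injective A hbb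
    cases b <;> cases b'
    · rfl
    · exfalso
      simp only [Bool.false_eq_true, if_false, if_true] at h3
      exact hne (congrArg Subtype.val h3).symm
    · exfalso
      simp only [Bool.false_eq_true, if_false, if_true] at h3
      exact hne (congrArg Subtype.val h3)
    · rfl
  calc (2 : ℕ∞) = ENat.card Bool := by simp
    _ ≤ _ := ENat.card_le_card_of_injective hf

theorem NodeData.numGeomBranches_eq_two (d : NodeData A) (hN : CAlg.IsNagata A) :
    Brnch.numGeomBranches A = 2 := by
  apply le_antisymm
  · have h := Groth.Agent.Lib.Helper56.DeltaMain.numGeomBranches_le A hN d.ringKrullDim_eq_one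
    rw [d.deltaInv_eq_one] at h
    exact h
  · exact d.two_le_numGeomBranches

end Groth.Agent.Lib.Helper56.NodeAlg
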