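import Mathlib
import Groth.Agent.Lib.Helper76.NodeC3

set_option autoImplicit false
set_option linter.style.haveILetI false
set_option linter.unusedSectionVars false

namespace Groth.Agent.Lib.Helper56.NodeAlg

open Groth.Agent.Lib.Helper76.Node

open IsLocalRing MvPowerSeries

universe u

variable (k : Type u) [Field k] (A : Type u) [CommRing A] [IsLocalRing A] [IsNoetherianRing A]
  [Algebra k A]

local notation "Â" => AdicCompletion (maximalIdeal A) A
local notation "κ" => ResidueField A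

theorem exists_coeffField_fs [Algebra.FormallySmooth k κ] :
    ∃ s : κ →ₐ[k] Â, ∀ c, residue Â (s c) = ResidueField.map (algebraMap A Â) c := by
  let f₀ : κ →+* Â ⧸ maximalIdeal Â := ResidueField.map (algebraMap A Â)
  let f : κ →ₐ[k] Â ⧸ maximalIdeal Â :=
    { f₀ with
      commutes' := by
        intro c
        show ResidueField.map (algebraMap A Â) (residue A (algebraMap k A c)) = _
        rw [ResidueField.map_residue]
        rfl }
  obtain ⟨s, hs⟩ := Algebra.FormallySmooth.exists_mkₐ_comp_eq_of_isAdicComplete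
    (I := maximalIdeal Â) f
  exact ⟨s, fun c => congrArg (fun h => h c) hs⟩

theorem completion_of_algebraic_fs [Algebra.FormallySmooth k κ] [IsReduced A]
    (hfr : Module.finrank κ (CotangentSpace A) = 2)
    (x y a b c : A) (hx : x ∈ maximalIdeal A) (hy : y ∈ maximalIdeal A)
    (hspan : Ideal.span {x, y} ⊔ maximalIdeal A ^ 2 = maximalIdeal A)
    (hdisc : residue A (4 * a * c - b ^ 2) ≠ 0)
    (hq : a * x ^ 2 + b * x * y + c * y ^ 2 ∈ maximalIdeal A ^ 3) :
    ∃ e : Â ≃+* (MvPowerSeries (Fin 2) κ ⧸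
        Ideal.span {Qf (residue A a) (residue A b) (residue A c)}),
      ∀ t : k, e (algebraMap A Â (algebraMap k A t)) =
        Ideal.Quotient.mk _ (C (algebraMap A κ (algebraMap k A t))) := by
  classical
  haveI : IsNoetherianRing Â := Groth.Agent.S0543.result A _
  set ι := algebraMap A Â with hι
  set a1 : κ := residue A a with ha1
  set b1 : κ := residue A b with hb1
  set c1 : κ := residue A c with hc1
  have hdisc' : 4 * a1 * c1 - b1 ^ 2 ≠ 0 := by
    intro h0
    apply hdisc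
    rw [map_sub, map_mul, map_mul, map_pow, map_ofNat]
    exact h0
  obtain ⟨s, hs⟩ := exists_coeffField_fs k A
  obtain ⟨ψ, hψs, hψC, hψ0, hψ1, hψker⟩ :=
    exists_presentation A s.toRingHom hs hfr x y hx hy hspan
  have hψC' : ∀ r, ψ (C r) = s r := hψC
  have hloc : IsLocalHom ψ := hψs.isLocalHom ψ
  have hcomap : (maximalIdeal Â).comap ψ = maximalIdeal (MvPowerSeries (Fin 2) κ) :=
    ((local_hom_TFAE ψ).out 0 4).mp hloc
  have hmap : maximalIdeal Â = (maximalIdeal (MvPowerSeries (Fin 2) κ)).map ψ := by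
    rw [← hcomap, Ideal.map_comap_of_surjective ψ hψs]
  have hιm : ∀ z ∈ maximalIdeal A, ι z ∈ maximalIdeal Â := by
    intro z hz
    rw [AdicCompletion.maximalIdeal_eq_map]
    exact Ideal.mem_map_of_mem _ hz
  have hsres : ∀ r : A, s (residue A r) - ι r ∈ maximalIdeal Â := by
    intro r
    rw [← residue_eq_zero_iff, map_sub, hs, ResidueField.map_residue, sub_self]
  have hιx := hιm x hx
  have hιy := hιm y hy
  have hψQ : ψ (Qf a1 b1 c1) ∈ maximalIdeal Â ^ 3 := by
    have h1 : ψ (Qf a1 b1 c1) = ι (a * x ^ 2 + b * x * y + c * y ^ 2) +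
        ((s a1 - ι a) * (ι x * ι x) + (s b1 - ι b) * (ι x * ι y) +
          (s c1 - ι c) * (ι y * ι y)) := by
      unfold Qf
      simp only [map_add, map_mul, map_pow, hψC', hψ0, hψ1, ← hι]
      ring
    rw [h1]
    refine Ideal.add_mem _ ((algebraMap_mem_pow_iff A 3 _).mpr hq)
      (Ideal.add_mem _ (Ideal.add_mem _ ?_ ?_) ?_)
    · exact mul_mem_cube _ (hsres a) (mul_mem_sq _ hιx hιx)
    · exact mul_mem_cube _ (hsres b) (mul_mem_sq _ hιx hιy)
    · exact mul_mem_cube _ (hsres c) (mul_mem_sq _ hιy hιy)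
  rw [hmap, ← Ideal.map_pow] at hψQ
  obtain ⟨g, hg, hgψ⟩ := (Ideal.mem_map_iff_of_surjective ψ hψs).mp hψQ
  set f := Qf a1 b1 c1 - g with hf
  have hfker : f ∈ RingHom.ker ψ := by
    rw [RingHom.mem_ker, hf, map_sub, hgψ, sub_self]
  have hfQ : f - Qf a1 b1 c1 ∈ maximalIdeal (MvPowerSeries (Fin 2) κ) ^ 3 := by
    have : f - Qf a1 b1 c1 = -g := by rw [hf]; ring
    rw [this]
    exact neg_mem hg
  -- a regular element
  have hm0 : maximalIdeal A ≠ ⊥ := by
    intro h0
    have : Subsingleton (CotangentSpace A) := by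
      refine ⟨fun v w => ?_⟩
      obtain ⟨⟨z, hz⟩, rfl⟩ := Ideal.toCotangent_surjective _ v
      obtain ⟨⟨z', hz'⟩, rfl⟩ := Ideal.toCotangent_surjective _ w
      have h1 : z = 0 := by rw [h0] at hz; exact Ideal.mem_bot.mp hz
      have h2 : z' = 0 := by rw [h0] at hz'; exact Ideal.mem_bot.mp hz'
      subst h1 h2
      rfl
    rw [Module.finrank_zero_of_subsingleton] at hfr
    omega
  have hbotrad : (⊥ : Ideal A).IsRadical := by
    intro z hz
    obtain ⟨n, hn⟩ := hz
    rw [Ideal.mem_bot] at hn ⊢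
    exact IsReduced.eq_zero z ⟨n, hn⟩
  obtain ⟨t, ht, htreg⟩ := exists_regular_mod_radical (⊥ : Ideal A) hbotrad (Ne.symm hm0)
  have htreg' : IsSMulRegular A t := by
    intro z w hzw
    have hzw' : t * z = t * w := hzw
    have h1 : t * (z - w) = 0 := by rw [mul_sub, hzw', sub_self]
    have h2 := htreg (z - w) (by rw [Ideal.mem_bot]; exact h1)
    rw [Ideal.mem_bot, sub_eq_zero] at h2
    exact h2
  have hιt : IsSMulRegular Â (ι t) := htreg'.of_flat
  obtain ⟨t', ht'⟩ := hψs (ι t)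
  have ht'm : t' ∈ maximalIdeal (MvPowerSeries (Fin 2) κ) := by
    rw [← hcomap, Ideal.mem_comap, ht']; exact hιm t ht
  have ht'reg : ∀ z, t' * z ∈ RingHom.ker ψ → z ∈ RingHom.ker ψ := by
    intro z hz
    rw [RingHom.mem_ker, map_mul, ht'] at hz
    rw [RingHom.mem_ker]
    have : (ι t) • (ψ z) = (ι t) • (0 : Â) := by rw [smul_eq_mul, smul_eq_mul, hz, mul_zero]
    exact hιt this
  obtain ⟨x', y', c', hm', hc', hQ'⟩ := exists_coords a1 b1 c1 hdisc'
  have hff : f - c' * y' ^ 2 ∈ Ideal.span {x'} ⊔ maximalIdeal (MvPowerSeries (Fin 2) κ) ^ 3 := by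
    have : f - c' * y' ^ 2 = (Qf a1 b1 c1 - c' * y' ^ 2) + (f - Qf a1 b1 c1) := by ring
    rw [this]
    exact Submodule.add_mem_sup hQ' hfQ
  have hkereq := eq_span_of_regular x' y' f c' hm' hc' hff (RingHom.ker ψ) hfker hψker t' ht'm
    ht'reg
  obtain ⟨E⟩ := nonempty_equiv_of_sub_mem_cube a1 b1 c1 hdisc' f hfQ
  let e1 : (MvPowerSeries (Fin 2) κ ⧸ RingHom.ker ψ) ≃+* Â :=
    RingHom.quotientKerEquivOfSurjective hψs
  let e2 : (MvPowerSeries (Fin 2) κ ⧸ RingHom.ker ψ) ≃+*
      (MvPowerSeries (Fin 2) κ ⧸ Ideal.span {f}) := Ideal.quotEquivOfEq hkereq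
  let e : Â ≃+* (MvPowerSeries (Fin 2) κ ⧸ Ideal.span {Qf a1 b1 c1}) :=
    (e1.symm.trans e2).trans E.toRingEquiv
  refine ⟨e, fun t0 => ?_⟩
  set r : κ := algebraMap A κ (algebraMap k A t0) with hr
  have h1 : ι (algebraMap k A t0) = ψ (C r) := by
    rw [hψC']
    have hr' : r = algebraMap k κ t0 := (IsScalarTower.algebraMap_apply k A κ t0).symm
    rw [hr', s.commutes t0]
    rfl
  show E (e2 (e1.symm (ι (algebraMap k A t0)))) = _
  rw [h1]
  have h2 : e1.symm (ψ (C r)) = Ideal.Quotient.mk _ (C r) := by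
    rw [RingEquiv.symm_apply_eq]
    rfl
  rw [h2]
  have h3 : e2 (Ideal.Quotient.mk _ (C r)) = Ideal.Quotient.mk _ (C r) :=
    Ideal.quotEquivOfEq_mk _ _
  rw [h3]
  have h4 : (Ideal.Quotient.mk (Ideal.span {f}) (C r)) =
      algebraMap κ (MvPowerSeries (Fin 2) κ ⧸ Ideal.span {f}) r := rfl
  rw [h4, E.commutes]
  rfl

end Groth.Agent.Lib.Helper56.NodeAlg
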