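import Mathlib
import Groth.Agent.Lib.Helper56.NodeAlg1

set_option autoImplicit false
set_option linter.style.haveILetI false
set_option linter.unusedSectionVars false

namespace Groth.Agent.Lib.Helper56.NodeAlg

open IsLocalRing

universe u

variable {A : Type u} [CommRing A] [IsLocalRing A] [IsNoetherianRing A]

theorem span_eq_of_sup (x y : A)
    (hspan : Ideal.span {x, y} ⊔ maximalIdeal A ^ 2 = maximalIdeal A) :
    maximalIdeal A = Ideal.span {x, y} := by
  apply le_antisymm
  · apply Submodule.le_of_le_smul_of_le_jacobson_bot (I := maximalIdeal A)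
      (IsNoetherian.noetherian _) (IsLocalRing.maximalIdeal_le_jacobson _)
    rw [smul_eq_mul, ← pow_two]
    exact hspan.ge
  · rw [← hspan]
    exact le_sup_left

theorem aux_ind (hfr : (maximalIdeal A).spanFinrank = 2) (x y : A)
    (hspan : maximalIdeal A = Ideal.span {x, y}) (p q : A)
    (h : p * x + q * y ∈ maximalIdeal A ^ 2) : p ∈ maximalIdeal A := by
  by_contra hp
  have hpu : IsUnit p := by
    by_contra h'
    exact hp ((mem_maximalIdeal _).mpr h')
  obtain ⟨u, hu⟩ := hpu.exists_left_inv
  have hy : y ∈ maximalIdeal A := by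
    rw [hspan]; exact Ideal.subset_span (by simp)
  have hle : maximalIdeal A ≤ Ideal.span {y} := by
    apply Submodule.le_of_le_smul_of_le_jacobson_bot (I := maximalIdeal A)
      (IsNoetherian.noetherian _) (IsLocalRing.maximalIdeal_le_jacobson _)
    rw [smul_eq_mul, ← pow_two]
    nth_rewrite 1 [hspan]
    rw [Ideal.span_le]
    intro z hz
    rcases hz with rfl | rfl
    · have : z = u * (p * z + q * y) - u * q * y := by
        linear_combination (-z) * hu
      rw [this]
      apply Submodule.sub_mem
      · exact Submodule.mem_sup_right (Ideal.mul_mem_left _ _ h)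
      · exact Submodule.mem_sup_left (Ideal.mul_mem_left _ _ (Ideal.subset_span rfl))
    · exact Submodule.mem_sup_left (Ideal.subset_span rfl)
  have heq : maximalIdeal A = Ideal.span {y} :=
    le_antisymm hle ((Ideal.span_singleton_le_iff_mem _).mpr hy)
  have h1 : (maximalIdeal A).spanFinrank ≤ 1 := by
    rw [heq]
    refine (Submodule.spanFinrank_span_le_ncard_of_finite (Set.finite_singleton y)).trans ?_
    rw [Set.ncard_singleton]
  omega

theorem hind_of_spanFinrank (hfr : (maximalIdeal A).spanFinrank = 2) (x y : A)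
    (hspan : maximalIdeal A = Ideal.span {x, y}) (p q : A)
    (h : p * x + q * y ∈ maximalIdeal A ^ 2) : p ∈ maximalIdeal A ∧ q ∈ maximalIdeal A := by
  refine ⟨aux_ind hfr x y hspan p q h, ?_⟩
  apply aux_ind hfr y x (by rw [hspan, Set.pair_comm]) q p
  rw [add_comm]
  exact h

theorem nonempty_of_unit (hfr : (maximalIdeal A).spanFinrank = 2) (x y a b c : A)
    (hspan : maximalIdeal A = Ideal.span {x, y})
    (hdisc : 4 * a * c - b ^ 2 ∉ maximalIdeal A)
    (hq : a * x ^ 2 + b * x * y + c * y ^ 2 ∈ maximalIdeal A ^ 3) (hc : IsUnit c) :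
    Nonempty (NodeData A) := by
  obtain ⟨u, hu⟩ := hc.exists_left_inv
  have hx : x ∈ maximalIdeal A := by
    rw [hspan]; exact Ideal.subset_span (by simp)
  have hy : y ∈ maximalIdeal A := by
    rw [hspan]; exact Ideal.subset_span (by simp)
  refine ⟨{ x := x, y := y, a := u * a, b := u * b, hx := hx, hy := hy, hspan := hspan,
            hE := ?_, hD := ?_, hind := hind_of_spanFinrank hfr x y hspan }⟩
  · have : y ^ 2 + u * b * x * y + u * a * x ^ 2 = u * (a * x ^ 2 + b * x * y + c * y ^ 2) := by
      linear_combination (-(y ^ 2)) * hu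
    rw [this]
    exact Ideal.mul_mem_left _ _ hq
  · intro h
    apply hdisc
    have : 4 * a * c - b ^ 2 = -(c ^ 2) * ((u * b) ^ 2 - 4 * (u * a)) := by
      linear_combination (b ^ 2 * (u * c + 1) - 4 * a * c) * hu
    rw [this]
    exact Ideal.mul_mem_left _ _ h

theorem nonempty_of_alg (hfr : Module.finrank (ResidueField A) (CotangentSpace A) = 2)
    (x y a b c : A)
    (hspan : Ideal.span {x, y} ⊔ maximalIdeal A ^ 2 = maximalIdeal A)
    (hdisc : residue A (4 * a * c - b ^ 2) ≠ 0)
    (hq : a * x ^ 2 + b * x * y + c * y ^ 2 ∈ maximalIdeal A ^ 3) :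
    Nonempty (NodeData A) := by
  have hfr' : (maximalIdeal A).spanFinrank = 2 := by
    rw [IsLocalRing.spanFinrank_maximalIdeal_eq_finrank_cotangentSpace, hfr]
  have hsp := span_eq_of_sup x y hspan
  have hd : 4 * a * c - b ^ 2 ∉ maximalIdeal A := by
    intro h
    exact hdisc ((residue_eq_zero_iff _).mpr h)
  by_cases hc : IsUnit c
  · exact nonempty_of_unit hfr' x y a b c hsp hd hq hc
  by_cases ha : IsUnit a
  · refine nonempty_of_unit hfr' y x c b a (by rw [hsp, Set.pair_comm]) ?_ ?_ ha
    · intro h
      apply hd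
      have : 4 * a * c - b ^ 2 = 4 * c * a - b ^ 2 := by ring
      rw [this]; exact h
    · have : c * y ^ 2 + b * y * x + a * x ^ 2 = a * x ^ 2 + b * x * y + c * y ^ 2 := by ring
      rw [this]; exact hq
  have hcm : c ∈ maximalIdeal A := (mem_maximalIdeal _).mpr hc
  have ham : a ∈ maximalIdeal A := (mem_maximalIdeal _).mpr ha
  have hb : IsUnit b := by
    by_contra hb
    have hbm : b ∈ maximalIdeal A := (mem_maximalIdeal _).mpr hb
    apply hd
    apply Submodule.sub_mem
    · exact Ideal.mul_mem_left _ _ hcm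
    · rw [pow_two]; exact Ideal.mul_mem_left _ _ hbm
  have hu : IsUnit (a + b + c) := by
    by_contra h
    have hm : a + b + c ∈ maximalIdeal A := (mem_maximalIdeal _).mpr h
    have : b = (a + b + c) - a - c := by ring
    have hbm : b ∈ maximalIdeal A := by
      rw [this]
      exact Submodule.sub_mem _ (Submodule.sub_mem _ hm ham) hcm
    exact (mem_maximalIdeal _).mp hbm hb
  refine nonempty_of_unit hfr' (x - y) y a (2 * a + b) (a + b + c) ?_ ?_ ?_ hu
  · rw [hsp]
    apply le_antisymm
    · rw [Ideal.span_le]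
      intro z hz
      rcases hz with rfl | rfl
      · have : z = (z - y) + y := by ring
        rw [this]
        exact Submodule.add_mem _ (Ideal.subset_span (by simp)) (Ideal.subset_span (by simp))
      · exact Ideal.subset_span (by simp)
    · rw [Ideal.span_le]
      intro z hz
      rcases hz with rfl | rfl
      · exact Submodule.sub_mem _ (Ideal.subset_span (by simp)) (Ideal.subset_span (by simp))
      · exact Ideal.subset_span (by simp)
  · intro h
    apply hd
    have : 4 * a * c - b ^ 2 = 4 * a * (a + b + c) - (2 * a + b) ^ 2 := by ring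
    rw [this]; exact h
  · have : a * (x - y) ^ 2 + (2 * a + b) * (x - y) * y + (a + b + c) * y ^ 2 =
        a * x ^ 2 + b * x * y + c * y ^ 2 := by ring
    rw [this]; exact hq

theorem NodeData.finrank_eq_two (d : NodeData A) :
    Module.finrank (ResidueField A) (CotangentSpace A) = 2 := by
  apply le_antisymm
  · rw [← IsLocalRing.spanFinrank_maximalIdeal_eq_finrank_cotangentSpace]
    nth_rewrite 1 [d.hspan]
    refine (Submodule.spanFinrank_span_le_ncard_of_finite (by simp)).trans ?_
    refine (Set.ncard_insert_le _ _).trans ?_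
    rw [Set.ncard_singleton]
  · set X : CotangentSpace A := (maximalIdeal A).toCotangent ⟨d.x, d.hx⟩ with hX
    set Y : CotangentSpace A := (maximalIdeal A).toCotangent ⟨d.y, d.hy⟩ with hY
    have hli : LinearIndependent (ResidueField A) ![X, Y] := by
      rw [LinearIndependent.pair_iff]
      intro s t hst
      obtain ⟨p, rfl⟩ := residue_surjective s
      obtain ⟨q, rfl⟩ := residue_surjective t
      have h1 : residue A p • X = (maximalIdeal A).toCotangent (p • ⟨d.x, d.hx⟩) := by
        rw [map_smul]
        exact algebraMap_smul (ResidueField A) p X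
      have h2 : residue A q • Y = (maximalIdeal A).toCotangent (q • ⟨d.y, d.hy⟩) := by
        rw [map_smul]
        exact algebraMap_smul (ResidueField A) q Y
      rw [h1, h2, ← map_add, Ideal.toCotangent_eq_zero] at hst
      have h3 : p * d.x + q * d.y ∈ maximalIdeal A ^ 2 := hst
      obtain ⟨hp, hq⟩ := d.hind p q h3
      exact ⟨(residue_eq_zero_iff _).mpr hp, (residue_eq_zero_iff _).mpr hq⟩
    have := hli.fintype_card_le_finrank
    simpa using this

theorem NodeData.alg (d : NodeData A) :
    Ideal.span {d.x, d.y} ⊔ maximalIdeal A ^ 2 = maximalIdeal A ∧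
      residue A (4 * d.a * 1 - d.b ^ 2) ≠ 0 ∧
      d.a * d.x ^ 2 + d.b * d.x * d.y + 1 * d.y ^ 2 ∈ maximalIdeal A ^ 3 := by
  refine ⟨?_, ?_, ?_⟩
  · rw [← d.hspan]
    exact sup_eq_left.mpr (Ideal.pow_le_self (by norm_num))
  · intro h
    rw [residue_eq_zero_iff] at h
    apply d.hD
    have : d.b ^ 2 - 4 * d.a = -(4 * d.a * 1 - d.b ^ 2) := by ring
    rw [this]
    exact Submodule.neg_mem _ h
  · have : d.a * d.x ^ 2 + d.b * d.x * d.y + 1 * d.y ^ 2 =
        d.y ^ 2 + d.b * d.x * d.y + d.a * d.x ^ 2 := by ring
    rw [this]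
    exact d.hE

end Groth.Agent.Lib.Helper56.NodeAlg
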