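import Mathlib
import Groth.Prelude.Def_QuadSing

set_option autoImplicit false
set_option linter.style.haveILetI false
set_option linter.unusedSectionVars false
set_option linter.unusedSimpArgs false
set_option linter.unreachableTactic false
set_option linter.unusedTactic false

namespace Groth.Agent.Lib.Helper56.NodeDef

open MvPowerSeries

universe u

variable {A : Type u} [CommRing A]

theorem fs_eq_iff (e e' : Fin 2 →₀ ℕ) : e = e' ↔ e 0 = e' 0 ∧ e 1 = e' 1 := by
  rw [Finsupp.ext_iff, Fin.forall_fin_two]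

noncomputable def T6 (a l0 l1 q00 q01 q11 : A) : MvPowerSeries (Fin 2) A :=
  C a + C l0 * X 0 + C l1 * X 1 + C q00 * X 0 ^ 2 + C q01 * X 0 * X 1 + C q11 * X 1 ^ 2

theorem T6_eq (a l0 l1 q00 q01 q11 : A) : T6 a l0 l1 q00 q01 q11 =
    monomial 0 a + monomial (Finsupp.single 0 1) l0 + monomial (Finsupp.single 1 1) l1 +
      monomial (Finsupp.single 0 2) q00 + monomial (Finsupp.single 0 1 + Finsupp.single 1 1) q01 +
      monomial (Finsupp.single 1 2) q11 := by
  unfold T6
  have hX : ∀ i : Fin 2, (X i : MvPowerSeries (Fin 2) A) = monomial (Finsupp.single i 1) 1 :=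
    fun i => rfl
  have hC : ∀ c : A, (C c : MvPowerSeries (Fin 2) A) = monomial 0 c := fun c => rfl
  simp only [hX, hC, pow_two, monomial_mul_monomial, mul_one, zero_add, one_mul, mul_assoc]
  congr 3 <;> simp [← Finsupp.single_add]

theorem coeff_T6 (a l0 l1 q00 q01 q11 : A) (e : Fin 2 →₀ ℕ) :
    coeff e (T6 a l0 l1 q00 q01 q11) =
      if e 0 = 0 ∧ e 1 = 0 then a else if e 0 = 1 ∧ e 1 = 0 then l0 else
      if e 0 = 0 ∧ e 1 = 1 then l1 else if e 0 = 2 ∧ e 1 = 0 then q00 else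
      if e 0 = 1 ∧ e 1 = 1 then q01 else if e 0 = 0 ∧ e 1 = 2 then q11 else 0 := by
  classical
  rw [T6_eq]
  simp only [map_add, coeff_monomial, fs_eq_iff, Finsupp.coe_zero, Pi.zero_apply,
    Finsupp.single_apply, Finsupp.coe_add, Pi.add_apply]
  simp only [Fin.isValue, if_true, one_ne_zero, zero_ne_one, if_false, add_zero, zero_add,
    Fin.zero_eta]
  split_ifs <;> simp_all <;> omega

theorem degree_fin_two (e : Fin 2 →₀ ℕ) : e.degree = e 0 + e 1 := by
  rw [Finsupp.degree_eq_sum, Fin.sum_univ_two]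

theorem lowcoeff (F : MvPowerSeries (Fin 2) A) (e : Fin 2 →₀ ℕ) (he : e.degree ≤ 2) :
    coeff e F = coeff e (T6 (coeff 0 F) (coeff (Finsupp.single 0 1) F)
      (coeff (Finsupp.single 1 1) F) (coeff (Finsupp.single 0 2) F)
      (coeff (Finsupp.single 0 1 + Finsupp.single 1 1) F) (coeff (Finsupp.single 1 2) F)) := by
  rw [coeff_T6]
  rw [degree_fin_two] at he
  have hcase : (e 0 = 0 ∧ e 1 = 0) ∨ (e 0 = 1 ∧ e 1 = 0) ∨ (e 0 = 0 ∧ e 1 = 1) ∨
      (e 0 = 2 ∧ e 1 = 0) ∨ (e 0 = 1 ∧ e 1 = 1) ∨ (e 0 = 0 ∧ e 1 = 2) := by omega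
  rcases hcase with h | h | h | h | h | h
  · have : e = 0 := by rw [fs_eq_iff]; simpa using h
    subst this; simp
  · have : e = Finsupp.single 0 1 := by rw [fs_eq_iff]; simpa using h
    subst this; simp
  · have : e = Finsupp.single 1 1 := by rw [fs_eq_iff]; simpa using h
    subst this; simp
  · have : e = Finsupp.single 0 2 := by rw [fs_eq_iff]; simpa using h
    subst this; simp
  · have : e = Finsupp.single 0 1 + Finsupp.single 1 1 := by rw [fs_eq_iff]; simpa using h
    subst this; simp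
  · have : e = Finsupp.single 1 2 := by rw [fs_eq_iff]; simpa using h
    subst this; simp

theorem coe_quadPoly (q : Fin 2 → Fin 2 → A) (ℓ : Fin 2 → A) (a : A) :
    ((VanCyc.quadPoly q + ∑ i, MvPolynomial.C (ℓ i) * MvPolynomial.X i + MvPolynomial.C a :
      MvPolynomial (Fin 2) A) : MvPowerSeries (Fin 2) A) =
      T6 a (ℓ 0) (ℓ 1) (q 0 0) (q 0 1) (q 1 1) := by
  unfold VanCyc.quadPoly T6
  simp only [Fin.sum_univ_two, Fin.isValue, le_refl, if_true, Fin.zero_le]
  have h10 : ¬ ((1 : Fin 2) ≤ 0) := by decide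
  simp only [h10, if_false, zero_add, add_zero, MvPolynomial.coe_add, MvPolynomial.coe_mul,
    MvPolynomial.coe_C, MvPolynomial.coe_X]
  ring

theorem quadNondeg_iff (q : Fin 2 → Fin 2 → A) :
    VanCyc.QuadNondeg q ↔ IsUnit (4 * q 0 0 * q 1 1 - q 0 1 ^ 2) := by
  unfold VanCyc.QuadNondeg
  rw [Matrix.det_fin_two]
  have h01 : ((0 : Fin 2) < 1) := by decide
  have h10 : ¬ ((1 : Fin 2) < 0) := by decide
  have hne : ((0 : Fin 2) ≠ 1) := by decide
  have hne' : ((1 : Fin 2) ≠ 0) := by decide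
  simp only [VanCyc.polarMatrix, if_true, hne, hne', if_false, h01, h10]
  have : 2 * q 0 0 * (2 * q 1 1) - q 0 1 * q 0 1 = 4 * q 0 0 * q 1 1 - q 0 1 ^ 2 := by ring
  rw [this]

end Groth.Agent.Lib.Helper56.NodeDef
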