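import Mathlib
import Groth.Agent.Lib.Helper56.NodeDef1
import Groth.Agent.Lib.Helper56.NodeDef2
import Groth.Agent.S16231

set_option autoImplicit false
set_option linter.style.haveILetI false
set_option linter.unusedSectionVars false
set_option linter.unusedSimpArgs false

namespace Groth.Agent.Lib.Helper56.NodeDef

open IsLocalRing MvPowerSeries

universe u

section Aux

variable {κ : Type u} [Field κ]

theorem constantCoeff_of_mem_span {G : MvPowerSeries (Fin 2) κ} (hG : constantCoeff G = 0)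
    {z : MvPowerSeries (Fin 2) κ} (hz : z ∈ Ideal.span {G}) : constantCoeff z = 0 := by
  rw [Ideal.mem_span_singleton'] at hz
  obtain ⟨w, rfl⟩ := hz
  rw [map_mul, hG, mul_zero]

theorem exists_pair_of_constantCoeff {Λ : Type u} [CommRing Λ] (p : MvPowerSeries (Fin 2) Λ)
    (hp : constantCoeff p = 0) : ∃ α β : MvPowerSeries (Fin 2) Λ, p = α * X 0 + β * X 1 := by
  have h1 : p ∈ (Ideal.span (Set.range (X : Fin 2 → MvPowerSeries (Fin 2) Λ))) ^ 1 := by
    apply Groth.Agent.Lib.Helper76.mem_pow_span_X_of_coeff_eq_zero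
    intro α hα
    have h0 : α = 0 := by
      rw [← Finsupp.degree_eq_zero_iff]
      omega
    subst h0
    exact hp
  rw [pow_one] at h1
  obtain ⟨c, hc⟩ := (Submodule.mem_span_range_iff_exists_fun _).mp h1
  rw [Fin.sum_univ_two] at hc
  exact ⟨c 0, c 1, by rw [← hc]; simp [smul_eq_mul]⟩

end Aux

section Core

variable {Λ S κ : Type u} [CommRing Λ] [IsLocalRing Λ] [IsNoetherianRing Λ]
  [IsAdicComplete (maximalIdeal Λ) Λ]
  [CommRing S] [IsLocalRing S] [IsAdicComplete (maximalIdeal S) S] [Algebra Λ S]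
  [Module.Flat Λ S] [Field κ]

theorem abstract_core (ρ : Λ →+* κ) (hρ : Function.Surjective ρ)
    (a₀ b₀ c₀ : κ) (hdisc : 4 * a₀ * c₀ - b₀ ^ 2 ≠ 0)
    (G₀ : MvPowerSeries (Fin 2) κ) (hG₀ : G₀ = T6 0 0 0 a₀ b₀ c₀)
    (θ₀ : S →+* MvPowerSeries (Fin 2) κ ⧸ Ideal.span {G₀})
    (hθs : Function.Surjective θ₀)
    (hθk : RingHom.ker θ₀ = (maximalIdeal Λ).map (algebraMap Λ S))
    (hθc : ∀ r : Λ, θ₀ (algebraMap Λ S r) = Ideal.Quotient.mk _ (C (ρ r))) :
    ∃ a b c h : Λ, IsUnit (4 * a * c - b ^ 2) ∧ h ∈ maximalIdeal Λ ∧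
      Nonempty (S ≃ₐ[Λ] MvPowerSeries (Fin 2) Λ ⧸ Ideal.span {T6 (-h) 0 0 a b c}) := by
  classical
  have hGc : constantCoeff G₀ = 0 := by
    have := coeff_T6 (0 : κ) 0 0 a₀ b₀ c₀ 0
    rw [hG₀]
    simpa using this
  have hkerρ : RingHom.ker ρ = maximalIdeal Λ :=
    IsLocalRing.eq_maximalIdeal (RingHom.ker_isMaximal_of_surjective ρ hρ)
  have hρ0 : ∀ r, ρ r = 0 ↔ r ∈ maximalIdeal Λ := by
    intro r
    rw [← hkerρ, RingHom.mem_ker]
  haveI hnt : Nontrivial (MvPowerSeries (Fin 2) κ ⧸ Ideal.span {G₀}) := by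
    apply Ideal.Quotient.nontrivial_iff.mpr
    intro htop
    have h1 : (1 : MvPowerSeries (Fin 2) κ) ∈ Ideal.span {G₀} := by rw [htop]; trivial
    have := constantCoeff_of_mem_span hGc h1
    rw [map_one] at this
    exact one_ne_zero this
  haveI : IsLocalRing (MvPowerSeries (Fin 2) κ ⧸ Ideal.span {G₀}) :=
    IsLocalRing.of_surjective' (Ideal.Quotient.mk _) Ideal.Quotient.mk_surjective
  have hnonunit : ∀ p : MvPowerSeries (Fin 2) κ, constantCoeff p = 0 →
      ¬ IsUnit (Ideal.Quotient.mk (Ideal.span {G₀}) p) := by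
    intro p hp hu
    obtain ⟨w, hw⟩ := hu.exists_right_inv
    obtain ⟨w', rfl⟩ := Ideal.Quotient.mk_surjective w
    rw [← map_mul, ← map_one (Ideal.Quotient.mk (Ideal.span {G₀})), Ideal.Quotient.eq] at hw
    have := constantCoeff_of_mem_span hGc hw
    rw [map_sub, map_mul, hp, zero_mul, map_one, zero_sub, neg_eq_zero] at this
    exact one_ne_zero this
  have hkerle : RingHom.ker θ₀ ≤ maximalIdeal S := by
    intro z hz
    rw [mem_maximalIdeal, mem_nonunits_iff]
    intro hu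
    have h1 : IsUnit (θ₀ z) := hu.map θ₀
    rw [RingHom.mem_ker.mp hz] at h1
    exact not_isUnit_zero h1
  obtain ⟨uh, huh⟩ := hθs (Ideal.Quotient.mk _ (X 0))
  obtain ⟨vh, hvh⟩ := hθs (Ideal.Quotient.mk _ (X 1))
  have hmem_of : ∀ (z : S) (p : MvPowerSeries (Fin 2) κ), θ₀ z = Ideal.Quotient.mk _ p →
      constantCoeff p = 0 → z ∈ maximalIdeal S := by
    intro z p hz hp
    rw [mem_maximalIdeal, mem_nonunits_iff]
    intro hu
    have h1 : IsUnit (θ₀ z) := hu.map θ₀
    rw [hz] at h1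
    exact hnonunit p hp h1
  have huhm : uh ∈ maximalIdeal S := hmem_of uh (X 0) huh (by simp)
  have hvhm : vh ∈ maximalIdeal S := hmem_of vh (X 1) hvh (by simp)
  have hdec : ∀ z : S, ∃ (r : Λ) (A' B' : S),
      z - (algebraMap Λ S r + A' * uh + B' * vh) ∈ RingHom.ker θ₀ := by
    intro z
    obtain ⟨p, hp⟩ := Ideal.Quotient.mk_surjective (θ₀ z)
    obtain ⟨r, hr⟩ := hρ (constantCoeff p)
    obtain ⟨α, β, hαβ⟩ := exists_pair_of_constantCoeff (p - C (constantCoeff p)) (by simp)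
    obtain ⟨A', hA'⟩ := hθs (Ideal.Quotient.mk _ α)
    obtain ⟨B', hB'⟩ := hθs (Ideal.Quotient.mk _ β)
    refine ⟨r, A', B', ?_⟩
    rw [RingHom.mem_ker, map_sub, map_add, map_add, map_mul, map_mul, hθc, hr, hA', hB', huh, hvh,
      ← hp, ← map_mul, ← map_mul, ← map_add, ← map_add, ← map_sub, Ideal.Quotient.eq_zero_iff_mem]
    have : p - (C (constantCoeff p) + α * X 0 + β * X 1) = 0 := by
      rw [add_assoc, ← hαβ]; ring
    rw [this]
    exact Ideal.zero_mem _
  let bb : Fin 2 → S := ![uh, vh]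
  have hb : (maximalIdeal Λ).map (algebraMap Λ S) ⊔ Ideal.span (Set.range bb) =
      maximalIdeal S := by
    apply le_antisymm
    · apply sup_le
      · rw [← hθk]; exact hkerle
      · rw [Ideal.span_le]
        rintro _ ⟨i, rfl⟩
        fin_cases i
        · exact huhm
        · exact hvhm
    · intro z hz
      obtain ⟨r, A', B', hk⟩ := hdec z
      have hk' : z - (algebraMap Λ S r + A' * uh + B' * vh) ∈ maximalIdeal S := hkerle hk
      have hrm : algebraMap Λ S r ∈ maximalIdeal S := by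
        have : algebraMap Λ S r = z - (z - (algebraMap Λ S r + A' * uh + B' * vh)) -
            A' * uh - B' * vh := by ring
        rw [this]
        exact Ideal.sub_mem _ (Ideal.sub_mem _ (Ideal.sub_mem _ hz hk')
          (Ideal.mul_mem_left _ _ huhm)) (Ideal.mul_mem_left _ _ hvhm)
      have hr : r ∈ maximalIdeal Λ := by
        by_contra hr
        have hu : IsUnit r := by
          by_contra h'
          exact hr ((mem_maximalIdeal _).mpr h')
        exact (mem_maximalIdeal _).mp hrm (hu.map (algebraMap Λ S))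
      have : z = (algebraMap Λ S r + (z - (algebraMap Λ S r + A' * uh + B' * vh))) +
          (A' * uh + B' * vh) := by ring
      rw [this]
      apply Submodule.add_mem
      · apply Submodule.mem_sup_left
        apply Ideal.add_mem
        · exact Ideal.mem_map_of_mem _ hr
        · rw [← hθk]; exact hk
      · apply Submodule.mem_sup_right
        apply Ideal.add_mem
        · exact Ideal.mul_mem_left _ _ (Ideal.subset_span ⟨0, rfl⟩)
        · exact Ideal.mul_mem_left _ _ (Ideal.subset_span ⟨1, rfl⟩)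
  have hres : Function.Surjective ((residue S).comp (algebraMap Λ S)) := by
    intro y
    obtain ⟨z, rfl⟩ := residue_surjective y
    obtain ⟨r, A', B', hk⟩ := hdec z
    refine ⟨r, ?_⟩
    rw [RingHom.comp_apply, ← sub_eq_zero, ← map_sub, residue_eq_zero_iff]
    have : algebraMap Λ S r - z = -((z - (algebraMap Λ S r + A' * uh + B' * vh)) +
        (A' * uh + B' * vh)) := by ring
    rw [this]
    apply neg_mem
    apply Ideal.add_mem _ (hkerle hk)
    exact Ideal.add_mem _ (Ideal.mul_mem_left _ _ huhm) (Ideal.mul_mem_left _ _ hvhm)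
  obtain ⟨Ψ, hΨs, hΨX⟩ := exists_presentation hres bb hb
  have hΨC : ∀ c : Λ, Ψ (C c) = algebraMap Λ S c := fun c => Ψ.commutes c
  have hθθ' : θ₀.comp Ψ.toRingHom =
      (Ideal.Quotient.mk (Ideal.span {G₀})).comp (MvPowerSeries.map ρ) := by
    apply ringHom_ext_of_local
    · intro i
      simp only [RingHom.comp_apply, MvPowerSeries.map_X]
      change θ₀ (Ψ (X i)) = _
      rw [hΨX]
      fin_cases i
      · exact huh
      · exact hvh
    · intro c
      simp only [RingHom.comp_apply, MvPowerSeries.map_C]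
      change θ₀ (Ψ (C c)) = _
      rw [hΨC, hθc]
    · intro i
      rw [RingHom.comp_apply]
      change θ₀ (Ψ (X i)) ∈ _
      rw [hΨX]
      have : θ₀ (bb i) = Ideal.Quotient.mk _ (X i) := by
        fin_cases i
        · exact huh
        · exact hvh
      rw [this, mem_maximalIdeal, mem_nonunits_iff]
      exact hnonunit (X i) (by simp)
  have hθeq : ∀ z, θ₀ (Ψ z) = Ideal.Quotient.mk (Ideal.span {G₀}) (MvPowerSeries.map ρ z) :=
    fun z => RingHom.congr_fun hθθ' z
  obtain ⟨a₁, ha₁⟩ := hρ a₀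
  obtain ⟨b₁, hb₁⟩ := hρ b₀
  obtain ⟨c₁, hc₁⟩ := hρ c₀
  set F₀ := T6 0 0 0 a₁ b₁ c₁ with hF₀
  have hmapF₀ : MvPowerSeries.map ρ F₀ = G₀ := by
    rw [hF₀, hG₀]
    unfold T6
    simp only [map_add, map_mul, map_pow, MvPowerSeries.map_C, MvPowerSeries.map_X, map_zero,
      ha₁, hb₁, hc₁]
  have hmapCle : (maximalIdeal Λ).map (C : Λ →+* MvPowerSeries (Fin 2) Λ) ≤
      RingHom.ker (MvPowerSeries.map ρ) := by
    rw [Ideal.map_le_iff_le_comap]
    intro r hr
    rw [Ideal.mem_comap, RingHom.mem_ker, MvPowerSeries.map_C, (hρ0 r).mpr hr, map_zero]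
  have hΨF₀ : Ψ F₀ ∈ (maximalIdeal Λ).map (algebraMap Λ S) := by
    rw [← hθk, RingHom.mem_ker, hθeq, hmapF₀, Ideal.Quotient.eq_zero_iff_mem]
    exact Ideal.subset_span rfl
  have hmapmap : ((maximalIdeal Λ).map (C : Λ →+* MvPowerSeries (Fin 2) Λ)).map Ψ.toRingHom =
      (maximalIdeal Λ).map (algebraMap Λ S) := by
    rw [Ideal.map_map]
    congr 1
    ext c
    exact hΨC c
  rw [← hmapmap, Ideal.mem_map_iff_of_surjective Ψ.toRingHom hΨs] at hΨF₀
  obtain ⟨g, hg, hgF⟩ := hΨF₀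
  set F := F₀ - g with hF
  have hΨF : Ψ F = 0 := by
    rw [hF, map_sub, sub_eq_zero]
    exact hgF.symm
  have hmapF : MvPowerSeries.map ρ F = G₀ := by
    rw [hF, map_sub, hmapF₀, RingHom.mem_ker.mp (hmapCle hg), sub_zero]
  have hmapsurj : Function.Surjective (MvPowerSeries.map (σ := Fin 2) ρ) := by
    intro wb
    choose w hw using fun e => hρ (coeff e wb)
    let wl : MvPowerSeries (Fin 2) Λ := fun e => w e
    refine ⟨wl, ?_⟩
    ext e
    rw [coeff_map]
    exact hw e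
  have hgen : ∀ z ∈ RingHom.ker Ψ.toRingHom, ∃ w, z - w * F ∈
      (maximalIdeal Λ).map (C : Λ →+* MvPowerSeries (Fin 2) Λ) := by
    intro z hz
    have h1 : Ideal.Quotient.mk (Ideal.span {G₀}) (MvPowerSeries.map ρ z) = 0 := by
      rw [← hθeq]
      have : Ψ z = 0 := hz
      rw [this, map_zero]
    rw [Ideal.Quotient.eq_zero_iff_mem, Ideal.mem_span_singleton'] at h1
    obtain ⟨wb, hwb⟩ := h1
    obtain ⟨w, rfl⟩ := hmapsurj wb
    refine ⟨w, ?_⟩
    rw [← hkerρ]
    apply ker_map_le ρ (IsNoetherian.noetherian _)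
    rw [RingHom.mem_ker, map_sub, map_mul, hmapF, hwb, sub_self]
  have hker := ker_eq_span Ψ hΨs F hΨF hgen
  let E1 : S ≃ₐ[Λ] MvPowerSeries (Fin 2) Λ ⧸ Ideal.span {F} :=
    (Ideal.quotientKerAlgEquivOfSurjective hΨs).symm.trans (Ideal.quotientEquivAlgOfEq Λ hker)
  have hρcoeff : ∀ e, ρ (coeff e F) = coeff e G₀ := by
    intro e
    rw [← hmapF, coeff_map]
  have hc0 : coeff 0 F ∈ maximalIdeal Λ := by
    rw [← hρ0, hρcoeff, hG₀, coeff_T6]; simp
  have hc10 : coeff (Finsupp.single 0 1) F ∈ maximalIdeal Λ := by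
    rw [← hρ0, hρcoeff, hG₀, coeff_T6]; simp
  have hc01 : coeff (Finsupp.single 1 1) F ∈ maximalIdeal Λ := by
    rw [← hρ0, hρcoeff, hG₀, coeff_T6]; simp
  have hq00 : ρ (coeff (Finsupp.single 0 2) F) = a₀ := by
    rw [hρcoeff, hG₀, coeff_T6]; simp
  have hq01 : ρ (coeff (Finsupp.single 0 1 + Finsupp.single 1 1) F) = b₀ := by
    rw [hρcoeff, hG₀, coeff_T6]; simp
  have hq11 : ρ (coeff (Finsupp.single 1 2) F) = c₀ := by
    rw [hρcoeff, hG₀, coeff_T6]; simp
  let q : Fin 2 → Fin 2 → Λ := fun i j =>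
    ![![coeff (Finsupp.single 0 2) F, coeff (Finsupp.single 0 1 + Finsupp.single 1 1) F],
      ![0, coeff (Finsupp.single 1 2) F]] i j
  let ℓ : Fin 2 → Λ := ![coeff (Finsupp.single 0 1) F, coeff (Finsupp.single 1 1) F]
  have hqnd : VanCyc.QuadNondeg q := by
    rw [quadNondeg_iff]
    show IsUnit (4 * coeff (Finsupp.single 0 2) F * coeff (Finsupp.single 1 2) F -
      coeff (Finsupp.single 0 1 + Finsupp.single 1 1) F ^ 2)
    by_contra hnu
    have hm := (mem_maximalIdeal _).mpr hnu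
    rw [← hρ0, map_sub, map_mul, map_mul, map_pow, map_ofNat, hq00, hq01, hq11] at hm
    exact hdisc hm
  have hℓ : ∀ i, ℓ i ∈ maximalIdeal Λ := by
    intro i
    fin_cases i
    · exact hc10
    · exact hc01
  have hFlow : ∀ e : Fin 2 →₀ ℕ, e.degree ≤ 2 →
      coeff e F = coeff e ((VanCyc.quadPoly q + ∑ i, MvPolynomial.C (ℓ i) * MvPolynomial.X i +
        MvPolynomial.C (coeff 0 F) : MvPolynomial (Fin 2) Λ) : MvPowerSeries (Fin 2) Λ) := by
    intro e he
    rw [coe_quadPoly]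
    exact lowcoeff F e he
  obtain ⟨a', q', ha', hq', ⟨E2⟩⟩ := Groth.Agent.S16231.result Λ 2 q hqnd (coeff 0 F) hc0 ℓ hℓ F
    hFlow
  have hgen' : ((VanCyc.quadPoly q' + MvPolynomial.C a' : MvPolynomial (Fin 2) Λ) :
      MvPowerSeries (Fin 2) Λ) = T6 (-(-a')) 0 0 (q' 0 0) (q' 0 1) (q' 1 1) := by
    rw [neg_neg]
    have := coe_quadPoly q' (fun _ => 0) a'
    simp only [map_zero, zero_mul, Finset.sum_const_zero, add_zero] at this
    exact this
  rw [hgen'] at E2
  refine ⟨q' 0 0, q' 0 1, q' 1 1, -a', (quadNondeg_iff q').mp hq', neg_mem ha',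
    ⟨E1.trans E2⟩⟩

end Core

end Groth.Agent.Lib.Helper56.NodeDef
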