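import Mathlib
import Groth.Agent.Lib.Helper56.NodeDef3
import Groth.Agent.Lib.Helper56.CplQuot

set_option autoImplicit false
set_option linter.style.haveILetI false
set_option linter.unusedSectionVars false
set_option linter.unusedSimpArgs false

namespace Groth.Agent.Lib.Helper56.NodeDef

open IsLocalRing MvPowerSeries EGA4 Groth.Agent.Lib.Helper56

universe u

variable {R C : Type u} [CommRing R] [IsLocalRing R] [IsNoetherianRing R]
  [CommRing C] [IsLocalRing C] [IsNoetherianRing C] [Algebra R C] [IsLocalHom (algebraMap R C)]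
  [Module.Flat R C]

theorem concrete [Nontrivial (C ⧸ (maximalIdeal R).map (algebraMap R C))]
    (a₀ b₀ c₀ : ResidueField R) (hdisc : 4 * a₀ * c₀ - b₀ ^ 2 ≠ 0)
    (G₀ : MvPowerSeries (Fin 2) (ResidueField R)) (hG₀ : G₀ = T6 0 0 0 a₀ b₀ c₀)
    (e₀ : Cpl (C ⧸ (maximalIdeal R).map (algebraMap R C)) ≃+*
      MvPowerSeries (Fin 2) (ResidueField R) ⧸ Ideal.span {G₀})
    (he₀ : ∀ r : R, e₀ (algebraMap (C ⧸ (maximalIdeal R).map (algebraMap R C))
        (Cpl (C ⧸ (maximalIdeal R).map (algebraMap R C)))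
        (Ideal.Quotient.mk _ (algebraMap R C r))) =
      Ideal.Quotient.mk _ (MvPowerSeries.C (residue R r))) :
    ∃ a b c h : Cpl R, IsUnit (4 * a * c - b ^ 2) ∧ h ∈ maximalIdeal (Cpl R) ∧
      ∃ e : Cpl C ≃+* MvPowerSeries (Fin 2) (Cpl R) ⧸ Ideal.span {T6 (-h) 0 0 a b c},
        ∀ r : R, e (algebraMap C (Cpl C) (algebraMap R C r)) =
          Ideal.Quotient.mk _ (MvPowerSeries.C (algebraMap R (Cpl R) r)) := by
  classical
  haveI : IsNoetherianRing (Cpl R) := Groth.Agent.S0543.result R _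
  haveI : IsNoetherianRing (Cpl C) := Groth.Agent.S0543.result C _
  letI := cplAlgebra R C
  haveI : Module.Flat (Cpl R) (Cpl C) := flat_cplMap R C
  have hbij := AdicCompletion.residueField_map_bijective R
  let ε : ResidueField R ≃+* ResidueField (Cpl R) :=
    RingEquiv.ofBijective (ResidueField.map (algebraMap R (Cpl R))) hbij
  let ρ : Cpl R →+* ResidueField R := (ε.symm : ResidueField (Cpl R) →+* ResidueField R).comp
    (residue (Cpl R))
  have hρs : Function.Surjective ρ := ε.symm.surjective.comp residue_surjective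
  have hρa : ∀ r : R, ρ (algebraMap R (Cpl R) r) = residue R r := by
    intro r
    show ε.symm (residue (Cpl R) (algebraMap R (Cpl R) r)) = residue R r
    rw [RingEquiv.symm_apply_eq]
    exact (ResidueField.map_residue _ r).symm
  have hρ0 : ∀ x : Cpl R, x ∈ maximalIdeal (Cpl R) → ρ x = 0 := by
    intro x hx
    show ε.symm (residue (Cpl R) x) = 0
    rw [(residue_eq_zero_iff x).mpr hx, map_zero]
  have hdecR : ∀ x : Cpl R, ∃ r : R, x - algebraMap R (Cpl R) r ∈ maximalIdeal (Cpl R) := by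
    intro x
    obtain ⟨y, hy⟩ := hbij.2 (residue (Cpl R) x)
    obtain ⟨r, rfl⟩ := residue_surjective y
    refine ⟨r, ?_⟩
    rw [← residue_eq_zero_iff, map_sub, sub_eq_zero, ← hy]
    exact (ResidueField.map_residue _ r).symm
  set I₀ := (maximalIdeal R).map (algebraMap R C) with hI₀
  let π : Cpl C →+* Cpl (C ⧸ I₀) := cplMap C (C ⧸ I₀)
  have hπs : Function.Surjective π := cplMap_quot_surjective C I₀
  have hπk : RingHom.ker π = I₀.map (algebraMap C (Cpl C)) := ker_cplMap_quot C I₀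
  have hsq : ∀ r : R, algebraMap (Cpl R) (Cpl C) (algebraMap R (Cpl R) r) =
      algebraMap C (Cpl C) (algebraMap R C r) := fun r => cplMap_algebraMap R C r
  have hkmap : I₀.map (algebraMap C (Cpl C)) =
      (maximalIdeal (Cpl R)).map (algebraMap (Cpl R) (Cpl C)) := by
    rw [hI₀, Ideal.map_map, AdicCompletion.maximalIdeal_eq_map (R := R), Ideal.map_map]
    congr 1
  let θ₀ : Cpl C →+* MvPowerSeries (Fin 2) (ResidueField R) ⧸ Ideal.span {G₀} :=
    (e₀ : Cpl (C ⧸ I₀) →+* _).comp π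
  have hθs : Function.Surjective θ₀ := e₀.surjective.comp hπs
  have hθk : RingHom.ker θ₀ = (maximalIdeal (Cpl R)).map (algebraMap (Cpl R) (Cpl C)) := by
    rw [← hkmap, ← hπk]
    ext z
    rw [RingHom.mem_ker, RingHom.mem_ker]
    show e₀ (π z) = 0 ↔ _
    exact map_eq_zero_iff e₀ e₀.injective
  have hθc : ∀ x : Cpl R, θ₀ (algebraMap (Cpl R) (Cpl C) x) =
      Ideal.Quotient.mk _ (MvPowerSeries.C (ρ x)) := by
    intro x
    obtain ⟨r, hr⟩ := hdecR x
    have h1 : θ₀ (algebraMap (Cpl R) (Cpl C) (x - algebraMap R (Cpl R) r)) = 0 := by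
      rw [← RingHom.mem_ker, hθk]
      exact Ideal.mem_map_of_mem _ hr
    have h2 : θ₀ (algebraMap (Cpl R) (Cpl C) (algebraMap R (Cpl R) r)) =
        Ideal.Quotient.mk _ (MvPowerSeries.C (residue R r)) := by
      rw [hsq]
      show e₀ (π (algebraMap C (Cpl C) (algebraMap R C r))) = _
      have : π (algebraMap C (Cpl C) (algebraMap R C r)) =
          algebraMap (C ⧸ I₀) (Cpl (C ⧸ I₀)) (Ideal.Quotient.mk _ (algebraMap R C r)) :=
        cplMap_algebraMap C (C ⧸ I₀) _
      rw [this]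
      exact he₀ r
    have h3 : ρ x = residue R r := by
      have : ρ (x - algebraMap R (Cpl R) r) = 0 := hρ0 _ hr
      rw [map_sub, hρa, sub_eq_zero] at this
      exact this
    rw [map_sub, map_sub, sub_eq_zero] at h1
    rw [h1, h2, h3]
  obtain ⟨a, b, c, h, hu, hh, ⟨E⟩⟩ := abstract_core ρ hρs a₀ b₀ c₀ hdisc G₀ hG₀ θ₀ hθs hθk hθc
  refine ⟨a, b, c, h, hu, hh, E.toRingEquiv, ?_⟩
  intro r
  rw [← hsq]
  show E (algebraMap (Cpl R) (Cpl C) (algebraMap R (Cpl R) r)) = _
  rw [E.commutes]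
  rfl

end Groth.Agent.Lib.Helper56.NodeDef
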