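import Mathlib
import Groth.Prelude.Def_Curv2
import Groth.Agent.Lib.Helper67.FiberStalk

set_option autoImplicit false
set_option linter.style.haveILetI false
set_option linter.unusedSectionVars false

universe u

open CategoryTheory CategoryTheory.Limits AlgebraicGeometry Opposite TopologicalSpace

namespace Groth.Agent.Lib.Helper56.NodeDef

open Groth.Agent.Lib.Helper67.FiberStalk

variable {X S : Scheme.{u}} (f : X ⟶ S)

theorem cMor_snd (x : X) :
    cMor f x ≫ f.fiberToSpecResidueField (f x) = Spec.map (ψ f x) :=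
  pullback.lift_snd _ _ _

set_option backward.isDefEq.respectTransparency false in
theorem stalkEquiv_eq (x : X) (x' : f.fiber (f x)) (hx' : f.fiberι (f x) x' = x)
    (hc : cMor f x (IsLocalRing.closedPoint (Q f x)) = x')
    (z : (f.fiber (f x)).presheaf.stalk x') :
    stalkEquiv f x x' hx' z =
      (Scheme.stalkClosedPointTo (cMor f x)).hom
        (((f.fiber (f x)).presheaf.stalkCongr (.of_eq hc.symm)).hom.hom z) := by
  subst hc
  obtain ⟨b, rfl⟩ := σ_surjective f x _ hx' z
  rw [stalkEquiv_σ]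
  obtain ⟨h₁, h₂⟩ := exists_aMor f x
  rw [Scheme.stalkClosedPointTo_comp] at h₂
  have h4 : (Scheme.stalkClosedPointTo (cMor f x)).hom
      (((f.fiberι (f x)).stalkMap _).hom ((X.presheaf.stalkCongr (.of_eq hx'.symm)).hom.hom b)) =
      (qmap f x).hom ((X.presheaf.stalkCongr (.of_eq h₁)).hom.hom
        ((X.presheaf.stalkCongr (.of_eq hx'.symm)).hom.hom b)) :=
    congrArg (fun φ => φ.hom ((X.presheaf.stalkCongr (.of_eq hx'.symm)).hom.hom b)) h₂
  have h5 : (X.presheaf.stalkCongr (.of_eq h₁)).hom.hom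
      ((X.presheaf.stalkCongr (.of_eq hx'.symm)).hom.hom b) = b := by
    have h6 : (X.presheaf.stalkCongr (.of_eq hx'.symm)).hom ≫
        (X.presheaf.stalkCongr (.of_eq h₁)).hom = 𝟙 _ := by
      rw [TopCat.Presheaf.stalkCongr_hom, TopCat.Presheaf.stalkCongr_hom,
        TopCat.Presheaf.stalkSpecializes_comp, TopCat.Presheaf.stalkSpecializes_refl]
    exact congrArg (fun φ => φ.hom b) h6
  have h7 : ((f.fiber (f x)).presheaf.stalkCongr (.of_eq (rfl : cMor f x
      (IsLocalRing.closedPoint (Q f x)) = _))).hom.hom ((σ f x _ hx').hom b) =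
      (σ f x _ hx').hom b := by
    have h8 : ((f.fiber (f x)).presheaf.stalkCongr (.of_eq (rfl : cMor f x
        (IsLocalRing.closedPoint (Q f x)) = _))).hom = 𝟙 _ := by
      rw [TopCat.Presheaf.stalkCongr_hom, TopCat.Presheaf.stalkSpecializes_refl]
    exact congrArg (fun φ => φ.hom ((σ f x _ hx').hom b)) h8
  rw [h7]
  have h9 : (σ f x _ hx').hom b = ((f.fiberι (f x)).stalkMap _).hom
      ((X.presheaf.stalkCongr (.of_eq hx'.symm)).hom.hom b) := rfl
  rw [h9, h4, h5]
  rfl

theorem germ_stalkClosedPointTo_of_eq {K Q' : CommRingCat.{u}} [IsLocalRing Q'] (φ : K ⟶ Q')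
    (h : Spec Q' ⟶ Spec K) (hh : h = Spec.map φ) :
    (Spec K).presheaf.germ ⊤ _ trivial ≫ Scheme.stalkClosedPointTo h =
      (Scheme.ΓSpecIso K).hom ≫ φ := by
  subst hh
  exact Scheme.germ_stalkClosedPointTo_Spec φ

set_option backward.isDefEq.respectTransparency false in
theorem stalkEquiv_algebraMap (x : X) (x' : f.fiber (f x)) (hx' : f.fiberι (f x) x' = x)
    (r : S.residueField (f x)) :
    stalkEquiv f x x' hx' (((f.fiber (f x)).presheaf.germ ⊤ x' trivial).hom
      ((Coh.toGlobal (f.fiberToSpecResidueField (f x))) r)) = (ψ f x).hom r := by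
  have hc := cMor_closedPoint f x x' hx'
  subst hc
  rw [stalkEquiv_eq f x _ hx' rfl]
  have h8 : ((f.fiber (f x)).presheaf.stalkCongr (.of_eq (rfl : cMor f x
      (IsLocalRing.closedPoint (Q f x)) = _))).hom = 𝟙 _ := by
    rw [TopCat.Presheaf.stalkCongr_hom, TopCat.Presheaf.stalkSpecializes_refl]
  have h8' : ∀ w, ((f.fiber (f x)).presheaf.stalkCongr (.of_eq (rfl : cMor f x
      (IsLocalRing.closedPoint (Q f x)) = _))).hom.hom w = w :=
    fun w => congrArg (fun φ => φ.hom w) h8
  rw [h8']
  have key : (Scheme.ΓSpecIso (S.residueField (f x))).inv ≫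
      (f.fiberToSpecResidueField (f x)).appTop ≫
      (f.fiber (f x)).presheaf.germ ⊤ (cMor f x (IsLocalRing.closedPoint (Q f x))) trivial ≫
      Scheme.stalkClosedPointTo (cMor f x) = ψ f x := by
    have h1 : (f.fiberToSpecResidueField (f x)).appTop ≫
        (f.fiber (f x)).presheaf.germ ⊤ (cMor f x (IsLocalRing.closedPoint (Q f x))) trivial =
        (Spec (S.residueField (f x))).presheaf.germ ⊤ _ trivial ≫
          (f.fiberToSpecResidueField (f x)).stalkMap _ :=
      ((f.fiberToSpecResidueField (f x)).germ_stalkMap ⊤ _ trivial).symm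
    rw [reassoc_of% h1, ← Scheme.stalkClosedPointTo_comp]
    have h2 := germ_stalkClosedPointTo_of_eq (ψ f x) _ (cMor_snd f x)
    exact (congrArg (fun t => (Scheme.ΓSpecIso (S.residueField (f x))).inv ≫ t) h2).trans
      (Iso.inv_hom_id_assoc _ _)
  have := congrArg (fun φ => φ.hom r) key
  simp only [CommRingCat.hom_comp, RingHom.comp_apply] at this
  exact this

end Groth.Agent.Lib.Helper56.NodeDef
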