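import Mathlib
import Groth.Agent.Lib.Helper56.NodeDef1
import Groth.Agent.Lib.Helper56.NodeDef2

set_option autoImplicit false
set_option linter.style.haveILetI false
set_option linter.unusedSectionVars false
set_option linter.unusedSimpArgs false

namespace Groth.Agent.Lib.Helper56.NodeDef

open IsLocalRing MvPowerSeries

universe u

variable {Λ : Type u} [CommRing Λ] [IsLocalRing Λ] [IsNoetherianRing Λ]
  [IsAdicComplete (maximalIdeal Λ) Λ]

theorem exists_root (a b c : Λ) (ha : a ∈ maximalIdeal Λ) (hb : IsUnit b) :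
    ∃ s : Λ, s ∈ maximalIdeal Λ ∧ s ^ 2 + b * s + a * c = 0 := by
  haveI : HenselianRing Λ (maximalIdeal Λ) := inferInstance
  let f : Polynomial Λ := Polynomial.X ^ 2 + (Polynomial.C b * Polynomial.X + Polynomial.C (a * c))
  have hmon : f.Monic := by
    apply Polynomial.monic_X_pow_add
    calc (Polynomial.C b * Polynomial.X + Polynomial.C (a * c) : Polynomial Λ).degree
        ≤ 1 := Polynomial.degree_linear_le
      _ < ((2 : ℕ) : WithBot ℕ) := by norm_num
  have h0 : f.eval 0 ∈ maximalIdeal Λ := by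
    simp only [f, Polynomial.eval_add, Polynomial.eval_pow, Polynomial.eval_X, Polynomial.eval_mul,
      Polynomial.eval_C]
    have : (0 : Λ) ^ 2 + (b * 0 + a * c) = a * c := by ring
    rw [this]
    exact Ideal.mul_mem_right _ _ ha
  have hd : IsUnit (Ideal.Quotient.mk (maximalIdeal Λ) (f.derivative.eval 0)) := by
    have : f.derivative.eval 0 = b := by
      simp [f, Polynomial.derivative_X_pow]
    rw [this]
    exact hb.map _
  obtain ⟨s, hs, hs0⟩ := HenselianRing.is_henselian f hmon 0 h0 hd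
  refine ⟨s, by simpa using hs0, ?_⟩
  have := hs
  simp only [Polynomial.IsRoot.def, f, Polynomial.eval_add, Polynomial.eval_pow,
    Polynomial.eval_X, Polynomial.eval_mul, Polynomial.eval_C] at this
  linear_combination this

theorem isUnit_add_of_mem {b s : Λ} (hb : IsUnit b) (hs : s ∈ maximalIdeal Λ) : IsUnit (b + s) := by
  by_contra h
  have h1 : b + s ∈ maximalIdeal Λ := (mem_maximalIdeal _).mpr h
  have h2 : b ∈ maximalIdeal Λ := by
    have : b = (b + s) - s := by ring
    rw [this]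
    exact Ideal.sub_mem _ h1 hs
  exact (mem_maximalIdeal _).mp h2 hb

theorem exists_linear_hom (p q r s : Λ) :
    ∃ φ : MvPowerSeries (Fin 2) Λ →ₐ[Λ] MvPowerSeries (Fin 2) Λ,
      φ (X 0) = C p * X 0 + C q * X 1 ∧ φ (X 1) = C r * X 0 + C s * X 1 := by
  let bb : Fin 2 → MvPowerSeries (Fin 2) Λ := ![C p * X 0 + C q * X 1, C r * X 0 + C s * X 1]
  have hmem : ∀ i, bb i ∈ maximalIdeal (MvPowerSeries (Fin 2) Λ) := by
    intro i
    rw [Groth.Agent.Lib.Helper70.CohenFact.mem_maximalIdeal_iff]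
    fin_cases i <;> simp [bb]
  have hle : Ideal.span (Set.range bb) ≤ maximalIdeal (MvPowerSeries (Fin 2) Λ) := by
    rw [Ideal.span_le]
    rintro _ ⟨i, rfl⟩
    exact hmem i
  haveI : IsAdicComplete (Ideal.span (Set.range bb)) (MvPowerSeries (Fin 2) Λ) :=
    Groth.Agent.Lib.Helper61.CompleteLE.isAdicComplete_of_le _
      (maximalIdeal (MvPowerSeries (Fin 2) Λ)) hle
      ⟨(Set.finite_range bb).toFinset, by rw [Set.Finite.coe_toFinset]⟩
  obtain ⟨φ, hφ⟩ := Groth.Agent.Lib.Helper61.PSEval.exists_eval Λ (MvPowerSeries (Fin 2) Λ) bb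
  exact ⟨φ, hφ 0, hφ 1⟩

theorem comp_eq_id (φ φ' : MvPowerSeries (Fin 2) Λ →ₐ[Λ] MvPowerSeries (Fin 2) Λ)
    (h0 : φ (φ' (X 0)) = X 0) (h1 : φ (φ' (X 1)) = X 1) :
    φ.comp φ' = AlgHom.id Λ _ := by
  have : (φ.comp φ').toRingHom = RingHom.id _ := by
    apply ringHom_ext_of_local
    · intro i
      fin_cases i
      · exact h0
      · exact h1
    · intro c
      change φ (φ' (C c)) = C c
      have e1 : (C c : MvPowerSeries (Fin 2) Λ) = algebraMap Λ _ c := rfl
      rw [e1, φ'.commutes, φ.commutes]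
    · intro i
      have : (φ.comp φ').toRingHom (X i) = X i := by
        fin_cases i
        · exact h0
        · exact h1
      rw [this, Groth.Agent.Lib.Helper70.CohenFact.mem_maximalIdeal_iff]
      simp
  apply AlgHom.ext
  intro z
  exact RingHom.congr_fun this z

theorem split_equiv (a b c h : Λ) (ha : a ∈ maximalIdeal Λ) (hb : IsUnit b) :
    Nonempty ((MvPowerSeries (Fin 2) Λ ⧸ Ideal.span {T6 (-h) 0 0 a b c}) ≃ₐ[Λ]
      (MvPowerSeries (Fin 2) Λ ⧸ Ideal.span {(X 0 * X 1 - C h : MvPowerSeries (Fin 2) Λ)})) := by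
  obtain ⟨s, hsm, hs⟩ := exists_root a b c ha hb
  have hδu : IsUnit (b + s) := isUnit_add_of_mem hb hsm
  obtain ⟨δ', hδ'⟩ := hδu.exists_left_inv
  set δ := b + s with hδ
  set β := c * δ' with hβ
  have hac : a * c = -(s * δ) := by rw [hδ]; linear_combination hs
  have haβ : a * β = -s := by
    rw [hβ]
    linear_combination δ' * hac - s * hδ'
  have hβδ : β * δ = c := by
    rw [hβ]
    linear_combination c * hδ'
  have hDu : IsUnit (δ - a * β) := by
    rw [haβ, sub_neg_eq_add]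
    exact isUnit_add_of_mem hδu hsm
  obtain ⟨D', hD'⟩ := hDu.exists_left_inv
  obtain ⟨φ, hφ0, hφ1⟩ := exists_linear_hom (1 : Λ) β a δ
  obtain ⟨φ', hφ'0, hφ'1⟩ := exists_linear_hom (D' * δ) (-(D' * β)) (-(D' * a)) D'
  have hDC : (C D' : MvPowerSeries (Fin 2) Λ) * (C δ - C a * C β) = 1 := by
    rw [← map_mul, ← map_sub, ← map_mul, hD', map_one]
  have hC : ∀ (ψ : MvPowerSeries (Fin 2) Λ →ₐ[Λ] MvPowerSeries (Fin 2) Λ) (t : Λ),
      ψ (C t) = C t := by
    intro ψ t
    have e1 : (C t : MvPowerSeries (Fin 2) Λ) = algebraMap Λ _ t := rfl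
    rw [e1, ψ.commutes]
  have h1 : φ.comp φ' = AlgHom.id Λ _ := by
    apply comp_eq_id
    · rw [hφ'0]
      simp only [map_add, map_mul, map_neg, hC, hφ0, hφ1, map_one]
      linear_combination (X 0 : MvPowerSeries (Fin 2) Λ) * hDC
    · rw [hφ'1]
      simp only [map_add, map_mul, map_neg, hC, hφ0, hφ1, map_one]
      linear_combination (X 1 : MvPowerSeries (Fin 2) Λ) * hDC
  have h2 : φ'.comp φ = AlgHom.id Λ _ := by
    apply comp_eq_id
    · rw [hφ0]
      simp only [map_add, map_mul, map_neg, hC, hφ'0, hφ'1, map_one]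
      linear_combination (X 0 : MvPowerSeries (Fin 2) Λ) * hDC
    · rw [hφ1]
      simp only [map_add, map_mul, map_neg, hC, hφ'0, hφ'1, map_one]
      linear_combination (X 1 : MvPowerSeries (Fin 2) Λ) * hDC
  let Φ : MvPowerSeries (Fin 2) Λ ≃ₐ[Λ] MvPowerSeries (Fin 2) Λ := AlgEquiv.ofAlgHom φ φ' h1 h2
  have hgen : Φ (X 0 * X 1 - C h) = T6 (-h) 0 0 a b c := by
    show φ (X 0 * X 1 - C h) = _
    rw [map_sub, map_mul, hφ0, hφ1, hC]
    unfold T6
    simp only [map_one, map_neg, map_zero, zero_mul, add_zero, one_mul]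
    have e1 : (C a : MvPowerSeries (Fin 2) Λ) * C β = -C s := by
      rw [← map_mul, haβ, map_neg]
    have e2 : (C β : MvPowerSeries (Fin 2) Λ) * C δ = C c := by
      rw [← map_mul, hβδ]
    have e3 : (C δ : MvPowerSeries (Fin 2) Λ) = C b + C s := by
      rw [hδ, map_add]
    linear_combination (X 0 * X 1 : MvPowerSeries (Fin 2) Λ) * e3 +
      (X 0 * X 1 : MvPowerSeries (Fin 2) Λ) * e1 + (X 1 ^ 2 : MvPowerSeries (Fin 2) Λ) * e2
  have hmap : Ideal.span {T6 (-h) 0 0 a b c} =
      (Ideal.span {(X 0 * X 1 - C h : MvPowerSeries (Fin 2) Λ)}).map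
        (Φ : MvPowerSeries (Fin 2) Λ →+* MvPowerSeries (Fin 2) Λ) := by
    rw [Ideal.map_span, Set.image_singleton]
    congr 2
    exact hgen.symm
  exact ⟨(Ideal.quotientEquivAlg _ _ Φ hmap).symm⟩

end Groth.Agent.Lib.Helper56.NodeDef
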