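import Mathlib
import Groth.Agent.Lib.Helper80.Node.Defs

set_option autoImplicit false
universe u
open Groth.Agent.Lib.Helper80.Node

namespace Groth.Agent.Lib.Helper56.NodeND1

theorem not_X_dvd_gNode (V : Type u) [CommRing V] [IsDomain V] (ϖ : V) (hϖ : ϖ ≠ 0)
    (i : Fin 2) : ¬ ((MvPolynomial.X i : MvPolynomial (Fin 2) V) ∣ gNode V ϖ) := by
  rintro ⟨G, hG⟩
  have h := congrArg (MvPolynomial.eval (fun _ : Fin 2 => (0 : V))) hG
  simp only [gNode, map_sub, map_mul, MvPolynomial.eval_X, MvPolynomial.eval_C, mul_zero,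
    zero_mul, zero_sub, neg_eq_zero] at h
  exact hϖ h

theorem mk_X_mem_nonZeroDivisors (V : Type u) [CommRing V] [IsDomain V] (ϖ : V) (hϖ : ϖ ≠ 0)
    (i : Fin 2) :
    Ideal.Quotient.mk (Ideal.span {gNode V ϖ}) (MvPolynomial.X i : MvPolynomial (Fin 2) V) ∈
      nonZeroDivisors (Q V ϖ) := by
  rw [mem_nonZeroDivisors_iff_left]
  intro q hq
  obtain ⟨F, rfl⟩ := Ideal.Quotient.mk_surjective q
  rw [← map_mul, Ideal.Quotient.eq_zero_iff_mem, Ideal.mem_span_singleton] at hq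
  obtain ⟨G, hG⟩ := hq
  have hp : Prime (MvPolynomial.X i : MvPolynomial (Fin 2) V) := MvPolynomial.X_prime
  have hdvd : (MvPolynomial.X i : MvPolynomial (Fin 2) V) ∣ gNode V ϖ * G := ⟨F, hG.symm⟩
  rcases hp.dvd_or_dvd hdvd with h1 | ⟨G', rfl⟩
  · exact absurd h1 (not_X_dvd_gNode V ϖ hϖ i)
  · have hX : (MvPolynomial.X i : MvPolynomial (Fin 2) V) ≠ 0 := hp.ne_zero
    have hF : F = gNode V ϖ * G' := by
      apply mul_left_cancel₀ hX
      rw [hG]; ring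
    rw [Ideal.Quotient.eq_zero_iff_mem, Ideal.mem_span_singleton]
    exact ⟨G', hF⟩

theorem nd1 (V : Type u) [CommRing V] [IsDomain V] (ϖ : V) (hϖ : ϖ ≠ 0) :
    xq V ϖ ∈ nonZeroDivisors (Q V ϖ) ∧ yq V ϖ ∈ nonZeroDivisors (Q V ϖ) :=
  ⟨mk_X_mem_nonZeroDivisors V ϖ hϖ 0, mk_X_mem_nonZeroDivisors V ϖ hϖ 1⟩

end Groth.Agent.Lib.Helper56.NodeND1
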