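import Mathlib
import Groth.Agent.Lib.Helper80.Node.Defs

set_option autoImplicit false
universe u
open Groth.Agent.Lib.Helper80.Node

namespace Groth.Agent.Lib.Helper56.NodeND2

section

variable (V : Type u) [CommRing V] [IsDomain V] (ϖ : V) (hϖ : Prime ϖ)

/-- reduction of coefficients mod `ϖ` -/
noncomputable abbrev red : MvPolynomial (Fin 2) V →+* MvPolynomial (Fin 2) (V ⧸ Ideal.span {ϖ}) :=
  MvPolynomial.map (Ideal.Quotient.mk (Ideal.span {ϖ}))

/-- the prime `(X i, ϖ)` of `V[X 0, X 1]` -/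
noncomputable abbrev P (i : Fin 2) : Ideal (MvPolynomial (Fin 2) V) :=
  Ideal.comap (red V ϖ) (Ideal.span {(MvPolynomial.X i : MvPolynomial (Fin 2) (V ⧸ Ideal.span {ϖ}))})

include hϖ in
theorem isDomain_quot : IsDomain (V ⧸ Ideal.span {ϖ}) := by
  haveI : (Ideal.span {ϖ}).IsPrime := (Ideal.span_singleton_prime hϖ.ne_zero).2 hϖ
  infer_instance

include hϖ in
theorem P_isPrime (i : Fin 2) : (P V ϖ i).IsPrime := by
  haveI := isDomain_quot V ϖ hϖ
  haveI : (Ideal.span {(MvPolynomial.X i : MvPolynomial (Fin 2) (V ⧸ Ideal.span {ϖ}))}).IsPrime :=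
    (Ideal.span_singleton_prime (MvPolynomial.X_prime).ne_zero).2 MvPolynomial.X_prime
  exact Ideal.comap_isPrime _ _

theorem X_mem_P (i : Fin 2) : (MvPolynomial.X i : MvPolynomial (Fin 2) V) ∈ P V ϖ i := by
  rw [Ideal.mem_comap, MvPolynomial.map_X]
  exact Ideal.subset_span rfl

theorem C_mem_P (i : Fin 2) : (MvPolynomial.C ϖ : MvPolynomial (Fin 2) V) ∈ P V ϖ i := by
  rw [Ideal.mem_comap, MvPolynomial.map_C]
  have : Ideal.Quotient.mk (Ideal.span {ϖ}) ϖ = 0 :=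
    Ideal.Quotient.eq_zero_iff_mem.2 (Ideal.subset_span rfl)
  rw [this, map_zero]
  exact zero_mem _

theorem gNode_mem_P (i : Fin 2) : gNode V ϖ ∈ P V ϖ i := by
  refine sub_mem ?_ (C_mem_P V ϖ i)
  fin_cases i
  · exact Ideal.mul_mem_right _ _ (X_mem_P V ϖ 0)
  · exact Ideal.mul_mem_left _ _ (X_mem_P V ϖ 1)

theorem P_le (i : Fin 2) :
    P V ϖ i ≤ Ideal.span {(MvPolynomial.X i : MvPolynomial (Fin 2) V)} ⊔
      Ideal.span {(MvPolynomial.C ϖ : MvPolynomial (Fin 2) V)} := by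
  intro F hF
  have hsurj : Function.Surjective (red V ϖ) :=
    MvPolynomial.map_surjective _ Ideal.Quotient.mk_surjective
  have hmap : Ideal.map (red V ϖ) (Ideal.span {(MvPolynomial.X i : MvPolynomial (Fin 2) V)}) =
      Ideal.span {(MvPolynomial.X i : MvPolynomial (Fin 2) (V ⧸ Ideal.span {ϖ}))} := by
    rw [Ideal.map_span, Set.image_singleton, MvPolynomial.map_X]
  have h1 : F ∈ Ideal.comap (red V ϖ)
      (Ideal.map (red V ϖ) (Ideal.span {(MvPolynomial.X i : MvPolynomial (Fin 2) V)})) := by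
    rw [hmap]; exact hF
  rw [Ideal.comap_map_of_surjective _ hsurj] at h1
  have hker : Ideal.comap (red V ϖ) ⊥ =
      Ideal.span {(MvPolynomial.C ϖ : MvPolynomial (Fin 2) V)} := by
    have : Ideal.comap (red V ϖ) ⊥ = RingHom.ker (red V ϖ) := rfl
    rw [this, MvPolynomial.ker_map, Ideal.mk_ker, Ideal.map_span, Set.image_singleton]
  rwa [hker] at h1

end

section

variable (V : Type u) [CommRing V] [IsDomain V] (ϖ : V) (hϖ : Prime ϖ)

theorem mk_C_eq : Ideal.Quotient.mk (Ideal.span {gNode V ϖ}) (MvPolynomial.C ϖ) =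
    xq V ϖ * yq V ϖ := by
  rw [← map_mul, eq_comm, Ideal.Quotient.eq, Ideal.mem_span_singleton]

theorem map_P_eq (i : Fin 2) :
    Ideal.map (Ideal.Quotient.mk (Ideal.span {gNode V ϖ})) (P V ϖ i) =
      Ideal.span {Ideal.Quotient.mk (Ideal.span {gNode V ϖ})
        (MvPolynomial.X i : MvPolynomial (Fin 2) V)} := by
  apply le_antisymm
  · refine (Ideal.map_mono (P_le V ϖ i)).trans ?_
    rw [Ideal.map_sup, Ideal.map_span, Ideal.map_span, Set.image_singleton, Set.image_singleton,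
      sup_le_iff]
    refine ⟨le_rfl, ?_⟩
    rw [Ideal.span_singleton_le_iff_mem, mk_C_eq]
    fin_cases i
    · exact Ideal.mul_mem_right _ _ (Ideal.subset_span rfl)
    · exact Ideal.mul_mem_left _ _ (Ideal.subset_span rfl)
  · rw [Ideal.span_singleton_le_iff_mem]
    exact Ideal.mem_map_of_mem _ (X_mem_P V ϖ i)

theorem ker_le_P (i : Fin 2) :
    RingHom.ker (Ideal.Quotient.mk (Ideal.span {gNode V ϖ})) ≤ P V ϖ i := by
  rw [Ideal.mk_ker, Ideal.span_singleton_le_iff_mem]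
  exact gNode_mem_P V ϖ i

include hϖ in
theorem span_mk_X_isPrime (i : Fin 2) :
    (Ideal.span {Ideal.Quotient.mk (Ideal.span {gNode V ϖ})
      (MvPolynomial.X i : MvPolynomial (Fin 2) V)}).IsPrime := by
  rw [← map_P_eq]
  haveI := P_isPrime V ϖ hϖ i
  exact Ideal.map_isPrime_of_surjective Ideal.Quotient.mk_surjective (ker_le_P V ϖ i)

include hϖ in
theorem mk_X_notMem (i j : Fin 2) (hij : j ≠ i) :
    Ideal.Quotient.mk (Ideal.span {gNode V ϖ}) (MvPolynomial.X j : MvPolynomial (Fin 2) V) ∉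
      Ideal.span {Ideal.Quotient.mk (Ideal.span {gNode V ϖ})
        (MvPolynomial.X i : MvPolynomial (Fin 2) V)} := by
  intro h
  rw [← map_P_eq] at h
  have h1 : (MvPolynomial.X j : MvPolynomial (Fin 2) V) ∈
      Ideal.comap (Ideal.Quotient.mk (Ideal.span {gNode V ϖ}))
        (Ideal.map (Ideal.Quotient.mk (Ideal.span {gNode V ϖ})) (P V ϖ i)) := h
  rw [Ideal.comap_map_of_surjective _ Ideal.Quotient.mk_surjective] at h1
  have h2 : Ideal.comap (Ideal.Quotient.mk (Ideal.span {gNode V ϖ})) ⊥ ≤ P V ϖ i :=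
    ker_le_P V ϖ i
  have h3 : (MvPolynomial.X j : MvPolynomial (Fin 2) V) ∈ P V ϖ i := by
    have := sup_le (le_refl (P V ϖ i)) h2
    exact this h1
  rw [Ideal.mem_comap, MvPolynomial.map_X, Ideal.mem_span_singleton] at h3
  obtain ⟨G, hG⟩ := h3
  haveI := isDomain_quot V ϖ hϖ
  have h4 := congrArg (MvPolynomial.eval (fun l : Fin 2 => if l = j then (1 : V ⧸ Ideal.span {ϖ})
    else 0)) hG
  simp only [map_mul, MvPolynomial.eval_X, if_true, if_neg hij.symm, zero_mul] at h4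
  exact one_ne_zero h4

include hϖ in
theorem nd2 : (Ideal.span {xq V ϖ}).IsPrime ∧ (Ideal.span {yq V ϖ}).IsPrime ∧
    yq V ϖ ∉ Ideal.span {xq V ϖ} ∧ xq V ϖ ∉ Ideal.span {yq V ϖ} :=
  ⟨span_mk_X_isPrime V ϖ hϖ 0, span_mk_X_isPrime V ϖ hϖ 1,
    mk_X_notMem V ϖ hϖ 0 1 (by decide), mk_X_notMem V ϖ hϖ 1 0 (by decide)⟩

end

end Groth.Agent.Lib.Helper56.NodeND2
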