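import Mathlib
import Groth.Agent.Lib.Helper80.Node.Defs

set_option autoImplicit false
universe u
open Groth.Agent.Lib.Helper80.Node

namespace Groth.Agent.Lib.Helper56.NodeND4

section

variable (V : Type u) [CommRing V] [IsDomain V] (ϖ : V) (hϖ : Prime ϖ)

/-- `F ↦ F(0,0) mod ϖ` -/
noncomputable abbrev ev0 : MvPolynomial (Fin 2) V →+* V ⧸ Ideal.span {ϖ} :=
  (Ideal.Quotient.mk (Ideal.span {ϖ})).comp MvPolynomial.constantCoeff

/-- the prime `(X 0, X 1, ϖ)` of `V[X 0, X 1]` -/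
noncomputable abbrev P : Ideal (MvPolynomial (Fin 2) V) := RingHom.ker (ev0 V ϖ)

include hϖ in
theorem P_isPrime : (P V ϖ).IsPrime := by
  haveI : (Ideal.span {ϖ}).IsPrime := (Ideal.span_singleton_prime hϖ.ne_zero).2 hϖ
  exact RingHom.ker_isPrime _

theorem X_mem_P (i : Fin 2) : (MvPolynomial.X i : MvPolynomial (Fin 2) V) ∈ P V ϖ := by
  rw [RingHom.mem_ker, RingHom.comp_apply, MvPolynomial.constantCoeff_X, map_zero]

theorem C_mem_P : (MvPolynomial.C ϖ : MvPolynomial (Fin 2) V) ∈ P V ϖ := by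
  rw [RingHom.mem_ker, RingHom.comp_apply, MvPolynomial.constantCoeff_C]
  exact Ideal.Quotient.eq_zero_iff_mem.2 (Ideal.subset_span rfl)

theorem gNode_mem_P : gNode V ϖ ∈ P V ϖ :=
  sub_mem (Ideal.mul_mem_right _ _ (X_mem_P V ϖ 0)) (C_mem_P V ϖ)

theorem P_le : P V ϖ ≤ Ideal.span {(MvPolynomial.X 0 : MvPolynomial (Fin 2) V),
    MvPolynomial.X 1} ⊔ Ideal.span {(MvPolynomial.C ϖ : MvPolynomial (Fin 2) V)} := by
  intro F hF
  rw [RingHom.mem_ker, RingHom.comp_apply, Ideal.Quotient.eq_zero_iff_mem,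
    Ideal.mem_span_singleton] at hF
  obtain ⟨d, hd⟩ := hF
  have h1 : F - MvPolynomial.C (MvPolynomial.constantCoeff F) ∈
      Ideal.span {(MvPolynomial.X 0 : MvPolynomial (Fin 2) V), MvPolynomial.X 1} := by
    have hset : ({(MvPolynomial.X 0 : MvPolynomial (Fin 2) V), MvPolynomial.X 1} : Set _) =
        MvPolynomial.X '' (Set.univ : Set (Fin 2)) := by
      ext p
      simp only [Set.mem_insert_iff, Set.mem_singleton_iff, Set.image_univ, Set.mem_range]
      constructor
      · rintro (rfl | rfl)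
        · exact ⟨0, rfl⟩
        · exact ⟨1, rfl⟩
      · rintro ⟨i, rfl⟩
        fin_cases i
        · exact Or.inl rfl
        · exact Or.inr rfl
    rw [hset, MvPolynomial.mem_ideal_span_X_image]
    intro m hm
    have hm0 : m ≠ 0 := by
      rintro rfl
      rw [MvPolynomial.mem_support_iff, MvPolynomial.coeff_sub, MvPolynomial.coeff_C, if_pos rfl,
        ← MvPolynomial.constantCoeff_eq, sub_self] at hm
      exact hm rfl
    obtain ⟨i, hi⟩ : ∃ i, m i ≠ 0 := by
      by_contra hcon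
      push Not at hcon
      exact hm0 (Finsupp.ext hcon)
    exact ⟨i, Set.mem_univ i, hi⟩
  have h2 : MvPolynomial.C (MvPolynomial.constantCoeff F) ∈
      Ideal.span {(MvPolynomial.C ϖ : MvPolynomial (Fin 2) V)} := by
    rw [hd, map_mul]
    exact Ideal.mul_mem_right _ _ (Ideal.subset_span rfl)
  have : F = (F - MvPolynomial.C (MvPolynomial.constantCoeff F)) +
      MvPolynomial.C (MvPolynomial.constantCoeff F) := by ring
  rw [this]
  exact Submodule.add_mem_sup h1 h2

theorem mk_C_eq : Ideal.Quotient.mk (Ideal.span {gNode V ϖ}) (MvPolynomial.C ϖ) =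
    xq V ϖ * yq V ϖ := by
  rw [← map_mul, eq_comm, Ideal.Quotient.eq, Ideal.mem_span_singleton]

theorem map_P_eq : Ideal.map (Ideal.Quotient.mk (Ideal.span {gNode V ϖ})) (P V ϖ) =
    Ideal.span ({xq V ϖ, yq V ϖ} : Set (Q V ϖ)) := by
  apply le_antisymm
  · refine (Ideal.map_mono (P_le V ϖ)).trans ?_
    rw [Ideal.map_sup, Ideal.map_span, Ideal.map_span, Set.image_singleton, Set.image_pair,
      sup_le_iff]
    refine ⟨le_rfl, ?_⟩
    rw [Ideal.span_singleton_le_iff_mem, mk_C_eq]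
    exact Ideal.mul_mem_right _ _ (Ideal.subset_span (Set.mem_insert _ _))
  · rw [Ideal.span_le]
    rintro z (rfl | rfl)
    · exact Ideal.mem_map_of_mem _ (X_mem_P V ϖ 0)
    · exact Ideal.mem_map_of_mem _ (X_mem_P V ϖ 1)

include hϖ in
theorem nd4 : (Ideal.span ({xq V ϖ, yq V ϖ} : Set (Q V ϖ))).IsPrime := by
  rw [← map_P_eq]
  haveI := P_isPrime V ϖ hϖ
  refine Ideal.map_isPrime_of_surjective Ideal.Quotient.mk_surjective ?_
  rw [Ideal.mk_ker, Ideal.span_singleton_le_iff_mem]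
  exact gNode_mem_P V ϖ

end

end Groth.Agent.Lib.Helper56.NodeND4
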