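import Mathlib
import Groth.Agent.Lib.Helper56.NodeDef3

set_option autoImplicit false
set_option linter.style.haveILetI false
set_option linter.unusedSectionVars false
set_option linter.unusedSimpArgs false

namespace Groth.Agent.Lib.Helper56.NodeThick

open IsLocalRing

universe u

theorem const_eq_zero_of_mul {L : Type u} [CommRing L] [IsLocalRing L] [IsNoetherianRing L]
    (P Q : PowerSeries L) (c : L) (hPQ : P * Q = PowerSeries.C c)
    (h0 : PowerSeries.constantCoeff P ∈ maximalIdeal L)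
    (h1 : IsUnit (PowerSeries.coeff 1 P)) : c = 0 := by
  classical
  obtain ⟨p₀, hp₀⟩ : ∃ p₀ : L, p₀ = PowerSeries.constantCoeff P := ⟨_, rfl⟩
  obtain ⟨E, hE⟩ : ∃ E : PowerSeries L, E = PowerSeries.mk fun n => PowerSeries.coeff (n + 1) P :=
    ⟨_, rfl⟩
  have hP : P = PowerSeries.X * E + PowerSeries.C p₀ := by
    rw [hE, hp₀]
    exact PowerSeries.eq_X_mul_shift_add_const P
  have hEu : IsUnit E := by
    rw [PowerSeries.isUnit_iff_constantCoeff, hE]
    simpa using h1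
  obtain ⟨E', hE'⟩ := hEu.exists_left_inv
  obtain ⟨Q', hQ'⟩ : ∃ Q' : PowerSeries L, Q' = E * Q := ⟨_, rfl⟩
  have hQ : Q = E' * Q' := by rw [hQ', ← mul_assoc, hE', one_mul]
  have hXQ' : PowerSeries.X * Q' = PowerSeries.C c - PowerSeries.C p₀ * Q := by
    rw [← hPQ, hQ']
    conv_rhs => rw [hP]
    ring
  let G : Ideal L := Ideal.span (Set.range fun n => PowerSeries.coeff n Q)
  have hQ'coeff : ∀ n, PowerSeries.coeff n Q' = -(p₀ * PowerSeries.coeff (n + 1) Q) := by
    intro n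
    have := congrArg (PowerSeries.coeff (n + 1)) hXQ'
    rw [PowerSeries.coeff_succ_X_mul, map_sub, PowerSeries.coeff_C_mul, PowerSeries.coeff_C] at this
    simpa using this
  have hmem : ∀ n, PowerSeries.coeff n Q ∈ maximalIdeal L • G := by
    intro n
    rw [hQ, PowerSeries.coeff_mul]
    apply Ideal.sum_mem
    rintro ⟨i, j⟩ _
    rw [hQ'coeff j]
    have e1 : PowerSeries.coeff i E' * -(p₀ * PowerSeries.coeff (j + 1) Q) =
        p₀ * (-(PowerSeries.coeff i E') * PowerSeries.coeff (j + 1) Q) := by ring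
    rw [e1, smul_eq_mul]
    apply Ideal.mul_mem_mul
    · rw [hp₀]; exact h0
    · exact Ideal.mul_mem_left _ _ (Ideal.subset_span ⟨j + 1, rfl⟩)
  have hG : G ≤ maximalIdeal L • G := Ideal.span_le.mpr (by rintro _ ⟨n, rfl⟩; exact hmem n)
  have hG0 : G = ⊥ := Submodule.eq_bot_of_le_smul_of_le_jacobson_bot (maximalIdeal L) G
    (IsNoetherian.noetherian G) hG (IsLocalRing.maximalIdeal_le_jacobson ⊥)
  have hq0 : PowerSeries.coeff 0 Q = 0 := by
    have : PowerSeries.coeff 0 Q ∈ G := Ideal.subset_span ⟨0, rfl⟩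
    rwa [hG0, Ideal.mem_bot] at this
  have := congrArg PowerSeries.constantCoeff hPQ
  rw [map_mul, PowerSeries.constantCoeff_C] at this
  rw [← this]
  have e2 : PowerSeries.constantCoeff Q = PowerSeries.coeff 0 Q := by simp
  rw [e2, hq0, mul_zero]

section A

open MvPowerSeries

noncomputable def killY (L : Type u) [CommRing L] : MvPowerSeries (Fin 2) L →ₐ[L] PowerSeries L :=
  MvPowerSeries.substAlgHom (R := L) (S := L)
    (a := ![(MvPowerSeries.X () : MvPowerSeries Unit L), 0]) MvPowerSeries.HasSubst.X_zero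

theorem killY_X0 (L : Type u) [CommRing L] : killY L (X 0) = PowerSeries.X := by
  unfold killY
  rw [substAlgHom_X]
  rfl

theorem killY_X1 (L : Type u) [CommRing L] : killY L (X 1) = 0 := by
  unfold killY
  rw [substAlgHom_X]
  rfl

theorem killY_C (L : Type u) [CommRing L] (c : L) : killY L (C c) = PowerSeries.C c := by
  have : (C c : MvPowerSeries (Fin 2) L) = algebraMap L _ c := rfl
  rw [this, AlgHom.commutes]
  rfl

variable {Λ : Type u} [CommRing Λ] [IsLocalRing Λ] [IsNoetherianRing Λ]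

theorem mem_span_of_surjective (a b : Λ) (ha : a ∈ maximalIdeal Λ) (hb : b ∈ maximalIdeal Λ)
    (S : Set Λ) (hS2 : ∀ l : Λ, ∃ s ∈ S, l - s ∈ maximalIdeal Λ)
    (hS3 : maximalIdeal Λ ≤ Ideal.span {s | s ∈ S ∧ s ∈ maximalIdeal Λ})
    (haS : a ∈ S)
    (ψ : (MvPowerSeries (Fin 2) Λ ⧸ Ideal.span {(X 0 * X 1 - C a : MvPowerSeries (Fin 2) Λ)}) →+*
      (MvPowerSeries (Fin 2) Λ ⧸ Ideal.span {(X 0 * X 1 - C b : MvPowerSeries (Fin 2) Λ)}))
    (hψs : Function.Surjective ψ)
    (hψ : ∀ s ∈ S, ψ (Ideal.Quotient.mk _ (C s)) = Ideal.Quotient.mk _ (C s)) :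
    a ∈ Ideal.span {b} := by
  classical
  have hIb : Ideal.span {b} ≤ maximalIdeal Λ := (Ideal.span_singleton_le_iff_mem _).mpr hb
  haveI : Nontrivial (Λ ⧸ Ideal.span {b}) :=
    Ideal.Quotient.nontrivial_iff.mpr
      (fun h => (maximalIdeal.isMaximal Λ).ne_top (top_le_iff.mp (h ▸ hIb)))
  haveI : IsLocalRing (Λ ⧸ Ideal.span {b}) :=
    IsLocalRing.of_surjective' (Ideal.Quotient.mk (Ideal.span {b})) Ideal.Quotient.mk_surjective
  haveI : IsLocalHom (Ideal.Quotient.mk (Ideal.span {b})) :=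
    IsLocalHom.of_surjective _ Ideal.Quotient.mk_surjective
  let q : Λ →+* Λ ⧸ Ideal.span {b} := Ideal.Quotient.mk (Ideal.span {b})
  have hqm : ∀ l ∈ maximalIdeal Λ, q l ∈ maximalIdeal (Λ ⧸ Ideal.span {b}) :=
    fun l hl => map_nonunit q l hl
  have hqb : q b = 0 := Ideal.Quotient.eq_zero_iff_mem.mpr (Ideal.mem_span_singleton_self b)
  let Pj : MvPowerSeries (Fin 2) Λ →+* PowerSeries (Λ ⧸ Ideal.span {b}) :=
    (killY (Λ ⧸ Ideal.span {b}) : MvPowerSeries (Fin 2) (Λ ⧸ Ideal.span {b}) →+*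
      PowerSeries (Λ ⧸ Ideal.span {b})).comp (MvPowerSeries.map q)
  have hPj0 : Pj (X 0) = PowerSeries.X := by
    show killY _ (MvPowerSeries.map q (X 0)) = _
    rw [MvPowerSeries.map_X, killY_X0]
  have hPj1 : Pj (X 1) = 0 := by
    show killY _ (MvPowerSeries.map q (X 1)) = _
    rw [MvPowerSeries.map_X, killY_X1]
  have hPjC : ∀ l, Pj (C l) = PowerSeries.C (q l) := by
    intro l
    show killY _ (MvPowerSeries.map q (C l)) = _
    rw [MvPowerSeries.map_C, killY_C]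
  have hPjb : ∀ z ∈ Ideal.span {(X 0 * X 1 - C b : MvPowerSeries (Fin 2) Λ)}, Pj z = 0 := by
    intro z hz
    rw [Ideal.mem_span_singleton'] at hz
    obtain ⟨w, rfl⟩ := hz
    rw [map_mul, map_sub, map_mul, hPj1, hPjC, mul_zero, zero_sub, hqb, map_zero, neg_zero, mul_zero]
  let π : (MvPowerSeries (Fin 2) Λ ⧸ Ideal.span {(X 0 * X 1 - C b : MvPowerSeries (Fin 2) Λ)}) →+*
      PowerSeries (Λ ⧸ Ideal.span {b}) := Ideal.Quotient.lift _ Pj hPjb
  let χ := π.comp ψ
  let mkA := Ideal.Quotient.mk (Ideal.span {(X 0 * X 1 - C a : MvPowerSeries (Fin 2) Λ)})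
  have hχC : ∀ s ∈ S, χ (mkA (C s)) = PowerSeries.C (q s) := by
    intro s hs
    show π (ψ (mkA (C s))) = _
    rw [hψ s hs]
    exact hPjC s
  have hXY : χ (mkA (X 0)) * χ (mkA (X 1)) = PowerSeries.C (q a) := by
    rw [← map_mul, ← map_mul, ← hχC a haS]
    congr 1
    rw [← sub_eq_zero, ← map_sub]
    exact Ideal.Quotient.eq_zero_iff_mem.mpr (Ideal.mem_span_singleton_self _)
  let τ : (MvPowerSeries (Fin 2) Λ ⧸ Ideal.span {(X 0 * X 1 - C a : MvPowerSeries (Fin 2) Λ)}) →+*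
      ResidueField (Λ ⧸ Ideal.span {b}) :=
    ((residue (Λ ⧸ Ideal.span {b})).comp
      (PowerSeries.constantCoeff (R := Λ ⧸ Ideal.span {b}))).comp χ
  have hτs : Function.Surjective τ := by
    intro k
    obtain ⟨l, rfl⟩ := residue_surjective k
    obtain ⟨l', rfl⟩ := Ideal.Quotient.mk_surjective l
    obtain ⟨s, hs, hls⟩ := hS2 l'
    refine ⟨mkA (C s), ?_⟩
    show residue _ (PowerSeries.constantCoeff (χ (mkA (C s)))) = _
    rw [hχC s hs, PowerSeries.constantCoeff_C]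
    symm
    rw [← sub_eq_zero, ← map_sub, residue_eq_zero_iff]
    have := hqm _ hls
    rwa [map_sub] at this
  haveI : Nontrivial (MvPowerSeries (Fin 2) Λ ⧸
      Ideal.span {(X 0 * X 1 - C a : MvPowerSeries (Fin 2) Λ)}) := τ.domain_nontrivial
  haveI : IsLocalRing (MvPowerSeries (Fin 2) Λ ⧸
      Ideal.span {(X 0 * X 1 - C a : MvPowerSeries (Fin 2) Λ)}) :=
    IsLocalRing.of_surjective' mkA Ideal.Quotient.mk_surjective
  have hkerτ : RingHom.ker τ = maximalIdeal _ :=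
    IsLocalRing.eq_maximalIdeal (RingHom.ker_isMaximal_of_surjective τ hτs)
  have hρa : ∀ z ∈ Ideal.span {(X 0 * X 1 - C a : MvPowerSeries (Fin 2) Λ)},
      ((residue Λ).comp (constantCoeff (σ := Fin 2) (R := Λ))) z = 0 := by
    intro z hz
    rw [Ideal.mem_span_singleton'] at hz
    obtain ⟨w, rfl⟩ := hz
    show residue Λ (constantCoeff (w * (X 0 * X 1 - C a))) = 0
    have e : constantCoeff (w * (X 0 * X 1 - C a)) = constantCoeff w * (-a) := by
      simp
    rw [e, residue_eq_zero_iff]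
    exact Ideal.mul_mem_left _ _ (neg_mem ha)
  let ρa : (MvPowerSeries (Fin 2) Λ ⧸ Ideal.span {(X 0 * X 1 - C a : MvPowerSeries (Fin 2) Λ)}) →+*
      ResidueField Λ := Ideal.Quotient.lift _ _ hρa
  have hρas : Function.Surjective ρa := by
    intro k
    obtain ⟨l, rfl⟩ := residue_surjective k
    refine ⟨mkA (C l), ?_⟩
    show residue Λ (constantCoeff (C l)) = _
    rw [constantCoeff_C]
  have hkerρ : RingHom.ker ρa = maximalIdeal _ :=
    IsLocalRing.eq_maximalIdeal (RingHom.ker_isMaximal_of_surjective ρa hρas)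
  have hxm : ∀ i : Fin 2, mkA (X i) ∈ maximalIdeal _ := by
    intro i
    rw [← hkerρ, RingHom.mem_ker]
    show residue Λ (constantCoeff (X i)) = 0
    rw [constantCoeff_X, map_zero]
  have hχm : ∀ z ∈ maximalIdeal (MvPowerSeries (Fin 2) Λ ⧸
      Ideal.span {(X 0 * X 1 - C a : MvPowerSeries (Fin 2) Λ)}),
      PowerSeries.constantCoeff (χ z) ∈ maximalIdeal (Λ ⧸ Ideal.span {b}) := by
    intro z hz
    rw [← hkerτ, RingHom.mem_ker] at hz
    exact (residue_eq_zero_iff _).mp hz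
  have hx0 := hχm _ (hxm 0)
  have hy0 := hχm _ (hxm 1)
  let Θ : (MvPowerSeries (Fin 2) Λ ⧸ Ideal.span {(X 0 * X 1 - C a : MvPowerSeries (Fin 2) Λ)}) →+*
      PowerSeries (ResidueField (Λ ⧸ Ideal.span {b})) :=
    (PowerSeries.map (residue (Λ ⧸ Ideal.span {b}))).comp χ
  have hΘ : ∀ z, Θ z = PowerSeries.map (residue (Λ ⧸ Ideal.span {b})) (χ z) := fun _ => rfl
  have hΘS : ∀ s ∈ S, Θ (mkA (C s)) = PowerSeries.C (residue _ (q s)) := by
    intro s hs
    rw [hΘ, hχC s hs, PowerSeries.map_C]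
  have hΘm : ∀ μ ∈ maximalIdeal Λ, Θ (mkA (C μ)) = 0 := by
    intro μ hμ
    have hle : Ideal.span {s | s ∈ S ∧ s ∈ maximalIdeal Λ} ≤
        RingHom.ker ((Θ.comp mkA).comp (C : Λ →+* MvPowerSeries (Fin 2) Λ)) := by
      rw [Ideal.span_le]
      rintro s ⟨hs, hsm⟩
      show Θ (mkA (C s)) = 0
      rw [hΘS s hs, (residue_eq_zero_iff _).mpr (hqm s hsm), map_zero]
    exact hle (hS3 hμ)
  have hΘC : ∀ l : Λ, ∃ κ, Θ (mkA (C l)) = PowerSeries.C κ := by
    intro l
    obtain ⟨s, hs, hls⟩ := hS2 l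
    refine ⟨residue _ (q s), ?_⟩
    have h1 := hΘm _ hls
    rw [map_sub, map_sub, map_sub, sub_eq_zero] at h1
    rw [h1, hΘS s hs]
  obtain ⟨z, hz⟩ := hψs (Ideal.Quotient.mk _ (X 0))
  have hχz : χ z = PowerSeries.X := by
    show π (ψ z) = _
    rw [hz]
    exact hPj0
  obtain ⟨F, rfl⟩ := Ideal.Quotient.mk_surjective z
  obtain ⟨α, β, hαβ⟩ := Groth.Agent.Lib.Helper56.NodeDef.exists_pair_of_constantCoeff
    (F - C (constantCoeff F)) (by rw [map_sub, constantCoeff_C, sub_self])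
  have hF : F = C (constantCoeff F) + (α * X 0 + β * X 1) := by rw [← hαβ]; ring
  obtain ⟨κ, hκ⟩ := hΘC (constantCoeff F)
  have hΘz : Θ (mkA F) = PowerSeries.X := by
    rw [hΘ, hχz, PowerSeries.map_X]
  have hcx : PowerSeries.constantCoeff (Θ (mkA (X 0))) = 0 := by
    rw [hΘ, ← PowerSeries.coeff_zero_eq_constantCoeff_apply, PowerSeries.coeff_map,
      PowerSeries.coeff_zero_eq_constantCoeff_apply, residue_eq_zero_iff]
    exact hx0
  have hcy : PowerSeries.constantCoeff (Θ (mkA (X 1))) = 0 := by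
    rw [hΘ, ← PowerSeries.coeff_zero_eq_constantCoeff_apply, PowerSeries.coeff_map,
      PowerSeries.coeff_zero_eq_constantCoeff_apply, residue_eq_zero_iff]
    exact hy0
  have hone : (1 : ResidueField (Λ ⧸ Ideal.span {b})) =
      PowerSeries.coeff 1 (Θ (mkA (X 0))) * PowerSeries.constantCoeff (Θ (mkA α)) +
      PowerSeries.coeff 1 (Θ (mkA (X 1))) * PowerSeries.constantCoeff (Θ (mkA β)) := by
    have h1 := congrArg (PowerSeries.coeff 1) hΘz
    rw [PowerSeries.coeff_one_X] at h1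
    rw [← h1]
    have h2 : Θ (mkA F) = PowerSeries.C κ +
        (Θ (mkA α) * Θ (mkA (X 0)) + Θ (mkA β) * Θ (mkA (X 1))) := by
      conv_lhs => rw [hF]
      simp only [map_add, map_mul]
      rw [hκ]
    rw [h2, map_add, map_add, PowerSeries.coeff_one_mul, PowerSeries.coeff_one_mul, hcx, hcy,
      PowerSeries.coeff_C]
    simp
  have hunit : IsUnit (PowerSeries.coeff 1 (χ (mkA (X 0)))) ∨
      IsUnit (PowerSeries.coeff 1 (χ (mkA (X 1)))) := by
    by_contra hcon
    push_neg at hcon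
    obtain ⟨h1, h2⟩ := hcon
    have e1 : PowerSeries.coeff 1 (Θ (mkA (X 0))) = 0 := by
      rw [hΘ, PowerSeries.coeff_map, residue_eq_zero_iff]
      exact (mem_maximalIdeal _).mpr h1
    have e2 : PowerSeries.coeff 1 (Θ (mkA (X 1))) = 0 := by
      rw [hΘ, PowerSeries.coeff_map, residue_eq_zero_iff]
      exact (mem_maximalIdeal _).mpr h2
    rw [e1, e2, zero_mul, zero_mul, add_zero] at hone
    exact one_ne_zero hone
  have hqa : q a = 0 := by
    rcases hunit with h1 | h1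
    · exact const_eq_zero_of_mul _ _ _ hXY hx0 h1
    · exact const_eq_zero_of_mul _ _ _ (by rw [mul_comm]; exact hXY) hy0 h1
  exact Ideal.Quotient.eq_zero_iff_mem.mp hqa

end A

end Groth.Agent.Lib.Helper56.NodeThick
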