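import Mathlib
import Groth.Prelude
import Groth.Agent.Lib.Helper56.NodeThick1
import Groth.Agent.S0543

set_option autoImplicit false
set_option linter.style.haveILetI false
set_option linter.unusedSectionVars false
set_option linter.unusedSimpArgs false

namespace Groth.Agent.Lib.Helper56.NodeThick

open IsLocalRing

universe u

theorem mem_span_of_equiv (R : Type u) [CommRing R] [IsLocalRing R] [IsNoetherianRing R]
    (a b : R) (ha : a ∈ maximalIdeal R) (hb : b ∈ maximalIdeal R)
    (ψ : DualGr.nodeRing R a ≃+* DualGr.nodeRing R b)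
    (hψ : ∀ r : R, ψ (Ideal.Quotient.mk _ (MvPowerSeries.C (algebraMap R (Curv2.cpl R) r))) =
      Ideal.Quotient.mk _ (MvPowerSeries.C (algebraMap R (Curv2.cpl R) r))) :
    a ∈ Ideal.span {b} := by
  classical
  haveI : IsNoetherianRing (Curv2.cpl R) := Groth.Agent.S0543.result R _
  haveI hff : Module.FaithfullyFlat R (Curv2.cpl R) := Module.FaithfullyFlat.of_flat_of_isLocalHom
  have hmax : maximalIdeal (Curv2.cpl R) = (maximalIdeal R).map (algebraMap R (Curv2.cpl R)) :=
    AdicCompletion.maximalIdeal_eq_map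
  have hιm : ∀ r ∈ maximalIdeal R, algebraMap R (Curv2.cpl R) r ∈ maximalIdeal (Curv2.cpl R) := by
    intro r hr
    rw [hmax]
    exact Ideal.mem_map_of_mem _ hr
  have hbij := AdicCompletion.residueField_map_bijective R
  have hS2 : ∀ l : Curv2.cpl R, ∃ s ∈ Set.range (algebraMap R (Curv2.cpl R)),
      l - s ∈ maximalIdeal (Curv2.cpl R) := by
    intro x
    obtain ⟨y, hy⟩ := hbij.2 (residue (Curv2.cpl R) x)
    obtain ⟨r, rfl⟩ := residue_surjective y
    refine ⟨algebraMap R (Curv2.cpl R) r, ⟨r, rfl⟩, ?_⟩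
    rw [← residue_eq_zero_iff, map_sub, sub_eq_zero, ← hy]
    exact (ResidueField.map_residue _ r).symm
  have hS3 : maximalIdeal (Curv2.cpl R) ≤ Ideal.span {s | s ∈ Set.range (algebraMap R (Curv2.cpl R)) ∧
      s ∈ maximalIdeal (Curv2.cpl R)} := by
    conv_lhs => rw [hmax]
    rw [Ideal.map, Ideal.span_le]
    rintro _ ⟨r, hr, rfl⟩
    exact Ideal.subset_span ⟨⟨r, rfl⟩, hιm r hr⟩
  have key := mem_span_of_surjective (algebraMap R (Curv2.cpl R) a) (algebraMap R (Curv2.cpl R) b)
    (hιm a ha) (hιm b hb) (Set.range (algebraMap R (Curv2.cpl R))) hS2 hS3 ⟨a, rfl⟩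
    (ψ : DualGr.nodeRing R a →+* DualGr.nodeRing R b) ψ.surjective
    (by
      rintro _ ⟨r, rfl⟩
      exact hψ r)
  have h1 : algebraMap R (Curv2.cpl R) a ∈ (Ideal.span {b}).map (algebraMap R (Curv2.cpl R)) := by
    rw [Ideal.map_span, Set.image_singleton]
    exact key
  have h2 : a ∈ ((Ideal.span {b}).map (algebraMap R (Curv2.cpl R))).comap
      (algebraMap R (Curv2.cpl R)) := h1
  rwa [Ideal.comap_map_eq_self_of_faithfullyFlat] at h2

end Groth.Agent.Lib.Helper56.NodeThick
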