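import Groth.Agent.Lib.Helper56.Normal1

set_option autoImplicit false
universe u v w

namespace Groth.Agent.Lib.Helper56

open LocCoh RingTheory.Sequence IsLocalRing
open scoped Pointwise

section AssLoc

theorem mem_ass_of_depth_loc_eq_zero {A : Type u} [CommRing A] [IsNoetherianRing A]
    (M : Type v) [AddCommGroup M] [Module A M] [Module.Finite A M]
    (q : Ideal A) [q.IsPrime]
    (h0 : depth (Localization.AtPrime q) (LocalizedModule q.primeCompl M) = 0) :
    q ∈ associatedPrimes A M := by
  rw [Helper67.depth_eq_zero_iff] at h0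
  have h1 :=
    Module.associatedPrimes.comap_mem_associatedPrimes_of_mem_associatedPrimes_of_isLocalizedModule_of_fg
      q.primeCompl (LocalizedModule.mkLinearMap q.primeCompl M) _ h0
      ((isNoetherianRing_iff_ideal_fg A).mp ‹_› _)
  have h2 := IsLocalization.AtPrime.under_maximalIdeal (Localization.AtPrime q) q
  rw [Ideal.under_def] at h2
  rwa [h2] at h1

end AssLoc

section S2Lift

theorem height_span_singleton_le_one_of_isPrime {A : Type u} [CommRing A] [IsNoetherianRing A]
    (t : A) (hprime : (Ideal.span {t}).IsPrime) : (Ideal.span {t}).height ≤ 1 := by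
  apply Ideal.height_le_one_of_isPrincipal_of_mem_minimalPrimes (Ideal.span {t})
  rw [Ideal.minimalPrimes_eq_subsingleton_self]
  rfl

theorem isSMulRegular_quotSMulTop_of_notMem {A : Type u} [CommRing A] (t x : A)
    (hprime : (Ideal.span {t}).IsPrime) (hx : x ∉ Ideal.span {t}) :
    IsSMulRegular (QuotSMulTop t A) x := by
  rw [isSMulRegular_iff_right_eq_zero_of_smul]
  intro m hm
  obtain ⟨a, rfl⟩ := Submodule.Quotient.mk_surjective _ m
  rw [← Submodule.Quotient.mk_smul, Submodule.Quotient.mk_eq_zero, mem_smul_top_iff_mem_span,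
    smul_eq_mul] at hm
  rw [Submodule.Quotient.mk_eq_zero, mem_smul_top_iff_mem_span]
  exact (hprime.mem_or_mem hm).resolve_left hx

theorem two_le_depth_loc_of_quotient_normal (A : Type u) [CommRing A] [IsNoetherianRing A]
    [IsLocalRing A] [IsDomain A] (t : A) (ht : t ∈ maximalIdeal A) (ht0 : t ≠ 0)
    [IsDomain (A ⧸ Ideal.span {t})] [IsIntegrallyClosed (A ⧸ Ideal.span {t})]
    (q : Ideal A) [q.IsPrime] (hq : 2 ≤ q.height) :
    2 ≤ depth (Localization.AtPrime q) (Localization.AtPrime q) := by
  have hprime : (Ideal.span {t}).IsPrime := (Ideal.Quotient.isDomain_iff_prime _).mp inferInstance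
  have hht_t := height_span_singleton_le_one_of_isPrime t hprime
  have hnle : ¬ q ≤ Ideal.span {t} := by
    intro hle
    have := le_trans hq (le_trans (Ideal.height_mono hle) hht_t)
    norm_num at this
  obtain ⟨x, hxq, hxt⟩ := Set.not_subset.mp hnle
  have hqm : q ≤ maximalIdeal A := IsLocalRing.le_maximalIdeal (Ideal.IsPrime.ne_top inferInstance)
  have hxm : x ∈ maximalIdeal A := hqm hxq
  have htreg : IsSMulRegular A t := (IsRegular.of_ne_zero ht0).left.isSMulRegular
  have hxreg' : IsSMulRegular (QuotSMulTop t A) x :=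
    isSMulRegular_quotSMulTop_of_notMem t x hprime hxt
  obtain ⟨hxreg, htreg'⟩ := isSMulRegular_swap ht hxm htreg hxreg'
  have hnt : Nontrivial (LocalizedModule q.primeCompl A) :=
    (locSelfEquiv q.primeCompl).toEquiv.nontrivial
  have h1 := depth_loc_quotSMulTop_add_one A q x hxq hxreg
  rw [depth_localizedModule_self] at h1
  have hne : depth (Localization.AtPrime q)
      (LocalizedModule q.primeCompl (QuotSMulTop x A)) ≠ 0 := by
    intro h0
    have hqass : q ∈ associatedPrimes A (QuotSMulTop x A) :=
      mem_ass_of_depth_loc_eq_zero (QuotSMulTop x A) q h0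
    have htJ : t ∈ Ideal.jacobson (⊥ : Ideal A) := by
      rw [IsLocalRing.jacobson_eq_maximalIdeal ⊥ bot_ne_top]
      exact ht
    obtain ⟨q', hq', hqq', htq'⟩ := Helper67.exists_associatedPrime_quotSMulTop hqass htJ htreg'
    have hq'p : q'.IsPrime := IsAssociatedPrime.isPrime hq'
    have hmap := map_mem_ass_quotient t x q' hq'
    have hS2 : HasSk 2 (A ⧸ Ideal.span {t}) (A ⧸ Ideal.span {t}) :=
      hasSk_two_of_normal _ (fun P _ => normal_localizations _ P)
    have hxbar : Ideal.Quotient.mk (Ideal.span {t}) x ≠ 0 := by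
      rw [Ne, Ideal.Quotient.eq_zero_iff_mem]
      exact hxt
    have hxbarreg : IsSMulRegular (A ⧸ Ideal.span {t}) (Ideal.Quotient.mk (Ideal.span {t}) x) :=
      (IsRegular.of_ne_zero hxbar).left.isSMulRegular
    have hht1 := height_le_one_of_mem_ass_quotSMulTop hS2 _ hxbarreg _ hmap
    have hht2 := Ideal.height_le_height_add_one_of_mem (p := q') htq'
    have hht3 : q'.height ≤ 2 := by
      refine le_trans hht2 ?_
      calc (q'.map (Ideal.Quotient.mk (Ideal.span {t}))).height + 1 ≤ 1 + 1 := by gcongr
        _ = 2 := by norm_num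
    have htq : t ∉ q := Helper67.notMem_of_isSMulRegular_of_mem_associatedPrimes hqass htreg'
    have hlt : q < q' := lt_of_le_of_ne hqq' (fun h => htq (h ▸ htq'))
    have hht4 := Ideal.height_add_one_le_of_lt_of_isPrime hlt
    have : (2 : ℕ∞) + 1 ≤ 2 := le_trans (by gcongr) (le_trans hht4 hht3)
    norm_num at this
  have h5 : 1 ≤ depth (Localization.AtPrime q)
      (LocalizedModule q.primeCompl (QuotSMulTop x A)) := Order.one_le_iff_pos.mpr (pos_iff_ne_zero.mpr hne)
  rw [← h1]
  calc (2 : ℕ∞) = 1 + 1 := by norm_num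
    _ ≤ _ := by gcongr

end S2Lift

end Groth.Agent.Lib.Helper56
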