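import Groth.Agent.Lib.Helper56.CplNormal

set_option autoImplicit false
set_option linter.unusedSectionVars false
universe u
namespace Groth.Agent.Lib.Helper56
open TensorProduct IsLocalRing

section S4728

theorem isPrime_map_maximalIdeal_of_isNormalHom (A A' : Type u) [CommRing A] [CommRing A']
    [IsNoetherianRing A] [IsNoetherianRing A'] [IsLocalRing A] [IsLocalRing A'] [IsDomain A]
    (hA : ringKrullDim A = 1) [Algebra A A'] [IsLocalHom (algebraMap A A')]
    (h : EGA4.IsNormalHom A A') :
    ((maximalIdeal A).map (algebraMap A A')).IsPrime ∧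
      ((maximalIdeal A).map (algebraMap A A')).height = 1 := by
  obtain ⟨hflat, hfib⟩ := h
  let m := maximalIdeal A
  let m' := maximalIdeal A'
  have hcomap : m'.comap (algebraMap A A') = m :=
    IsLocalRing.maximalIdeal_comap (algebraMap A A')
  have hnf : EGA4.IsNormalRing (m.Fiber A') := isNormalRing_of_isGeomNormal _ _ (hfib m)
  have key : ∀ (p q : Ideal A) (hp : p.IsPrime) (hq : q.IsPrime), p = q →
      @EGA4.IsNormalRing (@Ideal.Fiber A _ p hp A' _ _) _ →
      @EGA4.IsNormalRing (@Ideal.Fiber A _ q hq A' _ _) _ := by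
    intro p q hp hq hpq hX; subst hpq; exact hX
  have hnf' : EGA4.IsNormalRing ((m'.comap (algebraMap A A')).Fiber A') :=
    key m _ inferInstance inferInstance hcomap.symm hnf
  obtain ⟨hd, -⟩ := normal_fibLocRing_of_fiber A A' m' hnf'
  have hJ : ((m'.comap (algebraMap A A')).map (algebraMap A (Localization.AtPrime m'))).IsPrime :=
    (Ideal.Quotient.isDomain_iff_prime _).mp hd
  have hbij : Function.Bijective (algebraMap A' (Localization.AtPrime m')) := by
    have hu : ∀ x ∈ m'.primeCompl, IsUnit x := by
      intro x hx
      by_contra hx'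
      exact hx ((IsLocalRing.mem_maximalIdeal x).mpr hx')
    exact (IsLocalization.atUnits A' m'.primeCompl hu).bijective
  have hJ' : (m'.comap (algebraMap A A')).map (algebraMap A (Localization.AtPrime m')) =
      (m.map (algebraMap A A')).map (algebraMap A' (Localization.AtPrime m')) := by
    rw [hcomap, Ideal.map_map, ← IsScalarTower.algebraMap_eq]
  rw [hJ'] at hJ
  have hP : (m.map (algebraMap A A')).IsPrime := by
    have h1 := Ideal.comap_isPrime (algebraMap A' (Localization.AtPrime m'))
      ((m.map (algebraMap A A')).map (algebraMap A' (Localization.AtPrime m')))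
    rwa [Ideal.comap_map_of_bijective _ hbij] at h1
  refine ⟨hP, ?_⟩
  have hlo : (m.map (algebraMap A A')).LiesOver m := by
    constructor
    have hle : m ≤ (m.map (algebraMap A A')).comap (algebraMap A A') := Ideal.le_comap_map
    have hne : (m.map (algebraMap A A')).comap (algebraMap A A') ≠ ⊤ :=
      (Ideal.comap_isPrime _ _).ne_top
    exact ((IsLocalRing.maximalIdeal.isMaximal A).eq_of_le hne hle)
  have hgd : Algebra.HasGoingDown A A' := inferInstance
  have h1 := Ideal.height_eq_height_add_of_liesOver_of_hasGoingDown m (m.map (algebraMap A A'))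
  have h2 : (m.map (algebraMap A A')).map
      (Ideal.Quotient.mk (m.map (algebraMap A A'))) = ⊥ := by
    rw [Ideal.map_quotient_self]
  have hdomQ : IsDomain (A' ⧸ m.map (algebraMap A A')) :=
    (Ideal.Quotient.isDomain_iff_prime _).mpr hP
  rw [h2, Ideal.height_bot, add_zero] at h1
  rw [h1]
  have h3 : (m.height : WithBot ℕ∞) = ringKrullDim A :=
    IsLocalRing.maximalIdeal_height_eq_ringKrullDim
  rw [hA] at h3
  exact_mod_cast h3

end S4728

end Groth.Agent.Lib.Helper56
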