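import Mathlib
import Groth.Agent.S2150
import Groth.Agent.Lib.Helper51.GeomRed
import Groth.Agent.Lib.Helper59.SepPts
import Groth.Agent.Lib.Helper9.GeomRedTrans

set_option autoImplicit false
set_option linter.style.haveILetI false
set_option linter.unusedSectionVars false

universe u

open TensorProduct CategoryTheory CategoryTheory.Limits AlgebraicGeometry

namespace Groth.Agent.Lib.Helper56.PrimKF2

/-- polynomial rings over a field are geometrically reduced. -/
theorem isGeometricallyReduced_mvPolynomial (k : Type u) [Field k] (ι : Type u) :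
    Algebra.IsGeometricallyReduced k (MvPolynomial ι k) := by
  rw [Algebra.isGeometricallyReduced_field_iff]
  exact isReduced_of_injective
    (MvPolynomial.algebraTensorAlgEquiv (σ := ι) k (AlgebraicClosure k)).toRingEquiv.toRingHom
    (MvPolynomial.algebraTensorAlgEquiv (σ := ι) k (AlgebraicClosure k)).injective

/-- a purely transcendental extension generated by an algebraically independent family is
geometrically reduced. -/
theorem isGeometricallyReduced_adjoin {k k0 : Type u} [Field k] [Field k0] [Algebra k k0]
    {ι : Type u} (x : ι → k0) (hx : AlgebraicIndependent k x) :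
    Algebra.IsGeometricallyReduced k (IntermediateField.adjoin k (Set.range x)) := by
  haveI := isGeometricallyReduced_mvPolynomial k ι
  haveI : Algebra.IsGeometricallyReduced k (FractionRing (MvPolynomial ι k)) :=
    Groth.Agent.Lib.Helper59.SepPts.isGeometricallyReduced_of_isLocalization k (MvPolynomial ι k)
      (FractionRing (MvPolynomial ι k)) (nonZeroDivisors (MvPolynomial ι k))
  exact Algebra.IsGeometricallyReduced.of_injective hx.aevalEquivField.symm.toAlgHom
    hx.aevalEquivField.symm.injective

/-- transitivity of geometric reducedness for towers of fields (no algebraicity assumption). -/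
theorem isGeometricallyReduced_tower (k F E : Type u) [Field k] [Field F] [Field E]
    [Algebra k F] [Algebra F E] [Algebra k E] [IsScalarTower k F E]
    [Algebra.IsGeometricallyReduced k F] [Algebra.IsGeometricallyReduced F E] :
    Algebra.IsGeometricallyReduced k E := by
  rw [Algebra.isGeometricallyReduced_field_iff]
  haveI : IsReduced (AlgebraicClosure k ⊗[k] F) := inferInstance
  haveI hR' : IsReduced (F ⊗[k] AlgebraicClosure k) :=
    isReduced_of_injective (Algebra.TensorProduct.comm k F (AlgebraicClosure k))
      (AlgEquiv.injective _)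
  -- scheme-level: `Spec (F ⊗ k̄) ×_F Spec E` is reduced
  let f : Spec (CommRingCat.of (F ⊗[k] AlgebraicClosure k)) ⟶ Spec (CommRingCat.of F) :=
    Spec.map (CommRingCat.ofHom (algebraMap F (F ⊗[k] AlgebraicClosure k)))
  haveI : AlgebraicGeometry.IsReduced (Spec (CommRingCat.of (F ⊗[k] AlgebraicClosure k))) :=
    (affine_isReduced_iff _).mpr hR'
  haveI h1 : AlgebraicGeometry.IsReduced
      (pullback f (Spec.map (CommRingCat.ofHom (algebraMap F E)))) :=
    Groth.Agent.Lib.Helper51.isReduced_pullback_of_isGeometricallyReduced f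
  haveI h2 : AlgebraicGeometry.IsReduced
      (Spec (CommRingCat.of ((F ⊗[k] AlgebraicClosure k) ⊗[F] E))) :=
    isReduced_of_isOpenImmersion (pullbackSpecIso F (F ⊗[k] AlgebraicClosure k) E).inv
  haveI : IsReduced ((F ⊗[k] AlgebraicClosure k) ⊗[F] E) := (affine_isReduced_iff _).mp h2
  let e1 : E ⊗[F] (F ⊗[k] AlgebraicClosure k) ≃ₐ[F] E ⊗[k] AlgebraicClosure k :=
    Algebra.TensorProduct.cancelBaseChange k F F E (AlgebraicClosure k)
  let e2 : (F ⊗[k] AlgebraicClosure k) ⊗[F] E ≃ₐ[F] E ⊗[F] (F ⊗[k] AlgebraicClosure k) :=
    Algebra.TensorProduct.comm F _ _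
  haveI : IsReduced (E ⊗[F] (F ⊗[k] AlgebraicClosure k)) :=
    isReduced_of_injective e2.symm (AlgEquiv.injective _)
  haveI : IsReduced (E ⊗[k] AlgebraicClosure k) :=
    isReduced_of_injective e1.symm (AlgEquiv.injective _)
  exact isReduced_of_injective (Algebra.TensorProduct.comm k (AlgebraicClosure k) E)
    (AlgEquiv.injective _)

theorem isDomain_of_irreducibleSpace_of_isReduced (R : Type u) [CommRing R]
    [IrreducibleSpace (PrimeSpectrum R)] [IsReduced R] : IsDomain R := by
  have h : (nilradical R).IsPrime := PrimeSpectrum.irreducibleSpace_iff_isPrime_nilradical.mp ‹_›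
  rw [nilradical_eq_zero] at h
  haveI : (⊥ : Ideal R).IsPrime := h
  exact IsDomain.of_bot_isPrime R

theorem exists_k2 {k κ k0 : Type u} [Field k] [Field κ] [Field k0] [Algebra k κ] [Algebra k k0]
    (hfg : (⊤ : IntermediateField k k0).FG)
    (hprim : ∀ a : κ, IsSeparable k a → a ∈ Set.range (algebraMap k κ)) :
    ∃ k2 : IntermediateField k k0, IsPurelyInseparable k2 k0 ∧ IsDomain (k2 ⊗[k] κ) := by
  obtain ⟨s, hs⟩ := exists_isTranscendenceBasis k k0
  let F : IntermediateField k k0 := IntermediateField.adjoin k (Set.range ((↑) : s → k0))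
  haveI : Algebra.IsAlgebraic F k0 := hs.isAlgebraic_field
  let K2 : IntermediateField F k0 := separableClosure F k0
  let k2 : IntermediateField k k0 := K2.restrictScalars k
  haveI hpi : IsPurelyInseparable K2 k0 := separableClosure.isPurelyInseparable F k0
  haveI hF : Algebra.IsGeometricallyReduced k F := isGeometricallyReduced_adjoin _ hs.1
  haveI : Algebra.IsSeparable F K2 := inferInstance
  haveI hK2 : Algebra.IsGeometricallyReduced F K2 :=
    Groth.Agent.Lib.Helper9.GeomRedTrans.isGeometricallyReduced_of_isSeparable F K2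
  haveI : Algebra.IsGeometricallyReduced k K2 := isGeometricallyReduced_tower k F K2
  haveI : IsReduced (κ ⊗[k] K2) :=
    Groth.Agent.Lib.Helper51.isReduced_tensor_of_isGeometricallyReduced κ
  haveI hred : IsReduced (K2 ⊗[k] κ) :=
    isReduced_of_injective (Algebra.TensorProduct.comm k K2 κ) (AlgEquiv.injective _)
  haveI hirr : IrreducibleSpace (PrimeSpectrum (K2 ⊗[k] κ)) :=
    (Groth.Agent.S2150.result.mpr hprim) K2
  have hdom : IsDomain (K2 ⊗[k] κ) := isDomain_of_irreducibleSpace_of_isReduced _
  exact ⟨k2, hpi, hdom⟩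

end Groth.Agent.Lib.Helper56.PrimKF2
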