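import Groth.Agent.Lib.Helper56.HenselFormal
import Groth.Agent.Lib.Helper56.FormalQuot
import Groth.Agent.Lib.Helper56.CplLocalRegular
import Groth.Agent.Lib.Helper56.FormalDescent
import Groth.Agent.Lib.Helper69.HensFinite

set_option autoImplicit false
set_option linter.unusedSectionVars false
universe u
namespace Groth.Agent.Lib.Helper56
open TensorProduct IsLocalRing EGA4

section PrimeCpl

variable (R : Type u) [CommRing R] [HenselianLocalRing R] [IsNoetherianRing R]

theorem hasGeomNormalFormalFibres_of_isGRing_local (hG : CAlg.IsGRing R) :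
    EGA4.HasGeomNormalFormalFibres R := by
  have h1 : CAlg.IsRegularHom R (Cpl R) := isRegularHom_adicCompletion R (maximalIdeal R) hG
  exact (isNormalHom_of_isRegularHom R (Cpl R) h1).2

theorem isPrime_map_cpl_of_isPrime (h : EGA4.HasGeomNormalFormalFibres R) (I : Ideal R)
    [hI : I.IsPrime] : (I.map (algebraMap R (Cpl R))).IsPrime := by
  have hnt : Nontrivial (R ⧸ I) := Ideal.Quotient.nontrivial_iff.mpr hI.ne_top
  have hloc : IsLocalRing (R ⧸ I) :=
    IsLocalRing.of_surjective' (Ideal.Quotient.mk I) Ideal.Quotient.mk_surjective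
  have hint : Algebra.IsIntegral R (R ⧸ I) :=
    Algebra.isIntegral_of_surjective Ideal.Quotient.mk_surjective
  have hhens : HenselianLocalRing (R ⧸ I) :=
    Groth.Agent.Lib.Helper69.HensFinite.henselianLocalRing_of_isIntegral R (R ⧸ I)
  have hq : EGA4.HasGeomNormalFormalFibres (R ⧸ I) := hasGeomNormalFormalFibres_quot R I h
  have hdom : IsDomain (Cpl (R ⧸ I)) := isDomain_cpl_of_henselian (R ⧸ I) hq
  rw [← ker_cplMap_quot R I]
  exact RingHom.ker_isPrime _

theorem prime_algebraMap_cpl_iff (h : EGA4.HasGeomNormalFormalFibres R) (Δ : R) :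
    Prime Δ ↔ Prime (algebraMap R (Cpl R) Δ) := by
  have hff : Module.FaithfullyFlat R (Cpl R) := Module.FaithfullyFlat.of_flat_of_isLocalHom
  have hinj : Function.Injective (algebraMap R (Cpl R)) :=
    FaithfulSMul.algebraMap_injective R (Cpl R)
  have hmap : (Ideal.span {Δ}).map (algebraMap R (Cpl R)) =
      Ideal.span {algebraMap R (Cpl R) Δ} := by
    rw [Ideal.map_span, Set.image_singleton]
  constructor
  · intro hΔ
    have h0 : algebraMap R (Cpl R) Δ ≠ 0 := by
      intro h0
      exact hΔ.ne_zero (hinj (by rw [h0, map_zero]))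
    have hI : (Ideal.span {Δ}).IsPrime := (Ideal.span_singleton_prime hΔ.ne_zero).mpr hΔ
    have := isPrime_map_cpl_of_isPrime R h (Ideal.span {Δ})
    rw [hmap] at this
    exact (Ideal.span_singleton_prime h0).mp this
  · intro hΔ
    have h0 : Δ ≠ 0 := by
      intro h0
      exact hΔ.ne_zero (by rw [h0, map_zero])
    have hI : (Ideal.span {algebraMap R (Cpl R) Δ}).IsPrime :=
      (Ideal.span_singleton_prime hΔ.ne_zero).mpr hΔ
    rw [← hmap] at hI
    have hc : ((Ideal.span {Δ}).map (algebraMap R (Cpl R))).comap (algebraMap R (Cpl R)) =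
        Ideal.span {Δ} := Ideal.comap_map_eq_self_of_faithfullyFlat _
    have : (Ideal.span {Δ}).IsPrime := by
      rw [← hc]
      exact Ideal.comap_isPrime _ _
    exact (Ideal.span_singleton_prime h0).mp this

end PrimeCpl

end Groth.Agent.Lib.Helper56
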