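import Mathlib
import Groth.Prelude.Def_CohB1
import Groth.Agent.Lib.Helper16.ProjSpaceSmooth
import Groth.Agent.Lib.Helper93.ProjGamma1
import Groth.Agent.Lib.Helper93.PnCoh3
import Groth.Agent.S14742

/-!
# The standard charts of `P^n_R`: structure map, finite presentation, coherence over a Prüfer domain
(helper56, for helper63's S14736 / S14740)
-/

set_option autoImplicit false
set_option linter.style.haveILetI false
set_option linter.unusedSectionVars false
universe u
open CategoryTheory CategoryTheory.Limits AlgebraicGeometry HomogeneousLocalization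

namespace Groth.Agent.Lib.Helper56.PruferSerreT2

open Groth.Agent.Lib.Helper16.ProjSpaceSmooth Groth.Agent.Lib.Helper60.PicPn
  Groth.Agent.Lib.Helper93.ProjGamma

variable (n : ℕ) (R : Type u) [CommRing R]

/-- The chart open `D₊(X_i)` of `P^n_R`. -/
noncomputable def chartOpen (i : Fin (n + 1)) : (CohB1.ProjSpace n R).Opens :=
  Proj.basicOpen (CohB1.polyGrading n R) (MvPolynomial.X i : MvPolynomial (Fin (n + 1)) R)

theorem chartOpen_eq_U (i : Groth.Agent.Lib.Helper93.PnCoh.Idx.{u} n) :
    Groth.Agent.Lib.Helper93.PnCoh.U n R i = chartOpen n R i.down := rfl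

/-- The structure ring map `R → Γ(P^n_R, U)` induced by `ProjSpace.toSpec`. -/
noncomputable def strHom (U : (CohB1.ProjSpace n R).Opens) : R →+* Γ(CohB1.ProjSpace n R, U) :=
  ((Scheme.ΓSpecIso (CommRingCat.of R)).inv ≫
    (CohB1.ProjSpace.toSpec n R).appLE ⊤ U le_top).hom

theorem isAffineOpen_chartOpen (i : Fin (n + 1)) : IsAffineOpen (chartOpen n R i) :=
  Proj.isAffineOpen_basicOpen _ _ (hX n R i) one_pos

theorem iSup_chartOpen : ⨆ i, chartOpen n R i = ⊤ := by
  have h := Groth.Agent.Lib.Helper93.PnCoh.iSup_U n R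
  rw [eq_top_iff] at h ⊢
  intro x hx
  obtain ⟨i, hi⟩ := TopologicalSpace.Opens.mem_iSup.mp (h hx)
  exact TopologicalSpace.Opens.mem_iSup.mpr ⟨i.down, hi⟩

/-- `(R[X_0..X_n]_{X_i})_0 ≃ Γ(P^n_R, D₊(X_i))`. -/
noncomputable def sectionEquiv (i : Fin (n + 1)) :
    Away (CohB1.polyGrading n R) (MvPolynomial.X i : MvPolynomial (Fin (n + 1)) R) ≃+*
      Γ(CohB1.ProjSpace n R, chartOpen n R i) :=
  (Proj.basicOpenIsoAway (CohB1.polyGrading n R) (MvPolynomial.X i) (hX n R i)
    one_pos).commRingCatIsoToRingEquiv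

theorem sectionEquiv_apply (i : Fin (n + 1))
    (z : Away (CohB1.polyGrading n R) (MvPolynomial.X i : MvPolynomial (Fin (n + 1)) R)) :
    sectionEquiv n R i z =
      (Proj.awayToSection (CohB1.polyGrading n R) (MvPolynomial.X i)).hom z := rfl

theorem appLE_top_of_eq {A B : CommRingCat.{u}} (Θ : Spec A ⟶ Spec B) (ψ : B ⟶ A)
    (h : Θ = Spec.map ψ) (hle : (⊤ : (Spec A).Opens) ≤ Θ ⁻¹ᵁ ⊤) :
    Θ.appLE ⊤ ⊤ hle = (Spec.map ψ).appTop := by
  subst h
  simp [Scheme.Hom.appLE]

theorem sectionEquiv_ρ (i : Fin (n + 1)) (r : R) :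
    sectionEquiv n R i (ρ n R i r) = strHom n R (chartOpen n R i) r := by
  rw [sectionEquiv_apply]
  have hinj : Function.Injective ((Proj.awayι (CohB1.polyGrading n R) (MvPolynomial.X i)
      (hX n R i) one_pos).appLE (Proj.basicOpen (CohB1.polyGrading n R) (MvPolynomial.X i)) ⊤
      (awayι_preimage_self (CohB1.polyGrading n R) (hX n R i) one_pos).ge).hom :=
    (ConcreteCategory.bijective_of_isIso _).1
  apply hinj
  have h1 := congrArg (fun φ => φ.hom (ρ n R i r))
    (awayToSection_awayι_appLE (CohB1.polyGrading n R) (hX n R i) one_pos)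
  refine h1.trans ?_
  have h2 := Scheme.Hom.appLE_comp_appLE (Proj.awayι (CohB1.polyGrading n R) (MvPolynomial.X i)
    (hX n R i) one_pos) (CohB1.ProjSpace.toSpec n R) ⊤
    (Proj.basicOpen (CohB1.polyGrading n R) (MvPolynomial.X i)) ⊤ le_top
    (awayι_preimage_self (CohB1.polyGrading n R) (hX n R i) one_pos).ge
  have h3 : Proj.awayι (CohB1.polyGrading n R) (MvPolynomial.X i) (hX n R i) one_pos ≫
      CohB1.ProjSpace.toSpec n R = Spec.map (CommRingCat.ofHom (ρ n R i)) := awayι_toSpec n R i
  have h4 := appLE_top_of_eq _ _ h3 ((awayι_preimage_self (CohB1.polyGrading n R) (hX n R i)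
    one_pos).ge.trans ((TopologicalSpace.Opens.map (Proj.awayι (CohB1.polyGrading n R)
      (MvPolynomial.X i) (hX n R i) one_pos).base).map (homOfLE le_top)).le)
  rw [h4] at h2
  have h5 := congrArg (fun φ => φ.hom ((Scheme.ΓSpecIso (CommRingCat.of R)).inv.hom r)) h2
  have h6 := congrArg (fun φ => φ.hom r)
    (Scheme.ΓSpecIso_inv_naturality (CommRingCat.ofHom (ρ n R i)))
  exact h6.trans h5.symm

/-- The `R`-algebra isomorphism between the polynomial ring in the other variables and the
sections over the chart, for the `R`-algebra structure `strHom`. -/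
noncomputable def chartAlgEquiv (i : Fin (n + 1)) :
    letI := (strHom n R (chartOpen n R i)).toAlgebra
    MvPolynomial {j : Fin (n + 1) // j ≠ i} R ≃ₐ[R] Γ(CohB1.ProjSpace n R, chartOpen n R i) :=
  letI := (strHom n R (chartOpen n R i)).toAlgebra
  AlgEquiv.ofRingEquiv (f := (chartEquiv n R i).symm.trans (sectionEquiv n R i)) (fun r => by
    rw [RingEquiv.trans_apply]
    have h1 : (chartEquiv n R i).symm (algebraMap R _ r) = ρ n R i r := by
      rw [RingEquiv.symm_apply_eq]
      exact (chartFwd_ρ n R i r).symm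
    rw [h1, sectionEquiv_ρ]
    rfl)

theorem finitePresentation_chart (i : Fin (n + 1)) :
    letI := (strHom n R (chartOpen n R i)).toAlgebra
    Algebra.FinitePresentation R Γ(CohB1.ProjSpace n R, chartOpen n R i) := by
  letI := (strHom n R (chartOpen n R i)).toAlgebra
  exact Algebra.FinitePresentation.equiv (chartAlgEquiv n R i)

theorem coherent_chartOpen [IsDomain R]
    (hR : ∀ (p : Ideal R) [p.IsPrime], ValuationRing (Localization.AtPrime p)) (i : Fin (n + 1))
    (I : Ideal Γ(CohB1.ProjSpace n R, chartOpen n R i)) (hI : I.FG) :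
    Module.FinitePresentation Γ(CohB1.ProjSpace n R, chartOpen n R i) I := by
  letI := (strHom n R (chartOpen n R i)).toAlgebra
  haveI := finitePresentation_chart n R i
  exact Groth.Agent.S14742.result R hR Γ(CohB1.ProjSpace n R, chartOpen n R i) I hI

theorem coherent_chart (R : Type u) [CommRing R] [IsDomain R]
    (hR : ∀ (p : Ideal R) [p.IsPrime], ValuationRing (Localization.AtPrime p)) (n : ℕ)
    (x : CohB1.ProjSpace n R) :
    ∃ U : (CohB1.ProjSpace n R).Opens, IsAffineOpen U ∧ x ∈ U ∧
      ∀ I : Ideal Γ(CohB1.ProjSpace n R, U), I.FG →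
        Module.FinitePresentation Γ(CohB1.ProjSpace n R, U) I := by
  have hx : x ∈ (⨆ i, chartOpen n R i) := by
    rw [iSup_chartOpen]
    trivial
  obtain ⟨i, hi⟩ := TopologicalSpace.Opens.mem_iSup.mp hx
  exact ⟨chartOpen n R i, isAffineOpen_chartOpen n R i, hi,
    fun I hI => coherent_chartOpen n R hR i I hI⟩

end Groth.Agent.Lib.Helper56.PruferSerreT2
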