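import Mathlib
import Groth.Agent.Lib.Helper56.PruferSerreT2

set_option autoImplicit false
set_option linter.style.haveILetI false
set_option linter.unusedSectionVars false
universe u
open CategoryTheory CategoryTheory.Limits AlgebraicGeometry

namespace Groth.Agent.Lib.Helper56.PruferSerreT2

variable (n : ℕ) (R : Type u) [CommRing R]

theorem strHom_finitePresentation (i : Fin (n + 1)) :
    (strHom n R (chartOpen n R i)).FinitePresentation :=
  finitePresentation_chart n R i

theorem strHom_eq (U : (CohB1.ProjSpace n R).Opens) :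
    strHom n R U = ((Scheme.ΓSpecIso (CommRingCat.of R)).inv ≫
      (CohB1.ProjSpace.toSpec n R).appLE ⊤ U le_top).hom := rfl

/-- Every point of `P^n_R` has an affine open neighbourhood whose ring of sections is a finitely
presented `R`-algebra (for the structure map induced by `ProjSpace.toSpec`). -/
theorem exists_chart_finitePresentation (x : CohB1.ProjSpace n R) :
    ∃ U : (CohB1.ProjSpace n R).Opens, IsAffineOpen U ∧ x ∈ U ∧
      (((Scheme.ΓSpecIso (CommRingCat.of R)).inv ≫
        (CohB1.ProjSpace.toSpec n R).appLE ⊤ U le_top).hom).FinitePresentation := by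
  have hx : x ∈ (⨆ i, chartOpen n R i) := by
    rw [iSup_chartOpen]
    trivial
  obtain ⟨i, hi⟩ := TopologicalSpace.Opens.mem_iSup.mp hx
  exact ⟨chartOpen n R i, isAffineOpen_chartOpen n R i, hi, strHom_finitePresentation n R i⟩

/-- Combined chart statement: affine, finitely presented over `R`, and coherent when `R` is a
Prüfer domain. -/
theorem exists_chart_fp_coherent [IsDomain R]
    (hR : ∀ (p : Ideal R) [p.IsPrime], ValuationRing (Localization.AtPrime p))
    (x : CohB1.ProjSpace n R) :
    ∃ U : (CohB1.ProjSpace n R).Opens, IsAffineOpen U ∧ x ∈ U ∧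
      (((Scheme.ΓSpecIso (CommRingCat.of R)).inv ≫
        (CohB1.ProjSpace.toSpec n R).appLE ⊤ U le_top).hom).FinitePresentation ∧
      ∀ I : Ideal Γ(CohB1.ProjSpace n R, U), I.FG →
        Module.FinitePresentation Γ(CohB1.ProjSpace n R, U) I := by
  have hx : x ∈ (⨆ i, chartOpen n R i) := by
    rw [iSup_chartOpen]
    trivial
  obtain ⟨i, hi⟩ := TopologicalSpace.Opens.mem_iSup.mp hx
  exact ⟨chartOpen n R i, isAffineOpen_chartOpen n R i, hi, strHom_finitePresentation n R i,
    fun I hI => coherent_chartOpen n R hR i I hI⟩

end Groth.Agent.Lib.Helper56.PruferSerreT2
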