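import Mathlib
import Groth.Prelude.Def_CAlg
import Groth.Prelude.Def_Wider
import Groth.Agent.Lib.Helper85.CanonInj
import Groth.Agent.Lib.Helper67.Depth
import Groth.Agent.Lib.Helper67.CM
import Groth.Agent.Lib.Helper92.LocCohGV

set_option autoImplicit false
set_option linter.style.haveILetI false
set_option linter.unusedSectionVars false
universe u
open CategoryTheory Abelian IsLocalRing

namespace Groth.Agent.Lib.Helper56.S18639L4

open Groth.Agent.Lib.Helper85.Canon Groth.Agent.Lib.Helper92.LC

theorem isCohenMacaulayModule_canon {A : Type u} [CommRing A] [IsNoetherianRing A] [IsLocalRing A]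
    {E : Type u} [AddCommGroup E] [Module A E] {f : ResidueField A →ₗ[A] E}
    (hf : InjHull.IsInjectiveHull f) (K : Type u) [AddCommGroup K] [Module A K]
    [Module.Finite A K] (n : ℕ) (hn : ringKrullDim A = n)
    (hR : ∀ j < n, Subsingleton (LocCoh.H (maximalIdeal A) j A))
    (eK : (K →ₗ[A] E) ≃ₗ[A] LocCoh.H (maximalIdeal A) n A) :
    LocCoh.IsCohenMacaulayModule A K := by
  haveI : Module.Injective A E := hf.isInjective
  have hcd : LocCoh.CdLE A (maximalIdeal A) n :=
    cdLE_of_ringKrullDim_le (maximalIdeal A) n (le_of_eq hn)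
  -- `K ≠ 0`
  have hK : Nontrivial K := by
    by_contra hK
    rw [not_nontrivial_iff_subsingleton] at hK
    have hz : Limits.IsZero (ModuleCat.of A K) := ModuleCat.isZero_of_subsingleton _
    have h0 : HasInjectiveDimensionLT (ModuleCat.of A K) 0 := hz.hasInjectiveDimensionLT_zero
    have hn' : HasInjectiveDimensionLT (ModuleCat.of A K) n :=
      hasInjectiveDimensionLT_of_ge (ModuleCat.of A K) 0 n (Nat.zero_le n)
    exact not_hasInjectiveDimensionLT_canon K hf n hcd hR eK hn'
  -- `depth K ≥ n`
  have hdepth : (n : ℕ∞) ≤ LocCoh.depth A K := by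
    unfold LocCoh.depth
    rw [Groth.Agent.Lib.Helper67.le_idealDepth_iff_ext' (maximalIdeal A) K n]
    intro i hi
    obtain ⟨e⟩ := duality K n hcd hR eK i (n - i) (by omega) (A ⧸ maximalIdeal A)
    have hdim : Module.supportDim A (A ⧸ maximalIdeal A) < ((n - i : ℕ) : WithBot ℕ∞) := by
      rw [Module.supportDim_quotient_eq_ringKrullDim,
        Groth.Agent.Lib.Helper67.ringKrullDim_quotient_maximalIdeal]
      have : 0 < n - i := by omega
      exact_mod_cast this
    have hH : Subsingleton (LocCoh.H (maximalIdeal A) (n - i) (A ⧸ maximalIdeal A)) :=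
      subsingleton_of_supportDim_lt (maximalIdeal A) (n - i) (A ⧸ maximalIdeal A) hdim
    have h1 : Subsingleton (Ext.{u} (ModuleCat.of A (A ⧸ maximalIdeal A)) (ModuleCat.of A K) i
        →ₗ[A] E) := e.symm.toEquiv.subsingleton
    exact subsingleton_of_dual_subsingleton hf _ h1
  -- `depth K ≤ dim Supp K ≤ dim A = n`
  have h1 := Groth.Agent.Lib.Helper67.depth_le_supportDim (R := A) K
  have h2 : Module.supportDim A K ≤ (n : WithBot ℕ∞) :=
    (Module.supportDim_le_ringKrullDim A K).trans (le_of_eq hn)
  have h3 : ((n : ℕ∞) : WithBot ℕ∞) ≤ ((LocCoh.depth A K : ℕ∞) : WithBot ℕ∞) := by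
    exact_mod_cast hdepth
  show Module.supportDim A K = ((LocCoh.depth A K : ℕ∞) : WithBot ℕ∞)
  apply le_antisymm
  · exact h2.trans h3
  · exact h1

end Groth.Agent.Lib.Helper56.S18639L4
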