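import Mathlib
import Groth.Agent.Lib.Helper96.GrpLikeCoeff

set_option autoImplicit false
universe u
open TensorProduct

namespace Groth.Agent.Lib.Helper56.S2982_B

theorem coeff_mem_of_generators {K : Type u} [CommRing K] {M : Type u} [CommGroup M]
    {C : Type u} [CommRing C] [Algebra K C] (f : C →ₐ[K] MonoidAlgebra K M) (s : Set C)
    (hs : Algebra.adjoin K s = ⊤) (M' : Subgroup M) (I : Ideal K)
    (h : ∀ x ∈ s, ∀ m : M, m ∉ M' → (f x).coeff m ∈ I) :
    ∀ (c : C) (m : M), m ∉ M' → (f c).coeff m ∈ I := by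
  classical
  intro c
  have hc : c ∈ Algebra.adjoin K s := by rw [hs]; exact Algebra.mem_top
  induction hc using Algebra.adjoin_induction with
  | mem x hx => exact h x hx
  | algebraMap r =>
    intro m hm
    have hm1 : m ≠ 1 := fun e => hm (e ▸ M'.one_mem)
    rw [AlgHom.commutes, MonoidAlgebra.coe_algebraMap, Function.comp_apply,
      MonoidAlgebra.coeff_single, Finsupp.single_apply, if_neg (Ne.symm hm1)]
    exact zero_mem _
  | add x y _ _ hx hy =>
    intro m hm
    rw [map_add, MonoidAlgebra.coeff_add, Finsupp.add_apply]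
    exact add_mem (hx m hm) (hy m hm)
  | mul x y _ _ hx hy =>
    intro m hm
    rw [map_mul, MonoidAlgebra.coeff_mul]
    refine Ideal.sum_mem _ fun m₁ _ => Ideal.sum_mem _ fun m₂ _ => ?_
    show (if m₁ * m₂ = m then (f x).coeff m₁ * (f y).coeff m₂ else 0) ∈ I
    split_ifs with h12
    · by_cases h1 : m₁ ∈ M'
      · have h2 : m₂ ∉ M' := by
          intro h2
          exact hm (h12 ▸ M'.mul_mem h1 h2)
        exact Ideal.mul_mem_left _ _ (hy m₂ h2)
      · exact Ideal.mul_mem_right _ _ (hx m₁ h1)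
    · exact zero_mem _

end Groth.Agent.Lib.Helper56.S2982_B
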