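import Mathlib
import Groth.Prelude.Def_CInt
import Groth.Agent.S3843

set_option autoImplicit false
set_option linter.style.haveILetI false
set_option linter.unusedSectionVars false

universe u

open CategoryTheory CategoryTheory.Limits AlgebraicGeometry TopologicalSpace

namespace Groth.Agent.Lib.Helper56.SDCOREaux

/-- the statement of F1 (msg 3951) as a `Prop`. -/
def F1Stmt : Prop :=
  ∀ {T Y S : Scheme.{u}} (pY : Y ⟶ S) [IsSeparated pY] (a b : T ⟶ Y) (_ : a ≫ pY = b ≫ pY)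
    (D : T.Opens) (_ : CInt.IsSchematicallyDense D) (_ : D.ι ≫ a = D.ι ≫ b), a = b

theorem CORE_of_F1 (F1 : F1Stmt.{u}) {X Y S Z V' : Scheme.{u}} (pX : X ⟶ S) (pY : Y ⟶ S)
    [IsSeparated pY] (U : X.Opens)
    (hU : CInt.IsSchematicallyDense U) (h : (U : Scheme.{u}) ⟶ Y) (hh : h ≫ pY = U.ι ≫ pX)
    (ιZ : Z ⟶ X) [IsOpenImmersion ιZ] (π : V' ⟶ Z) [Flat π] [LocallyOfFinitePresentation π]
    [Surjective π]
    (v' : V' ⟶ Y) (hv'S : v' ≫ pY = π ≫ ιZ ≫ pX)
    (hv' : ∀ {T : Scheme.{u}} (t : T ⟶ V') (u : T ⟶ (U : Scheme.{u})),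
      t ≫ π ≫ ιZ = u ≫ U.ι → t ≫ v' = u ≫ h) :
    ∃ v : Z ⟶ Y, v ≫ pY = ιZ ≫ pX ∧ ∀ {T : Scheme.{u}} (t : T ⟶ Z) (u : T ⟶ (U : Scheme.{u})),
      t ≫ ιZ = u ≫ U.ι → t ≫ v = u ≫ h := by
  -- (i) the two projections agree after `v'`
  have hab : pullback.fst π π ≫ v' = pullback.snd π π ≫ v' := by
    let q : pullback π π ⟶ X := pullback.fst π π ≫ π ≫ ιZ
    haveI : Flat q := inferInstance
    haveI : LocallyOfFinitePresentation q := inferInstance
    have hD : CInt.IsSchematicallyDense (q ⁻¹ᵁ U) := Groth.Agent.S3843.result q U hU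
    refine F1 pY _ _ ?_ (q ⁻¹ᵁ U) hD ?_
    · rw [Category.assoc, Category.assoc, hv'S, pullback.condition_assoc]
    · have h1 : ((q ⁻¹ᵁ U).ι ≫ pullback.fst π π) ≫ v' = (q ∣_ U) ≫ h :=
        hv' _ _ (by rw [morphismRestrict_ι]; simp [q])
      have h2 : ((q ⁻¹ᵁ U).ι ≫ pullback.snd π π) ≫ v' = (q ∣_ U) ≫ h :=
        hv' _ _ (by
          rw [morphismRestrict_ι]
          simp only [q, Category.assoc]
          rw [pullback.condition_assoc])
      rw [← Category.assoc, h1, ← Category.assoc, h2]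
  have hdesc : ∀ {W : Scheme.{u}} (g₁ g₂ : W ⟶ V'), g₁ ≫ π = g₂ ≫ π → g₁ ≫ v' = g₂ ≫ v' := by
    intro W g₁ g₂ hg
    have e1 : pullback.lift g₁ g₂ hg ≫ pullback.fst π π = g₁ := pullback.lift_fst _ _ _
    have e2 : pullback.lift g₁ g₂ hg ≫ pullback.snd π π = g₂ := pullback.lift_snd _ _ _
    calc g₁ ≫ v' = (pullback.lift g₁ g₂ hg ≫ pullback.fst π π) ≫ v' := by rw [e1]
      _ = (pullback.lift g₁ g₂ hg ≫ pullback.snd π π) ≫ v' := by
          rw [Category.assoc, hab, Category.assoc]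
      _ = g₂ ≫ v' := by rw [e2]
  let v : Z ⟶ Y := EffectiveEpi.desc π v' hdesc
  have hv : π ≫ v = v' := EffectiveEpi.fac π v' hdesc
  refine ⟨v, ?_, ?_⟩
  · rw [← cancel_epi π, ← Category.assoc, hv, hv'S]
  · intro T t u htu
    let e := pullback.fst t π
    haveI : Surjective e := MorphismProperty.pullback_fst (P := @Surjective) _ _ inferInstance
    haveI : Flat e := inferInstance
    haveI : LocallyOfFinitePresentation e := inferInstance
    haveI : EffectiveEpi e := inferInstance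
    rw [← cancel_epi e]
    have h3 : pullback.snd t π ≫ v' = (e ≫ u) ≫ h :=
      hv' _ _ (by
        rw [← pullback.condition_assoc, htu, Category.assoc])
    rw [← Category.assoc, pullback.condition, Category.assoc, hv, h3, Category.assoc]

end Groth.Agent.Lib.Helper56.SDCOREaux
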