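import Mathlib
import Groth.Prelude.Def_CInt
import Groth.Agent.S3843
import Groth.Agent.Lib.Helper32.SDF1
import Groth.Agent.Lib.Helper56.SDCOREaux

set_option autoImplicit false

universe u

open CategoryTheory CategoryTheory.Limits AlgebraicGeometry TopologicalSpace

namespace Groth.Agent.Lib.Helper56.SDCORE

theorem CORE {X Y S Z V' : Scheme.{u}} (pX : X ⟶ S) (pY : Y ⟶ S) [IsSeparated pY] (U : X.Opens)
    (hU : CInt.IsSchematicallyDense U) (h : (U : Scheme.{u}) ⟶ Y) (hh : h ≫ pY = U.ι ≫ pX)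
    (ιZ : Z ⟶ X) [IsOpenImmersion ιZ] (π : V' ⟶ Z) [Flat π] [LocallyOfFinitePresentation π]
    [Surjective π] (v' : V' ⟶ Y) (hv'S : v' ≫ pY = π ≫ ιZ ≫ pX)
    (hv' : ∀ {T : Scheme.{u}} (t : T ⟶ V') (u : T ⟶ (U : Scheme.{u})),
      t ≫ π ≫ ιZ = u ≫ U.ι → t ≫ v' = u ≫ h) :
    ∃ v : Z ⟶ Y, v ≫ pY = ιZ ≫ pX ∧ ∀ {T : Scheme.{u}} (t : T ⟶ Z) (u : T ⟶ (U : Scheme.{u})),
      t ≫ ιZ = u ≫ U.ι → t ≫ v = u ≫ h :=
  Groth.Agent.Lib.Helper56.SDCOREaux.CORE_of_F1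
    (fun pY _ a b hab D hD h => Groth.Agent.Lib.Helper32.SDF1.F1 pY a b hab D hD h)
    pX pY U hU h hh ιZ π v' hv'S hv'

end Groth.Agent.Lib.Helper56.SDCORE
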