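import Mathlib
import Groth.Prelude.Def_CInt
import Groth.Prelude.Def_AlgSp

set_option autoImplicit false
set_option linter.style.haveILetI false
set_option linter.unusedSectionVars false

universe u

open CategoryTheory CategoryTheory.Limits AlgebraicGeometry

namespace Groth.Agent.Lib.Helper56.SDE2

theorem E2 {S : Scheme.{u}} {G F : AlgSp.Sp S} (j : G ⟶ F) {V : Over S}
    (φ : (AlgSp.yon S).obj V ⟶ F) (W : V.left.Opens)
    (fst : (AlgSp.yon S).obj (Over.mk (W.ι ≫ V.hom)) ⟶ G)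
    (sq : IsPullback fst
      ((AlgSp.yon S).map (Over.homMk W.ι rfl : Over.mk (W.ι ≫ V.hom) ⟶ V)) j φ)
    (O : V.left.Opens) :
    O ≤ W ↔ ∃ u : (AlgSp.yon S).obj (Over.mk (O.ι ≫ V.hom)) ⟶ G,
      u ≫ j = (AlgSp.yon S).map (Over.homMk O.ι rfl : Over.mk (O.ι ≫ V.hom) ⟶ V) ≫ φ := by
  constructor
  · intro h
    let t' : Over.mk (O.ι ≫ V.hom) ⟶ Over.mk (W.ι ≫ V.hom) :=
      Over.homMk (V.left.homOfLE h) (by simp)
    have ht' : t' ≫ (Over.homMk W.ι rfl : Over.mk (W.ι ≫ V.hom) ⟶ V)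
        = (Over.homMk O.ι rfl : Over.mk (O.ι ≫ V.hom) ⟶ V) := by
      ext
      simp [t']
    refine ⟨(AlgSp.yon S).map t' ≫ fst, ?_⟩
    rw [Category.assoc, sq.w, ← Category.assoc, ← Functor.map_comp, ht']
  · rintro ⟨u, hu⟩
    let l := sq.lift u ((AlgSp.yon S).map (Over.homMk O.ι rfl : Over.mk (O.ι ≫ V.hom) ⟶ V)) hu
    obtain ⟨t', ht'⟩ := (AlgSp.yon S).map_surjective l
    have h2 : l ≫ (AlgSp.yon S).map (Over.homMk W.ι rfl : Over.mk (W.ι ≫ V.hom) ⟶ V)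
        = (AlgSp.yon S).map (Over.homMk O.ι rfl : Over.mk (O.ι ≫ V.hom) ⟶ V) := sq.lift_snd _ _ _
    rw [← ht', ← Functor.map_comp] at h2
    have h3 : t' ≫ (Over.homMk W.ι rfl : Over.mk (W.ι ≫ V.hom) ⟶ V)
        = (Over.homMk O.ι rfl : Over.mk (O.ι ≫ V.hom) ⟶ V) := (AlgSp.yon S).map_injective h2
    have h4 : t'.left ≫ W.ι = O.ι := by
      have := congrArg CommaMorphism.left h3
      simpa using this
    intro x hx
    have h5 : (t'.left ≫ W.ι) ⟨x, hx⟩ = O.ι ⟨x, hx⟩ := by rw [h4]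
    have h6 : O.ι ⟨x, hx⟩ = x := rfl
    rw [h6] at h5
    rw [← h5]
    exact (t'.left ⟨x, hx⟩).2

end Groth.Agent.Lib.Helper56.SDE2
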