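import Mathlib
import Groth.Agent.Lib.Lead.SekGeom
import Groth.Agent.Lib.Helper5.TorsorExact

/-!
# Affine points of the split multiplicative group congruent to one modulo `λ`; descent along
effective epimorphisms via the kernel pair (helper56)
-/

set_option autoImplicit false
set_option linter.style.haveILetI false
set_option linter.unusedSectionVars false
universe u
open CategoryTheory CategoryTheory.Limits AlgebraicGeometry

namespace Groth.Agent.Lib.Helper56.SekAffine

open Groth.Agent.Lib.Lead Groth.Agent.Lib.Lead.SekPts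

section affine

theorem isoSpec_inv_appTop_eq (Z : Scheme.{u}) [IsAffine Z] :
    Z.isoSpec.inv.appTop = (Scheme.ΓSpecIso Γ(Z, ⊤)).inv := by
  have h1 : Z.isoSpec.inv.appTop ≫ Z.isoSpec.hom.appTop = 𝟙 _ := by
    rw [← Scheme.Hom.comp_appTop, Iso.hom_inv_id]
    rfl
  have h2 : Z.isoSpec.hom.appTop = (Scheme.ΓSpecIso Γ(Z, ⊤)).hom := Scheme.toSpecΓ_appTop Z
  rw [h2] at h1
  rw [← Category.comp_id Z.isoSpec.inv.appTop, ← Iso.hom_inv_id (Scheme.ΓSpecIso Γ(Z, ⊤)),
    ← Category.assoc, h1, Category.id_comp]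

/-- The closed immersion `Spec (Γ(Z, ⊤) ⧸ I) ⟶ Z` into an affine scheme. -/
noncomputable def quotHom (Z : Scheme.{u}) [IsAffine Z] (I : Ideal Γ(Z, ⊤)) :
    Spec (CommRingCat.of (Γ(Z, ⊤) ⧸ I)) ⟶ Z :=
  Spec.map (CommRingCat.ofHom (Ideal.Quotient.mk I)) ≫ Z.isoSpec.inv

theorem quotHom_appTop (Z : Scheme.{u}) [IsAffine Z] (I : Ideal Γ(Z, ⊤)) :
    (quotHom Z I).appTop = CommRingCat.ofHom (Ideal.Quotient.mk I) ≫
      (Scheme.ΓSpecIso (CommRingCat.of (Γ(Z, ⊤) ⧸ I))).inv := by
  unfold quotHom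
  rw [Scheme.Hom.comp_appTop, isoSpec_inv_appTop_eq, Scheme.ΓSpecIso_inv_naturality]
  rfl

theorem quotHom_appTop_apply (Z : Scheme.{u}) [IsAffine Z] (I : Ideal Γ(Z, ⊤)) (a : Γ(Z, ⊤)) :
    (quotHom Z I).appTop.hom a =
      (Scheme.ΓSpecIso (CommRingCat.of (Γ(Z, ⊤) ⧸ I))).inv.hom (Ideal.Quotient.mk I a) := by
  rw [quotHom_appTop]
  rfl

theorem ΓSpecIso_inv_injective (A : CommRingCat.{u}) :
    Function.Injective (Scheme.ΓSpecIso A).inv.hom :=
  (ConcreteCategory.bijective_of_isIso (Scheme.ΓSpecIso A).inv).1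

theorem quotHom_appTop_eq_zero_iff (Z : Scheme.{u}) [IsAffine Z] (I : Ideal Γ(Z, ⊤))
    (a : Γ(Z, ⊤)) : (quotHom Z I).appTop.hom a = 0 ↔ a ∈ I := by
  rw [quotHom_appTop_apply, ← Ideal.Quotient.eq_zero_iff_mem]
  constructor
  · intro h
    apply ΓSpecIso_inv_injective (CommRingCat.of (Γ(Z, ⊤) ⧸ I))
    rw [h, map_zero]
  · intro h
    rw [h, map_zero]

end affine

section sek

variable {X : Scheme.{u}} (R : Type u) [CommRing R] (lam : R) (f : X ⟶ Spec (CommRingCat.of R))

/-- An affine point of the split multiplicative group which is trivial on the locus `λ = 0` is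
congruent to `1` modulo `λ`. -/
theorem exists_eq_one_add_mul (T : Over X) [IsAffine T.left] (h : T ⟶ Red.bc f (Red.diag R ℤ))
    (hres : ∀ (T' : Over X) (q : T' ⟶ T), strMap R f T' lam = 0 → eps R f T' (q ≫ h) = 1) :
    ∃ b : Γ(T.left, ⊤), eps R f T h = 1 + strMap R f T lam * b := by
  set I : Ideal Γ(T.left, ⊤) := Ideal.span {strMap R f T lam} with hI
  let m : Spec (CommRingCat.of (Γ(T.left, ⊤) ⧸ I)) ⟶ T.left := quotHom T.left I
  let T' : Over X := Over.mk (m ≫ T.hom)
  let q : T' ⟶ T := Over.homMk m rfl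
  have hq : q.left = m := rfl
  have h0 : strMap R f T' lam = 0 := by
    rw [strMap_comp R f q lam, hq]
    exact (quotHom_appTop_eq_zero_iff T.left I _).mpr (Ideal.mem_span_singleton_self _)
  have h1 := hres T' q h0
  rw [eps_comp R f q h, hq] at h1
  have h2 : (quotHom T.left I).appTop.hom (eps R f T h - 1) = 0 := by
    rw [map_sub, map_one]
    exact sub_eq_zero.mpr h1
  have h3 := (quotHom_appTop_eq_zero_iff T.left I _).mp h2
  obtain ⟨b, hb⟩ := Ideal.mem_span_singleton'.mp h3
  refine ⟨b, ?_⟩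
  rw [mul_comm, hb]
  ring

end sek

section desc

variable {S : Scheme.{u}}

/-- Descent along an effective epimorphism, with compatibility only on the kernel pair. -/
theorem exists_desc_of_effectiveEpi_of_kernelPair {A B Z : Over S} (π : A ⟶ B)
    [EffectiveEpi π.left] (g : A ⟶ Z)
    (hg : pullback.fst π.left π.left ≫ g.left = pullback.snd π.left π.left ≫ g.left) :
    ∃ r : B ⟶ Z, π ≫ r = g := by
  apply Groth.Agent.Lib.Helper5.TorsorExact.exists_desc_of_effectiveEpi π g
  intro T a₁ a₂ h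
  have hl : a₁.left ≫ π.left = a₂.left ≫ π.left := by
    have := congrArg (fun k : T ⟶ B => k.left) h
    simpa using this
  apply Over.OverMorphism.ext
  have e1 : a₁.left = pullback.lift a₁.left a₂.left hl ≫ pullback.fst π.left π.left :=
    (pullback.lift_fst _ _ _).symm
  have e2 : a₂.left = pullback.lift a₁.left a₂.left hl ≫ pullback.snd π.left π.left :=
    (pullback.lift_snd _ _ _).symm
  rw [Over.comp_left, Over.comp_left, e1, Category.assoc, hg, ← Category.assoc, ← e2]

end desc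

end Groth.Agent.Lib.Helper56.SekAffine
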