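import Groth.Agent.Lib.Helper56.UnivReg
import Mathlib.FieldTheory.SeparablyGenerated
import Mathlib.FieldTheory.PurelyInseparable.PerfectClosure

set_option autoImplicit false
universe u
namespace Groth.Agent.Lib.Helper56
open TensorProduct Polynomial

section SepOver

variable {Ω : Type u} [Field Ω]

def SepOver (R : Set Ω) (x : Ω) : Prop :=
  ∃ q : Polynomial Ω, q.Separable ∧ q.eval x = 0 ∧ ∀ i, q.coeff i ∈ R

theorem SepOver.mono {R R' : Set Ω} (h : R ⊆ R') {x : Ω} (hx : SepOver R x) : SepOver R' x := by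
  obtain ⟨q, h1, h2, h3⟩ := hx
  exact ⟨q, h1, h2, fun i => h (h3 i)⟩

theorem isSeparable_iff_sepOver (A : Type u) [Field A] [Algebra A Ω] (x : Ω) :
    IsSeparable A x ↔ SepOver (Set.range (algebraMap A Ω)) x := by
  constructor
  · intro h
    refine ⟨(minpoly A x).map (algebraMap A Ω), Polynomial.Separable.map h, ?_, ?_⟩
    · rw [Polynomial.eval_map, ← Polynomial.aeval_def, minpoly.aeval]
    · intro i
      rw [Polynomial.coeff_map]
      exact ⟨_, rfl⟩
  · rintro ⟨q, h1, h2, h3⟩
    have hq : q ∈ Polynomial.lifts (algebraMap A Ω) := by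
      rw [Polynomial.lifts_iff_coeff_lifts]
      intro i
      exact h3 i
    obtain ⟨q₀, rfl⟩ := hq
    rw [Polynomial.coe_mapRingHom] at h1 h2
    have h4 : q₀.Separable := (Polynomial.separable_map (algebraMap A Ω)).mp h1
    have h5 : Polynomial.aeval x q₀ = 0 := by
      rw [Polynomial.aeval_def, ← Polynomial.eval_map, h2]
    exact h4.of_dvd (minpoly.dvd A x h5)

theorem SepOver.exists_finset {k : Type u} [Field k] [Algebra k Ω] {S : Set Ω} {x : Ω}
    (hx : SepOver (IntermediateField.adjoin k S : Set Ω) x) :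
    ∃ T : Finset Ω, (T : Set Ω) ⊆ S ∧ SepOver (IntermediateField.adjoin k (T : Set Ω) : Set Ω) x := by
  classical
  obtain ⟨q, h1, h2, h3⟩ := hx
  have h4 : ∀ i, ∃ T : Finset Ω, (T : Set Ω) ⊆ S ∧
      q.coeff i ∈ IntermediateField.adjoin k (T : Set Ω) := fun i =>
    IntermediateField.exists_finset_of_mem_adjoin (h3 i)
  choose T hT1 hT2 using h4
  refine ⟨q.support.biUnion T, ?_, q, h1, h2, ?_⟩
  · intro t ht
    rw [Finset.mem_coe, Finset.mem_biUnion] at ht
    obtain ⟨i, _, hi⟩ := ht
    exact hT1 i hi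
  · intro i
    by_cases hi : i ∈ q.support
    · refine IntermediateField.adjoin.mono k _ _ ?_ (hT2 i)
      intro t ht
      rw [Finset.mem_coe, Finset.mem_biUnion]
      exact ⟨i, hi, ht⟩
    · rw [Polynomial.notMem_support_iff.mp hi]
      exact zero_mem _

end SepOver

section Descent

variable (k : Type u) {Ω : Type u} [Field k] [Field Ω] [Algebra k Ω] [PerfectField Ω]

open IntermediateField in
theorem exists_sepGen_perfectClosure (X' : Finset Ω) :
    ∃ (ι : Type u) (_ : Finite ι) (y : ι → Ω),
      AlgebraicIndependent (perfectClosure k Ω) y ∧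
      (∀ i, y i ∈ adjoin k ((perfectClosure k Ω : Set Ω) ∪ X')) ∧
      (∀ x ∈ X', SepOver (adjoin k ((perfectClosure k Ω : Set Ω) ∪ Set.range y) : Set Ω) x) := by
  let P : IntermediateField k Ω := perfectClosure k Ω
  let KP : IntermediateField P Ω := adjoin P (X' : Set Ω)
  have hess : Algebra.EssFiniteType P KP := IntermediateField.essFiniteType_iff.mpr ⟨X', rfl⟩
  obtain ⟨s, hs, hsep⟩ := exists_isTranscendenceBasis_and_isSeparable_of_perfectField P KP
  refine ⟨s, inferInstance, fun i => ((i : KP) : Ω), ?_, ?_, ?_⟩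
  · exact hs.1.map' (f := KP.val) KP.val.injective
  · intro i
    rw [← restrictScalars_adjoin]
    exact (i : KP).2
  · intro x hx
    have hxK : x ∈ KP := subset_adjoin _ _ hx
    have h1 : IsSeparable (adjoin P (s : Set KP)) (⟨x, hxK⟩ : KP) :=
      Algebra.IsSeparable.isSeparable _ _
    have h2 : IsSeparable (adjoin P (s : Set KP)) x := by
      have := minpoly.algebraMap_eq (A := adjoin P (s : Set KP)) (B := KP) (B' := Ω)
        (algebraMap KP Ω).injective ⟨x, hxK⟩
      unfold IsSeparable
      unfold IsSeparable at h1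
      rw [← this] at h1
      exact h1
    rw [isSeparable_iff_sepOver] at h2
    refine h2.mono ?_
    have key : ∀ z : KP, z ∈ adjoin P (s : Set KP) → (z : Ω) ∈
        adjoin k ((perfectClosure k Ω : Set Ω) ∪ Set.range fun i : s => ((i : KP) : Ω)) := by
      intro z hz
      induction hz using adjoin_induction with
      | mem z hz => exact subset_adjoin _ _ (Or.inr ⟨⟨z, hz⟩, rfl⟩)
      | algebraMap z => exact subset_adjoin _ _ (Or.inl z.2)
      | add z w hz hw h1 h2 => exact add_mem h1 h2
      | inv z hz h1 => exact inv_mem h1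
      | mul z w hz hw h1 h2 => exact mul_mem h1 h2
    rintro _ ⟨a, rfl⟩
    exact key a.1 a.2

open IntermediateField in
theorem exists_finset_sepGen (X' : Finset Ω) :
    ∃ (T : Finset Ω) (ι : Type u) (_ : Finite ι) (y : ι → Ω),
      (T : Set Ω) ⊆ (perfectClosure k Ω : Set Ω) ∧
      AlgebraicIndependent (perfectClosure k Ω) y ∧
      (∀ i, y i ∈ adjoin k ((T : Set Ω) ∪ X')) ∧
      (∀ x ∈ X', SepOver (adjoin k ((T : Set Ω) ∪ Set.range y) : Set Ω) x) := by
  classical
  obtain ⟨ι, hι, y, hy, h2, h3⟩ := exists_sepGen_perfectClosure k X'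
  have h2' : ∀ i, ∃ T : Finset Ω, (T : Set Ω) ⊆ (perfectClosure k Ω : Set Ω) ∪ X' ∧
      y i ∈ adjoin k (T : Set Ω) := fun i => exists_finset_of_mem_adjoin (h2 i)
  choose T₁ hT₁ hT₁' using h2'
  have h3' : ∀ x : X', ∃ T : Finset Ω, (T : Set Ω) ⊆ (perfectClosure k Ω : Set Ω) ∪ Set.range y ∧
      SepOver (adjoin k (T : Set Ω) : Set Ω) (x : Ω) := fun x => (h3 x x.2).exists_finset
  choose T₂ hT₂ hT₂' using h3'
  have := Fintype.ofFinite ι
  let T₀ : Finset Ω := (Finset.univ.biUnion T₁) ∪ (X'.attach.biUnion T₂)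
  let T : Finset Ω := T₀.filter (· ∈ (perfectClosure k Ω : Set Ω))
  have key : ∀ (T' : Finset Ω) (A : Set Ω), T' ⊆ T₀ →
      (T' : Set Ω) ⊆ (perfectClosure k Ω : Set Ω) ∪ A → (T' : Set Ω) ⊆ (T : Set Ω) ∪ A := by
    intro T' A h1 h2 t ht
    rcases h2 ht with h | h
    · left
      rw [Finset.mem_coe, Finset.mem_filter]
      exact ⟨h1 ht, h⟩
    · exact Or.inr h
  refine ⟨T, ι, hι, y, ?_, hy, ?_, ?_⟩
  · intro t ht
    rw [Finset.mem_coe, Finset.mem_filter] at ht
    exact ht.2
  · intro i
    refine adjoin.mono k _ _ (key (T₁ i) _ ?_ (hT₁ i)) (hT₁' i)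
    exact (Finset.subset_biUnion_of_mem T₁ (Finset.mem_univ i)).trans Finset.subset_union_left
  · intro x hx
    refine (hT₂' ⟨x, hx⟩).mono ?_
    refine adjoin.mono k _ _ (key (T₂ ⟨x, hx⟩) _ ?_ (hT₂ ⟨x, hx⟩))
    exact (Finset.subset_biUnion_of_mem T₂ (Finset.mem_attach _ _)).trans Finset.subset_union_right

end Descent

section Fields

variable (k K : Type u) [Field k] [Field K] [Algebra k K] [Algebra.EssFiniteType k K]

open IntermediateField in
theorem exists_univRegular_ext :
    ∃ (k' K' : Type u) (_ : Field k') (_ : Field K') (_ : Algebra k k') (_ : Algebra k' K')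
      (_ : Algebra K K') (_ : Algebra k K'), IsScalarTower k k' K' ∧ IsScalarTower k K K' ∧
      Module.Finite k k' ∧ IsPurelyInseparable k k' ∧ Algebra.EssFiniteType k' K' ∧
      UnivRegular k' K' := by
  classical
  let Ω := AlgebraicClosure K
  obtain ⟨X, hX⟩ := IntermediateField.fg_top k K
  let X' : Finset Ω := X.image (algebraMap K Ω)
  obtain ⟨T, ι, hι, y, hT, hy, h2, h3⟩ := exists_finset_sepGen k X'
  let k' : IntermediateField k Ω := IntermediateField.adjoin k (T : Set Ω)
  have hk'P : k' ≤ perfectClosure k Ω := IntermediateField.adjoin_le_iff.mpr hT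
  have hpi : IsPurelyInseparable k k' := (le_perfectClosure_iff k Ω k').mp hk'P
  have hfin : Module.Finite k k' := by
    refine IntermediateField.finiteDimensional_adjoin (fun t ht => ?_)
    have h1 : IsIntegral k (⟨t, hT ht⟩ : perfectClosure k Ω) :=
      IsPurelyInseparable.isIntegral' k _
    exact IntermediateField.isIntegral_iff.mp h1
  let _ : Algebra k' (perfectClosure k Ω) := (IntermediateField.inclusion hk'P).toAlgebra
  have htower : IsScalarTower k' (perfectClosure k Ω) Ω :=
    IsScalarTower.of_algebraMap_eq (fun _ => rfl)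
  have hy' : AlgebraicIndependent k' y :=
    hy.restrictScalars (K := perfectClosure k Ω) (IntermediateField.inclusion hk'P).injective
  let F : IntermediateField k' Ω := IntermediateField.adjoin k' (Set.range y)
  have hF : UnivRegular k' F :=
    (univRegular_fractionRing_mvPolynomial k' ι).of_algEquiv hy'.aevalEquivField
  have hFfg : Algebra.EssFiniteType k' F := by
    have := Fintype.ofFinite ι
    refine IntermediateField.essFiniteType_iff.mpr ⟨Finset.univ.image y, ?_⟩
    rw [Finset.coe_image, Finset.coe_univ, Set.image_univ]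
  have hsepF : ∀ x ∈ X', IsSeparable F x := by
    intro x hx
    rw [isSeparable_iff_sepOver]
    refine (h3 x hx).mono ?_
    have hle : adjoin k ((T : Set Ω) ∪ Set.range y) ≤ F.restrictScalars k := by
      rw [adjoin_le_iff]
      rintro t (ht | ht)
      · exact F.algebraMap_mem ⟨t, subset_adjoin k _ ht⟩
      · exact subset_adjoin _ _ ht
    intro z hz
    exact ⟨⟨z, hle hz⟩, rfl⟩
  let K' : IntermediateField F Ω := IntermediateField.adjoin F (X' : Set Ω)
  have hsep : Algebra.IsSeparable F K' :=
    (IntermediateField.isSeparable_adjoin_iff_isSeparable F Ω).mpr hsepF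
  have hfinK : Module.Finite F K' :=
    IntermediateField.finiteDimensional_adjoin (fun x hx => (hsepF x hx).isIntegral)
  have hK' : UnivRegular F K' := univRegular_of_finite_isSeparable F K'
  have hessK : Algebra.EssFiniteType k' K' := Algebra.EssFiniteType.comp k' F K'
  have hUR : UnivRegular k' K' := UnivRegular.trans k' F K' hF hK'
  have hmem : ∀ z : K, algebraMap K Ω z ∈ K' := by
    intro z
    have hz : z ∈ adjoin k (X : Set K) := by rw [hX]; trivial
    induction hz using adjoin_induction with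
    | mem z hz => exact subset_adjoin _ _ (Finset.mem_coe.mpr (Finset.mem_image_of_mem _ hz))
    | algebraMap c =>
      rw [← IsScalarTower.algebraMap_apply k K Ω]
      exact K'.algebraMap_mem (algebraMap k F c)
    | add z w hz hw h1 h2 => rw [map_add]; exact add_mem h1 h2
    | inv z hz h1 => rw [map_inv₀]; exact inv_mem h1
    | mul z w hz hw h1 h2 => rw [map_mul]; exact mul_mem h1 h2
  let φ : K →+* K' := (algebraMap K Ω).codRestrict K' hmem
  let _ : Algebra K K' := φ.toAlgebra
  let _ : Algebra k K' := ((algebraMap k' K').comp (algebraMap k k')).toAlgebra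
  refine ⟨k', K', inferInstance, inferInstance, inferInstance, inferInstance, inferInstance,
    inferInstance, ?_, ?_, hfin, hpi, hessK, hUR⟩
  · exact IsScalarTower.of_algebraMap_eq (fun _ => rfl)
  · refine IsScalarTower.of_algebraMap_eq (fun c => Subtype.ext ?_)
    exact IsScalarTower.algebraMap_apply k K Ω c

end Fields

end Groth.Agent.Lib.Helper56
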