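import Groth.Agent.Lib.Helper56.SepBaseChange
import Groth.Agent.Lib.Helper30.SmoothNormal
import Groth.Agent.Lib.Helper57.NormalRing

set_option autoImplicit false
universe u
namespace Groth.Agent.Lib.Helper56
open TensorProduct

section L1

variable (k S : Type u) [Field k] [CommRing S] [Algebra k S]

theorem isNormalRing_of_smooth (A B : Type u) [CommRing A] [CommRing B] [Algebra A B]
    [Algebra.Smooth A B] (hA : EGA4.IsNormalRing A) : EGA4.IsNormalRing B :=
  fun q _ => Groth.Agent.Lib.Helper30.SmoothNormal.normal_of_smooth A B hA q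

theorem isNormalRing_fractionRing_mvPolynomial_tensor (ι : Type u) [Finite ι]
    (hS : EGA4.IsNormalRing S) :
    EGA4.IsNormalRing (FractionRing (MvPolynomial ι k) ⊗[k] S) := by
  have hsm : Algebra.Smooth S (MvPolynomial ι S) := ⟨inferInstance, inferInstance⟩
  have h1 : EGA4.IsNormalRing (MvPolynomial ι S) := isNormalRing_of_smooth S _ hS
  have h2 : EGA4.IsNormalRing (MvPolynomial ι k ⊗[k] S) :=
    isNormalRing_of_ringEquiv
      (((MvPolynomial.algebraTensorAlgEquiv k S (σ := ι)).symm.toRingEquiv).trans
        (Algebra.TensorProduct.comm k S (MvPolynomial ι k)).toRingEquiv) h1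
  have h3 : IsLocalization (Algebra.algebraMapSubmonoid (MvPolynomial ι k ⊗[k] S)
      (nonZeroDivisors (MvPolynomial ι k)))
      ((MvPolynomial ι k ⊗[k] S) ⊗[MvPolynomial ι k] FractionRing (MvPolynomial ι k)) :=
    IsLocalization.tensor _ _
  have h4 : EGA4.IsNormalRing
      ((MvPolynomial ι k ⊗[k] S) ⊗[MvPolynomial ι k] FractionRing (MvPolynomial ι k)) :=
    Groth.Agent.Lib.Helper57.isNormalRing_of_isLocalization
      (Algebra.algebraMapSubmonoid (MvPolynomial ι k ⊗[k] S)
        (nonZeroDivisors (MvPolynomial ι k))) _ h2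
  exact isNormalRing_of_ringEquiv
    ((Algebra.TensorProduct.comm (MvPolynomial ι k) (MvPolynomial ι k ⊗[k] S)
      (FractionRing (MvPolynomial ι k))).toRingEquiv.trans
      (Algebra.TensorProduct.cancelBaseChange k (MvPolynomial ι k) (MvPolynomial ι k)
        (FractionRing (MvPolynomial ι k)) S).toRingEquiv) h4

theorem isNormalRing_tensor_of_finite_isSeparable (F K R : Type u) [Field F] [Field K]
    [Algebra F K] [Module.Finite F K] [Algebra.IsSeparable F K] [CommRing R] [Algebra F R]
    (hR : EGA4.IsNormalRing R) : EGA4.IsNormalRing (R ⊗[F] K) := by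
  have h1 : Algebra.FormallyEtale F K := Algebra.FormallyEtale.of_isSeparable F K
  have h2 : Algebra.FinitePresentation F K :=
    Algebra.FinitePresentation.of_finiteType.mp inferInstance
  have h3 : Algebra.Etale F K := ⟨h1, h2⟩
  have h4 : Algebra.Etale R (R ⊗[F] K) := inferInstance
  have h5 : Algebra.Smooth R (R ⊗[F] K) := inferInstance
  exact isNormalRing_of_smooth R _ hR

end L1

section SepGenDef

def SepGen (k K : Type u) [Field k] [Field K] [Algebra k K] : Prop :=
  ∃ (ι : Type u) (_ : Finite ι) (F : Type u) (_ : Field F) (_ : Algebra k F) (_ : Algebra F K)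
    (_ : IsScalarTower k F K),
    Nonempty (FractionRing (MvPolynomial ι k) ≃ₐ[k] F) ∧ Module.Finite F K ∧
      Algebra.IsSeparable F K

variable (k K S : Type u) [Field k] [Field K] [Algebra k K] [CommRing S] [Algebra k S]

theorem isNormalRing_tensor_of_sepGen (h : SepGen k K) (hS : EGA4.IsNormalRing S) :
    EGA4.IsNormalRing (K ⊗[k] S) := by
  obtain ⟨ι, _, F, _, _, _, _, ⟨e⟩, hfin, hsep⟩ := h
  have h1 : EGA4.IsNormalRing (F ⊗[k] S) :=
    isNormalRing_of_ringEquiv
      (Algebra.TensorProduct.congr e (AlgEquiv.refl (R := k) (A₁ := S))).toRingEquiv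
      (isNormalRing_fractionRing_mvPolynomial_tensor k S ι hS)
  have h2 : EGA4.IsNormalRing ((F ⊗[k] S) ⊗[F] K) :=
    isNormalRing_tensor_of_finite_isSeparable F K (F ⊗[k] S) h1
  exact isNormalRing_of_ringEquiv (tensorTowerEquiv k F K S) h2

theorem sepGen_of_isGeometricallyReduced
    [Algebra.EssFiniteType k K] [Algebra.IsGeometricallyReduced k K] : SepGen k K := by
  obtain ⟨s, hs, H⟩ := exists_isTranscendenceBasis_and_isSeparable_of_isGeometricallyReduced k K
  have key : ∀ X Y : Set K, X = Y → Algebra.IsSeparable (IntermediateField.adjoin k X) K →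
      Algebra.IsSeparable (IntermediateField.adjoin k Y) K := by
    intro X Y h hX; subst h; exact hX
  have H' : Algebra.IsSeparable (IntermediateField.adjoin k (Set.range ((↑) : s → K))) K :=
    key _ _ Subtype.range_coe.symm H
  have hess : Algebra.EssFiniteType (IntermediateField.adjoin k (Set.range ((↑) : s → K))) K :=
    Algebra.EssFiniteType.of_comp k _ K
  have hfin : Module.Finite (IntermediateField.adjoin k (Set.range ((↑) : s → K))) K :=
    Algebra.finite_of_essFiniteType_of_isAlgebraic
  exact ⟨s, inferInstance, IntermediateField.adjoin k (Set.range ((↑) : s → K)), inferInstance,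
    inferInstance, inferInstance, inferInstance, ⟨hs.1.aevalEquivField⟩, hfin, H'⟩

end SepGenDef

end Groth.Agent.Lib.Helper56
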