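import Groth.Agent.Lib.Helper56.Serre1

set_option autoImplicit false
universe u v w

namespace Groth.Agent.Lib.Helper56

open LocCoh RingTheory.Sequence IsLocalRing
open scoped Pointwise

section FieldAtAss

variable {B : Type u} [CommRing B] [IsNoetherianRing B]

theorem exists_notMem_mul_eq_zero_of_mem_ass (hR : HasRk 0 B) (hS : HasSk 1 B B) (P : Ideal B)
    (hP : P ∈ associatedPrimes B B) (z : B) (hz : z ∈ P) : ∃ u ∉ P, u * z = 0 := by
  have hPp : P.IsPrime := IsAssociatedPrime.isPrime hP
  have h0 := depth_localizedModule_eq_zero_of_mem_associatedPrimes hP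
  have h2 := hS P
  rw [h0, supportDim_localizedModule_self, Module.supportDim_self_eq_ringKrullDim,
    IsLocalization.AtPrime.ringKrullDim_eq_height P, min_le_iff] at h2
  have hht : P.height ≤ 0 := by
    rcases h2 with h2 | h2
    · norm_num at h2
    · exact_mod_cast h2
  have hreg : IsRegularLocalRing (Localization.AtPrime P) := hR P (by exact_mod_cast hht)
  have hdim : ringKrullDim (Localization.AtPrime P) ≤ 0 := by
    rw [IsLocalization.AtPrime.ringKrullDim_eq_height P]
    exact_mod_cast hht
  have hm := maximalIdeal_eq_bot_of_isRegularLocalRing_of_dim_eq_zero _ hdim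
  have hz' : algebraMap B (Localization.AtPrime P) z ∈ maximalIdeal (Localization.AtPrime P) :=
    (IsLocalization.AtPrime.to_map_mem_maximal_iff _ P z).mpr hz
  rw [hm, Ideal.mem_bot] at hz'
  obtain ⟨⟨u, hu⟩, huz⟩ := (IsLocalization.map_eq_zero_iff P.primeCompl _ z).mp hz'
  exact ⟨u, hu, huz⟩

omit [IsNoetherianRing B] in
theorem hasRk_mono {k l : ℕ} (hkl : k ≤ l) (h : HasRk l B) : HasRk k B := by
  intro p _ hp
  exact h p (le_trans hp (by exact_mod_cast hkl))

omit [IsNoetherianRing B] in
theorem hasSk_mono {k l : ℕ} (hkl : k ≤ l) {M : Type v} [AddCommGroup M] [Module B M]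
    (h : HasSk l B M) : HasSk k B M := by
  intro p _
  refine le_trans (min_le_min_right _ ?_) (h p)
  exact_mod_cast hkl

theorem exists_regular_add [Nontrivial B] (hR : HasRk 0 B) (hS : HasSk 1 B B) (x : B) :
    ∃ a c : B, a * x = 0 ∧ IsSMulRegular B (a + c * x) := by
  by_contra hcon
  push Not at hcon
  have h1 : ∀ r ∈ LinearMap.ker (LinearMap.mulRight B x) ⊔ Ideal.span {x},
      ¬ IsSMulRegular B r := by
    intro r hr
    obtain ⟨a, ha, b, hb, rfl⟩ := Submodule.mem_sup.mp hr
    obtain ⟨c, rfl⟩ := Ideal.mem_span_singleton'.mp hb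
    exact hcon a c (by simpa using ha)
  obtain ⟨P, hP, hle⟩ := (Helper67.forall_not_isSMulRegular_iff _ B).mp h1
  have hxP : x ∈ P := hle (Submodule.mem_sup_right (Ideal.mem_span_singleton_self x))
  obtain ⟨u, huP, hux⟩ := exists_notMem_mul_eq_zero_of_mem_ass hR hS P hP x hxP
  exact huP (hle (Submodule.mem_sup_left (by simpa using hux)))

end FieldAtAss

section LocalDomain

variable {B : Type u} [CommRing B] [IsNoetherianRing B]

theorem eq_zero_or_eq_zero_of_mul_eq_zero_of_R1_S2 [IsLocalRing B] (hR : HasRk 1 B)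
    (hS : HasSk 2 B B) (x y : B) (hxy : x * y = 0) : x = 0 ∨ y = 0 := by
  obtain ⟨a, c, hax, hreg⟩ := exists_regular_add (hasRk_mono (by norm_num) hR)
    (hasSk_mono (by norm_num) hS) x
  have hreg' : ∀ z, (a + c * x) * z = 0 → z = 0 := fun z hz =>
    hreg (by simpa using hz)
  have hmem : a ∈ Ideal.span {a + c * x} := by
    apply mem_span_singleton_of_forall_ass
    intro P hP
    have hPp : P.IsPrime := IsAssociatedPrime.isPrime hP
    have hht := height_le_one_of_mem_ass_quotSMulTop hS (a + c * x) hreg P hP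
    have hregP : IsRegularLocalRing (Localization.AtPrime P) := hR P hht
    have hdom : IsDomain (Localization.AtPrime P) := Helper76.isDomain_of_isRegularLocalRing _
    have h0 : algebraMap B (Localization.AtPrime P) a *
        algebraMap B (Localization.AtPrime P) (c * x) = 0 := by
      rw [← map_mul]
      have : a * (c * x) = 0 := by rw [mul_left_comm, hax, mul_zero]
      rw [this, map_zero]
    rcases mul_eq_zero.mp h0 with h1 | h1
    · obtain ⟨⟨u, hu⟩, hua⟩ := (IsLocalization.map_eq_zero_iff P.primeCompl _ a).mp h1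
      refine ⟨u, hu, ?_⟩
      rw [show u * a = 0 from hua]
      exact Ideal.zero_mem _
    · obtain ⟨⟨u, hu⟩, hub⟩ := (IsLocalization.map_eq_zero_iff P.primeCompl _ (c * x)).mp h1
      refine ⟨u, hu, ?_⟩
      have : u * a = u * (a + c * x) := by
        rw [mul_add, show u * (c * x) = 0 from hub, add_zero]
      rw [this]
      exact Ideal.mul_mem_left _ _ (Ideal.mem_span_singleton_self _)
  obtain ⟨e, he⟩ := Ideal.mem_span_singleton'.mp hmem
  have hidem : e * e = e := by
    have h1 : a * (a + c * x) = a * a := by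
      have : a * (c * x) = 0 := by rw [mul_left_comm, hax, mul_zero]
      rw [mul_add, this, add_zero]
    have h2 : (a + c * x) * ((a + c * x) * (e - e * e)) = 0 := by
      have : (a + c * x) * ((a + c * x) * (e - e * e)) =
          (e * (a + c * x)) * (a + c * x) - (e * (a + c * x)) * (e * (a + c * x)) := by ring
      rw [this, he, h1, sub_self]
    have := hreg' _ (hreg' _ h2)
    exact (sub_eq_zero.mp this).symm
  rcases IsLocalRing.isUnit_or_isUnit_one_sub_self e with hu | hu
  · have h1 : e * (1 - e) = 0 := by rw [mul_sub, mul_one, hidem, sub_self]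
    have h2 : 1 - e = 0 := (hu.mul_right_eq_zero).mp h1
    have he1 : e = 1 := (sub_eq_zero.mp h2).symm
    left
    rw [he1, one_mul] at he
    apply hreg'
    rw [he, hax]
  · have h1 : (1 - e) * e = 0 := by rw [sub_mul, one_mul, hidem, sub_self]
    have he0 : e = 0 := (hu.mul_right_eq_zero).mp h1
    right
    rw [he0, zero_mul] at he
    apply hreg'
    rw [← he, zero_add, mul_assoc, hxy, mul_zero]

theorem isDomain_of_R1_S2_local (B : Type u) [CommRing B] [IsNoetherianRing B] [IsLocalRing B]
    (hR : HasRk 1 B) (hS : HasSk 2 B B) : IsDomain B :=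
  have : NoZeroDivisors B :=
    ⟨fun {x y} h => eq_zero_or_eq_zero_of_mul_eq_zero_of_R1_S2 hR hS x y h⟩
  NoZeroDivisors.to_isDomain B

theorem isIntegrallyClosed_of_R1_S2 (B : Type u) [CommRing B] [IsDomain B] [IsNoetherianRing B]
    (hR : HasRk 1 B) (hS : HasSk 2 B B) : IsIntegrallyClosed B := by
  apply IsIntegrallyClosed.of_localization {P : PrimeSpectrum B | P.asIdeal.height ≤ 1}
  · intro P hP
    have : IsRegularLocalRing (Localization.AtPrime P.asIdeal) := hR P.asIdeal hP
    exact (isDomain_and_isIntegrallyClosed_of_isRegularLocalRing_of_dim_le_one _ (by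
      rw [IsLocalization.AtPrime.ringKrullDim_eq_height P.asIdeal]
      exact_mod_cast hP)).2
  · rw [eq_bot_iff]
    intro x hx
    rw [Algebra.mem_iInf] at hx
    obtain ⟨⟨a, s⟩, rfl⟩ := IsLocalization.mk'_surjective (nonZeroDivisors B) x
    have hsreg : IsSMulRegular B (s : B) :=
      (IsRegular.of_ne_zero (nonZeroDivisors.ne_zero s.2)).left.isSMulRegular
    have hmem : a ∈ Ideal.span {(s : B)} := by
      apply mem_span_singleton_of_forall_ass
      intro P hP
      have hPp : P.IsPrime := IsAssociatedPrime.isPrime hP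
      have hht := height_le_one_of_mem_ass_quotSMulTop hS s hsreg P hP
      have hx' := hx ⟨P, hPp⟩
      rw [Algebra.mem_iInf] at hx'
      obtain ⟨a', u, hu, hxe⟩ := hx' hht
      refine ⟨u, hu, ?_⟩
      rw [IsLocalization.mk'_eq_iff_eq] at hxe
      have := IsFractionRing.injective B (FractionRing B) hxe
      simp only at this
      rw [this]
      exact Ideal.mul_mem_right _ _ (Ideal.mem_span_singleton_self _)
    obtain ⟨c, hc⟩ := Ideal.mem_span_singleton'.mp hmem
    rw [Algebra.mem_bot]
    refine ⟨c, ?_⟩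
    rw [← hc]
    exact (IsLocalization.mk'_mul_cancel_right c s).symm

end LocalDomain

end Groth.Agent.Lib.Helper56
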