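import Mathlib
import Groth.Prelude.Def_CAlg2
import Groth.Prelude.Def_Brnch
import Groth.Agent.Lib.Helper87.GUModel
import Groth.Agent.Lib.Helper87.GULocal
import Groth.Agent.Lib.Helper87.GeomBranchCount
import Groth.Agent.Lib.Helper87.Unibranch2

set_option autoImplicit false
set_option linter.style.haveILetI false
set_option linter.unusedSectionVars false

namespace Groth.Agent.Lib.Helper56.ShLhs

open IsLocalRing

universe u

section NormEquiv

variable (A : Type u) [CommRing A] [IsReduced A]

theorem mk_bijective : Function.Bijective (Ideal.Quotient.mk (nilradical A)) := by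
  refine ⟨?_, Ideal.Quotient.mk_surjective⟩
  rw [injective_iff_map_eq_zero]
  intro x hx
  rw [Ideal.Quotient.eq_zero_iff_mem, nilradical_eq_zero, Ideal.zero_eq_bot,
    Ideal.mem_bot] at hx
  exact hx

noncomputable def redEquiv : A ≃+* CAlg2.red A :=
  RingEquiv.ofBijective (Ideal.Quotient.mk (nilradical A)) (mk_bijective A)

theorem redEquiv_apply (a : A) : redEquiv A a = Ideal.Quotient.mk (nilradical A) a := rfl

noncomputable def fracEquiv : FractionRing A ≃+* FractionRing (CAlg2.red A) :=
  IsFractionRing.ringEquivOfRingEquiv (redEquiv A)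

theorem fracEquiv_algebraMap (a : A) :
    fracEquiv A (algebraMap A (FractionRing A) a) =
      algebraMap (CAlg2.red A) (FractionRing (CAlg2.red A)) (redEquiv A a) :=
  IsFractionRing.ringEquivOfRingEquiv_algebraMap (redEquiv A) a

theorem fracEquiv_symm_algebraMap (r : CAlg2.red A) :
    (fracEquiv A).symm (algebraMap (CAlg2.red A) (FractionRing (CAlg2.red A)) r) =
      algebraMap A (FractionRing A) ((redEquiv A).symm r) := by
  rw [RingEquiv.symm_apply_eq, fracEquiv_algebraMap, RingEquiv.apply_symm_apply]

noncomputable def normEquiv : integralClosure A (FractionRing A) ≃+* CAlg2.normRed A where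
  toFun x := ⟨fracEquiv A x.1,
    IsIntegral.map_of_comp_eq (redEquiv A : A →+* CAlg2.red A)
      (fracEquiv A : FractionRing A →+* FractionRing (CAlg2.red A))
      (by ext a; exact (fracEquiv_algebraMap A a).symm) x.2⟩
  invFun y := ⟨(fracEquiv A).symm y.1,
    IsIntegral.map_of_comp_eq ((redEquiv A).symm : CAlg2.red A →+* A)
      ((fracEquiv A).symm : FractionRing (CAlg2.red A) →+* FractionRing A)
      (by ext r; exact (fracEquiv_symm_algebraMap A r).symm) y.2⟩
  left_inv x := Subtype.ext ((fracEquiv A).symm_apply_apply _)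
  right_inv y := Subtype.ext ((fracEquiv A).apply_symm_apply _)
  map_mul' x y := Subtype.ext (map_mul (fracEquiv A) _ _)
  map_add' x y := Subtype.ext (map_add (fracEquiv A) _ _)

theorem normEquiv_algebraMap (a : A) :
    normEquiv A (algebraMap A (integralClosure A (FractionRing A)) a) =
      algebraMap A (CAlg2.normRed A) a := by
  apply Subtype.ext
  show fracEquiv A (algebraMap A (FractionRing A) a) = _
  rw [fracEquiv_algebraMap]
  rfl

noncomputable def normAlgEquiv : integralClosure A (FractionRing A) ≃ₐ[A] CAlg2.normRed A :=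
  AlgEquiv.ofRingEquiv (f := normEquiv A) (normEquiv_algebraMap A)

open Groth.Agent.Lib.Helper87.GUModel in
theorem piCond_iff :
    PICond A (integralClosure A (FractionRing A)) ↔ PICond A (CAlg2.normRed A) := by
  constructor
  · exact piCond_of_equiv (normEquiv A) (normEquiv_algebraMap A)
  · refine piCond_of_equiv (normEquiv A).symm fun a => ?_
    rw [RingEquiv.symm_apply_eq, normEquiv_algebraMap]

end NormEquiv

section Emb

open Groth.Agent.Lib.Helper87.GeomBranchCount Groth.Agent.Lib.Helper87.GUModel

variable (A : Type u) [CommRing A] [IsLocalRing A]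
variable (B : Type u) [CommRing B] [Algebra A B] [Algebra.IsIntegral A B]
variable (m' : MaximalSpectrum B)

local notation "κ̄" => AlgebraicClosure (ResidueField A)

noncomputable def fRes : A →+* B ⧸ m'.asIdeal :=
  (Ideal.Quotient.mk m'.asIdeal).comp (algebraMap A B)

theorem fRes_eq_zero (a : A) (ha : a ∈ maximalIdeal A) : fRes A B m' a = 0 := by
  haveI := m'.isMaximal
  have h := Groth.Agent.Lib.Helper87.GUIntegral.comap_eq_maximalIdeal_of_isIntegral A B m'.asIdeal
  rw [← h] at ha
  exact Ideal.Quotient.eq_zero_iff_mem.mpr ha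

noncomputable def gRes : ResidueField A →+* B ⧸ m'.asIdeal :=
  Ideal.Quotient.lift (maximalIdeal A) (fRes A B m') (fRes_eq_zero A B m')

theorem gRes_residue (a : A) : gRes A B m' (residue A a) = fRes A B m' a :=
  Ideal.Quotient.lift_mk _ _ _

noncomputable instance fieldL : Field (B ⧸ m'.asIdeal) :=
  haveI := m'.isMaximal
  Ideal.Quotient.field m'.asIdeal

noncomputable instance algL : Algebra (ResidueField A) (B ⧸ m'.asIdeal) :=
  (gRes A B m').toAlgebra

theorem algebraMap_L (x : ResidueField A) :
    algebraMap (ResidueField A) (B ⧸ m'.asIdeal) x = gRes A B m' x := rfl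

instance towerL : IsScalarTower A (ResidueField A) (B ⧸ m'.asIdeal) :=
  IsScalarTower.of_algebraMap_eq fun a => by
    rw [algebraMap_L, IsLocalRing.ResidueField.algebraMap_eq, gRes_residue]
    rfl

instance algebraicL : Algebra.IsAlgebraic (ResidueField A) (B ⧸ m'.asIdeal) := by
  haveI : Algebra.IsIntegral (ResidueField A) (B ⧸ m'.asIdeal) := by
    constructor
    intro x
    obtain ⟨b, rfl⟩ := Ideal.Quotient.mk_surjective x
    have h1 : IsIntegral A (Ideal.Quotient.mk m'.asIdeal b) :=
      (Algebra.IsIntegral.isIntegral (R := A) b).map (Ideal.Quotient.mkₐ A m'.asIdeal)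
    exact h1.tower_top
  infer_instance

noncomputable def embEquiv : EmbB A B m' ≃ ((B ⧸ m'.asIdeal) →ₐ[ResidueField A] κ̄) where
  toFun σ :=
    { σ.1 with
      commutes' := fun x => by
        obtain ⟨a, rfl⟩ := residue_surjective x
        have h := congrArg (fun g => g a) σ.2
        simp only [RingHom.comp_apply] at h
        show σ.1 (gRes A B m' (residue A a)) = _
        rw [gRes_residue]
        exact h }
  invFun τ := ⟨τ.toRingHom, by
    ext a
    show τ (fRes A B m' a) = Brnch.toClosure A a
    rw [← gRes_residue, ← algebraMap_L, τ.commutes]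
    rfl⟩
  left_inv σ := Subtype.ext (by ext x; rfl)
  right_inv τ := by ext x; rfl

theorem nonempty_embB : Nonempty (EmbB A B m') :=
  ⟨(embEquiv A B m').symm (IsAlgClosed.lift)⟩

theorem range_eq (x : B ⧸ m'.asIdeal) :
    x ∈ (algebraMap (ResidueField A) (B ⧸ m'.asIdeal)).range ↔
      x ∈ ((Ideal.Quotient.mk m'.asIdeal).comp (algebraMap A B)).range := by
  constructor
  · rintro ⟨y, rfl⟩
    obtain ⟨a, rfl⟩ := residue_surjective y
    exact ⟨a, (gRes_residue A B m' a).symm⟩
  · rintro ⟨a, rfl⟩
    exact ⟨residue A a, gRes_residue A B m' a⟩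

theorem subsingleton_embB_iff :
    Subsingleton (EmbB A B m') ↔
      ∀ x : B ⧸ m'.asIdeal, ∃ n : ℕ, x ^ (ringExpChar (B ⧸ m'.asIdeal)) ^ n ∈
        ((Ideal.Quotient.mk m'.asIdeal).comp (algebraMap A B)).range := by
  haveI : ExpChar (B ⧸ m'.asIdeal) (ringExpChar (B ⧸ m'.asIdeal)) := ringExpChar.expChar _
  haveI : ExpChar (ResidueField A) (ringExpChar (B ⧸ m'.asIdeal)) :=
    (algebraMap (ResidueField A) (B ⧸ m'.asIdeal)).expChar
      (algebraMap (ResidueField A) (B ⧸ m'.asIdeal)).injective _
  rw [(embEquiv A B m').subsingleton_congr,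
    ← (Field.embEquivOfIsAlgClosed (ResidueField A) (B ⧸ m'.asIdeal) κ̄).subsingleton_congr,
    ← isPurelyInseparable_iff_subsingleton_emb,
    isPurelyInseparable_iff_pow_mem (ResidueField A) (ringExpChar (B ⧸ m'.asIdeal))]
  exact forall_congr' fun x => exists_congr fun n => range_eq A B m' _

theorem piCond_iff_subsingleton :
    PICond A B ↔ ∀ m' : MaximalSpectrum B, Subsingleton (EmbB A B m') := by
  constructor
  · intro h m'
    haveI := m'.isMaximal
    exact (subsingleton_embB_iff A B m').mpr (h m'.asIdeal)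
  · intro h M hM
    exact (subsingleton_embB_iff A B ⟨M, hM⟩).mp (h ⟨M, hM⟩)

theorem subsingleton_iff_card [Finite (MaximalSpectrum B)] :
    (∀ m' : MaximalSpectrum B, Subsingleton (EmbB A B m')) ↔
      ENat.card (Σ m' : MaximalSpectrum B, EmbB A B m') = ENat.card (MaximalSpectrum B) := by
  constructor
  · intro h
    haveI : ∀ m' : MaximalSpectrum B, Unique (EmbB A B m') := fun m' =>
      haveI := h m'
      haveI := nonempty_embB A B m'
      Classical.choice ((unique_iff_subsingleton_and_nonempty _).mpr ⟨h m', nonempty_embB A B m'⟩)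
    exact ENat.card_congr (Equiv.sigmaUnique _ _)
  · intro hcard
    have hfinS : Finite (Σ m' : MaximalSpectrum B, EmbB A B m') := by
      by_contra hinf
      rw [not_finite_iff_infinite] at hinf
      rw [ENat.card_eq_top_of_infinite, ENat.card_eq_coe_natCard] at hcard
      exact ENat.top_ne_natCast _ hcard
    have hnat : Nat.card (Σ m' : MaximalSpectrum B, EmbB A B m') =
        Nat.card (MaximalSpectrum B) := by
      rw [ENat.card_eq_coe_natCard, ENat.card_eq_coe_natCard] at hcard
      exact_mod_cast hcard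
    have hsurj : Function.Surjective
        (Sigma.fst : (Σ m' : MaximalSpectrum B, EmbB A B m') → MaximalSpectrum B) := by
      intro m'
      obtain ⟨σ⟩ := nonempty_embB A B m'
      exact ⟨⟨m', σ⟩, rfl⟩
    have hbij := hsurj.bijective_of_nat_card_le hnat.le
    intro m'
    constructor
    intro σ σ'
    have := hbij.1 (a₁ := ⟨m', σ⟩) (a₂ := ⟨m', σ'⟩) rfl
    exact eq_of_heq (Sigma.mk.inj_iff.mp this).2

end Emb

end Groth.Agent.Lib.Helper56.ShLhs
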