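import Mathlib
import Groth.Prelude.Def_Hensel
import Groth.Agent.Lib.Helper56.QuotFlat
import Groth.Agent.Lib.Helper87.BranchSum
import Groth.Agent.Lib.Helper87.HensQuotient
import Groth.Agent.Lib.Helper87.GeomUnibranch
import Groth.Agent.Lib.Helper87.HensStrictProps

set_option autoImplicit false
set_option linter.style.haveILetI false
set_option linter.unusedSectionVars false

namespace Groth.Agent.Lib.Helper56.ShRhs

open IsLocalRing

universe u

variable (R S : Type u) [CommRing R] [IsLocalRing R] [CommRing S] [IsLocalRing S] [Algebra R S]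
  [IsLocalHom (algebraMap R S)] [Hensel.IsStrictHenselization R S]

theorem map_ne_top (P : Ideal R) (hP : P ≠ ⊤) : P.map (algebraMap R S) ≠ ⊤ := by
  intro h
  have h1 : P.map (algebraMap R S) ≤ maximalIdeal S := by
    refine (Ideal.map_mono (le_maximalIdeal hP)).trans ?_
    exact ((IsLocalRing.local_hom_TFAE (algebraMap R S)).out 0 2).mp ‹_›
  rw [h] at h1
  exact (maximalIdeal.isMaximal S).ne_top (top_le_iff.mp h1)

theorem isRadical_map (P : Ideal R) [P.IsPrime] : (P.map (algebraMap R S)).IsRadical := by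
  have hP : P ≠ ⊤ := Ideal.IsPrime.ne_top ‹_›
  haveI : Nontrivial (R ⧸ P) := Ideal.Quotient.nontrivial_iff.mpr hP
  haveI : Nontrivial (S ⧸ P.map (algebraMap R S)) :=
    Ideal.Quotient.nontrivial_iff.mpr (map_ne_top R S P hP)
  haveI : IsLocalRing (R ⧸ P) :=
    IsLocalRing.of_surjective' (Ideal.Quotient.mk P) Ideal.Quotient.mk_surjective
  haveI : IsLocalRing (S ⧸ P.map (algebraMap R S)) :=
    IsLocalRing.of_surjective' (Ideal.Quotient.mk _) Ideal.Quotient.mk_surjective
  haveI : IsLocalHom (algebraMap (R ⧸ P) (S ⧸ P.map (algebraMap R S))) :=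
    Groth.Agent.Lib.Helper56.isLocalHom_quotient_map R S P
  haveI := Groth.Agent.Lib.Helper87.HensQuotient.isStrictHenselization_quotient (A := R) (S := S) P
  haveI : IsReduced (S ⧸ P.map (algebraMap R S)) :=
    (Groth.Agent.Lib.Helper87.Unibranch.isReduced_strict_iff (R ⧸ P)
      (S ⧸ P.map (algebraMap R S))).mp inferInstance
  exact (Ideal.isRadical_iff_quotient_reduced _).mpr inferInstance

theorem exists_minimalPrime_over (P : Ideal R) (hP : P ∈ minimalPrimes R) :
    ∃ Q ∈ minimalPrimes S, Q.comap (algebraMap R S) = P := by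
  haveI : Module.Flat R S := Groth.Agent.Lib.Helper87.Hens.flat_of_isStrictHenselization R S
  haveI : P.IsPrime := hP.1.1
  have hne : P.map (algebraMap R S) ≠ ⊤ := map_ne_top R S P (Ideal.IsPrime.ne_top ‹_›)
  obtain ⟨Q, hQ⟩ := Ideal.nonempty_minimalPrimes hne
  obtain ⟨hQmin, hQc⟩ :=
    (Groth.Agent.Lib.Helper87.BranchSum.mem_minimalPrimes_map_iff R S hP Q).mp hQ
  exact ⟨Q, hQmin, hQc⟩

noncomputable def contr (Q : minimalPrimes S) : minimalPrimes R :=
  haveI : Module.Flat R S := Groth.Agent.Lib.Helper87.Hens.flat_of_isStrictHenselization R S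
  ⟨Q.1.comap (algebraMap R S), Groth.Agent.Lib.Helper87.BranchSum.comap_mem_minimalPrimes R S Q.2⟩

theorem contr_surjective : Function.Surjective (contr R S) := by
  rintro ⟨P, hP⟩
  obtain ⟨Q, hQ, hQc⟩ := exists_minimalPrime_over R S P hP
  exact ⟨⟨Q, hQ⟩, Subtype.ext hQc⟩

theorem contr_injective_of_extended
    (h : ∀ Q ∈ minimalPrimes S, Q = Ideal.map (algebraMap R S) (Q.comap (algebraMap R S))) :
    Function.Injective (contr R S) := by
  rintro ⟨Q, hQ⟩ ⟨Q', hQ'⟩ hc
  have hc' : Q.comap (algebraMap R S) = Q'.comap (algebraMap R S) := congrArg Subtype.val hc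
  apply Subtype.ext
  show Q = Q'
  rw [h Q hQ, h Q' hQ', hc']

theorem extended_of_contr_injective (hinj : Function.Injective (contr R S))
    (Q : Ideal S) (hQ : Q ∈ minimalPrimes S) :
    Q = Ideal.map (algebraMap R S) (Q.comap (algebraMap R S)) := by
  haveI : Module.Flat R S := Groth.Agent.Lib.Helper87.Hens.flat_of_isStrictHenselization R S
  have hP : Q.comap (algebraMap R S) ∈ minimalPrimes R :=
    Groth.Agent.Lib.Helper87.BranchSum.comap_mem_minimalPrimes R S hQ
  haveI : (Q.comap (algebraMap R S)).IsPrime := hP.1.1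
  have hset : ((Q.comap (algebraMap R S)).map (algebraMap R S)).minimalPrimes = {Q} := by
    ext Q'
    rw [Groth.Agent.Lib.Helper87.BranchSum.mem_minimalPrimes_map_iff R S hP Q',
      Set.mem_singleton_iff]
    constructor
    · rintro ⟨hQ'min, hQ'c⟩
      have := hinj (a₁ := ⟨Q', hQ'min⟩) (a₂ := ⟨Q, hQ⟩) (Subtype.ext hQ'c)
      exact congrArg Subtype.val this
    · rintro rfl
      exact ⟨hQ, rfl⟩
  have hrad := isRadical_map R S (Q.comap (algebraMap R S))
  have h1 : sInf ((Q.comap (algebraMap R S)).map (algebraMap R S)).minimalPrimes =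
      ((Q.comap (algebraMap R S)).map (algebraMap R S)).radical := Ideal.sInf_minimalPrimes
  rw [hset, sInf_singleton, hrad.radical] at h1
  exact h1

theorem extended_iff_card (hfin : (minimalPrimes R).Finite) :
    (∀ Q ∈ minimalPrimes S, Q = Ideal.map (algebraMap R S) (Q.comap (algebraMap R S))) ↔
      ENat.card (minimalPrimes S) = ENat.card (minimalPrimes R) := by
  haveI : Finite (minimalPrimes R) := hfin
  constructor
  · intro h
    exact ENat.card_congr (Equiv.ofBijective (contr R S)
      ⟨contr_injective_of_extended R S h, contr_surjective R S⟩)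
  · intro hcard
    have hfinS : Finite (minimalPrimes S) := by
      by_contra hinf
      rw [not_finite_iff_infinite] at hinf
      rw [ENat.card_eq_top_of_infinite, ENat.card_eq_coe_natCard] at hcard
      exact ENat.top_ne_coe _ hcard
    have hnat : Nat.card (minimalPrimes S) = Nat.card (minimalPrimes R) := by
      rw [ENat.card_eq_coe_natCard, ENat.card_eq_coe_natCard] at hcard
      exact_mod_cast hcard
    have hbij : Function.Bijective (contr R S) :=
      (contr_surjective R S).bijective_of_nat_card_le hnat.le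
    exact fun Q hQ => extended_of_contr_injective R S hbij.1 Q hQ

end Groth.Agent.Lib.Helper56.ShRhs
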