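import Mathlib
import Groth.Prelude.Def_Hensel
import Groth.Agent.Lib.Helper87.HensProps
import Groth.Agent.Lib.Helper87.HensStrictProps

set_option autoImplicit false
set_option linter.style.haveILetI false
set_option linter.unusedSectionVars false

namespace Groth.Agent.Lib.Helper56.ShTower

open IsLocalRing

universe u

variable (A Ah Ash : Type u) [CommRing A] [IsLocalRing A]
  [CommRing Ah] [IsLocalRing Ah] [Algebra A Ah] [IsLocalHom (algebraMap A Ah)]
  [Hensel.IsHenselization A Ah]
  [CommRing Ash] [IsLocalRing Ash] [Algebra A Ash] [IsLocalHom (algebraMap A Ash)]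
  [Hensel.IsStrictHenselization A Ash]
  [Algebra Ah Ash] [IsScalarTower A Ah Ash]

include A in
theorem isLocalHom_tower : IsLocalHom (algebraMap Ah Ash) := by
  constructor
  intro x hx
  by_contra hnu
  have hxm : x ∈ maximalIdeal Ah := (mem_maximalIdeal x).mpr hnu
  rw [← Groth.Agent.Lib.Helper87.Hens.map_maximalIdeal_of_isHenselization A Ah] at hxm
  have h2 : algebraMap Ah Ash x ∈
      ((maximalIdeal A).map (algebraMap A Ah)).map (algebraMap Ah Ash) :=
    Ideal.mem_map_of_mem _ hxm
  rw [Ideal.map_map, ← IsScalarTower.algebraMap_eq] at h2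
  have h3 : (maximalIdeal A).map (algebraMap A Ash) ≤ maximalIdeal Ash :=
    ((IsLocalRing.local_hom_TFAE (algebraMap A Ash)).out 0 2).mp ‹_›
  exact (mem_maximalIdeal _).mp (h3 h2) hx

variable [IsLocalHom (algebraMap Ah Ash)]

theorem residue_tower (x : ResidueField A) :
    ResidueField.map (algebraMap Ah Ash) (ResidueField.map (algebraMap A Ah) x) =
      ResidueField.map (algebraMap A Ash) x := by
  obtain ⟨a, rfl⟩ := residue_surjective x
  rw [ResidueField.map_residue, ResidueField.map_residue, ResidueField.map_residue,
    ← IsScalarTower.algebraMap_apply]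

include A in
theorem isStrictHenselization_tower : Hensel.IsStrictHenselization Ah Ash := by
  have hS : Hensel.IsStrictHenselization A Ash := inferInstance
  have hH : Hensel.IsHenselization A Ah := inferInstance
  haveI : HenselianLocalRing Ash := hS.henselian
  haveI : HenselianLocalRing Ah := hH.henselian
  have hbij := Groth.Agent.Lib.Helper87.Hens.residueField_map_bijective_of_isHenselization A Ah
  refine ⟨hS.henselian, ?_, ?_⟩
  · haveI := hS.isSepClosure
    haveI : IsSepClosed (ResidueField Ash) := IsSepClosure.sep_closed (ResidueField A)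
    haveI : Algebra.IsSeparable (ResidueField A) (ResidueField Ash) := IsSepClosure.separable
    haveI : IsScalarTower (ResidueField A) (ResidueField Ah) (ResidueField Ash) :=
      IsScalarTower.of_algebraMap_eq fun x => (residue_tower A Ah Ash x).symm
    exact ⟨inferInstance,
      Algebra.isSeparable_tower_top_of_isSeparable (ResidueField A) (ResidueField Ah)
        (ResidueField Ash)⟩
  · intro T _ _ f _ τ hτ
    let f₀ : A →+* T := f.comp (algebraMap A Ah)
    haveI hf₀ : IsLocalHom f₀ := RingHom.isLocalHom_comp f (algebraMap A Ah)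
    have hτ₀ : τ.comp (ResidueField.map (algebraMap A Ash)) = ResidueField.map f₀ := by
      refine Ideal.Quotient.ringHom_ext ?_
      ext a
      have h1 := congrArg (fun g => g (residue Ah (algebraMap A Ah a))) hτ
      simp only [RingHom.comp_apply, ResidueField.map_residue] at h1
      show τ (ResidueField.map (algebraMap A Ash) (residue A a)) =
        ResidueField.map f₀ (residue A a)
      rw [ResidueField.map_residue, ResidueField.map_residue,
        IsScalarTower.algebraMap_apply A Ah Ash]
      exact h1
    obtain ⟨g, ⟨hg, hgres⟩, hgu⟩ := hS.universal T f₀ τ hτ₀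
    have hgf : g.comp (algebraMap Ah Ash) = f := by
      obtain ⟨u, -, huu⟩ := hH.universal T f₀ hf₀
      have e1 : g.comp (algebraMap Ah Ash) = u := huu _ (by
        show (g.comp (algebraMap Ah Ash)).comp (algebraMap A Ah) = f₀
        rw [RingHom.comp_assoc, ← IsScalarTower.algebraMap_eq]
        exact hg)
      have e2 : f = u := huu _ rfl
      rw [e1, e2]
    refine ⟨g, ⟨hgf, hgres⟩, ?_⟩
    rintro g' ⟨hg', hg'res⟩
    refine hgu g' ⟨?_, hg'res⟩
    rw [IsScalarTower.algebraMap_eq A Ah Ash, ← RingHom.comp_assoc, hg']

end Groth.Agent.Lib.Helper56.ShTower
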