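import Groth.Agent.Lib.Helper56.Normal3
import Groth.Agent.Lib.Helper56.Hironaka1
import Groth.Agent.Lib.Helper67.IterLoc
import Groth.Agent.S6285

set_option autoImplicit false
universe u v w

namespace Groth.Agent.Lib.Helper56

open LocCoh RingTheory.Sequence IsLocalRing
open scoped Pointwise

section SuppHeight

variable {A : Type u} [CommRing A]

theorem support_localization_eq (M : Type v) [AddCommGroup M] [Module A M] [Module.Finite A M]
    (p : Ideal A) [p.IsPrime] :
    Module.support (Localization.AtPrime p) (LocalizedModule p.primeCompl M) =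
      PrimeSpectrum.comap (algebraMap A (Localization.AtPrime p)) ⁻¹' Module.support A M :=
  Groth.Agent.S6285.support_of_isBaseChange (LocalizedModule.mkLinearMap p.primeCompl M)
    (LocalizedModule.isBaseChange p.primeCompl M)

noncomputable def supportLocOrderIso (M : Type v) [AddCommGroup M] [Module A M]
    [Module.Finite A M] (P : Module.support A M) :
    Module.support (Localization.AtPrime P.1.asIdeal)
        (LocalizedModule P.1.asIdeal.primeCompl M) ≃o Set.Iic P where
  toFun x := ⟨⟨PrimeSpectrum.comap (algebraMap A (Localization.AtPrime P.1.asIdeal)) x.1, by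
      have h1 : x.1 ∈ PrimeSpectrum.comap (algebraMap A (Localization.AtPrime P.1.asIdeal)) ⁻¹'
          Module.support A M := (support_localization_eq M P.1.asIdeal) ▸ x.2
      exact h1⟩,
    ((IsLocalization.AtPrime.primeSpectrumOrderIso (Localization.AtPrime P.1.asIdeal)
      P.1.asIdeal) x.1).2⟩
  invFun y := ⟨(IsLocalization.AtPrime.primeSpectrumOrderIso (Localization.AtPrime P.1.asIdeal)
      P.1.asIdeal).symm ⟨y.1.1, y.2⟩, by
    rw [support_localization_eq, Set.mem_preimage]
    have h1 : PrimeSpectrum.comap (algebraMap A (Localization.AtPrime P.1.asIdeal))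
        ((IsLocalization.AtPrime.primeSpectrumOrderIso (Localization.AtPrime P.1.asIdeal)
          P.1.asIdeal).symm ⟨y.1.1, y.2⟩) = y.1.1 :=
      congrArg Subtype.val ((IsLocalization.AtPrime.primeSpectrumOrderIso
        (Localization.AtPrime P.1.asIdeal) P.1.asIdeal).apply_symm_apply ⟨y.1.1, y.2⟩)
    rw [h1]
    exact y.1.2⟩
  left_inv x := by
    apply Subtype.ext
    exact (IsLocalization.AtPrime.primeSpectrumOrderIso (Localization.AtPrime P.1.asIdeal)
      P.1.asIdeal).symm_apply_apply x.1
  right_inv y := by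
    apply Subtype.ext
    apply Subtype.ext
    change PrimeSpectrum.comap (algebraMap A (Localization.AtPrime P.1.asIdeal))
        ((IsLocalization.AtPrime.primeSpectrumOrderIso (Localization.AtPrime P.1.asIdeal)
          P.1.asIdeal).symm ⟨y.1.1, y.2⟩) = y.1.1
    exact congrArg Subtype.val ((IsLocalization.AtPrime.primeSpectrumOrderIso
        (Localization.AtPrime P.1.asIdeal) P.1.asIdeal).apply_symm_apply ⟨y.1.1, y.2⟩)
  map_rel_iff' := by
    intro x y
    exact (IsLocalization.AtPrime.primeSpectrumOrderIso (Localization.AtPrime P.1.asIdeal)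
      P.1.asIdeal).map_rel_iff (a := x.1) (b := y.1)

theorem supportDim_localization_eq_height (M : Type v) [AddCommGroup M] [Module A M]
    [Module.Finite A M] (P : Module.support A M) :
    Module.supportDim (Localization.AtPrime P.1.asIdeal)
        (LocalizedModule P.1.asIdeal.primeCompl M) = (Order.height P : ℕ∞) := by
  rw [Order.height_eq_krullDim_Iic]
  exact Order.krullDim_eq_of_orderIso (supportLocOrderIso M P)

theorem supportDim_localization_add_one_le (M : Type v) [AddCommGroup M] [Module A M]
    [Module.Finite A M] (p q : Ideal A) [hp : p.IsPrime] [hq : q.IsPrime] (hpq : p < q)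
    (hpM : (⟨p, hp⟩ : PrimeSpectrum A) ∈ Module.support A M) :
    Module.supportDim (Localization.AtPrime p) (LocalizedModule p.primeCompl M) + 1 ≤
      Module.supportDim (Localization.AtPrime q) (LocalizedModule q.primeCompl M) := by
  have hqM : (⟨q, hq⟩ : PrimeSpectrum A) ∈ Module.support A M :=
    Module.mem_support_mono (p := ⟨p, hp⟩) (q := ⟨q, hq⟩) hpq.le hpM
  have h1 := supportDim_localization_eq_height M ⟨⟨p, hp⟩, hpM⟩
  have h2 := supportDim_localization_eq_height M ⟨⟨q, hq⟩, hqM⟩
  simp only at h1 h2
  rw [h1, h2]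
  have hlt : (⟨⟨p, hp⟩, hpM⟩ : Module.support A M) < ⟨⟨q, hq⟩, hqM⟩ := hpq
  have := Order.height_add_one_le hlt
  exact_mod_cast this

end SuppHeight

section SkLift

theorem sk_arith_lift (k : ℕ) (δ : WithBot ℕ∞) (d : ℕ∞)
    (h : min (k : WithBot ℕ∞) δ ≤ (d : WithBot ℕ∞)) :
    min (k : WithBot ℕ∞) (δ + 1) ≤ ((d + 1 : ℕ∞) : WithBot ℕ∞) := by
  rw [min_le_iff] at h ⊢
  rcases h with h | h
  · left
    refine le_trans h ?_
    exact WithBot.coe_le_coe.mpr le_self_add
  · right
    rw [Helper67.withBot_enat_coe_add_one]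
    gcongr

variable {A : Type u} [CommRing A] [IsNoetherianRing A]

theorem hasSk_step_mem (k : ℕ) (M : Type u) [AddCommGroup M] [Module A M] [Module.Finite A M]
    (t : A) (hreg : IsSMulRegular M t) (hS : HasSk k A (QuotSMulTop t M))
    (q : Ideal A) [q.IsPrime] (htq : t ∈ q) [Nontrivial (LocalizedModule q.primeCompl M)] :
    ∃ (δ' : WithBot ℕ∞) (d' : ℕ∞),
      Module.supportDim (Localization.AtPrime q) (LocalizedModule q.primeCompl M) = δ' + 1 ∧
      depth (Localization.AtPrime q) (LocalizedModule q.primeCompl M) = d' + 1 ∧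
      min (k : WithBot ℕ∞) δ' ≤ (d' : WithBot ℕ∞) := by
  refine ⟨Module.supportDim (Localization.AtPrime q)
      (LocalizedModule q.primeCompl (QuotSMulTop t M)),
    depth (Localization.AtPrime q) (LocalizedModule q.primeCompl (QuotSMulTop t M)), ?_, ?_, hS q⟩
  · have hx' : algebraMap A (Localization.AtPrime q) t ∈
        IsLocalRing.maximalIdeal (Localization.AtPrime q) :=
      (IsLocalization.AtPrime.to_map_mem_maximal_iff (Localization.AtPrime q) q t).mpr htq
    have hreg' := isSMulRegular_localizedModule q.primeCompl hreg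
    rw [Module.supportDim_eq_of_equiv (locQuotSMulTopEquiv q.primeCompl t M)]
    exact (Module.supportDim_quotSMulTop_succ_eq_supportDim hreg' hx').symm
  · exact (depth_loc_quotSMulTop_add_one M q t htq hreg).symm

theorem supportDim_loc_quotSMulTop_add_one (M : Type u) [AddCommGroup M] [Module A M]
    [Module.Finite A M] (t : A) (hreg : IsSMulRegular M t) (q : Ideal A) [q.IsPrime]
    (htq : t ∈ q) :
    Module.supportDim (Localization.AtPrime q)
        (LocalizedModule q.primeCompl (QuotSMulTop t M)) + 1 =
      Module.supportDim (Localization.AtPrime q) (LocalizedModule q.primeCompl M) := by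
  have hx' : algebraMap A (Localization.AtPrime q) t ∈
      IsLocalRing.maximalIdeal (Localization.AtPrime q) :=
    (IsLocalization.AtPrime.to_map_mem_maximal_iff (Localization.AtPrime q) q t).mpr htq
  have hreg' := isSMulRegular_localizedModule q.primeCompl hreg
  rw [Module.supportDim_eq_of_equiv (locQuotSMulTopEquiv q.primeCompl t M)]
  exact Module.supportDim_quotSMulTop_succ_eq_supportDim hreg' hx'

variable [IsLocalRing A]

theorem hasSk_of_quotSMulTop (k : ℕ) (M : Type u) [AddCommGroup M] [Module A M]
    [Module.Finite A M] (t : A) (ht : t ∈ maximalIdeal A) (hreg : IsSMulRegular M t)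
    (hS : HasSk k A (QuotSMulTop t M)) : HasSk k A M := by
  intro p hp
  by_cases hnt : Nontrivial (LocalizedModule p.primeCompl M)
  swap
  · rw [not_nontrivial_iff_subsingleton] at hnt
    rw [Module.supportDim_eq_bot_of_subsingleton]
    simp
  by_cases htp : t ∈ p
  · obtain ⟨δ', d', h1, h2, h3⟩ := hasSk_step_mem k M t hreg hS p htp
    rw [h1, h2]
    exact sk_arith_lift k δ' d' h3
  · have hne : p ⊔ Ideal.span {t} ≠ ⊤ := by
      intro h
      have hle : p ⊔ Ideal.span {t} ≤ maximalIdeal A :=
        sup_le (IsLocalRing.le_maximalIdeal hp.ne_top)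
          ((Ideal.span_singleton_le_iff_mem _).mpr ht)
      rw [h] at hle
      exact (maximalIdeal.isMaximal A).ne_top (top_le_iff.mp hle)
    obtain ⟨q, hq⟩ := Ideal.nonempty_minimalPrimes hne
    have hqp : q.IsPrime := hq.1.1
    have hpq : p ≤ q := le_trans le_sup_left hq.1.2
    have htq : t ∈ q := hq.1.2 (Ideal.mem_sup_right (Ideal.mem_span_singleton_self t))
    have hlt : p < q := lt_of_le_of_ne hpq (fun h => htp (h ▸ htq))
    have hpM : (⟨p, hp⟩ : PrimeSpectrum A) ∈ Module.support A M := Module.mem_support_iff.mpr hnt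
    have hqM : (⟨q, hqp⟩ : PrimeSpectrum A) ∈ Module.support A M :=
      Module.mem_support_mono (p := ⟨p, hp⟩) (q := ⟨q, hqp⟩) hpq hpM
    have hntq : Nontrivial (LocalizedModule q.primeCompl M) := Module.mem_support_iff.mp hqM
    obtain ⟨δ', d', h1, h2, h3⟩ := hasSk_step_mem k M t hreg hS q htq
    have h4 := Helper67.depth_localization_le_depth_add_height M p q hpq
    have h5 : (q.map (Ideal.Quotient.mk p)).height ≤ 1 :=
      Ideal.map_height_le_one_of_mem_minimalPrimes hq
    have h6 := supportDim_localization_add_one_le M p q hlt hpM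
    rw [h1] at h6
    rw [h2] at h4
    have h7 : Module.supportDim (Localization.AtPrime p) (LocalizedModule p.primeCompl M) ≤ δ' :=
      Helper67.withBot_enat_le_of_add_one_le h6
    have h8 : d' ≤ depth (Localization.AtPrime p) (LocalizedModule p.primeCompl M) := by
      have : d' + 1 ≤ depth (Localization.AtPrime p) (LocalizedModule p.primeCompl M) + 1 :=
        le_trans h4 (by gcongr)
      exact (ENat.add_le_add_iff_right ENat.one_ne_top).mp this
    calc min (k : WithBot ℕ∞) (Module.supportDim (Localization.AtPrime p)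
          (LocalizedModule p.primeCompl M)) ≤ min (k : WithBot ℕ∞) δ' := min_le_min le_rfl h7
      _ ≤ (d' : WithBot ℕ∞) := h3
      _ ≤ _ := WithBot.coe_le_coe.mpr h8

theorem isEquidimModule_of_quotSMulTop (hcat : CAlg.IsCatenary A) (M : Type u) [AddCommGroup M]
    [Module A M] [Module.Finite A M] (t : A) (ht : t ∈ maximalIdeal A)
    (hreg : IsSMulRegular M t) (heq : EGA4.IsEquidimModule A (QuotSMulTop t M))
    (hS : HasSk 1 A (QuotSMulTop t M)) : EGA4.IsEquidimModule A M := by
  intro P hP
  have hPp : P.IsPrime := hP.1.1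
  have hPass : P ∈ associatedPrimes A M :=
    Module.associatedPrimes.minimalPrimes_annihilator_subset_associatedPrimes A M hP
  have htP : t ∉ P := Helper67.notMem_of_isSMulRegular_of_mem_associatedPrimes hPass hreg
  have hne : P ⊔ Ideal.span {t} ≠ ⊤ := by
    intro h
    have hle : P ⊔ Ideal.span {t} ≤ maximalIdeal A :=
      sup_le (IsLocalRing.le_maximalIdeal hPp.ne_top)
        ((Ideal.span_singleton_le_iff_mem _).mpr ht)
    rw [h] at hle
    exact (maximalIdeal.isMaximal A).ne_top (top_le_iff.mp hle)
  obtain ⟨Q, hQ⟩ := Ideal.nonempty_minimalPrimes hne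
  have hQp : Q.IsPrime := hQ.1.1
  have hPQ : P ≤ Q := le_trans le_sup_left hQ.1.2
  have htQ : t ∈ Q := hQ.1.2 (Ideal.mem_sup_right (Ideal.mem_span_singleton_self t))
  have hcov := covBy_of_mem_minimalPrimes_sup P Q t htP hQ
  have hPM : (⟨P, hPp⟩ : PrimeSpectrum A) ∈ Module.support A M := by
    rw [Module.mem_support_iff_of_finite]
    exact hP.1.2
  have hQM : (⟨Q, hQp⟩ : PrimeSpectrum A) ∈ Module.support A M :=
    Module.mem_support_mono (p := ⟨P, hPp⟩) (q := ⟨Q, hQp⟩) hPQ hPM
  have hntQ : Nontrivial (LocalizedModule Q.primeCompl M) := Module.mem_support_iff.mp hQM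
  have h0 : depth (Localization.AtPrime P) (LocalizedModule P.primeCompl M) = 0 :=
    depth_localizedModule_eq_zero_of_mem_associatedPrimes hPass
  have h4 := Helper67.depth_localization_le_depth_add_height M P Q hPQ
  have h5 : (Q.map (Ideal.Quotient.mk P)).height ≤ 1 :=
    Ideal.map_height_le_one_of_mem_minimalPrimes hQ
  have h6 := depth_loc_quotSMulTop_add_one M Q t htQ hreg
  have h7 := supportDim_loc_quotSMulTop_add_one M t hreg Q htQ
  rw [h0, zero_add, ← h6] at h4
  have h8 : depth (Localization.AtPrime Q)
      (LocalizedModule Q.primeCompl (QuotSMulTop t M)) = 0 := by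
    have : depth (Localization.AtPrime Q)
        (LocalizedModule Q.primeCompl (QuotSMulTop t M)) + 1 ≤ 0 + 1 := by
      rw [zero_add]
      exact le_trans h4 h5
    exact le_antisymm ((ENat.add_le_add_iff_right ENat.one_ne_top).mp this) bot_le
  have h9 := hS Q
  rw [h8] at h9
  have h10 : Module.supportDim (Localization.AtPrime Q)
      (LocalizedModule Q.primeCompl (QuotSMulTop t M)) ≤ 0 := by
    rcases min_le_iff.mp h9 with h | h
    · exfalso
      have : ((1 : ℕ∞) : WithBot ℕ∞) ≤ ((0 : ℕ∞) : WithBot ℕ∞) := by exact_mod_cast h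
      have h' := WithBot.coe_le_coe.mp this
      norm_num at h'
    · exact_mod_cast h
  have hntQ' : Nontrivial (LocalizedModule Q.primeCompl (QuotSMulTop t M)) := by
    rw [← Module.supportDim_ne_bot_iff_nontrivial (Localization.AtPrime Q)]
    intro hbot
    rw [hbot] at h7
    have h11 := Module.supportDim_ne_bot_of_nontrivial (Localization.AtPrime Q)
      (M := LocalizedModule Q.primeCompl M)
    exact h11 (by rw [← h7]; rfl)
  have hQsupp : Module.annihilator A (QuotSMulTop t M) ≤ Q := by
    have : (⟨Q, hQp⟩ : PrimeSpectrum A) ∈ Module.support A (QuotSMulTop t M) :=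
      Module.mem_support_iff.mpr hntQ'
    rw [Module.mem_support_iff_of_finite] at this
    exact this
  have hQmin := Helper67.mem_minimalPrimes_of_supportDim_localization_le_zero
    (QuotSMulTop t M) Q hQsupp h10
  have h12 := heq Q hQmin
  have h13 := Module.supportDim_quotSMulTop_succ_eq_supportDim hreg ht
  have h14 := coheight_eq_add_one_of_covBy hcat _ _ hcov
  have h15 := coheight_eq_ringKrullDim_quotient (⟨P, hPp⟩ : PrimeSpectrum A)
  have h16 := coheight_eq_ringKrullDim_quotient (⟨Q, hQp⟩ : PrimeSpectrum A)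
  simp only at h15 h16
  rw [← h13, ← h12, ← h15, ← h16, h14]
  rfl

end SkLift

end Groth.Agent.Lib.Helper56
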