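import Groth.Agent.Lib.Helper56.SkLift
import Groth.Agent.Lib.Helper4.GorCM

set_option autoImplicit false
universe u v w

namespace Groth.Agent.Lib.Helper56

open LocCoh RingTheory.Sequence IsLocalRing
open scoped Pointwise

section SkQuot

variable {A : Type u} [CommRing A]

theorem hasSk_quotSMulTop_self_of_quotient (k : ℕ) (t : A)
    (h : HasSk k (A ⧸ Ideal.span {t}) (A ⧸ Ideal.span {t})) : HasSk k A (QuotSMulTop t A) := by
  intro q hq
  by_cases htq : t ∈ q
  · have hle : Ideal.span {t} ≤ q := (Ideal.span_singleton_le_iff_mem q).mpr htq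
    have hqbar : (q.map (Ideal.Quotient.mk (Ideal.span {t}))).IsPrime :=
      Ideal.isPrime_map_quotientMk_of_isPrime hle
    obtain ⟨e⟩ := nonempty_quotLocEquiv (Ideal.span {t}) q hle
    have hmap : (Ideal.span {t}).map (algebraMap A (Localization.AtPrime q)) =
        Ideal.span {algebraMap A (Localization.AtPrime q) t} := by
      rw [Ideal.map_span, Set.image_singleton]
    have htB_mem : algebraMap A (Localization.AtPrime q) t ∈
        maximalIdeal (Localization.AtPrime q) :=
      (IsLocalization.AtPrime.to_map_mem_maximal_iff (Localization.AtPrime q) q t).mpr htq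
    let e' : (Localization.AtPrime q ⧸ Ideal.span {algebraMap A (Localization.AtPrime q) t}) ≃+*
        Localization.AtPrime (q.map (Ideal.Quotient.mk (Ideal.span {t}))) :=
      (Ideal.quotEquivOfEq hmap.symm).trans e
    have hnt : Nontrivial
        (Localization.AtPrime q ⧸ Ideal.span {algebraMap A (Localization.AtPrime q) t}) :=
      e'.toEquiv.nontrivial
    have hloc : IsLocalRing
        (Localization.AtPrime q ⧸ Ideal.span {algebraMap A (Localization.AtPrime q) t}) :=
      IsLocalRing.of_surjective' (Ideal.Quotient.mk _) Ideal.Quotient.mk_surjective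
    let e1 := locQuotSMulTopEquiv q.primeCompl t A
    let e2 := QuotSMulTop.congr (algebraMap A (Localization.AtPrime q) t)
      (locSelfEquiv q.primeCompl)
    let e3 : QuotSMulTop (algebraMap A (Localization.AtPrime q) t) (Localization.AtPrime q)
        ≃ₗ[Localization.AtPrime q]
        (Localization.AtPrime q ⧸ Ideal.span {algebraMap A (Localization.AtPrime q) t}) :=
      (Submodule.quotEquivOfEq (Ideal.span {algebraMap A (Localization.AtPrime q) t})
        (algebraMap A (Localization.AtPrime q) t • (⊤ : Submodule (Localization.AtPrime q)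
          (Localization.AtPrime q)))
        (by simp [← Submodule.ideal_span_singleton_smul])).symm
    rw [Module.supportDim_eq_of_equiv (e1 ≪≫ₗ e2 ≪≫ₗ e3), depth_congr (e1 ≪≫ₗ e2 ≪≫ₗ e3),
      Module.supportDim_quotient_eq_ringKrullDim,
      ← Groth.Agent.Lib.Helper4.GorCM.depth_quotient (Localization.AtPrime q)
        (Ideal.span {algebraMap A (Localization.AtPrime q) t}),
      ringKrullDim_eq_of_ringEquiv e', depth_self_of_ringEquiv e']
    exact (hasSk_self_iff k).mp h (q.map (Ideal.Quotient.mk (Ideal.span {t})))
  · have hu : IsUnit (algebraMap A (Localization.AtPrime q) t) :=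
      IsLocalization.map_units (Localization.AtPrime q) (⟨t, htq⟩ : q.primeCompl)
    have h1 := subsingleton_quotSMulTop_of_isUnit hu (LocalizedModule q.primeCompl A)
    have h2 : Subsingleton (LocalizedModule q.primeCompl (QuotSMulTop t A)) :=
      (locQuotSMulTopEquiv q.primeCompl t A).toEquiv.subsingleton_congr.mpr h1
    rw [Module.supportDim_eq_bot_of_subsingleton]
    simp

end SkQuot

end Groth.Agent.Lib.Helper56
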