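import Mathlib
import Groth.Agent.Lib.Helper70.CohenFact3
import Groth.Agent.S0543

set_option autoImplicit false
set_option linter.style.haveILetI false
set_option linter.unusedSectionVars false
set_option linter.unusedSimpArgs false

namespace Groth.Agent.Lib.Helper56.SmoothingAlg

open IsLocalRing

universe u

theorem exists_injective_to_powerSeries (k O : Type u) [Field k] [CommRing O] [IsLocalRing O]
    [IsNoetherianRing O] [IsDomain O]
    (π : O) (hπ : maximalIdeal O = Ideal.span {π})
    (s : k →+* O) (ε : O →+* k) (hεs : ∀ a, ε (s a) = a) :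
    ∃ θ : O →+* PowerSeries k, Function.Injective θ ∧
      ∀ z, PowerSeries.constantCoeff (θ z) = ε z := by
  classical
  have hsurj : Function.Surjective ε := fun a => ⟨s a, hεs a⟩
  have hker : RingHom.ker ε = maximalIdeal O :=
    IsLocalRing.eq_maximalIdeal (RingHom.ker_isMaximal_of_surjective ε hsurj)
  have hdec : ∀ z, z - s (ε z) ∈ maximalIdeal O := by
    intro z
    rw [← hker, RingHom.mem_ker, map_sub, hεs, sub_self]
  by_cases hnil : π = 0
  · refine ⟨(PowerSeries.C : k →+* PowerSeries k).comp ε, ?_, fun z => ?_⟩
    · intro z w h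
      have h0 : ε z = ε w := by
        have := congrArg PowerSeries.constantCoeff h
        simpa using this
      have h1 := hdec (z - w)
      rw [map_sub, h0, sub_self, map_zero, sub_zero, hπ, hnil, Ideal.span_singleton_eq_bot.mpr rfl,
        Ideal.mem_bot] at h1
      exact sub_eq_zero.mp h1
    · simp
  · haveI : IsNoetherianRing (AdicCompletion (maximalIdeal O) O) := Groth.Agent.S0543.result O _
    let ι : O →+* AdicCompletion (maximalIdeal O) O := algebraMap O _
    have hιinj : Function.Injective ι := AdicCompletion.of_injective (maximalIdeal O) O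
    have hmax : maximalIdeal (AdicCompletion (maximalIdeal O) O) = (maximalIdeal O).map ι :=
      AdicCompletion.maximalIdeal_eq_map
    have hb : Ideal.span (Set.range (fun _ : Fin 1 => ι π)) =
        maximalIdeal (AdicCompletion (maximalIdeal O) O) := by
      have h0 := congrArg (Ideal.map ι) hπ
      rw [hmax, h0, Ideal.map_span, Set.image_singleton, Set.range_const]
    have hbij := AdicCompletion.residueField_map_bijective O
    have hg : Function.Surjective ((residue (AdicCompletion (maximalIdeal O) O)).comp (ι.comp s)) := by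
      intro y
      obtain ⟨y₀, hy₀⟩ := hbij.2 y
      obtain ⟨z, rfl⟩ := residue_surjective y₀
      refine ⟨ε z, ?_⟩
      show residue _ (ι (s (ε z))) = y
      rw [← hy₀]
      have h1 : residue O (s (ε z)) = residue O z := by
        symm
        rw [← sub_eq_zero, ← map_sub, residue_eq_zero_iff]
        exact hdec z
      rw [← h1]
      exact (ResidueField.map_residue _ _).symm
    obtain ⟨Φ, hΦs, hΦC, hΦX⟩ := Groth.Agent.Lib.Helper70.CohenFact.exists_surjective_of_gens
      (ι.comp s) hg (fun _ : Fin 1 => ι π) hb
    let e : MvPowerSeries (Fin 1) k ≃ₐ[k] PowerSeries k :=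
      MvPowerSeries.renameEquiv k (Equiv.equivPUnit (Fin 1))
    let Ψ : PowerSeries k →+* AdicCompletion (maximalIdeal O) O :=
      Φ.comp (e.symm : PowerSeries k →+* MvPowerSeries (Fin 1) k)
    have hΨX : Ψ PowerSeries.X = ι π := by
      show Φ (e.symm PowerSeries.X) = _
      have : e.symm PowerSeries.X = MvPowerSeries.X 0 := by
        show MvPowerSeries.rename _ (MvPowerSeries.X ()) = _
        rw [MvPowerSeries.rename_X]
        congr 1
      rw [this, hΦX]
    have hΨC : ∀ a, Ψ (PowerSeries.C a) = ι (s a) := by
      intro a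
      show Φ (e.symm (PowerSeries.C a)) = _
      have : e.symm (PowerSeries.C a) = MvPowerSeries.C a := by
        show MvPowerSeries.rename _ (MvPowerSeries.C a) = _
        rw [MvPowerSeries.rename_C]
      rw [this, hΦC]
      rfl
    have hΨs : Function.Surjective Ψ := hΦs.comp e.symm.surjective
    have hΨinj : Function.Injective Ψ := by
      rw [injective_iff_map_eq_zero]
      intro f hf
      by_contra hne
      have h1 := PowerSeries.X_pow_order_mul_divXPowOrder (f := f)
      have hu := PowerSeries.isUnit_divided_by_X_pow_order hne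
      rw [← h1, map_mul, map_pow, hΨX] at hf
      have h2 : (ι π) ^ f.order.toNat = 0 := (IsUnit.mul_left_eq_zero (hu.map Ψ)).mp hf
      rw [← map_pow, map_eq_zero_iff ι hιinj] at h2
      exact hnil (IsReduced.eq_zero _ ⟨_, h2⟩)
    let E := RingEquiv.ofBijective Ψ ⟨hΨinj, hΨs⟩
    refine ⟨(E.symm : AdicCompletion (maximalIdeal O) O →+* PowerSeries k).comp ι,
      E.symm.injective.comp hιinj, ?_⟩
    intro z
    obtain ⟨w, hw⟩ : ∃ w, w = E.symm (ι z) := ⟨_, rfl⟩
    have hΨw : Ψ w = ι z := by
      rw [hw]
      exact E.apply_symm_apply _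
    show PowerSeries.constantCoeff (E.symm (ι z)) = ε z
    rw [← hw]
    have hsplit := PowerSeries.eq_X_mul_shift_add_const w
    have h3 : ι z = ι π * Ψ (PowerSeries.mk fun p => PowerSeries.coeff (p + 1) w) +
        ι (s (PowerSeries.constantCoeff w)) := by
      rw [← hΨw]
      conv_lhs => rw [hsplit]
      rw [map_add, map_mul, hΨX, hΨC]
    have h4 : ι (z - s (PowerSeries.constantCoeff w)) ∈
        maximalIdeal (AdicCompletion (maximalIdeal O) O) := by
      rw [map_sub, h3, add_sub_cancel_right, hmax]
      apply Ideal.mul_mem_right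
      apply Ideal.mem_map_of_mem
      have : π ∈ Ideal.span {π} := Ideal.mem_span_singleton_self π
      rwa [← hπ] at this
    have h5 : z - s (PowerSeries.constantCoeff w) ∈ maximalIdeal O := by
      have := (map_mem_nonunits_iff ι (z - s (PowerSeries.constantCoeff w))).mp h4
      exact this
    rw [← hker, RingHom.mem_ker, map_sub, hεs, sub_eq_zero] at h5
    exact h5.symm

end Groth.Agent.Lib.Helper56.SmoothingAlg
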