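import Groth.Agent.Lib.Helper57.NormalRing
import Mathlib

set_option autoImplicit false
universe u
namespace Groth.Agent.Lib.Helper56
open TensorProduct IsLocalRing EGA4

section QuotTorsion

variable {E E₁ : Type u} [CommRing E] [CommRing E₁]

theorem exists_notMem_mul_eq_zero_of_ker (π : E →+* E₁) (hE : EGA4.IsNormalRing E)
    (hker : ∀ x, π x = 0 → ∃ d : E, d * x = 0 ∧ ∀ y : E₁, π d * y = 0 → y = 0)
    (P₁ : Ideal E₁) [P₁.IsPrime] (x : E) (hx : π x = 0) :
    ∃ s : E, s ∉ P₁.comap π ∧ s * x = 0 := by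
  obtain ⟨d, hd, hreg⟩ := hker x hx
  obtain ⟨hdom, -⟩ := hE (P₁.comap π)
  have h0 : algebraMap E (Localization.AtPrime (P₁.comap π)) d *
      algebraMap E (Localization.AtPrime (P₁.comap π)) x = 0 := by
    rw [← map_mul, hd, map_zero]
  rcases mul_eq_zero.mp h0 with h1 | h1
  · exfalso
    rw [IsLocalization.map_eq_zero_iff (P₁.comap π).primeCompl] at h1
    obtain ⟨⟨s, hs⟩, hsd⟩ := h1
    have h2 : π d * π s = 0 := by
      rw [← map_mul, mul_comm, hsd, map_zero]
    have h3 := hreg _ h2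
    apply hs
    change π s ∈ P₁
    rw [h3]
    exact zero_mem _
  · rw [IsLocalization.map_eq_zero_iff (P₁.comap π).primeCompl] at h1
    obtain ⟨⟨s, hs⟩, hsx⟩ := h1
    exact ⟨s, hs, hsx⟩

theorem isNormalRing_of_surjective_of_torsion_ker (π : E →+* E₁) (hπ : Function.Surjective π)
    (hE : EGA4.IsNormalRing E)
    (hker : ∀ x, π x = 0 → ∃ d : E, d * x = 0 ∧ ∀ y : E₁, π d * y = 0 → y = 0) :
    EGA4.IsNormalRing E₁ := by
  apply Groth.Agent.Lib.Helper57.isNormalRing_of_forall_equiv hE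
  intro P₁ hP₁
  refine ⟨P₁.comap π, inferInstance, ?_⟩
  let _ : Algebra E (Localization.AtPrime P₁) :=
    ((algebraMap E₁ (Localization.AtPrime P₁)).comp π).toAlgebra
  have hloc : IsLocalization.AtPrime (Localization.AtPrime P₁) (P₁.comap π) := by
    refine ⟨?_, ?_, ?_⟩
    · rintro ⟨s, hs⟩
      change IsUnit (algebraMap E₁ (Localization.AtPrime P₁) (π s))
      exact IsLocalization.map_units (Localization.AtPrime P₁) (⟨π s, hs⟩ : P₁.primeCompl)
    · intro z
      obtain ⟨⟨y, ⟨t, ht⟩⟩, hz⟩ := IsLocalization.surj P₁.primeCompl z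
      obtain ⟨a, rfl⟩ := hπ y
      obtain ⟨s, rfl⟩ := hπ t
      exact ⟨⟨a, ⟨s, ht⟩⟩, hz⟩
    · intro a b hab
      change algebraMap E₁ (Localization.AtPrime P₁) (π a) =
        algebraMap E₁ (Localization.AtPrime P₁) (π b) at hab
      obtain ⟨⟨t, ht⟩, htab⟩ := (IsLocalization.eq_iff_exists P₁.primeCompl _).mp hab
      obtain ⟨s, rfl⟩ := hπ t
      have hx : π (s * (a - b)) = 0 := by
        rw [map_mul, map_sub, mul_sub]
        exact sub_eq_zero.mpr htab
      obtain ⟨s', hs', hs'x⟩ := exists_notMem_mul_eq_zero_of_ker π hE hker P₁ _ hx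
      refine ⟨⟨s' * s, (P₁.comap π).primeCompl.mul_mem hs' ht⟩, ?_⟩
      change s' * s * a = s' * s * b
      have : s' * s * a - s' * s * b = s' * (s * (a - b)) := by ring
      exact sub_eq_zero.mp (this.trans hs'x)
  exact ⟨(IsLocalization.algEquiv (P₁.comap π).primeCompl
    (Localization.AtPrime (P₁.comap π)) (Localization.AtPrime P₁)).toRingEquiv⟩

end QuotTorsion

end Groth.Agent.Lib.Helper56
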