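import Groth.Agent.Lib.Helper56.SubFinite1
import Groth.Agent.Lib.Helper56.FibreDescent

set_option autoImplicit false
universe u
namespace Groth.Agent.Lib.Helper56
open TensorProduct IsLocalRing EGA4

section PID

variable (D N : Type u) [CommRing D] [IsDomain D] [CommRing N] [Algebra D N]

def torsionIdeal : Ideal N where
  carrier := {n | ∃ d : D, d ≠ 0 ∧ d • n = 0}
  add_mem' := by
    rintro a b ⟨d, hd, hda⟩ ⟨e, he, heb⟩
    refine ⟨d * e, mul_ne_zero hd he, ?_⟩
    have h1 : (d * e) • a = 0 := by rw [mul_comm, mul_smul, hda, smul_zero]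
    have h2 : (d * e) • b = 0 := by rw [mul_smul, heb, smul_zero]
    rw [smul_add, h1, h2, add_zero]
  zero_mem' := ⟨1, one_ne_zero, smul_zero _⟩
  smul_mem' := by
    rintro c n ⟨d, hd, hdn⟩
    refine ⟨d, hd, ?_⟩
    rw [smul_eq_mul, ← mul_smul_comm, hdn, mul_zero]

theorem mem_torsionIdeal (n : N) : n ∈ torsionIdeal D N ↔ ∃ d : D, d ≠ 0 ∧ d • n = 0 := Iff.rfl

theorem isTorsionFree_quotient_torsionIdeal :
    Module.IsTorsionFree D (N ⧸ torsionIdeal D N) := by
  refine ⟨fun d hd => ?_⟩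
  have hd0 : d ≠ 0 := isRegular_iff_ne_zero.mp hd
  rw [isSMulRegular_iff_right_eq_zero_of_smul]
  intro x hx
  obtain ⟨n, rfl⟩ := Ideal.Quotient.mk_surjective x
  have h1 : Ideal.Quotient.mk (torsionIdeal D N) (d • n) = 0 := by
    rw [← hx]
    rfl
  rw [Ideal.Quotient.eq_zero_iff_mem] at h1
  obtain ⟨e, he, hen⟩ := h1
  rw [Ideal.Quotient.eq_zero_iff_mem]
  exact ⟨e * d, mul_ne_zero he hd0, by rw [mul_smul, hen]⟩

theorem algebraMap_quotient_torsionIdeal_injective (hinj : Function.Injective (algebraMap D N)) :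
    Function.Injective (algebraMap D (N ⧸ torsionIdeal D N)) := by
  rw [injective_iff_map_eq_zero]
  intro d hd
  have h1 : Ideal.Quotient.mk (torsionIdeal D N) (algebraMap D N d) = 0 := hd
  rw [Ideal.Quotient.eq_zero_iff_mem] at h1
  obtain ⟨e, he, hen⟩ := h1
  rw [Algebra.smul_def, ← map_mul] at hen
  have h2 : e * d = 0 := hinj (by rw [hen, map_zero])
  rcases mul_eq_zero.mp h2 with h | h
  · exact absurd h he
  · exact h

variable (R : Type u) [CommRing R] [Algebra D R]

theorem exists_smul_eq_zero_of_tensor_torsion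
    (y : R ⊗[D] ((torsionIdeal D N).restrictScalars D)) : ∃ d : D, d ≠ 0 ∧ d • y = 0 := by
  induction y using TensorProduct.induction_on with
  | zero => exact ⟨1, one_ne_zero, smul_zero _⟩
  | tmul r t =>
    obtain ⟨t, ht⟩ := t
    obtain ⟨d, hd, hdt⟩ := id ht
    refine ⟨d, hd, ?_⟩
    have : d • (⟨t, ht⟩ : (torsionIdeal D N).restrictScalars D) = 0 := Subtype.ext hdt
    rw [← TensorProduct.tmul_smul, this, TensorProduct.tmul_zero]
  | add a b ha hb =>
    obtain ⟨d, hd, hda⟩ := ha
    obtain ⟨e, he, heb⟩ := hb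
    refine ⟨d * e, mul_ne_zero hd he, ?_⟩
    have h1 : (d * e) • a = 0 := by rw [mul_comm, mul_smul, hda, smul_zero]
    have h2 : (d * e) • b = 0 := by rw [mul_smul, heb, smul_zero]
    rw [smul_add, h1, h2, add_zero]

noncomputable def tensorQuotMap : R ⊗[D] N →ₐ[R] R ⊗[D] (N ⧸ torsionIdeal D N) :=
  Algebra.TensorProduct.map (AlgHom.id R R) (Ideal.Quotient.mkₐ D (torsionIdeal D N))

theorem tensorQuotMap_surjective : Function.Surjective (tensorQuotMap D N R) := by
  have h : Function.Surjective (LinearMap.lTensor R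
      (Ideal.Quotient.mkₐ D (torsionIdeal D N)).toLinearMap) :=
    LinearMap.lTensor_surjective R (Ideal.Quotient.mkₐ_surjective D (torsionIdeal D N))
  intro z
  obtain ⟨x, hx⟩ := h z
  refine ⟨x, ?_⟩
  rw [← hx]
  rfl

theorem exists_smul_eq_zero_of_tensorQuotMap_eq_zero (x : R ⊗[D] N)
    (hx : tensorQuotMap D N R x = 0) : ∃ d : D, d ≠ 0 ∧ d • x = 0 := by
  have hex : Function.Exact ((torsionIdeal D N).restrictScalars D).subtype
      (Ideal.Quotient.mkₐ D (torsionIdeal D N)).toLinearMap := by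
    intro n
    constructor
    · intro hn
      have : n ∈ torsionIdeal D N := Ideal.Quotient.eq_zero_iff_mem.mp hn
      exact ⟨⟨n, this⟩, rfl⟩
    · rintro ⟨⟨m, hm⟩, rfl⟩
      exact Ideal.Quotient.eq_zero_iff_mem.mpr hm
  have h2 := lTensor_exact R hex (Ideal.Quotient.mkₐ_surjective D (torsionIdeal D N))
  have hx' : LinearMap.lTensor R (Ideal.Quotient.mkₐ D (torsionIdeal D N)).toLinearMap x = 0 := hx
  obtain ⟨y, rfl⟩ := (h2 x).mp hx'
  obtain ⟨d, hd, hdy⟩ := exists_smul_eq_zero_of_tensor_torsion D N R y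
  refine ⟨d, hd, ?_⟩
  rw [← map_smul, hdy, map_zero]

theorem isNormalRing_of_tensor_finite_of_pid [IsPrincipalIdealRing D] [Module.Flat D R]
    [Module.Finite D N] (hinj : Function.Injective (algebraMap D N))
    (hE : EGA4.IsNormalRing (R ⊗[D] N)) : EGA4.IsNormalRing R := by
  rcases subsingleton_or_nontrivial R with hR | hR
  · intro p hp
    exact absurd (Subsingleton.elim _ _) hp.ne_top
  have hfin : Module.Finite D (N ⧸ torsionIdeal D N) :=
    Module.Finite.of_surjective (Ideal.Quotient.mkₐ D (torsionIdeal D N)).toLinearMap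
      (Ideal.Quotient.mkₐ_surjective D (torsionIdeal D N))
  have htf := isTorsionFree_quotient_torsionIdeal D N
  have hfree : Module.Free D (N ⧸ torsionIdeal D N) := Module.free_of_finite_type_torsion_free'
  have hnt : Nontrivial (N ⧸ torsionIdeal D N) :=
    (algebraMap_quotient_torsionIdeal_injective D N hinj).nontrivial
  have hff : Module.FaithfullyFlat D (N ⧸ torsionIdeal D N) := inferInstance
  have hnt' : Nontrivial (R ⊗[D] (N ⧸ torsionIdeal D N)) := inferInstance
  have hfreeR : Module.Free R (R ⊗[D] (N ⧸ torsionIdeal D N)) := inferInstance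
  have hffR : Module.FaithfullyFlat R (R ⊗[D] (N ⧸ torsionIdeal D N)) := inferInstance
  have hflatD : Module.Flat D (R ⊗[D] (N ⧸ torsionIdeal D N)) := inferInstance
  apply isNormalRing_of_faithfullyFlat R (R ⊗[D] (N ⧸ torsionIdeal D N))
  apply isNormalRing_of_surjective_of_torsion_ker (tensorQuotMap D N R).toRingHom
    (tensorQuotMap_surjective D N R) hE
  intro x hx
  obtain ⟨d, hd, hdx⟩ := exists_smul_eq_zero_of_tensorQuotMap_eq_zero D N R x hx
  refine ⟨algebraMap D (R ⊗[D] N) d, ?_, ?_⟩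
  · rw [← Algebra.smul_def]
    exact hdx
  · intro y hy
    have h1 : (tensorQuotMap D N R).toRingHom (algebraMap D (R ⊗[D] N) d) =
        algebraMap D (R ⊗[D] (N ⧸ torsionIdeal D N)) d := by
      change (tensorQuotMap D N R) (algebraMap D (R ⊗[D] N) d) = _
      rw [IsScalarTower.algebraMap_apply D R (R ⊗[D] N), AlgHom.commutes,
        ← IsScalarTower.algebraMap_apply]
    rw [h1, ← Algebra.smul_def] at hy
    have hreg : IsSMulRegular (R ⊗[D] (N ⧸ torsionIdeal D N)) d :=
      Module.IsTorsionFree.isSMulRegular (isRegular_iff_ne_zero.mpr hd)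
    exact hreg.right_eq_zero_of_smul hy

end PID

end Groth.Agent.Lib.Helper56
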