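import Groth.Agent.Lib.Helper56.SubFinite2
import Groth.Agent.Lib.Helper56.HenselFormal2
import Groth.Agent.Lib.Helper56.Serre3
import Groth.Agent.Lib.Helper56.FlatSk
import Groth.Agent.Lib.Helper56.FlatRkAscent

set_option autoImplicit false
set_option linter.unusedSectionVars false
universe u
namespace Groth.Agent.Lib.Helper56
open TensorProduct IsLocalRing EGA4 LocCoh

section DimOne

theorem isPrincipalIdealRing_of_normal_of_dim_le_one (D : Type u) [CommRing D] [IsDomain D]
    [IsLocalRing D] [IsNoetherianRing D] [IsIntegrallyClosed D] (h : ringKrullDim D ≤ 1) :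
    IsPrincipalIdealRing D := by
  have hK : Ring.KrullDimLE 1 D := Ring.krullDimLE_iff.mpr h
  have h3 : (IsIntegrallyClosed D ∧ ∀ P : Ideal D, P ≠ ⊥ → P.IsPrime → P = maximalIdeal D) →
      IsPrincipalIdealRing D :=
    ((tfae_of_isNoetherianRing_of_isLocalRing_of_isDomain D).out 3 0).mp
  exact h3 ⟨inferInstance, fun P hP hPp =>
    IsLocalRing.eq_maximalIdeal (Ring.krullDimLE_one_iff_of_noZeroDivisors.mp hK P hP hPp)⟩

end DimOne

section LocalCase

variable (B B' C : Type u) [CommRing B] [CommRing B'] [CommRing C]
  [IsNoetherianRing B] [Algebra B B'] [Module.Flat B B'] [Algebra B C] [Module.Finite B C]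

theorem tensor_one_injective_of_flat (D : Type u) [CommRing D] [Algebra B D] [Module.Flat B D]
    (hinj : Function.Injective (algebraMap B C)) :
    Function.Injective (algebraMap D (D ⊗[B] C)) := by
  have h1 : Function.Injective (LinearMap.lTensor D (Algebra.linearMap B C)) :=
    Module.Flat.lTensor_preserves_injective_linearMap _ hinj
  have h2 : Function.Injective ((LinearMap.lTensor D (Algebra.linearMap B C)).comp
      (TensorProduct.rid B D).symm.toLinearMap) :=
    h1.comp (TensorProduct.rid B D).symm.injective
  intro a b hab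
  apply h2
  simpa [Algebra.TensorProduct.algebraMap_apply] using hab

theorem isNormalRing_atPrime_of_height_comap_le_one
    (hinj : Function.Injective (algebraMap B C)) (hB : EGA4.IsNormalRing B)
    (hC' : EGA4.IsNormalRing (B' ⊗[B] C)) (Q : Ideal B') [Q.IsPrime]
    (hP : (Q.comap (algebraMap B B')).height ≤ 1) :
    EGA4.IsNormalRing (Localization.AtPrime Q) := by
  set P := Q.comap (algebraMap B B') with hPdef
  have hlo : Q.LiesOver P := ⟨rfl⟩
  let _ := Localization.AtPrime.algebraOfLiesOver P Q
  have hflat : Module.Flat (Localization.AtPrime P) (Localization.AtPrime Q) := inferInstance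
  obtain ⟨hdom, hic⟩ := hB P
  have hNP : IsNoetherianRing (Localization.AtPrime P) :=
    IsLocalization.isNoetherianRing P.primeCompl _ inferInstance
  have hdim : ringKrullDim (Localization.AtPrime P) ≤ 1 := by
    rw [IsLocalization.AtPrime.ringKrullDim_eq_height P]
    exact_mod_cast hP
  have hpid : IsPrincipalIdealRing (Localization.AtPrime P) :=
    isPrincipalIdealRing_of_normal_of_dim_le_one _ hdim
  have hinjN : Function.Injective (algebraMap (Localization.AtPrime P)
      (Localization.AtPrime P ⊗[B] C)) :=
    tensor_one_injective_of_flat B C (Localization.AtPrime P) hinj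
  have hloc := isLocalization_locTensorMap B B' C (Localization.AtPrime Q) Q.primeCompl
  have hn1 : EGA4.IsNormalRing (Localization.AtPrime Q ⊗[B] C) := by
    let _ : Algebra (B' ⊗[B] C) (Localization.AtPrime Q ⊗[B] C) :=
      (locTensorMap B B' C (Localization.AtPrime Q)).toRingHom.toAlgebra
    exact Groth.Agent.Lib.Helper57.isNormalRing_of_isLocalization
      (Algebra.algebraMapSubmonoid (B' ⊗[B] C) Q.primeCompl) _ hC'
  have e : Localization.AtPrime Q ⊗[Localization.AtPrime P] (Localization.AtPrime P ⊗[B] C) ≃+*
      Localization.AtPrime Q ⊗[B] C :=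
    (Algebra.TensorProduct.cancelBaseChange B (Localization.AtPrime P) (Localization.AtPrime P)
      (Localization.AtPrime Q) C).toRingEquiv
  have hn2 : EGA4.IsNormalRing
      (Localization.AtPrime Q ⊗[Localization.AtPrime P] (Localization.AtPrime P ⊗[B] C)) :=
    Groth.Agent.Lib.Helper57.isNormalRing_of_ringEquiv e.symm hn1
  exact isNormalRing_of_tensor_finite_of_pid (Localization.AtPrime P)
    (Localization.AtPrime P ⊗[B] C) (Localization.AtPrime Q) hinjN hn2

end LocalCase

section Global

variable (B B' C : Type u) [CommRing B] [CommRing B'] [CommRing C]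
  [IsNoetherianRing B] [IsNoetherianRing B'] [Algebra B B'] [Module.Flat B B'] [Algebra B C]
  [Module.Finite B C]

theorem isNormalRing_of_finite_injective_of_flat
    (hinj : Function.Injective (algebraMap B C)) (hB : EGA4.IsNormalRing B)
    (hC' : EGA4.IsNormalRing (B' ⊗[B] C)) : EGA4.IsNormalRing B' := by
  have key : ∀ (Q : Ideal B') [Q.IsPrime], (Q.comap (algebraMap B B')).height ≤ 1 →
      EGA4.IsNormalRing (Localization.AtPrime Q) := fun Q _ hQ =>
    isNormalRing_atPrime_of_height_comap_le_one B B' C hinj hB hC' Q hQ
  apply (serre_normal_iff B').mpr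
  constructor
  · intro Q _ hQ
    have hP : (Q.comap (algebraMap B B')).height ≤ 1 :=
      le_trans (height_comap_le_of_flat B B' Q) hQ
    have hNQ : IsNoetherianRing (Localization.AtPrime Q) :=
      IsLocalization.isNoetherianRing Q.primeCompl _ inferInstance
    have hR1 := hasRk_one_of_normal (Localization.AtPrime Q) (key Q hP)
    apply isRegularLocalRing_of_hasRk_of_dim_le _ 1 hR1
    rw [IsLocalization.AtPrime.ringKrullDim_eq_height Q]
    exact_mod_cast hQ
  · rw [hasSk_self_iff]
    intro Q _
    have hNQ : IsNoetherianRing (Localization.AtPrime Q) :=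
      IsLocalization.isNoetherianRing Q.primeCompl _ inferInstance
    by_cases hP : (Q.comap (algebraMap B B')).height ≤ 1
    · have hS2 := hasSk_two_of_normal (Localization.AtPrime Q) (key Q hP)
      exact sk_ineq_of_hasSk_local _ 2 hS2
    · obtain ⟨h1, -, -⟩ := Groth.Agent.Lib.Helper77.FlatDepth.loc_formulas B B' Q
      have hSB := (hasSk_self_iff 2).mp (hasSk_two_of_normal B hB) (Q.comap (algebraMap B B'))
      rw [IsLocalization.AtPrime.ringKrullDim_eq_height (Q.comap (algebraMap B B'))] at hSB
      have h2 : (2 : ℕ∞) ≤ (Q.comap (algebraMap B B')).height := by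
        have := not_le.mp hP
        have h3 := Order.add_one_le_of_lt this
        calc (2 : ℕ∞) = 1 + 1 := by norm_num
          _ ≤ _ := h3
      have h4 : ((2 : ℕ) : WithBot ℕ∞) ≤
          (((Q.comap (algebraMap B B')).height : ℕ∞) : WithBot ℕ∞) := by
        have h' : ((2 : ℕ∞) : WithBot ℕ∞) ≤
            (((Q.comap (algebraMap B B')).height : ℕ∞) : WithBot ℕ∞) :=
          WithBot.coe_le_coe.mpr h2
        simpa using h'
      rw [min_eq_left h4] at hSB
      refine le_trans (min_le_left _ _) ?_
      rw [h1]
      refine le_trans hSB ?_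
      exact WithBot.coe_le_coe.mpr le_self_add

end Global

end Groth.Agent.Lib.Helper56
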