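import Groth.Agent.Lib.Helper56.SubFinite3
import Groth.Agent.Lib.Helper56.SemilocalCpl

set_option autoImplicit false
set_option linter.unusedSectionVars false
universe u
namespace Groth.Agent.Lib.Helper56
open TensorProduct IsLocalRing EGA4

section SubFiniteCpl

variable (A : Type u) [CommRing A] [IsLocalRing A] [IsNoetherianRing A]
  (B C : Type u) [CommRing B] [CommRing C] [Algebra A B] [Algebra A C] [Algebra B C]
  [IsScalarTower A B C] [Module.Finite A B] [Module.Finite A C]

theorem isNormalRing_cpl_of_sub_finite (hinj : Function.Injective (algebraMap B C))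
    (hB : EGA4.IsNormalRing B)
    (hC : EGA4.IsNormalRing (AdicCompletion ((maximalIdeal A).map (algebraMap A C)) C)) :
    EGA4.IsNormalRing (AdicCompletion ((maximalIdeal A).map (algebraMap A B)) B) := by
  obtain ⟨eB⟩ := nonempty_mapCplEquiv A B
  obtain ⟨eC⟩ := nonempty_mapCplEquiv A C
  have hNB : IsNoetherianRing B := IsNoetherianRing.of_finite A B
  have hNT : IsNoetherianRing (B ⊗[A] Cpl A) := isNoetherianRing_tensor_cpl A B
  have hfin : Module.Finite B C := Module.Finite.of_restrictScalars_finite A B C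
  have e1 : (B ⊗[A] Cpl A) ⊗[B] C ≃+* C ⊗[B] (B ⊗[A] Cpl A) :=
    (Algebra.TensorProduct.comm B (B ⊗[A] Cpl A) C).toRingEquiv
  have e2 : C ⊗[B] (B ⊗[A] Cpl A) ≃+* C ⊗[A] Cpl A :=
    (Algebra.TensorProduct.cancelBaseChange A B B C (Cpl A)).toRingEquiv
  have e3 : C ⊗[A] Cpl A ≃+* Cpl A ⊗[A] C :=
    (Algebra.TensorProduct.comm A C (Cpl A)).toRingEquiv
  have hn1 : EGA4.IsNormalRing ((B ⊗[A] Cpl A) ⊗[B] C) :=
    Groth.Agent.Lib.Helper57.isNormalRing_of_ringEquiv
      (eC.trans (e3.symm.trans (e2.symm.trans e1.symm))) hC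
  have hn2 : EGA4.IsNormalRing (B ⊗[A] Cpl A) :=
    isNormalRing_of_finite_injective_of_flat B (B ⊗[A] Cpl A) C hinj hB hn1
  exact Groth.Agent.Lib.Helper57.isNormalRing_of_ringEquiv
    ((Algebra.TensorProduct.comm A B (Cpl A)).toRingEquiv.trans eB.symm) hn2

end SubFiniteCpl

end Groth.Agent.Lib.Helper56
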