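import Groth.Agent.Lib.Helper56.GenLimit

set_option autoImplicit false
universe u
namespace Groth.Agent.Lib.Helper56
open TensorProduct LocCoh IsLocalRing

section TensorFlat

variable (k K K' T : Type u) [Field k] [Field K] [Field K'] [Algebra k K] [Algebra K K']
  [Algebra k K'] [IsScalarTower k K K'] [CommRing T] [Algebra k T]

noncomputable def tensorFieldMap : K ⊗[k] T →ₐ[k] K' ⊗[k] T :=
  Algebra.TensorProduct.map (IsScalarTower.toAlgHom k K K') (AlgHom.id k T)

theorem tensorTowerEquiv_tmul_one (a : K ⊗[k] T) :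
    tensorTowerEquiv k K K' T (a ⊗ₜ[K] (1 : K')) = tensorFieldMap k K K' T a := by
  induction a using TensorProduct.induction_on with
  | zero => simp
  | tmul c t =>
    simp [tensorTowerEquiv, tensorFieldMap, Algebra.smul_def]
  | add x y hx hy => rw [TensorProduct.add_tmul, map_add, map_add, hx, hy]

theorem flat_tensorFieldMap :
    @Module.Flat (K ⊗[k] T) (K' ⊗[k] T) _ _
      (tensorFieldMap k K K' T).toRingHom.toAlgebra.toModule := by
  let _ : Algebra (K ⊗[k] T) (K' ⊗[k] T) := (tensorFieldMap k K K' T).toRingHom.toAlgebra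
  let e : (K ⊗[k] T) ⊗[K] K' ≃ₗ[K ⊗[k] T] K' ⊗[k] T :=
    { toFun := tensorTowerEquiv k K K' T
      invFun := (tensorTowerEquiv k K K' T).symm
      left_inv := (tensorTowerEquiv k K K' T).left_inv
      right_inv := (tensorTowerEquiv k K K' T).right_inv
      map_add' := map_add _
      map_smul' := by
        intro a x
        have h1 : a • x = (a ⊗ₜ[K] (1 : K')) * x := by
          induction x using TensorProduct.induction_on with
          | zero => simp
          | tmul b c =>
            rw [TensorProduct.smul_tmul', Algebra.TensorProduct.tmul_mul_tmul, smul_eq_mul,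
              one_mul]
          | add x y hx hy => rw [smul_add, mul_add, hx, hy]
        rw [RingHom.id_apply, h1, map_mul, tensorTowerEquiv_tmul_one, Algebra.smul_def]
        rfl }
  exact Module.Flat.of_linearEquiv e.symm

end TensorFlat

section FgSubfields

variable (k κ T : Type u) [Field k] [Field κ] [Algebra k κ] [CommRing T] [Algebra k T]

open IntermediateField in
theorem range_tensorFieldMap_mono {κ₀ κ₁ : IntermediateField k κ} (h : κ₀ ≤ κ₁) :
    (tensorFieldMap k κ₀ κ T).range ≤ (tensorFieldMap k κ₁ κ T).range := by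
  rintro _ ⟨x, rfl⟩
  refine ⟨Algebra.TensorProduct.map (IntermediateField.inclusion h) (AlgHom.id k T) x, ?_⟩
  induction x using TensorProduct.induction_on with
  | zero => simp
  | tmul c t => simp [tensorFieldMap]
  | add x y hx hy => simp only [map_add, hx, hy]

open IntermediateField in
theorem exists_finset_mem_range_tensorFieldMap (g : κ ⊗[k] T) :
    ∃ E : Finset κ, g ∈ (tensorFieldMap k (adjoin k (E : Set κ)) κ T).range := by
  classical
  induction g using TensorProduct.induction_on with
  | zero => exact ⟨∅, zero_mem _⟩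
  | tmul a t =>
    refine ⟨{a}, (⟨a, subset_adjoin k _ (by simp)⟩ : adjoin k (({a} : Finset κ) : Set κ)) ⊗ₜ t, ?_⟩
    simp [tensorFieldMap]
  | add x y hx hy =>
    obtain ⟨E₁, h₁⟩ := hx
    obtain ⟨E₂, h₂⟩ := hy
    refine ⟨E₁ ∪ E₂, add_mem ?_ ?_⟩
    · refine range_tensorFieldMap_mono k κ T (adjoin.mono k _ _ ?_) h₁
      rw [Finset.coe_union]; exact Set.subset_union_left
    · refine range_tensorFieldMap_mono k κ T (adjoin.mono k _ _ ?_) h₂
      rw [Finset.coe_union]; exact Set.subset_union_right

open IntermediateField in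
theorem exists_finset_map_comap_eq (I : Ideal (κ ⊗[k] T)) (hI : I.FG) :
    ∃ E : Finset κ, (I.comap (tensorFieldMap k (adjoin k (E : Set κ)) κ T).toRingHom).map
      (tensorFieldMap k (adjoin k (E : Set κ)) κ T).toRingHom = I := by
  classical
  obtain ⟨s, rfl⟩ := hI
  choose E hE using exists_finset_mem_range_tensorFieldMap k κ T
  refine ⟨s.biUnion E, le_antisymm Ideal.map_comap_le (Ideal.span_le.mpr ?_)⟩
  intro g hg
  have h1 : g ∈ (tensorFieldMap k (adjoin k ((s.biUnion E : Finset κ) : Set κ)) κ T).range := by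
    refine range_tensorFieldMap_mono k κ T (adjoin.mono k _ _ ?_) (hE g)
    intro t ht
    rw [Finset.mem_coe, Finset.mem_biUnion]
    exact ⟨g, hg, ht⟩
  obtain ⟨x, hx⟩ := h1
  rw [← hx]
  refine Ideal.mem_map_of_mem _ ?_
  rw [Ideal.mem_comap]
  have hx' : tensorFieldMap k _ κ T x = g := hx
  change tensorFieldMap k _ κ T x ∈ _
  rw [hx']
  exact Ideal.subset_span hg

open IntermediateField in
theorem isRegularRing_tensor_of_forall_fg [IsNoetherianRing (κ ⊗[k] T)]
    (h : ∀ E : Finset κ, IsRegularRing (adjoin k (E : Set κ) ⊗[k] T)) :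
    IsRegularRing (κ ⊗[k] T) := by
  apply isRegularRing_of_forall_exists_flat
  intro Q _
  obtain ⟨E, hE⟩ := exists_finset_map_comap_eq k κ T Q (IsNoetherian.noetherian Q)
  exact ⟨adjoin k (E : Set κ) ⊗[k] T, inferInstance,
    (tensorFieldMap k (adjoin k (E : Set κ)) κ T).toRingHom.toAlgebra,
    flat_tensorFieldMap k (adjoin k (E : Set κ)) κ T, h E, hE⟩

open IntermediateField in
theorem isNormalRing_tensor_of_forall_fg [IsNoetherianRing (κ ⊗[k] T)]
    (h : ∀ E : Finset κ, IsNoetherianRing (adjoin k (E : Set κ) ⊗[k] T) ∧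
      EGA4.IsNormalRing (adjoin k (E : Set κ) ⊗[k] T)) :
    EGA4.IsNormalRing (κ ⊗[k] T) := by
  apply isNormalRing_of_forall_exists_flat
  intro Q _
  obtain ⟨E, hE⟩ := exists_finset_map_comap_eq k κ T Q (IsNoetherian.noetherian Q)
  exact ⟨adjoin k (E : Set κ) ⊗[k] T, inferInstance,
    (tensorFieldMap k (adjoin k (E : Set κ)) κ T).toRingHom.toAlgebra,
    flat_tensorFieldMap k (adjoin k (E : Set κ)) κ T, (h E).1, (h E).2, hE⟩

end FgSubfields

section GeomAnyField

variable (k T κ : Type u) [Field k] [CommRing T] [Algebra k T] [Field κ] [Algebra k κ]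

open IntermediateField in
theorem isRegularRing_tensor_of_isGeometricallyRegular [IsNoetherianRing (κ ⊗[k] T)]
    (h : CAlg.IsGeometricallyRegular k T) : IsRegularRing (κ ⊗[k] T) := by
  apply isRegularRing_tensor_of_forall_fg
  intro E
  have : Algebra.EssFiniteType k (adjoin k (E : Set κ)) :=
    IntermediateField.essFiniteType_iff.mpr ⟨E, rfl⟩
  exact isRegularRing_tensor_of_forall_purelyInseparable k T (fun k' _ _ hf _ => h k' hf) _

open IntermediateField in
theorem isNormalRing_tensor_of_isGeomNormal [IsNoetherianRing T] [IsNoetherianRing (κ ⊗[k] T)]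
    (h : EGA4.IsGeomNormal k T) : EGA4.IsNormalRing (κ ⊗[k] T) := by
  apply isNormalRing_tensor_of_forall_fg
  intro E
  have : Algebra.EssFiniteType k (adjoin k (E : Set κ)) :=
    IntermediateField.essFiniteType_iff.mpr ⟨E, rfl⟩
  have hN0 : IsNoetherianRing (T ⊗[k] adjoin k (E : Set κ)) :=
    isNoetherianRing_tensor_essFiniteType k _ T
  exact ⟨isNoetherianRing_of_ringEquiv _ (Algebra.TensorProduct.comm k T _).toRingEquiv,
    isNormalRing_tensor_of_forall_purelyInseparable k T (fun k' _ _ hf _ => h k' hf) _⟩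

end GeomAnyField

section TensorProducts

variable (k S T : Type u) [Field k] [CommRing S] [CommRing T] [Algebra k S] [Algebra k T]
  [IsNoetherianRing (S ⊗[k] T)]

theorem isNoetherianRing_residueField_tensor (p : Ideal S) [p.IsPrime] :
    IsNoetherianRing (p.ResidueField ⊗[k] T) := by
  have := isNoetherianRing_fiber S (S ⊗[k] T) p
  exact isNoetherianRing_of_ringEquiv (p.Fiber (S ⊗[k] T))
    (Algebra.TensorProduct.cancelBaseChange k S S p.ResidueField T).toRingEquiv

theorem isRegularRing_tensor_of_isRegularRing_of_isGeometricallyRegular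
    (hS : IsRegularRing S) (hT : CAlg.IsGeometricallyRegular k T) : IsRegularRing (S ⊗[k] T) := by
  refine isRegularRing_of_flat_of_fibres S (S ⊗[k] T) hS (fun p _ => ?_)
  have := isNoetherianRing_residueField_tensor k S T p
  have := isRegularRing_tensor_of_isGeometricallyRegular k T p.ResidueField hT
  exact IsRegularRing.of_ringEquiv (R := p.ResidueField ⊗[k] T)
    (Algebra.TensorProduct.cancelBaseChange k S S p.ResidueField T).symm.toRingEquiv

theorem isNormalRing_tensor_of_isNormalRing_of_isGeomNormal [IsNoetherianRing S]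
    [IsNoetherianRing T]
    (hS : EGA4.IsNormalRing S) (hT : EGA4.IsGeomNormal k T) : EGA4.IsNormalRing (S ⊗[k] T) := by
  refine isNormalRing_of_flat_of_fibres S (S ⊗[k] T) hS (fun p _ => ?_)
  have := isNoetherianRing_residueField_tensor k S T p
  exact isNormalRing_of_ringEquiv
    (Algebra.TensorProduct.cancelBaseChange k S S p.ResidueField T).symm.toRingEquiv
    (isNormalRing_tensor_of_isGeomNormal k T p.ResidueField hT)

theorem isNoetherianRing_finite_tensor_tensor (k' : Type u) [Field k'] [Algebra k k']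
    [Module.Finite k k'] : IsNoetherianRing ((k' ⊗[k] S) ⊗[k] T) := by
  have h1 : IsNoetherianRing ((S ⊗[k] T) ⊗[k] k') := IsNoetherianRing.of_finite (S ⊗[k] T) _
  exact isNoetherianRing_of_ringEquiv ((S ⊗[k] T) ⊗[k] k')
    ((Algebra.TensorProduct.comm k (S ⊗[k] T) k').toRingEquiv.trans
      (Algebra.TensorProduct.assoc k k k k' S T).symm.toRingEquiv)

theorem isGeometricallyRegular_tensor
    (hS : CAlg.IsGeometricallyRegular k S) (hT : CAlg.IsGeometricallyRegular k T) :
    CAlg.IsGeometricallyRegular k (S ⊗[k] T) := by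
  intro k' _ _ hk'
  have := isNoetherianRing_finite_tensor_tensor k S T k'
  have h1 : IsRegularRing ((k' ⊗[k] S) ⊗[k] T) :=
    isRegularRing_tensor_of_isRegularRing_of_isGeometricallyRegular k (k' ⊗[k] S) T (hS k' hk') hT
  exact IsRegularRing.of_ringEquiv (R := (k' ⊗[k] S) ⊗[k] T)
    (Algebra.TensorProduct.assoc k k k k' S T).toRingEquiv

theorem isGeomNormal_tensor [IsNoetherianRing S] [IsNoetherianRing T]
    (hS : EGA4.IsGeomNormal k S) (hT : EGA4.IsGeomNormal k T) :
    EGA4.IsGeomNormal k (S ⊗[k] T) := by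
  intro k' _ _ hk'
  have := isNoetherianRing_finite_tensor_tensor k S T k'
  have hN0 : IsNoetherianRing (S ⊗[k] k') := isNoetherianRing_tensor_essFiniteType k k' S
  have hN : IsNoetherianRing (k' ⊗[k] S) :=
    isNoetherianRing_of_ringEquiv (S ⊗[k] k') (Algebra.TensorProduct.comm k S k').toRingEquiv
  have h1 : EGA4.IsNormalRing ((k' ⊗[k] S) ⊗[k] T) :=
    isNormalRing_tensor_of_isNormalRing_of_isGeomNormal k (k' ⊗[k] S) T (hS k' hk') hT
  exact isNormalRing_of_ringEquiv (Algebra.TensorProduct.assoc k k k k' S T).toRingEquiv h1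

end TensorProducts

end Groth.Agent.Lib.Helper56
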