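import Groth.Agent.Lib.Helper56.NormalLimit
import Groth.Agent.S0570
import Groth.Agent.S2114
import Groth.Agent.Lib.Helper38.ComplNagata

set_option autoImplicit false
set_option linter.unusedSectionVars false
universe u
namespace Groth.Agent.Lib.Helper56
open TensorProduct Polynomial


section LemmaN

theorem integralClosure_eq_bot_of_isNormalRing (R S : Type u) [CommRing R] [CommRing S]
    [Algebra R S] (M : Submonoid R) [IsLocalization M S] (hM : M ≤ nonZeroDivisors R)
    (hR : EGA4.IsNormalRing R) : integralClosure R S = ⊥ := by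
  rw [eq_bot_iff]
  intro x hx
  have hinj : Function.Injective (algebraMap R S) := IsLocalization.injective S hM
  obtain ⟨a, b, rfl⟩ := IsLocalization.exists_mk'_eq M x
  obtain ⟨P, hP, hPx⟩ := hx
  have h1 : algebraMap R S b * IsLocalization.mk' S a b = algebraMap R S a := by
    rw [mul_comm]; exact IsLocalization.mk'_spec S a b
  have h2 : (P.scaleRoots b).eval a = 0 := by
    apply hinj
    rw [map_zero, ← Polynomial.eval₂_at_apply, ← h1, scaleRoots_eval₂_mul, hPx, mul_zero]
  have hb : (b : R) ∈ nonZeroDivisors R := hM b.2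
  have hcol : (Ideal.span {(b : R)}).colon ({a} : Set R) = ⊤ := by
    by_contra hne
    obtain ⟨m, hm, hle⟩ := Ideal.exists_le_maximal _ hne
    have hmp : m.IsPrime := hm.isPrime
    obtain ⟨hd, hic⟩ := hR m
    have hb0 : algebraMap R (Localization.AtPrime m) b ≠ 0 := by
      intro h0
      rw [IsLocalization.map_eq_zero_iff m.primeCompl] at h0
      obtain ⟨u, hu⟩ := h0
      have : (u : R) = 0 := (mem_nonZeroDivisors_iff_right.mp hb) _ hu
      exact u.2 (this ▸ m.zero_mem)
    have h3 : algebraMap R (Localization.AtPrime m) ((P.scaleRoots b).eval a) = 0 := by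
      rw [h2, map_zero]
    obtain ⟨d, hd⟩ := crit_of_isIntegrallyClosed_atPrime m a b P hP hb0 h3
    obtain ⟨r, s, rfl⟩ := IsLocalization.exists_mk'_eq m.primeCompl d
    have h4 : algebraMap R (Localization.AtPrime m) (s * a) =
        algebraMap R (Localization.AtPrime m) (r * b) := by
      rw [map_mul, map_mul, hd, ← mul_assoc, mul_comm (algebraMap R _ (s : R)),
        IsLocalization.mk'_spec]
    obtain ⟨t, ht⟩ := (IsLocalization.eq_iff_exists m.primeCompl _).mp h4
    have h5 : (t : R) * s ∈ (Ideal.span {(b : R)}).colon ({a} : Set R) := by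
      rw [Submodule.mem_colon_singleton, smul_eq_mul, Ideal.mem_span_singleton']
      exact ⟨t * r, by rw [mul_assoc, mul_assoc, ht]⟩
    exact (m.primeCompl.mul_mem t.2 s.2) (hle h5)
  have h6 : (1 : R) ∈ (Ideal.span {(b : R)}).colon ({a} : Set R) := by
    rw [hcol]; trivial
  rw [Submodule.mem_colon_singleton, one_smul, Ideal.mem_span_singleton'] at h6
  obtain ⟨c, hc⟩ := h6
  rw [Algebra.mem_bot]
  refine ⟨c, ?_⟩
  rw [IsLocalization.eq_mk'_iff_mul_eq, ← map_mul, hc]

end LemmaN

section FracTensor

variable (k A : Type u) [Field k] [CommRing A] [Algebra k A] [IsDomain A]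
  (B' : Type u) [CommRing B'] [Algebra k B']

noncomputable def fracTensorMap : A ⊗[k] B' →ₐ[k] FractionRing A ⊗[k] B' :=
  Algebra.TensorProduct.map (IsScalarTower.toAlgHom k A (FractionRing A)) (AlgHom.id k B')

theorem isLocalization_fracTensorMap :
    @IsLocalization _ _ (Algebra.algebraMapSubmonoid (A ⊗[k] B') (nonZeroDivisors A))
      (FractionRing A ⊗[k] B') _ (fracTensorMap k A B').toRingHom.toAlgebra := by
  let _ : Algebra (A ⊗[k] B') (FractionRing A ⊗[k] B') := (fracTensorMap k A B').toRingHom.toAlgebra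
  have hst : IsScalarTower A (A ⊗[k] B') (FractionRing A ⊗[k] B') :=
    IsScalarTower.of_algebraMap_eq (fun a => by
      change _ = fracTensorMap k A B' (a ⊗ₜ 1)
      simp [fracTensorMap, Algebra.TensorProduct.algebraMap_apply])
  refine IsLocalization.tensorProduct_tensorProduct k B' (nonZeroDivisors A) (FractionRing A) ?_
  ext b
  change fracTensorMap k A B' (1 ⊗ₜ b) = 1 ⊗ₜ b
  simp [fracTensorMap]

theorem algebraMapSubmonoid_le_nonZeroDivisors :
    Algebra.algebraMapSubmonoid (A ⊗[k] B') (nonZeroDivisors A) ≤ nonZeroDivisors (A ⊗[k] B') := by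
  rintro _ ⟨r, hr, rfl⟩
  have hreg := Module.Flat.isSMulRegular_of_nonZeroDivisors (M := A ⊗[k] B') hr
  rw [mem_nonZeroDivisors_iff_left]
  intro z hz
  apply hreg
  change r • z = r • 0
  rw [smul_zero, Algebra.smul_def, hz]

end FracTensor

section T1

variable (k A B : Type u) [Field k] [CommRing A] [CommRing B] [Algebra k A] [Algebra k B]
  [IsDomain A] [IsDomain B] [Algebra.FiniteType k B]

theorem isNormalRing_tensor_of_finiteType
    (H1 : EGA4.IsNormalRing (FractionRing A ⊗[k] B))
    (H2 : EGA4.IsNormalRing (A ⊗[k] FractionRing B)) : EGA4.IsNormalRing (A ⊗[k] B) := by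
  let K := FractionRing A
  let L := FractionRing B
  let _ : Algebra (A ⊗[k] B) (K ⊗[k] B) := (fracTensorMap k A B).toRingHom.toAlgebra
  let _ : Algebra (A ⊗[k] L) (K ⊗[k] L) := (fracTensorMap k A L).toRingHom.toAlgebra
  have hloc1 : IsLocalization (Algebra.algebraMapSubmonoid (A ⊗[k] B) (nonZeroDivisors A))
      (K ⊗[k] B) := isLocalization_fracTensorMap k A B
  have hloc2 : IsLocalization (Algebra.algebraMapSubmonoid (A ⊗[k] L) (nonZeroDivisors A))
      (K ⊗[k] L) := isLocalization_fracTensorMap k A L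
  have hN : IsNoetherianRing (K ⊗[k] B) := Algebra.FiniteType.isNoetherianRing K (K ⊗[k] B)
  have hbot2 : integralClosure (A ⊗[k] L) (K ⊗[k] L) = ⊥ :=
    integralClosure_eq_bot_of_isNormalRing (A ⊗[k] L) (K ⊗[k] L)
      (Algebra.algebraMapSubmonoid (A ⊗[k] L) (nonZeroDivisors A))
      (algebraMapSubmonoid_le_nonZeroDivisors k A L) H2
  let ι : B →ₐ[k] L := IsScalarTower.toAlgHom k B L
  have hιinj : Function.Injective ι.toLinearMap := IsFractionRing.injective B L
  obtain ⟨ρ, hρ⟩ := LinearMap.exists_leftInverse_of_injective ι.toLinearMap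
    (LinearMap.ker_eq_bot.mpr hιinj)
  have hρ' : ∀ b : B, ρ (ι b) = b := fun b => LinearMap.congr_fun hρ b
  let j₁ : K ⊗[k] B →ₐ[k] K ⊗[k] L := Algebra.TensorProduct.map (AlgHom.id k K) ι
  let ψ : A ⊗[k] B →ₐ[k] A ⊗[k] L := Algebra.TensorProduct.map (AlgHom.id k A) ι
  have hsq : (fracTensorMap k A L).comp ψ = j₁.comp (fracTensorMap k A B) :=
    Algebra.TensorProduct.ext' (fun a b => by simp [fracTensorMap, j₁, ψ])
  have h1 : ∀ z : K ⊗[k] B, (LinearMap.lTensor K ρ) (j₁ z) = z := by
    intro z
    induction z using TensorProduct.induction_on with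
    | zero => simp
    | tmul c b => simp [j₁, hρ']
    | add x y hx hy => simp only [map_add, hx, hy]
  have h2 : ∀ y : A ⊗[k] L, LinearMap.lTensor K ρ (fracTensorMap k A L y) =
      fracTensorMap k A B (LinearMap.lTensor A ρ y) := by
    intro y
    induction y using TensorProduct.induction_on with
    | zero => simp
    | tmul a l => simp [fracTensorMap]
    | add x y hx hy => simp only [map_add, hx, hy]
  have hic : integralClosure (A ⊗[k] B) (K ⊗[k] B) = ⊥ := by
    rw [eq_bot_iff]
    intro x hx
    have hx2 : IsIntegral (A ⊗[k] L) (j₁ x) :=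
      IsIntegral.map_of_comp_eq ψ.toRingHom j₁.toRingHom
        (congrArg AlgHom.toRingHom hsq) hx
    have hx3 : j₁ x ∈ integralClosure (A ⊗[k] L) (K ⊗[k] L) := hx2
    rw [hbot2, Algebra.mem_bot] at hx3
    obtain ⟨y, hy⟩ := hx3
    rw [Algebra.mem_bot]
    refine ⟨LinearMap.lTensor A ρ y, ?_⟩
    change fracTensorMap k A B _ = x
    rw [← h2, ← h1 x]
    congr 1
  intro q _
  exact Groth.Agent.Lib.Helper30.SmoothNormal.normal_localization (A ⊗[k] B) (K ⊗[k] B)
    (Algebra.algebraMapSubmonoid (A ⊗[k] B) (nonZeroDivisors A))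
    (algebraMapSubmonoid_le_nonZeroDivisors k A B) hic (fun P _ => H1 P) q

end T1


section N2

theorem isN2_mvPolynomial_fin (k : Type u) [Field k] (n : ℕ) :
    CAlg.IsN2 (MvPolynomial (Fin n) k) := by
  induction n with
  | zero =>
    exact Groth.Agent.Lib.Helper38.Tate.isN2_of_ringEquiv
      (MvPolynomial.isEmptyRingEquiv k (Fin 0)).symm
      (Groth.Agent.Lib.Helper38.ComplNagata.isN2_field k)
  | succ n ih =>
    have h1 : CAlg.IsN2 (Polynomial (MvPolynomial (Fin n) k)) :=
      (Groth.Agent.S0570.result (MvPolynomial (Fin n) k)).2 ih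
    exact Groth.Agent.Lib.Helper38.Tate.isN2_of_ringEquiv
      (MvPolynomial.finSuccEquiv k n).symm.toRingEquiv h1

theorem isN2_of_finiteType_field (k B₀ : Type u) [Field k] [CommRing B₀] [IsDomain B₀]
    [Algebra k B₀] [Algebra.FiniteType k B₀] : CAlg.IsN2 B₀ := by
  obtain ⟨s, g, hinj, hfin⟩ := exists_finite_inj_algHom_of_fg k B₀
  let _ : Algebra (MvPolynomial (Fin s) k) B₀ := g.toRingHom.toAlgebra
  have hfin' : Module.Finite (MvPolynomial (Fin s) k) B₀ := hfin
  exact Groth.Agent.S2114.result (R := MvPolynomial (Fin s) k) (S := B₀) hinj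
    (isN2_mvPolynomial_fin k s)

end N2

section Star

variable (k B : Type u) [Field k] [CommRing B] [IsDomain B] [IsIntegrallyClosed B] [Algebra k B]

theorem exists_fg_isIntegrallyClosed_subalgebra (B₀ : Subalgebra k B) (hfg : B₀.FG) :
    ∃ C : Subalgebra k B, B₀ ≤ C ∧ C.FG ∧ IsIntegrallyClosed C := by
  have hft : Algebra.FiniteType k B₀ := (Subalgebra.fg_iff_finiteType B₀).mp hfg
  let L₀ := FractionRing B₀
  let L := FractionRing B
  have hN2 := isN2_of_finiteType_field k B₀
  have hfinN : Module.Finite B₀ (integralClosure B₀ L₀) := hN2 L₀ inferInstance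
  let N := integralClosure B₀ L₀
  have hinj0 : Function.Injective ((algebraMap B L).comp B₀.val.toRingHom) :=
    (IsFractionRing.injective B L).comp Subtype.val_injective
  let σ : L₀ →+* L := IsFractionRing.lift hinj0
  have hσ : ∀ b : B₀, σ (algebraMap B₀ L₀ b) = algebraMap B L (b : B) :=
    fun b => IsFractionRing.lift_algebraMap hinj0 b
  let σk : L₀ →ₐ[k] L :=
    { σ with
      commutes' := fun c => by
        have h1 : algebraMap k L₀ c = algebraMap B₀ L₀ (algebraMap k B₀ c) :=
          IsScalarTower.algebraMap_apply k B₀ L₀ c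
        change σ (algebraMap k L₀ c) = _
        rw [h1, hσ, IsScalarTower.algebraMap_apply k B L]
        rfl }
  have hσk : ∀ x : L₀, σk x = σ x := fun _ => rfl
  let ιB : B →ₐ[k] L := IsScalarTower.toAlgHom k B L
  have hιB : Function.Injective ιB := IsFractionRing.injective B L
  let τ : N →ₐ[k] L := σk.comp (N.restrictScalars k).val
  have hτ : ∀ n : N, τ n = σ (n : L₀) := fun _ => rfl
  have hτinj : Function.Injective τ := σ.injective.comp Subtype.val_injective
  have hmem : ∀ n : N, τ n ∈ ιB.range := by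
    intro n
    have h1 : IsIntegral B₀ (n : L₀) := n.2
    have h2 : IsIntegral B (σ (n : L₀)) :=
      IsIntegral.map_of_comp_eq B₀.val.toRingHom σ (RingHom.ext fun b => (hσ b).symm) h1
    obtain ⟨y, hy⟩ := IsIntegrallyClosed.algebraMap_eq_of_integral h2
    exact ⟨y, hy⟩
  let e0 : B ≃ₐ[k] ιB.range := AlgEquiv.ofInjective ιB hιB
  let τ' : N →ₐ[k] B := e0.symm.toAlgHom.comp (τ.codRestrict ιB.range hmem)
  have hτ'inj : Function.Injective τ' :=
    e0.symm.injective.comp (fun x y h => hτinj (congrArg Subtype.val h))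
  have hτ' : ∀ n : N, algebraMap B L (τ' n) = σ (n : L₀) := by
    intro n
    have h1 : e0 (τ' n) = τ.codRestrict ιB.range hmem n := e0.apply_symm_apply _
    have h2 := congrArg Subtype.val h1
    exact h2
  refine ⟨τ'.range, ?_, ?_, ?_⟩
  · intro b hb
    refine ⟨algebraMap B₀ N ⟨b, hb⟩, ?_⟩
    apply hιB
    change algebraMap B L (τ' _) = algebraMap B L b
    rw [hτ']
    exact hσ ⟨b, hb⟩
  · have hfinN' : Algebra.FiniteType B₀ N := inferInstance
    have hftN : Algebra.FiniteType k N := Algebra.FiniteType.trans hft hfinN'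
    rw [← Algebra.map_top]
    exact hftN.out.map τ'
  · have hicN : IsIntegrallyClosed N :=
      integralClosure.isIntegrallyClosedOfFiniteExtension (R := B₀) L₀ (L := L₀)
    exact IsIntegrallyClosed.of_equiv (AlgEquiv.ofInjective τ' hτ'inj).toRingEquiv

end Star

section T2

variable (k A B : Type u) [Field k] [CommRing A] [CommRing B] [Algebra k A] [Algebra k B]

noncomputable def subalgTensorMap (C : Subalgebra k B) : A ⊗[k] C →ₐ[k] A ⊗[k] B :=
  Algebra.TensorProduct.map (AlgHom.id k A) C.val

theorem subalgTensorMap_injective (C : Subalgebra k B) :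
    Function.Injective (subalgTensorMap k A B C) := by
  have h1 : (subalgTensorMap k A B C : A ⊗[k] C → A ⊗[k] B) =
      TensorProduct.map (LinearMap.id) C.val.toLinearMap := by
    ext x
    induction x using TensorProduct.induction_on with
    | zero => simp
    | tmul c t => simp [subalgTensorMap]
    | add x y hx hy => simp only [map_add, hx, hy]
  rw [h1]
  exact TensorProduct.map_injective_of_flat_flat _ _ Function.injective_id Subtype.val_injective

theorem range_subalgTensorMap_mono {C C' : Subalgebra k B} (h : C ≤ C') :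
    (subalgTensorMap k A B C).range ≤ (subalgTensorMap k A B C').range := by
  rintro _ ⟨x, rfl⟩
  refine ⟨Algebra.TensorProduct.map (AlgHom.id k A) (Subalgebra.inclusion h) x, ?_⟩
  induction x using TensorProduct.induction_on with
  | zero => simp
  | tmul c t => simp [subalgTensorMap]
  | add x y hx hy => simp only [map_add, hx, hy]

variable [IsDomain B] [IsIntegrallyClosed B]

theorem isNormalRing_tensor_of_forall_fg_subalgebra
    (h : ∀ C : Subalgebra k B, C.FG → IsIntegrallyClosed C → EGA4.IsNormalRing (A ⊗[k] C)) :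
    EGA4.IsNormalRing (A ⊗[k] B) := by
  classical
  let ι := {C : Subalgebra k B // C.FG ∧ IsIntegrallyClosed C}
  have hne : Nonempty ι := by
    obtain ⟨C, -, h1, h2⟩ := exists_fg_isIntegrallyClosed_subalgebra k B ⊥ Subalgebra.fg_bot
    exact ⟨⟨C, h1, h2⟩⟩
  have hdir : ∀ i j : ι, ∃ l : ι, i.1 ≤ l.1 ∧ j.1 ≤ l.1 := by
    intro i j
    obtain ⟨C, h0, h1, h2⟩ := exists_fg_isIntegrallyClosed_subalgebra k B (i.1 ⊔ j.1)
      (i.2.1.sup j.2.1)
    exact ⟨⟨C, h1, h2⟩, le_sup_left.trans h0, le_sup_right.trans h0⟩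
  have hsurj : ∀ x : A ⊗[k] B, ∃ i : ι, x ∈ (subalgTensorMap k A B i.1).range := by
    intro x
    induction x using TensorProduct.induction_on with
    | zero => exact ⟨Classical.arbitrary ι, zero_mem _⟩
    | tmul a b =>
      have hfg : (Algebra.adjoin k ({b} : Set B)).FG := by
        have := Subalgebra.fg_adjoin_finset (R := k) ({b} : Finset B)
        simpa using this
      obtain ⟨C, h0, h1, h2⟩ := exists_fg_isIntegrallyClosed_subalgebra k B
        (Algebra.adjoin k {b}) hfg
      refine ⟨⟨C, h1, h2⟩, a ⊗ₜ ⟨b, h0 (Algebra.subset_adjoin (by simp))⟩, ?_⟩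
      simp [subalgTensorMap]
    | add x y hx hy =>
      obtain ⟨i, hi⟩ := hx
      obtain ⟨j, hj⟩ := hy
      obtain ⟨l, hil, hjl⟩ := hdir i j
      exact ⟨l, add_mem (range_subalgTensorMap_mono k A B hil hi)
        (range_subalgTensorMap_mono k A B hjl hj)⟩
  refine isNormalRing_of_directed_union (ι := ι)
    (fun i => A ⊗[k] i.1)
    (fun i => (subalgTensorMap k A B i.1).toRingHom)
    (fun i => subalgTensorMap_injective k A B i.1) ?_ ?_ (fun i => h i.1 i.2.1 i.2.2)
  · intro i j
    obtain ⟨l, hil, hjl⟩ := hdir i j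
    exact ⟨l, range_subalgTensorMap_mono k A B hil, range_subalgTensorMap_mono k A B hjl⟩
  · intro x
    obtain ⟨i, hi⟩ := hsurj x
    exact ⟨i, hi⟩

end T2


section T3

variable (k A B : Type u) [Field k] [CommRing A] [CommRing B] [Algebra k A] [Algebra k B]
  [IsDomain A] [IsDomain B] [IsIntegrallyClosed B]

theorem isNormalRing_tensor_of_domains
    (H1 : ∀ C : Subalgebra k B, C.FG → IsIntegrallyClosed C →
      EGA4.IsNormalRing (FractionRing A ⊗[k] C))
    (H2 : ∀ C : Subalgebra k B, C.FG → IsIntegrallyClosed C →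
      EGA4.IsNormalRing (A ⊗[k] FractionRing C)) :
    EGA4.IsNormalRing (A ⊗[k] B) := by
  apply isNormalRing_tensor_of_forall_fg_subalgebra
  intro C hfg hic
  have hft : Algebra.FiniteType k C := (Subalgebra.fg_iff_finiteType C).mp hfg
  exact isNormalRing_tensor_of_finiteType k A C (H1 C hfg hic) (H2 C hfg hic)

theorem exists_fractionRing_subalgebra_algHom (C : Subalgebra k B) :
    ∃ σ : FractionRing C →ₐ[k] FractionRing B, Function.Injective σ := by
  have hinj0 : Function.Injective ((algebraMap B (FractionRing B)).comp C.val.toRingHom) :=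
    (IsFractionRing.injective B (FractionRing B)).comp Subtype.val_injective
  let σ : FractionRing C →+* FractionRing B := IsFractionRing.lift hinj0
  have hσ : ∀ b : C, σ (algebraMap C (FractionRing C) b) = algebraMap B (FractionRing B) (b : B) :=
    fun b => IsFractionRing.lift_algebraMap hinj0 b
  refine ⟨{ σ with
      commutes' := fun c => by
        have h1 : algebraMap k (FractionRing C) c =
            algebraMap C (FractionRing C) (algebraMap k C c) :=
          IsScalarTower.algebraMap_apply k C (FractionRing C) c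
        change σ (algebraMap k (FractionRing C) c) = _
        rw [h1, hσ, IsScalarTower.algebraMap_apply k B (FractionRing B)]
        rfl }, σ.injective⟩

end T3

end Groth.Agent.Lib.Helper56
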